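/-
Machine generated (helper56): a Todd–Coxeter derivation of the Cayley graph of `SL(2,5)` from the
relators `x³, y⁵, z², z⁻¹xzx⁻¹, z⁻¹yzy⁻¹, (xy)²z⁻¹`.  Main result: `gAll_surjective`: a group
generated by three elements satisfying these relators is covered by 120 explicit elements.
-/
import Mathlib

set_option autoImplicit false
set_option linter.unusedVariables false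

namespace Cfsg.Agent.Lib.Helper56.SL25

section sl25_generic
variable {M : Type*} [Group M]

theorem path_nil (g : M) : g * 1 = g := mul_one g
theorem path_cons {g g' g'' s w : M} (h : g * s = g') (h' : g' * w = g'') : g * (s * w) = g'' := by
  rw [← mul_assoc, h, h']
theorem deduce {gc ge gf A s B : M} (h1 : gc * A = ge) (h2 : gf * B = gc) (hr : A * (s * B) = 1) :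
    ge * s = gf := by
  have h3 : ge * s * B = gc := by rw [← h1, mul_assoc, mul_assoc, hr, mul_one]
  exact mul_right_cancel (h3.trans h2.symm)
theorem inv_edge {gd gc s : M} (h : gd * s = gc) : gc * s⁻¹ = gd := by rw [← h, mul_inv_cancel_right]
theorem edge_of_inv {ge gf s : M} (h : ge * s⁻¹ = gf) : gf * s = ge := by rw [← h, inv_mul_cancel_right]

end sl25_generic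

section sl25_table
variable {M : Type*} [Group M]

def g0 (X0 X1 X2 : M) : M := 1
def g1 (X0 X1 X2 : M) : M := g0 X0 X1 X2 * X0
def g2 (X0 X1 X2 : M) : M := g0 X0 X1 X2 * X1
def g3 (X0 X1 X2 : M) : M := g0 X0 X1 X2 * X2
def g4 (X0 X1 X2 : M) : M := g1 X0 X1 X2 * X0
def g5 (X0 X1 X2 : M) : M := g1 X0 X1 X2 * X1
def g6 (X0 X1 X2 : M) : M := g1 X0 X1 X2 * X2
def g7 (X0 X1 X2 : M) : M := g2 X0 X1 X2 * X0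
def g8 (X0 X1 X2 : M) : M := g2 X0 X1 X2 * X1
def g9 (X0 X1 X2 : M) : M := g2 X0 X1 X2 * X2
def g10 (X0 X1 X2 : M) : M := g4 X0 X1 X2 * X1
def g11 (X0 X1 X2 : M) : M := g4 X0 X1 X2 * X2
def g12 (X0 X1 X2 : M) : M := g5 X0 X1 X2 * X0
def g13 (X0 X1 X2 : M) : M := g5 X0 X1 X2 * X1
def g14 (X0 X1 X2 : M) : M := g5 X0 X1 X2 * X2
def g15 (X0 X1 X2 : M) : M := g7 X0 X1 X2 * X0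
def g16 (X0 X1 X2 : M) : M := g7 X0 X1 X2 * X2
def g17 (X0 X1 X2 : M) : M := g8 X0 X1 X2 * X0
def g18 (X0 X1 X2 : M) : M := g8 X0 X1 X2 * X1
def g19 (X0 X1 X2 : M) : M := g8 X0 X1 X2 * X2
def g20 (X0 X1 X2 : M) : M := g10 X0 X1 X2 * X0
def g21 (X0 X1 X2 : M) : M := g10 X0 X1 X2 * X1
def g22 (X0 X1 X2 : M) : M := g10 X0 X1 X2 * X2
def g23 (X0 X1 X2 : M) : M := g12 X0 X1 X2 * X0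
def g24 (X0 X1 X2 : M) : M := g12 X0 X1 X2 * X2
def g25 (X0 X1 X2 : M) : M := g13 X0 X1 X2 * X0
def g26 (X0 X1 X2 : M) : M := g13 X0 X1 X2 * X1
def g27 (X0 X1 X2 : M) : M := g13 X0 X1 X2 * X2
def g28 (X0 X1 X2 : M) : M := g15 X0 X1 X2 * X1
def g29 (X0 X1 X2 : M) : M := g15 X0 X1 X2 * X2
def g30 (X0 X1 X2 : M) : M := g17 X0 X1 X2 * X0
def g31 (X0 X1 X2 : M) : M := g17 X0 X1 X2 * X2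
def g32 (X0 X1 X2 : M) : M := g18 X0 X1 X2 * X0
def g33 (X0 X1 X2 : M) : M := g18 X0 X1 X2 * X2
def g34 (X0 X1 X2 : M) : M := g20 X0 X1 X2 * X0
def g35 (X0 X1 X2 : M) : M := g20 X0 X1 X2 * X2
def g36 (X0 X1 X2 : M) : M := g21 X0 X1 X2 * X0
def g37 (X0 X1 X2 : M) : M := g21 X0 X1 X2 * X1
def g38 (X0 X1 X2 : M) : M := g21 X0 X1 X2 * X2
def g39 (X0 X1 X2 : M) : M := g23 X0 X1 X2 * X1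
def g40 (X0 X1 X2 : M) : M := g23 X0 X1 X2 * X2
def g41 (X0 X1 X2 : M) : M := g25 X0 X1 X2 * X0
def g42 (X0 X1 X2 : M) : M := g25 X0 X1 X2 * X2
def g43 (X0 X1 X2 : M) : M := g26 X0 X1 X2 * X0
def g44 (X0 X1 X2 : M) : M := g26 X0 X1 X2 * X2
def g45 (X0 X1 X2 : M) : M := g28 X0 X1 X2 * X1
def g46 (X0 X1 X2 : M) : M := g28 X0 X1 X2 * X2
def g47 (X0 X1 X2 : M) : M := g30 X0 X1 X2 * X1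
def g48 (X0 X1 X2 : M) : M := g30 X0 X1 X2 * X2
def g49 (X0 X1 X2 : M) : M := g32 X0 X1 X2 * X2
def g50 (X0 X1 X2 : M) : M := g34 X0 X1 X2 * X1
def g51 (X0 X1 X2 : M) : M := g34 X0 X1 X2 * X2
def g52 (X0 X1 X2 : M) : M := g36 X0 X1 X2 * X0
def g53 (X0 X1 X2 : M) : M := g36 X0 X1 X2 * X2
def g54 (X0 X1 X2 : M) : M := g37 X0 X1 X2 * X0
def g55 (X0 X1 X2 : M) : M := g37 X0 X1 X2 * X2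
def g56 (X0 X1 X2 : M) : M := g39 X0 X1 X2 * X1
def g57 (X0 X1 X2 : M) : M := g39 X0 X1 X2 * X2
def g58 (X0 X1 X2 : M) : M := g41 X0 X1 X2 * X1
def g59 (X0 X1 X2 : M) : M := g41 X0 X1 X2 * X2
def g60 (X0 X1 X2 : M) : M := g43 X0 X1 X2 * X2
def g61 (X0 X1 X2 : M) : M := g45 X0 X1 X2 * X0
def g62 (X0 X1 X2 : M) : M := g45 X0 X1 X2 * X1
def g63 (X0 X1 X2 : M) : M := g45 X0 X1 X2 * X2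
def g64 (X0 X1 X2 : M) : M := g47 X0 X1 X2 * X1
def g65 (X0 X1 X2 : M) : M := g47 X0 X1 X2 * X2
def g66 (X0 X1 X2 : M) : M := g50 X0 X1 X2 * X1
def g67 (X0 X1 X2 : M) : M := g50 X0 X1 X2 * X2
def g68 (X0 X1 X2 : M) : M := g52 X0 X1 X2 * X1
def g69 (X0 X1 X2 : M) : M := g52 X0 X1 X2 * X2
def g70 (X0 X1 X2 : M) : M := g54 X0 X1 X2 * X2
def g71 (X0 X1 X2 : M) : M := g56 X0 X1 X2 * X0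
def g72 (X0 X1 X2 : M) : M := g56 X0 X1 X2 * X1
def g73 (X0 X1 X2 : M) : M := g56 X0 X1 X2 * X2
def g74 (X0 X1 X2 : M) : M := g58 X0 X1 X2 * X1
def g75 (X0 X1 X2 : M) : M := g58 X0 X1 X2 * X2
def g76 (X0 X1 X2 : M) : M := g61 X0 X1 X2 * X0
def g77 (X0 X1 X2 : M) : M := g61 X0 X1 X2 * X2
def g78 (X0 X1 X2 : M) : M := g62 X0 X1 X2 * X0
def g79 (X0 X1 X2 : M) : M := g62 X0 X1 X2 * X2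
def g80 (X0 X1 X2 : M) : M := g64 X0 X1 X2 * X0
def g81 (X0 X1 X2 : M) : M := g64 X0 X1 X2 * X2
def g82 (X0 X1 X2 : M) : M := g66 X0 X1 X2 * X0
def g83 (X0 X1 X2 : M) : M := g66 X0 X1 X2 * X1
def g84 (X0 X1 X2 : M) : M := g66 X0 X1 X2 * X2
def g85 (X0 X1 X2 : M) : M := g68 X0 X1 X2 * X1
def g86 (X0 X1 X2 : M) : M := g68 X0 X1 X2 * X2
def g87 (X0 X1 X2 : M) : M := g71 X0 X1 X2 * X0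
def g88 (X0 X1 X2 : M) : M := g71 X0 X1 X2 * X2
def g89 (X0 X1 X2 : M) : M := g72 X0 X1 X2 * X0
def g90 (X0 X1 X2 : M) : M := g72 X0 X1 X2 * X2
def g91 (X0 X1 X2 : M) : M := g74 X0 X1 X2 * X0
def g92 (X0 X1 X2 : M) : M := g74 X0 X1 X2 * X2
def g93 (X0 X1 X2 : M) : M := g76 X0 X1 X2 * X1
def g94 (X0 X1 X2 : M) : M := g76 X0 X1 X2 * X2
def g95 (X0 X1 X2 : M) : M := g78 X0 X1 X2 * X2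
def g96 (X0 X1 X2 : M) : M := g80 X0 X1 X2 * X0
def g97 (X0 X1 X2 : M) : M := g80 X0 X1 X2 * X2
def g98 (X0 X1 X2 : M) : M := g82 X0 X1 X2 * X0
def g99 (X0 X1 X2 : M) : M := g82 X0 X1 X2 * X2
def g100 (X0 X1 X2 : M) : M := g83 X0 X1 X2 * X0
def g101 (X0 X1 X2 : M) : M := g83 X0 X1 X2 * X2
def g102 (X0 X1 X2 : M) : M := g85 X0 X1 X2 * X0
def g103 (X0 X1 X2 : M) : M := g85 X0 X1 X2 * X2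
def g104 (X0 X1 X2 : M) : M := g87 X0 X1 X2 * X1
def g105 (X0 X1 X2 : M) : M := g87 X0 X1 X2 * X2
def g106 (X0 X1 X2 : M) : M := g89 X0 X1 X2 * X2
def g107 (X0 X1 X2 : M) : M := g91 X0 X1 X2 * X0
def g108 (X0 X1 X2 : M) : M := g91 X0 X1 X2 * X2
def g109 (X0 X1 X2 : M) : M := g93 X0 X1 X2 * X1
def g110 (X0 X1 X2 : M) : M := g93 X0 X1 X2 * X2
def g111 (X0 X1 X2 : M) : M := g96 X0 X1 X2 * X1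
def g112 (X0 X1 X2 : M) : M := g98 X0 X1 X2 * X1
def g113 (X0 X1 X2 : M) : M := g98 X0 X1 X2 * X2
def g114 (X0 X1 X2 : M) : M := g100 X0 X1 X2 * X2
def g115 (X0 X1 X2 : M) : M := g102 X0 X1 X2 * X2
def g116 (X0 X1 X2 : M) : M := g104 X0 X1 X2 * X1
def g117 (X0 X1 X2 : M) : M := g107 X0 X1 X2 * X1
def g118 (X0 X1 X2 : M) : M := g109 X0 X1 X2 * X0
def g119 (X0 X1 X2 : M) : M := g109 X0 X1 X2 * X2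


theorem rel_0_1 (X0 X1 X2 : M) (hr0 : X0 * (X0 * (X0 * 1)) = 1) (hr1 : X1 * (X1 * (X1 * (X1 * (X1 * 1)))) = 1) (hr2 : X2 * (X2 * 1) = 1) (hr3 : X2⁻¹ * (X0 * (X2 * (X0⁻¹ * 1))) = 1) (hr4 : X2⁻¹ * (X1 * (X2 * (X1⁻¹ * 1))) = 1) (hr5 : X0 * (X1 * (X0 * (X1 * (X2⁻¹ * 1)))) = 1) : (X0 * 1) * (X0 * (X0 * 1)) = 1 := by
  simpa only [mul_assoc, mul_one, one_mul] using hr0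
theorem rel_0_2 (X0 X1 X2 : M) (hr0 : X0 * (X0 * (X0 * 1)) = 1) (hr1 : X1 * (X1 * (X1 * (X1 * (X1 * 1)))) = 1) (hr2 : X2 * (X2 * 1) = 1) (hr3 : X2⁻¹ * (X0 * (X2 * (X0⁻¹ * 1))) = 1) (hr4 : X2⁻¹ * (X1 * (X2 * (X1⁻¹ * 1))) = 1) (hr5 : X0 * (X1 * (X0 * (X1 * (X2⁻¹ * 1)))) = 1) : (X0 * (X0 * 1)) * (X0 * (1)) = 1 := by
  simpa only [mul_assoc, mul_one, one_mul] using hr0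
theorem rel_1_1 (X0 X1 X2 : M) (hr0 : X0 * (X0 * (X0 * 1)) = 1) (hr1 : X1 * (X1 * (X1 * (X1 * (X1 * 1)))) = 1) (hr2 : X2 * (X2 * 1) = 1) (hr3 : X2⁻¹ * (X0 * (X2 * (X0⁻¹ * 1))) = 1) (hr4 : X2⁻¹ * (X1 * (X2 * (X1⁻¹ * 1))) = 1) (hr5 : X0 * (X1 * (X0 * (X1 * (X2⁻¹ * 1)))) = 1) : (X1 * 1) * (X1 * (X1 * (X1 * (X1 * 1)))) = 1 := by
  simpa only [mul_assoc, mul_one, one_mul] using hr1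
theorem rel_1_2 (X0 X1 X2 : M) (hr0 : X0 * (X0 * (X0 * 1)) = 1) (hr1 : X1 * (X1 * (X1 * (X1 * (X1 * 1)))) = 1) (hr2 : X2 * (X2 * 1) = 1) (hr3 : X2⁻¹ * (X0 * (X2 * (X0⁻¹ * 1))) = 1) (hr4 : X2⁻¹ * (X1 * (X2 * (X1⁻¹ * 1))) = 1) (hr5 : X0 * (X1 * (X0 * (X1 * (X2⁻¹ * 1)))) = 1) : (X1 * (X1 * 1)) * (X1 * (X1 * (X1 * 1))) = 1 := by
  simpa only [mul_assoc, mul_one, one_mul] using hr1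
theorem rel_1_3 (X0 X1 X2 : M) (hr0 : X0 * (X0 * (X0 * 1)) = 1) (hr1 : X1 * (X1 * (X1 * (X1 * (X1 * 1)))) = 1) (hr2 : X2 * (X2 * 1) = 1) (hr3 : X2⁻¹ * (X0 * (X2 * (X0⁻¹ * 1))) = 1) (hr4 : X2⁻¹ * (X1 * (X2 * (X1⁻¹ * 1))) = 1) (hr5 : X0 * (X1 * (X0 * (X1 * (X2⁻¹ * 1)))) = 1) : (X1 * (X1 * (X1 * 1))) * (X1 * (X1 * 1)) = 1 := by
  simpa only [mul_assoc, mul_one, one_mul] using hr1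
theorem rel_1_4 (X0 X1 X2 : M) (hr0 : X0 * (X0 * (X0 * 1)) = 1) (hr1 : X1 * (X1 * (X1 * (X1 * (X1 * 1)))) = 1) (hr2 : X2 * (X2 * 1) = 1) (hr3 : X2⁻¹ * (X0 * (X2 * (X0⁻¹ * 1))) = 1) (hr4 : X2⁻¹ * (X1 * (X2 * (X1⁻¹ * 1))) = 1) (hr5 : X0 * (X1 * (X0 * (X1 * (X2⁻¹ * 1)))) = 1) : (X1 * (X1 * (X1 * (X1 * 1)))) * (X1 * (1)) = 1 := by
  simpa only [mul_assoc, mul_one, one_mul] using hr1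
theorem rel_2_1 (X0 X1 X2 : M) (hr0 : X0 * (X0 * (X0 * 1)) = 1) (hr1 : X1 * (X1 * (X1 * (X1 * (X1 * 1)))) = 1) (hr2 : X2 * (X2 * 1) = 1) (hr3 : X2⁻¹ * (X0 * (X2 * (X0⁻¹ * 1))) = 1) (hr4 : X2⁻¹ * (X1 * (X2 * (X1⁻¹ * 1))) = 1) (hr5 : X0 * (X1 * (X0 * (X1 * (X2⁻¹ * 1)))) = 1) : (X2 * 1) * (X2 * (1)) = 1 := by
  simpa only [mul_assoc, mul_one, one_mul] using hr2
theorem rel_3_0 (X0 X1 X2 : M) (hr0 : X0 * (X0 * (X0 * 1)) = 1) (hr1 : X1 * (X1 * (X1 * (X1 * (X1 * 1)))) = 1) (hr2 : X2 * (X2 * 1) = 1) (hr3 : X2⁻¹ * (X0 * (X2 * (X0⁻¹ * 1))) = 1) (hr4 : X2⁻¹ * (X1 * (X2 * (X1⁻¹ * 1))) = 1) (hr5 : X0 * (X1 * (X0 * (X1 * (X2⁻¹ * 1)))) = 1) : (1) * (X2⁻¹ * (X0 * (X2 * (X0⁻¹ * 1)))) = 1 := by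
  simpa only [mul_assoc, mul_one, one_mul] using hr3
theorem rel_3_1 (X0 X1 X2 : M) (hr0 : X0 * (X0 * (X0 * 1)) = 1) (hr1 : X1 * (X1 * (X1 * (X1 * (X1 * 1)))) = 1) (hr2 : X2 * (X2 * 1) = 1) (hr3 : X2⁻¹ * (X0 * (X2 * (X0⁻¹ * 1))) = 1) (hr4 : X2⁻¹ * (X1 * (X2 * (X1⁻¹ * 1))) = 1) (hr5 : X0 * (X1 * (X0 * (X1 * (X2⁻¹ * 1)))) = 1) : (X2⁻¹ * 1) * (X0 * (X2 * (X0⁻¹ * 1))) = 1 := by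
  simpa only [mul_assoc, mul_one, one_mul] using hr3
theorem rel_3_2 (X0 X1 X2 : M) (hr0 : X0 * (X0 * (X0 * 1)) = 1) (hr1 : X1 * (X1 * (X1 * (X1 * (X1 * 1)))) = 1) (hr2 : X2 * (X2 * 1) = 1) (hr3 : X2⁻¹ * (X0 * (X2 * (X0⁻¹ * 1))) = 1) (hr4 : X2⁻¹ * (X1 * (X2 * (X1⁻¹ * 1))) = 1) (hr5 : X0 * (X1 * (X0 * (X1 * (X2⁻¹ * 1)))) = 1) : (X2⁻¹ * (X0 * 1)) * (X2 * (X0⁻¹ * 1)) = 1 := by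
  simpa only [mul_assoc, mul_one, one_mul] using hr3
theorem rel_4_1 (X0 X1 X2 : M) (hr0 : X0 * (X0 * (X0 * 1)) = 1) (hr1 : X1 * (X1 * (X1 * (X1 * (X1 * 1)))) = 1) (hr2 : X2 * (X2 * 1) = 1) (hr3 : X2⁻¹ * (X0 * (X2 * (X0⁻¹ * 1))) = 1) (hr4 : X2⁻¹ * (X1 * (X2 * (X1⁻¹ * 1))) = 1) (hr5 : X0 * (X1 * (X0 * (X1 * (X2⁻¹ * 1)))) = 1) : (X2⁻¹ * 1) * (X1 * (X2 * (X1⁻¹ * 1))) = 1 := by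
  simpa only [mul_assoc, mul_one, one_mul] using hr4
theorem rel_4_2 (X0 X1 X2 : M) (hr0 : X0 * (X0 * (X0 * 1)) = 1) (hr1 : X1 * (X1 * (X1 * (X1 * (X1 * 1)))) = 1) (hr2 : X2 * (X2 * 1) = 1) (hr3 : X2⁻¹ * (X0 * (X2 * (X0⁻¹ * 1))) = 1) (hr4 : X2⁻¹ * (X1 * (X2 * (X1⁻¹ * 1))) = 1) (hr5 : X0 * (X1 * (X0 * (X1 * (X2⁻¹ * 1)))) = 1) : (X2⁻¹ * (X1 * 1)) * (X2 * (X1⁻¹ * 1)) = 1 := by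
  simpa only [mul_assoc, mul_one, one_mul] using hr4
theorem rel_5_1 (X0 X1 X2 : M) (hr0 : X0 * (X0 * (X0 * 1)) = 1) (hr1 : X1 * (X1 * (X1 * (X1 * (X1 * 1)))) = 1) (hr2 : X2 * (X2 * 1) = 1) (hr3 : X2⁻¹ * (X0 * (X2 * (X0⁻¹ * 1))) = 1) (hr4 : X2⁻¹ * (X1 * (X2 * (X1⁻¹ * 1))) = 1) (hr5 : X0 * (X1 * (X0 * (X1 * (X2⁻¹ * 1)))) = 1) : (X0 * 1) * (X1 * (X0 * (X1 * (X2⁻¹ * 1)))) = 1 := by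
  simpa only [mul_assoc, mul_one, one_mul] using hr5
theorem rel_5_2 (X0 X1 X2 : M) (hr0 : X0 * (X0 * (X0 * 1)) = 1) (hr1 : X1 * (X1 * (X1 * (X1 * (X1 * 1)))) = 1) (hr2 : X2 * (X2 * 1) = 1) (hr3 : X2⁻¹ * (X0 * (X2 * (X0⁻¹ * 1))) = 1) (hr4 : X2⁻¹ * (X1 * (X2 * (X1⁻¹ * 1))) = 1) (hr5 : X0 * (X1 * (X0 * (X1 * (X2⁻¹ * 1)))) = 1) : (X0 * (X1 * 1)) * (X0 * (X1 * (X2⁻¹ * 1))) = 1 := by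
  simpa only [mul_assoc, mul_one, one_mul] using hr5
theorem rel_5_3 (X0 X1 X2 : M) (hr0 : X0 * (X0 * (X0 * 1)) = 1) (hr1 : X1 * (X1 * (X1 * (X1 * (X1 * 1)))) = 1) (hr2 : X2 * (X2 * 1) = 1) (hr3 : X2⁻¹ * (X0 * (X2 * (X0⁻¹ * 1))) = 1) (hr4 : X2⁻¹ * (X1 * (X2 * (X1⁻¹ * 1))) = 1) (hr5 : X0 * (X1 * (X0 * (X1 * (X2⁻¹ * 1)))) = 1) : (X0 * (X1 * (X0 * 1))) * (X1 * (X2⁻¹ * 1)) = 1 := by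
  simpa only [mul_assoc, mul_one, one_mul] using hr5
theorem rel_5_4 (X0 X1 X2 : M) (hr0 : X0 * (X0 * (X0 * 1)) = 1) (hr1 : X1 * (X1 * (X1 * (X1 * (X1 * 1)))) = 1) (hr2 : X2 * (X2 * 1) = 1) (hr3 : X2⁻¹ * (X0 * (X2 * (X0⁻¹ * 1))) = 1) (hr4 : X2⁻¹ * (X1 * (X2 * (X1⁻¹ * 1))) = 1) (hr5 : X0 * (X1 * (X0 * (X1 * (X2⁻¹ * 1)))) = 1) : (X0 * (X1 * (X0 * (X1 * 1)))) * (X2⁻¹ * (1)) = 1 := by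
  simpa only [mul_assoc, mul_one, one_mul] using hr5

theorem E_0_0 (X0 X1 X2 : M) : g0 X0 X1 X2 * X0 = g1 X0 X1 X2 := rfl
theorem E_0_1 (X0 X1 X2 : M) : g0 X0 X1 X2 * X1 = g2 X0 X1 X2 := rfl
theorem E_0_2 (X0 X1 X2 : M) : g0 X0 X1 X2 * X2 = g3 X0 X1 X2 := rfl
theorem E_1_0 (X0 X1 X2 : M) : g1 X0 X1 X2 * X0 = g4 X0 X1 X2 := rfl
theorem E_1_1 (X0 X1 X2 : M) : g1 X0 X1 X2 * X1 = g5 X0 X1 X2 := rfl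
theorem E_1_2 (X0 X1 X2 : M) : g1 X0 X1 X2 * X2 = g6 X0 X1 X2 := rfl
theorem E_2_0 (X0 X1 X2 : M) : g2 X0 X1 X2 * X0 = g7 X0 X1 X2 := rfl
theorem E_2_1 (X0 X1 X2 : M) : g2 X0 X1 X2 * X1 = g8 X0 X1 X2 := rfl
theorem E_2_2 (X0 X1 X2 : M) : g2 X0 X1 X2 * X2 = g9 X0 X1 X2 := rfl
theorem E_4_1 (X0 X1 X2 : M) : g4 X0 X1 X2 * X1 = g10 X0 X1 X2 := rfl
theorem E_4_2 (X0 X1 X2 : M) : g4 X0 X1 X2 * X2 = g11 X0 X1 X2 := rfl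
theorem E_5_0 (X0 X1 X2 : M) : g5 X0 X1 X2 * X0 = g12 X0 X1 X2 := rfl
theorem E_5_1 (X0 X1 X2 : M) : g5 X0 X1 X2 * X1 = g13 X0 X1 X2 := rfl
theorem E_5_2 (X0 X1 X2 : M) : g5 X0 X1 X2 * X2 = g14 X0 X1 X2 := rfl
theorem E_7_0 (X0 X1 X2 : M) : g7 X0 X1 X2 * X0 = g15 X0 X1 X2 := rfl
theorem E_7_2 (X0 X1 X2 : M) : g7 X0 X1 X2 * X2 = g16 X0 X1 X2 := rfl
theorem E_8_0 (X0 X1 X2 : M) : g8 X0 X1 X2 * X0 = g17 X0 X1 X2 := rfl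
theorem E_8_1 (X0 X1 X2 : M) : g8 X0 X1 X2 * X1 = g18 X0 X1 X2 := rfl
theorem E_8_2 (X0 X1 X2 : M) : g8 X0 X1 X2 * X2 = g19 X0 X1 X2 := rfl
theorem E_10_0 (X0 X1 X2 : M) : g10 X0 X1 X2 * X0 = g20 X0 X1 X2 := rfl
theorem E_10_1 (X0 X1 X2 : M) : g10 X0 X1 X2 * X1 = g21 X0 X1 X2 := rfl
theorem E_10_2 (X0 X1 X2 : M) : g10 X0 X1 X2 * X2 = g22 X0 X1 X2 := rfl
theorem E_12_0 (X0 X1 X2 : M) : g12 X0 X1 X2 * X0 = g23 X0 X1 X2 := rfl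
theorem E_12_2 (X0 X1 X2 : M) : g12 X0 X1 X2 * X2 = g24 X0 X1 X2 := rfl
theorem E_13_0 (X0 X1 X2 : M) : g13 X0 X1 X2 * X0 = g25 X0 X1 X2 := rfl
theorem E_13_1 (X0 X1 X2 : M) : g13 X0 X1 X2 * X1 = g26 X0 X1 X2 := rfl
theorem E_13_2 (X0 X1 X2 : M) : g13 X0 X1 X2 * X2 = g27 X0 X1 X2 := rfl
theorem E_15_1 (X0 X1 X2 : M) : g15 X0 X1 X2 * X1 = g28 X0 X1 X2 := rfl
theorem E_15_2 (X0 X1 X2 : M) : g15 X0 X1 X2 * X2 = g29 X0 X1 X2 := rfl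
theorem E_17_0 (X0 X1 X2 : M) : g17 X0 X1 X2 * X0 = g30 X0 X1 X2 := rfl
theorem E_17_2 (X0 X1 X2 : M) : g17 X0 X1 X2 * X2 = g31 X0 X1 X2 := rfl
theorem E_18_0 (X0 X1 X2 : M) : g18 X0 X1 X2 * X0 = g32 X0 X1 X2 := rfl
theorem E_18_2 (X0 X1 X2 : M) : g18 X0 X1 X2 * X2 = g33 X0 X1 X2 := rfl
theorem E_20_0 (X0 X1 X2 : M) : g20 X0 X1 X2 * X0 = g34 X0 X1 X2 := rfl
theorem E_20_2 (X0 X1 X2 : M) : g20 X0 X1 X2 * X2 = g35 X0 X1 X2 := rfl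
theorem E_21_0 (X0 X1 X2 : M) : g21 X0 X1 X2 * X0 = g36 X0 X1 X2 := rfl
theorem E_21_1 (X0 X1 X2 : M) : g21 X0 X1 X2 * X1 = g37 X0 X1 X2 := rfl
theorem E_21_2 (X0 X1 X2 : M) : g21 X0 X1 X2 * X2 = g38 X0 X1 X2 := rfl
theorem E_23_1 (X0 X1 X2 : M) : g23 X0 X1 X2 * X1 = g39 X0 X1 X2 := rfl
theorem E_23_2 (X0 X1 X2 : M) : g23 X0 X1 X2 * X2 = g40 X0 X1 X2 := rfl
theorem E_25_0 (X0 X1 X2 : M) : g25 X0 X1 X2 * X0 = g41 X0 X1 X2 := rfl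
theorem E_25_2 (X0 X1 X2 : M) : g25 X0 X1 X2 * X2 = g42 X0 X1 X2 := rfl
theorem E_26_0 (X0 X1 X2 : M) : g26 X0 X1 X2 * X0 = g43 X0 X1 X2 := rfl
theorem E_26_2 (X0 X1 X2 : M) : g26 X0 X1 X2 * X2 = g44 X0 X1 X2 := rfl
theorem E_28_1 (X0 X1 X2 : M) : g28 X0 X1 X2 * X1 = g45 X0 X1 X2 := rfl
theorem E_28_2 (X0 X1 X2 : M) : g28 X0 X1 X2 * X2 = g46 X0 X1 X2 := rfl
theorem E_30_1 (X0 X1 X2 : M) : g30 X0 X1 X2 * X1 = g47 X0 X1 X2 := rfl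
theorem E_30_2 (X0 X1 X2 : M) : g30 X0 X1 X2 * X2 = g48 X0 X1 X2 := rfl
theorem E_32_2 (X0 X1 X2 : M) : g32 X0 X1 X2 * X2 = g49 X0 X1 X2 := rfl
theorem E_34_1 (X0 X1 X2 : M) : g34 X0 X1 X2 * X1 = g50 X0 X1 X2 := rfl
theorem E_34_2 (X0 X1 X2 : M) : g34 X0 X1 X2 * X2 = g51 X0 X1 X2 := rfl
theorem E_36_0 (X0 X1 X2 : M) : g36 X0 X1 X2 * X0 = g52 X0 X1 X2 := rfl
theorem E_36_2 (X0 X1 X2 : M) : g36 X0 X1 X2 * X2 = g53 X0 X1 X2 := rfl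
theorem E_37_0 (X0 X1 X2 : M) : g37 X0 X1 X2 * X0 = g54 X0 X1 X2 := rfl
theorem E_37_2 (X0 X1 X2 : M) : g37 X0 X1 X2 * X2 = g55 X0 X1 X2 := rfl
theorem E_39_1 (X0 X1 X2 : M) : g39 X0 X1 X2 * X1 = g56 X0 X1 X2 := rfl
theorem E_39_2 (X0 X1 X2 : M) : g39 X0 X1 X2 * X2 = g57 X0 X1 X2 := rfl
theorem E_41_1 (X0 X1 X2 : M) : g41 X0 X1 X2 * X1 = g58 X0 X1 X2 := rfl
theorem E_41_2 (X0 X1 X2 : M) : g41 X0 X1 X2 * X2 = g59 X0 X1 X2 := rfl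
theorem E_43_2 (X0 X1 X2 : M) : g43 X0 X1 X2 * X2 = g60 X0 X1 X2 := rfl
theorem E_45_0 (X0 X1 X2 : M) : g45 X0 X1 X2 * X0 = g61 X0 X1 X2 := rfl
theorem E_45_1 (X0 X1 X2 : M) : g45 X0 X1 X2 * X1 = g62 X0 X1 X2 := rfl
theorem E_45_2 (X0 X1 X2 : M) : g45 X0 X1 X2 * X2 = g63 X0 X1 X2 := rfl
theorem E_47_1 (X0 X1 X2 : M) : g47 X0 X1 X2 * X1 = g64 X0 X1 X2 := rfl
theorem E_47_2 (X0 X1 X2 : M) : g47 X0 X1 X2 * X2 = g65 X0 X1 X2 := rfl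
theorem E_50_1 (X0 X1 X2 : M) : g50 X0 X1 X2 * X1 = g66 X0 X1 X2 := rfl
theorem E_50_2 (X0 X1 X2 : M) : g50 X0 X1 X2 * X2 = g67 X0 X1 X2 := rfl
theorem E_52_1 (X0 X1 X2 : M) : g52 X0 X1 X2 * X1 = g68 X0 X1 X2 := rfl
theorem E_52_2 (X0 X1 X2 : M) : g52 X0 X1 X2 * X2 = g69 X0 X1 X2 := rfl
theorem E_54_2 (X0 X1 X2 : M) : g54 X0 X1 X2 * X2 = g70 X0 X1 X2 := rfl
theorem E_56_0 (X0 X1 X2 : M) : g56 X0 X1 X2 * X0 = g71 X0 X1 X2 := rfl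
theorem E_56_1 (X0 X1 X2 : M) : g56 X0 X1 X2 * X1 = g72 X0 X1 X2 := rfl
theorem E_56_2 (X0 X1 X2 : M) : g56 X0 X1 X2 * X2 = g73 X0 X1 X2 := rfl
theorem E_58_1 (X0 X1 X2 : M) : g58 X0 X1 X2 * X1 = g74 X0 X1 X2 := rfl
theorem E_58_2 (X0 X1 X2 : M) : g58 X0 X1 X2 * X2 = g75 X0 X1 X2 := rfl
theorem E_61_0 (X0 X1 X2 : M) : g61 X0 X1 X2 * X0 = g76 X0 X1 X2 := rfl
theorem E_61_2 (X0 X1 X2 : M) : g61 X0 X1 X2 * X2 = g77 X0 X1 X2 := rfl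
theorem E_62_0 (X0 X1 X2 : M) : g62 X0 X1 X2 * X0 = g78 X0 X1 X2 := rfl
theorem E_62_2 (X0 X1 X2 : M) : g62 X0 X1 X2 * X2 = g79 X0 X1 X2 := rfl
theorem E_64_0 (X0 X1 X2 : M) : g64 X0 X1 X2 * X0 = g80 X0 X1 X2 := rfl
theorem E_64_2 (X0 X1 X2 : M) : g64 X0 X1 X2 * X2 = g81 X0 X1 X2 := rfl
theorem E_66_0 (X0 X1 X2 : M) : g66 X0 X1 X2 * X0 = g82 X0 X1 X2 := rfl
theorem E_66_1 (X0 X1 X2 : M) : g66 X0 X1 X2 * X1 = g83 X0 X1 X2 := rfl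
theorem E_66_2 (X0 X1 X2 : M) : g66 X0 X1 X2 * X2 = g84 X0 X1 X2 := rfl
theorem E_68_1 (X0 X1 X2 : M) : g68 X0 X1 X2 * X1 = g85 X0 X1 X2 := rfl
theorem E_68_2 (X0 X1 X2 : M) : g68 X0 X1 X2 * X2 = g86 X0 X1 X2 := rfl
theorem E_71_0 (X0 X1 X2 : M) : g71 X0 X1 X2 * X0 = g87 X0 X1 X2 := rfl
theorem E_71_2 (X0 X1 X2 : M) : g71 X0 X1 X2 * X2 = g88 X0 X1 X2 := rfl
theorem E_72_0 (X0 X1 X2 : M) : g72 X0 X1 X2 * X0 = g89 X0 X1 X2 := rfl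
theorem E_72_2 (X0 X1 X2 : M) : g72 X0 X1 X2 * X2 = g90 X0 X1 X2 := rfl
theorem E_74_0 (X0 X1 X2 : M) : g74 X0 X1 X2 * X0 = g91 X0 X1 X2 := rfl
theorem E_74_2 (X0 X1 X2 : M) : g74 X0 X1 X2 * X2 = g92 X0 X1 X2 := rfl
theorem E_76_1 (X0 X1 X2 : M) : g76 X0 X1 X2 * X1 = g93 X0 X1 X2 := rfl
theorem E_76_2 (X0 X1 X2 : M) : g76 X0 X1 X2 * X2 = g94 X0 X1 X2 := rfl
theorem E_78_2 (X0 X1 X2 : M) : g78 X0 X1 X2 * X2 = g95 X0 X1 X2 := rfl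
theorem E_80_0 (X0 X1 X2 : M) : g80 X0 X1 X2 * X0 = g96 X0 X1 X2 := rfl
theorem E_80_2 (X0 X1 X2 : M) : g80 X0 X1 X2 * X2 = g97 X0 X1 X2 := rfl
theorem E_82_0 (X0 X1 X2 : M) : g82 X0 X1 X2 * X0 = g98 X0 X1 X2 := rfl
theorem E_82_2 (X0 X1 X2 : M) : g82 X0 X1 X2 * X2 = g99 X0 X1 X2 := rfl
theorem E_83_0 (X0 X1 X2 : M) : g83 X0 X1 X2 * X0 = g100 X0 X1 X2 := rfl
theorem E_83_2 (X0 X1 X2 : M) : g83 X0 X1 X2 * X2 = g101 X0 X1 X2 := rfl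
theorem E_85_0 (X0 X1 X2 : M) : g85 X0 X1 X2 * X0 = g102 X0 X1 X2 := rfl
theorem E_85_2 (X0 X1 X2 : M) : g85 X0 X1 X2 * X2 = g103 X0 X1 X2 := rfl
theorem E_87_1 (X0 X1 X2 : M) : g87 X0 X1 X2 * X1 = g104 X0 X1 X2 := rfl
theorem E_87_2 (X0 X1 X2 : M) : g87 X0 X1 X2 * X2 = g105 X0 X1 X2 := rfl
theorem E_89_2 (X0 X1 X2 : M) : g89 X0 X1 X2 * X2 = g106 X0 X1 X2 := rfl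
theorem E_91_0 (X0 X1 X2 : M) : g91 X0 X1 X2 * X0 = g107 X0 X1 X2 := rfl
theorem E_91_2 (X0 X1 X2 : M) : g91 X0 X1 X2 * X2 = g108 X0 X1 X2 := rfl
theorem E_93_1 (X0 X1 X2 : M) : g93 X0 X1 X2 * X1 = g109 X0 X1 X2 := rfl
theorem E_93_2 (X0 X1 X2 : M) : g93 X0 X1 X2 * X2 = g110 X0 X1 X2 := rfl
theorem E_96_1 (X0 X1 X2 : M) : g96 X0 X1 X2 * X1 = g111 X0 X1 X2 := rfl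
theorem E_98_1 (X0 X1 X2 : M) : g98 X0 X1 X2 * X1 = g112 X0 X1 X2 := rfl
theorem E_98_2 (X0 X1 X2 : M) : g98 X0 X1 X2 * X2 = g113 X0 X1 X2 := rfl
theorem E_100_2 (X0 X1 X2 : M) : g100 X0 X1 X2 * X2 = g114 X0 X1 X2 := rfl
theorem E_102_2 (X0 X1 X2 : M) : g102 X0 X1 X2 * X2 = g115 X0 X1 X2 := rfl
theorem E_104_1 (X0 X1 X2 : M) : g104 X0 X1 X2 * X1 = g116 X0 X1 X2 := rfl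
theorem E_107_1 (X0 X1 X2 : M) : g107 X0 X1 X2 * X1 = g117 X0 X1 X2 := rfl
theorem E_109_0 (X0 X1 X2 : M) : g109 X0 X1 X2 * X0 = g118 X0 X1 X2 := rfl
theorem E_109_2 (X0 X1 X2 : M) : g109 X0 X1 X2 * X2 = g119 X0 X1 X2 := rfl

theorem E_4_0 (X0 X1 X2 : M) (hr0 : X0 * (X0 * (X0 * 1)) = 1) (hr1 : X1 * (X1 * (X1 * (X1 * (X1 * 1)))) = 1) (hr2 : X2 * (X2 * 1) = 1) (hr3 : X2⁻¹ * (X0 * (X2 * (X0⁻¹ * 1))) = 1) (hr4 : X2⁻¹ * (X1 * (X2 * (X1⁻¹ * 1))) = 1) (hr5 : X0 * (X1 * (X0 * (X1 * (X2⁻¹ * 1)))) = 1) : g4 X0 X1 X2 * X0 = g0 X0 X1 X2 :=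
  deduce (path_cons (E_0_0 X0 X1 X2) (path_cons (E_1_0 X0 X1 X2) (path_nil (g4 X0 X1 X2)))) (path_nil (g0 X0 X1 X2)) (rel_0_2 X0 X1 X2 hr0 hr1 hr2 hr3 hr4 hr5)
theorem E_15_0 (X0 X1 X2 : M) (hr0 : X0 * (X0 * (X0 * 1)) = 1) (hr1 : X1 * (X1 * (X1 * (X1 * (X1 * 1)))) = 1) (hr2 : X2 * (X2 * 1) = 1) (hr3 : X2⁻¹ * (X0 * (X2 * (X0⁻¹ * 1))) = 1) (hr4 : X2⁻¹ * (X1 * (X2 * (X1⁻¹ * 1))) = 1) (hr5 : X0 * (X1 * (X0 * (X1 * (X2⁻¹ * 1)))) = 1) : g15 X0 X1 X2 * X0 = g2 X0 X1 X2 :=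
  deduce (path_cons (E_2_0 X0 X1 X2) (path_cons (E_7_0 X0 X1 X2) (path_nil (g15 X0 X1 X2)))) (path_nil (g2 X0 X1 X2)) (rel_0_2 X0 X1 X2 hr0 hr1 hr2 hr3 hr4 hr5)
theorem E_23_0 (X0 X1 X2 : M) (hr0 : X0 * (X0 * (X0 * 1)) = 1) (hr1 : X1 * (X1 * (X1 * (X1 * (X1 * 1)))) = 1) (hr2 : X2 * (X2 * 1) = 1) (hr3 : X2⁻¹ * (X0 * (X2 * (X0⁻¹ * 1))) = 1) (hr4 : X2⁻¹ * (X1 * (X2 * (X1⁻¹ * 1))) = 1) (hr5 : X0 * (X1 * (X0 * (X1 * (X2⁻¹ * 1)))) = 1) : g23 X0 X1 X2 * X0 = g5 X0 X1 X2 :=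
  deduce (path_cons (E_5_0 X0 X1 X2) (path_cons (E_12_0 X0 X1 X2) (path_nil (g23 X0 X1 X2)))) (path_nil (g5 X0 X1 X2)) (rel_0_2 X0 X1 X2 hr0 hr1 hr2 hr3 hr4 hr5)
theorem E_30_0 (X0 X1 X2 : M) (hr0 : X0 * (X0 * (X0 * 1)) = 1) (hr1 : X1 * (X1 * (X1 * (X1 * (X1 * 1)))) = 1) (hr2 : X2 * (X2 * 1) = 1) (hr3 : X2⁻¹ * (X0 * (X2 * (X0⁻¹ * 1))) = 1) (hr4 : X2⁻¹ * (X1 * (X2 * (X1⁻¹ * 1))) = 1) (hr5 : X0 * (X1 * (X0 * (X1 * (X2⁻¹ * 1)))) = 1) : g30 X0 X1 X2 * X0 = g8 X0 X1 X2 :=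
  deduce (path_cons (E_8_0 X0 X1 X2) (path_cons (E_17_0 X0 X1 X2) (path_nil (g30 X0 X1 X2)))) (path_nil (g8 X0 X1 X2)) (rel_0_2 X0 X1 X2 hr0 hr1 hr2 hr3 hr4 hr5)
theorem E_34_0 (X0 X1 X2 : M) (hr0 : X0 * (X0 * (X0 * 1)) = 1) (hr1 : X1 * (X1 * (X1 * (X1 * (X1 * 1)))) = 1) (hr2 : X2 * (X2 * 1) = 1) (hr3 : X2⁻¹ * (X0 * (X2 * (X0⁻¹ * 1))) = 1) (hr4 : X2⁻¹ * (X1 * (X2 * (X1⁻¹ * 1))) = 1) (hr5 : X0 * (X1 * (X0 * (X1 * (X2⁻¹ * 1)))) = 1) : g34 X0 X1 X2 * X0 = g10 X0 X1 X2 :=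
  deduce (path_cons (E_10_0 X0 X1 X2) (path_cons (E_20_0 X0 X1 X2) (path_nil (g34 X0 X1 X2)))) (path_nil (g10 X0 X1 X2)) (rel_0_2 X0 X1 X2 hr0 hr1 hr2 hr3 hr4 hr5)
theorem E_41_0 (X0 X1 X2 : M) (hr0 : X0 * (X0 * (X0 * 1)) = 1) (hr1 : X1 * (X1 * (X1 * (X1 * (X1 * 1)))) = 1) (hr2 : X2 * (X2 * 1) = 1) (hr3 : X2⁻¹ * (X0 * (X2 * (X0⁻¹ * 1))) = 1) (hr4 : X2⁻¹ * (X1 * (X2 * (X1⁻¹ * 1))) = 1) (hr5 : X0 * (X1 * (X0 * (X1 * (X2⁻¹ * 1)))) = 1) : g41 X0 X1 X2 * X0 = g13 X0 X1 X2 :=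
  deduce (path_cons (E_13_0 X0 X1 X2) (path_cons (E_25_0 X0 X1 X2) (path_nil (g41 X0 X1 X2)))) (path_nil (g13 X0 X1 X2)) (rel_0_2 X0 X1 X2 hr0 hr1 hr2 hr3 hr4 hr5)
theorem E_52_0 (X0 X1 X2 : M) (hr0 : X0 * (X0 * (X0 * 1)) = 1) (hr1 : X1 * (X1 * (X1 * (X1 * (X1 * 1)))) = 1) (hr2 : X2 * (X2 * 1) = 1) (hr3 : X2⁻¹ * (X0 * (X2 * (X0⁻¹ * 1))) = 1) (hr4 : X2⁻¹ * (X1 * (X2 * (X1⁻¹ * 1))) = 1) (hr5 : X0 * (X1 * (X0 * (X1 * (X2⁻¹ * 1)))) = 1) : g52 X0 X1 X2 * X0 = g21 X0 X1 X2 :=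
  deduce (path_cons (E_21_0 X0 X1 X2) (path_cons (E_36_0 X0 X1 X2) (path_nil (g52 X0 X1 X2)))) (path_nil (g21 X0 X1 X2)) (rel_0_2 X0 X1 X2 hr0 hr1 hr2 hr3 hr4 hr5)
theorem E_76_0 (X0 X1 X2 : M) (hr0 : X0 * (X0 * (X0 * 1)) = 1) (hr1 : X1 * (X1 * (X1 * (X1 * (X1 * 1)))) = 1) (hr2 : X2 * (X2 * 1) = 1) (hr3 : X2⁻¹ * (X0 * (X2 * (X0⁻¹ * 1))) = 1) (hr4 : X2⁻¹ * (X1 * (X2 * (X1⁻¹ * 1))) = 1) (hr5 : X0 * (X1 * (X0 * (X1 * (X2⁻¹ * 1)))) = 1) : g76 X0 X1 X2 * X0 = g45 X0 X1 X2 :=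
  deduce (path_cons (E_45_0 X0 X1 X2) (path_cons (E_61_0 X0 X1 X2) (path_nil (g76 X0 X1 X2)))) (path_nil (g45 X0 X1 X2)) (rel_0_2 X0 X1 X2 hr0 hr1 hr2 hr3 hr4 hr5)
theorem E_87_0 (X0 X1 X2 : M) (hr0 : X0 * (X0 * (X0 * 1)) = 1) (hr1 : X1 * (X1 * (X1 * (X1 * (X1 * 1)))) = 1) (hr2 : X2 * (X2 * 1) = 1) (hr3 : X2⁻¹ * (X0 * (X2 * (X0⁻¹ * 1))) = 1) (hr4 : X2⁻¹ * (X1 * (X2 * (X1⁻¹ * 1))) = 1) (hr5 : X0 * (X1 * (X0 * (X1 * (X2⁻¹ * 1)))) = 1) : g87 X0 X1 X2 * X0 = g56 X0 X1 X2 :=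
  deduce (path_cons (E_56_0 X0 X1 X2) (path_cons (E_71_0 X0 X1 X2) (path_nil (g87 X0 X1 X2)))) (path_nil (g56 X0 X1 X2)) (rel_0_2 X0 X1 X2 hr0 hr1 hr2 hr3 hr4 hr5)
theorem E_96_0 (X0 X1 X2 : M) (hr0 : X0 * (X0 * (X0 * 1)) = 1) (hr1 : X1 * (X1 * (X1 * (X1 * (X1 * 1)))) = 1) (hr2 : X2 * (X2 * 1) = 1) (hr3 : X2⁻¹ * (X0 * (X2 * (X0⁻¹ * 1))) = 1) (hr4 : X2⁻¹ * (X1 * (X2 * (X1⁻¹ * 1))) = 1) (hr5 : X0 * (X1 * (X0 * (X1 * (X2⁻¹ * 1)))) = 1) : g96 X0 X1 X2 * X0 = g64 X0 X1 X2 :=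
  deduce (path_cons (E_64_0 X0 X1 X2) (path_cons (E_80_0 X0 X1 X2) (path_nil (g96 X0 X1 X2)))) (path_nil (g64 X0 X1 X2)) (rel_0_2 X0 X1 X2 hr0 hr1 hr2 hr3 hr4 hr5)
theorem E_98_0 (X0 X1 X2 : M) (hr0 : X0 * (X0 * (X0 * 1)) = 1) (hr1 : X1 * (X1 * (X1 * (X1 * (X1 * 1)))) = 1) (hr2 : X2 * (X2 * 1) = 1) (hr3 : X2⁻¹ * (X0 * (X2 * (X0⁻¹ * 1))) = 1) (hr4 : X2⁻¹ * (X1 * (X2 * (X1⁻¹ * 1))) = 1) (hr5 : X0 * (X1 * (X0 * (X1 * (X2⁻¹ * 1)))) = 1) : g98 X0 X1 X2 * X0 = g66 X0 X1 X2 :=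
  deduce (path_cons (E_66_0 X0 X1 X2) (path_cons (E_82_0 X0 X1 X2) (path_nil (g98 X0 X1 X2)))) (path_nil (g66 X0 X1 X2)) (rel_0_2 X0 X1 X2 hr0 hr1 hr2 hr3 hr4 hr5)
theorem E_107_0 (X0 X1 X2 : M) (hr0 : X0 * (X0 * (X0 * 1)) = 1) (hr1 : X1 * (X1 * (X1 * (X1 * (X1 * 1)))) = 1) (hr2 : X2 * (X2 * 1) = 1) (hr3 : X2⁻¹ * (X0 * (X2 * (X0⁻¹ * 1))) = 1) (hr4 : X2⁻¹ * (X1 * (X2 * (X1⁻¹ * 1))) = 1) (hr5 : X0 * (X1 * (X0 * (X1 * (X2⁻¹ * 1)))) = 1) : g107 X0 X1 X2 * X0 = g74 X0 X1 X2 :=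
  deduce (path_cons (E_74_0 X0 X1 X2) (path_cons (E_91_0 X0 X1 X2) (path_nil (g107 X0 X1 X2)))) (path_nil (g74 X0 X1 X2)) (rel_0_2 X0 X1 X2 hr0 hr1 hr2 hr3 hr4 hr5)
theorem E_3_2 (X0 X1 X2 : M) (hr0 : X0 * (X0 * (X0 * 1)) = 1) (hr1 : X1 * (X1 * (X1 * (X1 * (X1 * 1)))) = 1) (hr2 : X2 * (X2 * 1) = 1) (hr3 : X2⁻¹ * (X0 * (X2 * (X0⁻¹ * 1))) = 1) (hr4 : X2⁻¹ * (X1 * (X2 * (X1⁻¹ * 1))) = 1) (hr5 : X0 * (X1 * (X0 * (X1 * (X2⁻¹ * 1)))) = 1) : g3 X0 X1 X2 * X2 = g0 X0 X1 X2 :=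
  deduce (path_cons (E_0_2 X0 X1 X2) (path_nil (g3 X0 X1 X2))) (path_nil (g0 X0 X1 X2)) (rel_2_1 X0 X1 X2 hr0 hr1 hr2 hr3 hr4 hr5)
theorem E_6_2 (X0 X1 X2 : M) (hr0 : X0 * (X0 * (X0 * 1)) = 1) (hr1 : X1 * (X1 * (X1 * (X1 * (X1 * 1)))) = 1) (hr2 : X2 * (X2 * 1) = 1) (hr3 : X2⁻¹ * (X0 * (X2 * (X0⁻¹ * 1))) = 1) (hr4 : X2⁻¹ * (X1 * (X2 * (X1⁻¹ * 1))) = 1) (hr5 : X0 * (X1 * (X0 * (X1 * (X2⁻¹ * 1)))) = 1) : g6 X0 X1 X2 * X2 = g1 X0 X1 X2 :=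
  deduce (path_cons (E_1_2 X0 X1 X2) (path_nil (g6 X0 X1 X2))) (path_nil (g1 X0 X1 X2)) (rel_2_1 X0 X1 X2 hr0 hr1 hr2 hr3 hr4 hr5)
theorem E_9_2 (X0 X1 X2 : M) (hr0 : X0 * (X0 * (X0 * 1)) = 1) (hr1 : X1 * (X1 * (X1 * (X1 * (X1 * 1)))) = 1) (hr2 : X2 * (X2 * 1) = 1) (hr3 : X2⁻¹ * (X0 * (X2 * (X0⁻¹ * 1))) = 1) (hr4 : X2⁻¹ * (X1 * (X2 * (X1⁻¹ * 1))) = 1) (hr5 : X0 * (X1 * (X0 * (X1 * (X2⁻¹ * 1)))) = 1) : g9 X0 X1 X2 * X2 = g2 X0 X1 X2 :=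
  deduce (path_cons (E_2_2 X0 X1 X2) (path_nil (g9 X0 X1 X2))) (path_nil (g2 X0 X1 X2)) (rel_2_1 X0 X1 X2 hr0 hr1 hr2 hr3 hr4 hr5)
theorem E_11_2 (X0 X1 X2 : M) (hr0 : X0 * (X0 * (X0 * 1)) = 1) (hr1 : X1 * (X1 * (X1 * (X1 * (X1 * 1)))) = 1) (hr2 : X2 * (X2 * 1) = 1) (hr3 : X2⁻¹ * (X0 * (X2 * (X0⁻¹ * 1))) = 1) (hr4 : X2⁻¹ * (X1 * (X2 * (X1⁻¹ * 1))) = 1) (hr5 : X0 * (X1 * (X0 * (X1 * (X2⁻¹ * 1)))) = 1) : g11 X0 X1 X2 * X2 = g4 X0 X1 X2 :=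
  deduce (path_cons (E_4_2 X0 X1 X2) (path_nil (g11 X0 X1 X2))) (path_nil (g4 X0 X1 X2)) (rel_2_1 X0 X1 X2 hr0 hr1 hr2 hr3 hr4 hr5)
theorem E_14_2 (X0 X1 X2 : M) (hr0 : X0 * (X0 * (X0 * 1)) = 1) (hr1 : X1 * (X1 * (X1 * (X1 * (X1 * 1)))) = 1) (hr2 : X2 * (X2 * 1) = 1) (hr3 : X2⁻¹ * (X0 * (X2 * (X0⁻¹ * 1))) = 1) (hr4 : X2⁻¹ * (X1 * (X2 * (X1⁻¹ * 1))) = 1) (hr5 : X0 * (X1 * (X0 * (X1 * (X2⁻¹ * 1)))) = 1) : g14 X0 X1 X2 * X2 = g5 X0 X1 X2 :=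
  deduce (path_cons (E_5_2 X0 X1 X2) (path_nil (g14 X0 X1 X2))) (path_nil (g5 X0 X1 X2)) (rel_2_1 X0 X1 X2 hr0 hr1 hr2 hr3 hr4 hr5)
theorem E_16_2 (X0 X1 X2 : M) (hr0 : X0 * (X0 * (X0 * 1)) = 1) (hr1 : X1 * (X1 * (X1 * (X1 * (X1 * 1)))) = 1) (hr2 : X2 * (X2 * 1) = 1) (hr3 : X2⁻¹ * (X0 * (X2 * (X0⁻¹ * 1))) = 1) (hr4 : X2⁻¹ * (X1 * (X2 * (X1⁻¹ * 1))) = 1) (hr5 : X0 * (X1 * (X0 * (X1 * (X2⁻¹ * 1)))) = 1) : g16 X0 X1 X2 * X2 = g7 X0 X1 X2 :=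
  deduce (path_cons (E_7_2 X0 X1 X2) (path_nil (g16 X0 X1 X2))) (path_nil (g7 X0 X1 X2)) (rel_2_1 X0 X1 X2 hr0 hr1 hr2 hr3 hr4 hr5)
theorem E_19_2 (X0 X1 X2 : M) (hr0 : X0 * (X0 * (X0 * 1)) = 1) (hr1 : X1 * (X1 * (X1 * (X1 * (X1 * 1)))) = 1) (hr2 : X2 * (X2 * 1) = 1) (hr3 : X2⁻¹ * (X0 * (X2 * (X0⁻¹ * 1))) = 1) (hr4 : X2⁻¹ * (X1 * (X2 * (X1⁻¹ * 1))) = 1) (hr5 : X0 * (X1 * (X0 * (X1 * (X2⁻¹ * 1)))) = 1) : g19 X0 X1 X2 * X2 = g8 X0 X1 X2 :=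
  deduce (path_cons (E_8_2 X0 X1 X2) (path_nil (g19 X0 X1 X2))) (path_nil (g8 X0 X1 X2)) (rel_2_1 X0 X1 X2 hr0 hr1 hr2 hr3 hr4 hr5)
theorem E_22_2 (X0 X1 X2 : M) (hr0 : X0 * (X0 * (X0 * 1)) = 1) (hr1 : X1 * (X1 * (X1 * (X1 * (X1 * 1)))) = 1) (hr2 : X2 * (X2 * 1) = 1) (hr3 : X2⁻¹ * (X0 * (X2 * (X0⁻¹ * 1))) = 1) (hr4 : X2⁻¹ * (X1 * (X2 * (X1⁻¹ * 1))) = 1) (hr5 : X0 * (X1 * (X0 * (X1 * (X2⁻¹ * 1)))) = 1) : g22 X0 X1 X2 * X2 = g10 X0 X1 X2 :=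
  deduce (path_cons (E_10_2 X0 X1 X2) (path_nil (g22 X0 X1 X2))) (path_nil (g10 X0 X1 X2)) (rel_2_1 X0 X1 X2 hr0 hr1 hr2 hr3 hr4 hr5)
theorem E_24_2 (X0 X1 X2 : M) (hr0 : X0 * (X0 * (X0 * 1)) = 1) (hr1 : X1 * (X1 * (X1 * (X1 * (X1 * 1)))) = 1) (hr2 : X2 * (X2 * 1) = 1) (hr3 : X2⁻¹ * (X0 * (X2 * (X0⁻¹ * 1))) = 1) (hr4 : X2⁻¹ * (X1 * (X2 * (X1⁻¹ * 1))) = 1) (hr5 : X0 * (X1 * (X0 * (X1 * (X2⁻¹ * 1)))) = 1) : g24 X0 X1 X2 * X2 = g12 X0 X1 X2 :=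
  deduce (path_cons (E_12_2 X0 X1 X2) (path_nil (g24 X0 X1 X2))) (path_nil (g12 X0 X1 X2)) (rel_2_1 X0 X1 X2 hr0 hr1 hr2 hr3 hr4 hr5)
theorem E_27_2 (X0 X1 X2 : M) (hr0 : X0 * (X0 * (X0 * 1)) = 1) (hr1 : X1 * (X1 * (X1 * (X1 * (X1 * 1)))) = 1) (hr2 : X2 * (X2 * 1) = 1) (hr3 : X2⁻¹ * (X0 * (X2 * (X0⁻¹ * 1))) = 1) (hr4 : X2⁻¹ * (X1 * (X2 * (X1⁻¹ * 1))) = 1) (hr5 : X0 * (X1 * (X0 * (X1 * (X2⁻¹ * 1)))) = 1) : g27 X0 X1 X2 * X2 = g13 X0 X1 X2 :=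
  deduce (path_cons (E_13_2 X0 X1 X2) (path_nil (g27 X0 X1 X2))) (path_nil (g13 X0 X1 X2)) (rel_2_1 X0 X1 X2 hr0 hr1 hr2 hr3 hr4 hr5)
theorem E_29_2 (X0 X1 X2 : M) (hr0 : X0 * (X0 * (X0 * 1)) = 1) (hr1 : X1 * (X1 * (X1 * (X1 * (X1 * 1)))) = 1) (hr2 : X2 * (X2 * 1) = 1) (hr3 : X2⁻¹ * (X0 * (X2 * (X0⁻¹ * 1))) = 1) (hr4 : X2⁻¹ * (X1 * (X2 * (X1⁻¹ * 1))) = 1) (hr5 : X0 * (X1 * (X0 * (X1 * (X2⁻¹ * 1)))) = 1) : g29 X0 X1 X2 * X2 = g15 X0 X1 X2 :=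
  deduce (path_cons (E_15_2 X0 X1 X2) (path_nil (g29 X0 X1 X2))) (path_nil (g15 X0 X1 X2)) (rel_2_1 X0 X1 X2 hr0 hr1 hr2 hr3 hr4 hr5)
theorem E_31_2 (X0 X1 X2 : M) (hr0 : X0 * (X0 * (X0 * 1)) = 1) (hr1 : X1 * (X1 * (X1 * (X1 * (X1 * 1)))) = 1) (hr2 : X2 * (X2 * 1) = 1) (hr3 : X2⁻¹ * (X0 * (X2 * (X0⁻¹ * 1))) = 1) (hr4 : X2⁻¹ * (X1 * (X2 * (X1⁻¹ * 1))) = 1) (hr5 : X0 * (X1 * (X0 * (X1 * (X2⁻¹ * 1)))) = 1) : g31 X0 X1 X2 * X2 = g17 X0 X1 X2 :=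
  deduce (path_cons (E_17_2 X0 X1 X2) (path_nil (g31 X0 X1 X2))) (path_nil (g17 X0 X1 X2)) (rel_2_1 X0 X1 X2 hr0 hr1 hr2 hr3 hr4 hr5)
theorem E_33_2 (X0 X1 X2 : M) (hr0 : X0 * (X0 * (X0 * 1)) = 1) (hr1 : X1 * (X1 * (X1 * (X1 * (X1 * 1)))) = 1) (hr2 : X2 * (X2 * 1) = 1) (hr3 : X2⁻¹ * (X0 * (X2 * (X0⁻¹ * 1))) = 1) (hr4 : X2⁻¹ * (X1 * (X2 * (X1⁻¹ * 1))) = 1) (hr5 : X0 * (X1 * (X0 * (X1 * (X2⁻¹ * 1)))) = 1) : g33 X0 X1 X2 * X2 = g18 X0 X1 X2 :=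
  deduce (path_cons (E_18_2 X0 X1 X2) (path_nil (g33 X0 X1 X2))) (path_nil (g18 X0 X1 X2)) (rel_2_1 X0 X1 X2 hr0 hr1 hr2 hr3 hr4 hr5)
theorem E_35_2 (X0 X1 X2 : M) (hr0 : X0 * (X0 * (X0 * 1)) = 1) (hr1 : X1 * (X1 * (X1 * (X1 * (X1 * 1)))) = 1) (hr2 : X2 * (X2 * 1) = 1) (hr3 : X2⁻¹ * (X0 * (X2 * (X0⁻¹ * 1))) = 1) (hr4 : X2⁻¹ * (X1 * (X2 * (X1⁻¹ * 1))) = 1) (hr5 : X0 * (X1 * (X0 * (X1 * (X2⁻¹ * 1)))) = 1) : g35 X0 X1 X2 * X2 = g20 X0 X1 X2 :=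
  deduce (path_cons (E_20_2 X0 X1 X2) (path_nil (g35 X0 X1 X2))) (path_nil (g20 X0 X1 X2)) (rel_2_1 X0 X1 X2 hr0 hr1 hr2 hr3 hr4 hr5)
theorem E_38_2 (X0 X1 X2 : M) (hr0 : X0 * (X0 * (X0 * 1)) = 1) (hr1 : X1 * (X1 * (X1 * (X1 * (X1 * 1)))) = 1) (hr2 : X2 * (X2 * 1) = 1) (hr3 : X2⁻¹ * (X0 * (X2 * (X0⁻¹ * 1))) = 1) (hr4 : X2⁻¹ * (X1 * (X2 * (X1⁻¹ * 1))) = 1) (hr5 : X0 * (X1 * (X0 * (X1 * (X2⁻¹ * 1)))) = 1) : g38 X0 X1 X2 * X2 = g21 X0 X1 X2 :=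
  deduce (path_cons (E_21_2 X0 X1 X2) (path_nil (g38 X0 X1 X2))) (path_nil (g21 X0 X1 X2)) (rel_2_1 X0 X1 X2 hr0 hr1 hr2 hr3 hr4 hr5)
theorem E_40_2 (X0 X1 X2 : M) (hr0 : X0 * (X0 * (X0 * 1)) = 1) (hr1 : X1 * (X1 * (X1 * (X1 * (X1 * 1)))) = 1) (hr2 : X2 * (X2 * 1) = 1) (hr3 : X2⁻¹ * (X0 * (X2 * (X0⁻¹ * 1))) = 1) (hr4 : X2⁻¹ * (X1 * (X2 * (X1⁻¹ * 1))) = 1) (hr5 : X0 * (X1 * (X0 * (X1 * (X2⁻¹ * 1)))) = 1) : g40 X0 X1 X2 * X2 = g23 X0 X1 X2 :=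
  deduce (path_cons (E_23_2 X0 X1 X2) (path_nil (g40 X0 X1 X2))) (path_nil (g23 X0 X1 X2)) (rel_2_1 X0 X1 X2 hr0 hr1 hr2 hr3 hr4 hr5)
theorem E_42_2 (X0 X1 X2 : M) (hr0 : X0 * (X0 * (X0 * 1)) = 1) (hr1 : X1 * (X1 * (X1 * (X1 * (X1 * 1)))) = 1) (hr2 : X2 * (X2 * 1) = 1) (hr3 : X2⁻¹ * (X0 * (X2 * (X0⁻¹ * 1))) = 1) (hr4 : X2⁻¹ * (X1 * (X2 * (X1⁻¹ * 1))) = 1) (hr5 : X0 * (X1 * (X0 * (X1 * (X2⁻¹ * 1)))) = 1) : g42 X0 X1 X2 * X2 = g25 X0 X1 X2 :=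
  deduce (path_cons (E_25_2 X0 X1 X2) (path_nil (g42 X0 X1 X2))) (path_nil (g25 X0 X1 X2)) (rel_2_1 X0 X1 X2 hr0 hr1 hr2 hr3 hr4 hr5)
theorem E_44_2 (X0 X1 X2 : M) (hr0 : X0 * (X0 * (X0 * 1)) = 1) (hr1 : X1 * (X1 * (X1 * (X1 * (X1 * 1)))) = 1) (hr2 : X2 * (X2 * 1) = 1) (hr3 : X2⁻¹ * (X0 * (X2 * (X0⁻¹ * 1))) = 1) (hr4 : X2⁻¹ * (X1 * (X2 * (X1⁻¹ * 1))) = 1) (hr5 : X0 * (X1 * (X0 * (X1 * (X2⁻¹ * 1)))) = 1) : g44 X0 X1 X2 * X2 = g26 X0 X1 X2 :=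
  deduce (path_cons (E_26_2 X0 X1 X2) (path_nil (g44 X0 X1 X2))) (path_nil (g26 X0 X1 X2)) (rel_2_1 X0 X1 X2 hr0 hr1 hr2 hr3 hr4 hr5)
theorem E_46_2 (X0 X1 X2 : M) (hr0 : X0 * (X0 * (X0 * 1)) = 1) (hr1 : X1 * (X1 * (X1 * (X1 * (X1 * 1)))) = 1) (hr2 : X2 * (X2 * 1) = 1) (hr3 : X2⁻¹ * (X0 * (X2 * (X0⁻¹ * 1))) = 1) (hr4 : X2⁻¹ * (X1 * (X2 * (X1⁻¹ * 1))) = 1) (hr5 : X0 * (X1 * (X0 * (X1 * (X2⁻¹ * 1)))) = 1) : g46 X0 X1 X2 * X2 = g28 X0 X1 X2 :=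
  deduce (path_cons (E_28_2 X0 X1 X2) (path_nil (g46 X0 X1 X2))) (path_nil (g28 X0 X1 X2)) (rel_2_1 X0 X1 X2 hr0 hr1 hr2 hr3 hr4 hr5)
theorem E_48_2 (X0 X1 X2 : M) (hr0 : X0 * (X0 * (X0 * 1)) = 1) (hr1 : X1 * (X1 * (X1 * (X1 * (X1 * 1)))) = 1) (hr2 : X2 * (X2 * 1) = 1) (hr3 : X2⁻¹ * (X0 * (X2 * (X0⁻¹ * 1))) = 1) (hr4 : X2⁻¹ * (X1 * (X2 * (X1⁻¹ * 1))) = 1) (hr5 : X0 * (X1 * (X0 * (X1 * (X2⁻¹ * 1)))) = 1) : g48 X0 X1 X2 * X2 = g30 X0 X1 X2 :=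
  deduce (path_cons (E_30_2 X0 X1 X2) (path_nil (g48 X0 X1 X2))) (path_nil (g30 X0 X1 X2)) (rel_2_1 X0 X1 X2 hr0 hr1 hr2 hr3 hr4 hr5)
theorem E_49_2 (X0 X1 X2 : M) (hr0 : X0 * (X0 * (X0 * 1)) = 1) (hr1 : X1 * (X1 * (X1 * (X1 * (X1 * 1)))) = 1) (hr2 : X2 * (X2 * 1) = 1) (hr3 : X2⁻¹ * (X0 * (X2 * (X0⁻¹ * 1))) = 1) (hr4 : X2⁻¹ * (X1 * (X2 * (X1⁻¹ * 1))) = 1) (hr5 : X0 * (X1 * (X0 * (X1 * (X2⁻¹ * 1)))) = 1) : g49 X0 X1 X2 * X2 = g32 X0 X1 X2 :=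
  deduce (path_cons (E_32_2 X0 X1 X2) (path_nil (g49 X0 X1 X2))) (path_nil (g32 X0 X1 X2)) (rel_2_1 X0 X1 X2 hr0 hr1 hr2 hr3 hr4 hr5)
theorem E_51_2 (X0 X1 X2 : M) (hr0 : X0 * (X0 * (X0 * 1)) = 1) (hr1 : X1 * (X1 * (X1 * (X1 * (X1 * 1)))) = 1) (hr2 : X2 * (X2 * 1) = 1) (hr3 : X2⁻¹ * (X0 * (X2 * (X0⁻¹ * 1))) = 1) (hr4 : X2⁻¹ * (X1 * (X2 * (X1⁻¹ * 1))) = 1) (hr5 : X0 * (X1 * (X0 * (X1 * (X2⁻¹ * 1)))) = 1) : g51 X0 X1 X2 * X2 = g34 X0 X1 X2 :=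
  deduce (path_cons (E_34_2 X0 X1 X2) (path_nil (g51 X0 X1 X2))) (path_nil (g34 X0 X1 X2)) (rel_2_1 X0 X1 X2 hr0 hr1 hr2 hr3 hr4 hr5)
theorem E_53_2 (X0 X1 X2 : M) (hr0 : X0 * (X0 * (X0 * 1)) = 1) (hr1 : X1 * (X1 * (X1 * (X1 * (X1 * 1)))) = 1) (hr2 : X2 * (X2 * 1) = 1) (hr3 : X2⁻¹ * (X0 * (X2 * (X0⁻¹ * 1))) = 1) (hr4 : X2⁻¹ * (X1 * (X2 * (X1⁻¹ * 1))) = 1) (hr5 : X0 * (X1 * (X0 * (X1 * (X2⁻¹ * 1)))) = 1) : g53 X0 X1 X2 * X2 = g36 X0 X1 X2 :=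
  deduce (path_cons (E_36_2 X0 X1 X2) (path_nil (g53 X0 X1 X2))) (path_nil (g36 X0 X1 X2)) (rel_2_1 X0 X1 X2 hr0 hr1 hr2 hr3 hr4 hr5)
theorem E_55_2 (X0 X1 X2 : M) (hr0 : X0 * (X0 * (X0 * 1)) = 1) (hr1 : X1 * (X1 * (X1 * (X1 * (X1 * 1)))) = 1) (hr2 : X2 * (X2 * 1) = 1) (hr3 : X2⁻¹ * (X0 * (X2 * (X0⁻¹ * 1))) = 1) (hr4 : X2⁻¹ * (X1 * (X2 * (X1⁻¹ * 1))) = 1) (hr5 : X0 * (X1 * (X0 * (X1 * (X2⁻¹ * 1)))) = 1) : g55 X0 X1 X2 * X2 = g37 X0 X1 X2 :=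
  deduce (path_cons (E_37_2 X0 X1 X2) (path_nil (g55 X0 X1 X2))) (path_nil (g37 X0 X1 X2)) (rel_2_1 X0 X1 X2 hr0 hr1 hr2 hr3 hr4 hr5)
theorem E_57_2 (X0 X1 X2 : M) (hr0 : X0 * (X0 * (X0 * 1)) = 1) (hr1 : X1 * (X1 * (X1 * (X1 * (X1 * 1)))) = 1) (hr2 : X2 * (X2 * 1) = 1) (hr3 : X2⁻¹ * (X0 * (X2 * (X0⁻¹ * 1))) = 1) (hr4 : X2⁻¹ * (X1 * (X2 * (X1⁻¹ * 1))) = 1) (hr5 : X0 * (X1 * (X0 * (X1 * (X2⁻¹ * 1)))) = 1) : g57 X0 X1 X2 * X2 = g39 X0 X1 X2 :=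
  deduce (path_cons (E_39_2 X0 X1 X2) (path_nil (g57 X0 X1 X2))) (path_nil (g39 X0 X1 X2)) (rel_2_1 X0 X1 X2 hr0 hr1 hr2 hr3 hr4 hr5)
theorem E_59_2 (X0 X1 X2 : M) (hr0 : X0 * (X0 * (X0 * 1)) = 1) (hr1 : X1 * (X1 * (X1 * (X1 * (X1 * 1)))) = 1) (hr2 : X2 * (X2 * 1) = 1) (hr3 : X2⁻¹ * (X0 * (X2 * (X0⁻¹ * 1))) = 1) (hr4 : X2⁻¹ * (X1 * (X2 * (X1⁻¹ * 1))) = 1) (hr5 : X0 * (X1 * (X0 * (X1 * (X2⁻¹ * 1)))) = 1) : g59 X0 X1 X2 * X2 = g41 X0 X1 X2 :=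
  deduce (path_cons (E_41_2 X0 X1 X2) (path_nil (g59 X0 X1 X2))) (path_nil (g41 X0 X1 X2)) (rel_2_1 X0 X1 X2 hr0 hr1 hr2 hr3 hr4 hr5)
theorem E_60_2 (X0 X1 X2 : M) (hr0 : X0 * (X0 * (X0 * 1)) = 1) (hr1 : X1 * (X1 * (X1 * (X1 * (X1 * 1)))) = 1) (hr2 : X2 * (X2 * 1) = 1) (hr3 : X2⁻¹ * (X0 * (X2 * (X0⁻¹ * 1))) = 1) (hr4 : X2⁻¹ * (X1 * (X2 * (X1⁻¹ * 1))) = 1) (hr5 : X0 * (X1 * (X0 * (X1 * (X2⁻¹ * 1)))) = 1) : g60 X0 X1 X2 * X2 = g43 X0 X1 X2 :=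
  deduce (path_cons (E_43_2 X0 X1 X2) (path_nil (g60 X0 X1 X2))) (path_nil (g43 X0 X1 X2)) (rel_2_1 X0 X1 X2 hr0 hr1 hr2 hr3 hr4 hr5)
theorem E_63_2 (X0 X1 X2 : M) (hr0 : X0 * (X0 * (X0 * 1)) = 1) (hr1 : X1 * (X1 * (X1 * (X1 * (X1 * 1)))) = 1) (hr2 : X2 * (X2 * 1) = 1) (hr3 : X2⁻¹ * (X0 * (X2 * (X0⁻¹ * 1))) = 1) (hr4 : X2⁻¹ * (X1 * (X2 * (X1⁻¹ * 1))) = 1) (hr5 : X0 * (X1 * (X0 * (X1 * (X2⁻¹ * 1)))) = 1) : g63 X0 X1 X2 * X2 = g45 X0 X1 X2 :=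
  deduce (path_cons (E_45_2 X0 X1 X2) (path_nil (g63 X0 X1 X2))) (path_nil (g45 X0 X1 X2)) (rel_2_1 X0 X1 X2 hr0 hr1 hr2 hr3 hr4 hr5)
theorem E_65_2 (X0 X1 X2 : M) (hr0 : X0 * (X0 * (X0 * 1)) = 1) (hr1 : X1 * (X1 * (X1 * (X1 * (X1 * 1)))) = 1) (hr2 : X2 * (X2 * 1) = 1) (hr3 : X2⁻¹ * (X0 * (X2 * (X0⁻¹ * 1))) = 1) (hr4 : X2⁻¹ * (X1 * (X2 * (X1⁻¹ * 1))) = 1) (hr5 : X0 * (X1 * (X0 * (X1 * (X2⁻¹ * 1)))) = 1) : g65 X0 X1 X2 * X2 = g47 X0 X1 X2 :=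
  deduce (path_cons (E_47_2 X0 X1 X2) (path_nil (g65 X0 X1 X2))) (path_nil (g47 X0 X1 X2)) (rel_2_1 X0 X1 X2 hr0 hr1 hr2 hr3 hr4 hr5)
theorem E_67_2 (X0 X1 X2 : M) (hr0 : X0 * (X0 * (X0 * 1)) = 1) (hr1 : X1 * (X1 * (X1 * (X1 * (X1 * 1)))) = 1) (hr2 : X2 * (X2 * 1) = 1) (hr3 : X2⁻¹ * (X0 * (X2 * (X0⁻¹ * 1))) = 1) (hr4 : X2⁻¹ * (X1 * (X2 * (X1⁻¹ * 1))) = 1) (hr5 : X0 * (X1 * (X0 * (X1 * (X2⁻¹ * 1)))) = 1) : g67 X0 X1 X2 * X2 = g50 X0 X1 X2 :=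
  deduce (path_cons (E_50_2 X0 X1 X2) (path_nil (g67 X0 X1 X2))) (path_nil (g50 X0 X1 X2)) (rel_2_1 X0 X1 X2 hr0 hr1 hr2 hr3 hr4 hr5)
theorem E_69_2 (X0 X1 X2 : M) (hr0 : X0 * (X0 * (X0 * 1)) = 1) (hr1 : X1 * (X1 * (X1 * (X1 * (X1 * 1)))) = 1) (hr2 : X2 * (X2 * 1) = 1) (hr3 : X2⁻¹ * (X0 * (X2 * (X0⁻¹ * 1))) = 1) (hr4 : X2⁻¹ * (X1 * (X2 * (X1⁻¹ * 1))) = 1) (hr5 : X0 * (X1 * (X0 * (X1 * (X2⁻¹ * 1)))) = 1) : g69 X0 X1 X2 * X2 = g52 X0 X1 X2 :=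
  deduce (path_cons (E_52_2 X0 X1 X2) (path_nil (g69 X0 X1 X2))) (path_nil (g52 X0 X1 X2)) (rel_2_1 X0 X1 X2 hr0 hr1 hr2 hr3 hr4 hr5)
theorem E_70_2 (X0 X1 X2 : M) (hr0 : X0 * (X0 * (X0 * 1)) = 1) (hr1 : X1 * (X1 * (X1 * (X1 * (X1 * 1)))) = 1) (hr2 : X2 * (X2 * 1) = 1) (hr3 : X2⁻¹ * (X0 * (X2 * (X0⁻¹ * 1))) = 1) (hr4 : X2⁻¹ * (X1 * (X2 * (X1⁻¹ * 1))) = 1) (hr5 : X0 * (X1 * (X0 * (X1 * (X2⁻¹ * 1)))) = 1) : g70 X0 X1 X2 * X2 = g54 X0 X1 X2 :=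
  deduce (path_cons (E_54_2 X0 X1 X2) (path_nil (g70 X0 X1 X2))) (path_nil (g54 X0 X1 X2)) (rel_2_1 X0 X1 X2 hr0 hr1 hr2 hr3 hr4 hr5)
theorem E_73_2 (X0 X1 X2 : M) (hr0 : X0 * (X0 * (X0 * 1)) = 1) (hr1 : X1 * (X1 * (X1 * (X1 * (X1 * 1)))) = 1) (hr2 : X2 * (X2 * 1) = 1) (hr3 : X2⁻¹ * (X0 * (X2 * (X0⁻¹ * 1))) = 1) (hr4 : X2⁻¹ * (X1 * (X2 * (X1⁻¹ * 1))) = 1) (hr5 : X0 * (X1 * (X0 * (X1 * (X2⁻¹ * 1)))) = 1) : g73 X0 X1 X2 * X2 = g56 X0 X1 X2 :=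
  deduce (path_cons (E_56_2 X0 X1 X2) (path_nil (g73 X0 X1 X2))) (path_nil (g56 X0 X1 X2)) (rel_2_1 X0 X1 X2 hr0 hr1 hr2 hr3 hr4 hr5)
theorem E_75_2 (X0 X1 X2 : M) (hr0 : X0 * (X0 * (X0 * 1)) = 1) (hr1 : X1 * (X1 * (X1 * (X1 * (X1 * 1)))) = 1) (hr2 : X2 * (X2 * 1) = 1) (hr3 : X2⁻¹ * (X0 * (X2 * (X0⁻¹ * 1))) = 1) (hr4 : X2⁻¹ * (X1 * (X2 * (X1⁻¹ * 1))) = 1) (hr5 : X0 * (X1 * (X0 * (X1 * (X2⁻¹ * 1)))) = 1) : g75 X0 X1 X2 * X2 = g58 X0 X1 X2 :=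
  deduce (path_cons (E_58_2 X0 X1 X2) (path_nil (g75 X0 X1 X2))) (path_nil (g58 X0 X1 X2)) (rel_2_1 X0 X1 X2 hr0 hr1 hr2 hr3 hr4 hr5)
theorem E_77_2 (X0 X1 X2 : M) (hr0 : X0 * (X0 * (X0 * 1)) = 1) (hr1 : X1 * (X1 * (X1 * (X1 * (X1 * 1)))) = 1) (hr2 : X2 * (X2 * 1) = 1) (hr3 : X2⁻¹ * (X0 * (X2 * (X0⁻¹ * 1))) = 1) (hr4 : X2⁻¹ * (X1 * (X2 * (X1⁻¹ * 1))) = 1) (hr5 : X0 * (X1 * (X0 * (X1 * (X2⁻¹ * 1)))) = 1) : g77 X0 X1 X2 * X2 = g61 X0 X1 X2 :=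
  deduce (path_cons (E_61_2 X0 X1 X2) (path_nil (g77 X0 X1 X2))) (path_nil (g61 X0 X1 X2)) (rel_2_1 X0 X1 X2 hr0 hr1 hr2 hr3 hr4 hr5)
theorem E_79_2 (X0 X1 X2 : M) (hr0 : X0 * (X0 * (X0 * 1)) = 1) (hr1 : X1 * (X1 * (X1 * (X1 * (X1 * 1)))) = 1) (hr2 : X2 * (X2 * 1) = 1) (hr3 : X2⁻¹ * (X0 * (X2 * (X0⁻¹ * 1))) = 1) (hr4 : X2⁻¹ * (X1 * (X2 * (X1⁻¹ * 1))) = 1) (hr5 : X0 * (X1 * (X0 * (X1 * (X2⁻¹ * 1)))) = 1) : g79 X0 X1 X2 * X2 = g62 X0 X1 X2 :=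
  deduce (path_cons (E_62_2 X0 X1 X2) (path_nil (g79 X0 X1 X2))) (path_nil (g62 X0 X1 X2)) (rel_2_1 X0 X1 X2 hr0 hr1 hr2 hr3 hr4 hr5)
theorem E_81_2 (X0 X1 X2 : M) (hr0 : X0 * (X0 * (X0 * 1)) = 1) (hr1 : X1 * (X1 * (X1 * (X1 * (X1 * 1)))) = 1) (hr2 : X2 * (X2 * 1) = 1) (hr3 : X2⁻¹ * (X0 * (X2 * (X0⁻¹ * 1))) = 1) (hr4 : X2⁻¹ * (X1 * (X2 * (X1⁻¹ * 1))) = 1) (hr5 : X0 * (X1 * (X0 * (X1 * (X2⁻¹ * 1)))) = 1) : g81 X0 X1 X2 * X2 = g64 X0 X1 X2 :=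
  deduce (path_cons (E_64_2 X0 X1 X2) (path_nil (g81 X0 X1 X2))) (path_nil (g64 X0 X1 X2)) (rel_2_1 X0 X1 X2 hr0 hr1 hr2 hr3 hr4 hr5)
theorem E_84_2 (X0 X1 X2 : M) (hr0 : X0 * (X0 * (X0 * 1)) = 1) (hr1 : X1 * (X1 * (X1 * (X1 * (X1 * 1)))) = 1) (hr2 : X2 * (X2 * 1) = 1) (hr3 : X2⁻¹ * (X0 * (X2 * (X0⁻¹ * 1))) = 1) (hr4 : X2⁻¹ * (X1 * (X2 * (X1⁻¹ * 1))) = 1) (hr5 : X0 * (X1 * (X0 * (X1 * (X2⁻¹ * 1)))) = 1) : g84 X0 X1 X2 * X2 = g66 X0 X1 X2 :=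
  deduce (path_cons (E_66_2 X0 X1 X2) (path_nil (g84 X0 X1 X2))) (path_nil (g66 X0 X1 X2)) (rel_2_1 X0 X1 X2 hr0 hr1 hr2 hr3 hr4 hr5)
theorem E_86_2 (X0 X1 X2 : M) (hr0 : X0 * (X0 * (X0 * 1)) = 1) (hr1 : X1 * (X1 * (X1 * (X1 * (X1 * 1)))) = 1) (hr2 : X2 * (X2 * 1) = 1) (hr3 : X2⁻¹ * (X0 * (X2 * (X0⁻¹ * 1))) = 1) (hr4 : X2⁻¹ * (X1 * (X2 * (X1⁻¹ * 1))) = 1) (hr5 : X0 * (X1 * (X0 * (X1 * (X2⁻¹ * 1)))) = 1) : g86 X0 X1 X2 * X2 = g68 X0 X1 X2 :=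
  deduce (path_cons (E_68_2 X0 X1 X2) (path_nil (g86 X0 X1 X2))) (path_nil (g68 X0 X1 X2)) (rel_2_1 X0 X1 X2 hr0 hr1 hr2 hr3 hr4 hr5)
theorem E_88_2 (X0 X1 X2 : M) (hr0 : X0 * (X0 * (X0 * 1)) = 1) (hr1 : X1 * (X1 * (X1 * (X1 * (X1 * 1)))) = 1) (hr2 : X2 * (X2 * 1) = 1) (hr3 : X2⁻¹ * (X0 * (X2 * (X0⁻¹ * 1))) = 1) (hr4 : X2⁻¹ * (X1 * (X2 * (X1⁻¹ * 1))) = 1) (hr5 : X0 * (X1 * (X0 * (X1 * (X2⁻¹ * 1)))) = 1) : g88 X0 X1 X2 * X2 = g71 X0 X1 X2 :=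
  deduce (path_cons (E_71_2 X0 X1 X2) (path_nil (g88 X0 X1 X2))) (path_nil (g71 X0 X1 X2)) (rel_2_1 X0 X1 X2 hr0 hr1 hr2 hr3 hr4 hr5)
theorem E_90_2 (X0 X1 X2 : M) (hr0 : X0 * (X0 * (X0 * 1)) = 1) (hr1 : X1 * (X1 * (X1 * (X1 * (X1 * 1)))) = 1) (hr2 : X2 * (X2 * 1) = 1) (hr3 : X2⁻¹ * (X0 * (X2 * (X0⁻¹ * 1))) = 1) (hr4 : X2⁻¹ * (X1 * (X2 * (X1⁻¹ * 1))) = 1) (hr5 : X0 * (X1 * (X0 * (X1 * (X2⁻¹ * 1)))) = 1) : g90 X0 X1 X2 * X2 = g72 X0 X1 X2 :=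
  deduce (path_cons (E_72_2 X0 X1 X2) (path_nil (g90 X0 X1 X2))) (path_nil (g72 X0 X1 X2)) (rel_2_1 X0 X1 X2 hr0 hr1 hr2 hr3 hr4 hr5)
theorem E_92_2 (X0 X1 X2 : M) (hr0 : X0 * (X0 * (X0 * 1)) = 1) (hr1 : X1 * (X1 * (X1 * (X1 * (X1 * 1)))) = 1) (hr2 : X2 * (X2 * 1) = 1) (hr3 : X2⁻¹ * (X0 * (X2 * (X0⁻¹ * 1))) = 1) (hr4 : X2⁻¹ * (X1 * (X2 * (X1⁻¹ * 1))) = 1) (hr5 : X0 * (X1 * (X0 * (X1 * (X2⁻¹ * 1)))) = 1) : g92 X0 X1 X2 * X2 = g74 X0 X1 X2 :=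
  deduce (path_cons (E_74_2 X0 X1 X2) (path_nil (g92 X0 X1 X2))) (path_nil (g74 X0 X1 X2)) (rel_2_1 X0 X1 X2 hr0 hr1 hr2 hr3 hr4 hr5)
theorem E_94_2 (X0 X1 X2 : M) (hr0 : X0 * (X0 * (X0 * 1)) = 1) (hr1 : X1 * (X1 * (X1 * (X1 * (X1 * 1)))) = 1) (hr2 : X2 * (X2 * 1) = 1) (hr3 : X2⁻¹ * (X0 * (X2 * (X0⁻¹ * 1))) = 1) (hr4 : X2⁻¹ * (X1 * (X2 * (X1⁻¹ * 1))) = 1) (hr5 : X0 * (X1 * (X0 * (X1 * (X2⁻¹ * 1)))) = 1) : g94 X0 X1 X2 * X2 = g76 X0 X1 X2 :=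
  deduce (path_cons (E_76_2 X0 X1 X2) (path_nil (g94 X0 X1 X2))) (path_nil (g76 X0 X1 X2)) (rel_2_1 X0 X1 X2 hr0 hr1 hr2 hr3 hr4 hr5)
theorem E_95_2 (X0 X1 X2 : M) (hr0 : X0 * (X0 * (X0 * 1)) = 1) (hr1 : X1 * (X1 * (X1 * (X1 * (X1 * 1)))) = 1) (hr2 : X2 * (X2 * 1) = 1) (hr3 : X2⁻¹ * (X0 * (X2 * (X0⁻¹ * 1))) = 1) (hr4 : X2⁻¹ * (X1 * (X2 * (X1⁻¹ * 1))) = 1) (hr5 : X0 * (X1 * (X0 * (X1 * (X2⁻¹ * 1)))) = 1) : g95 X0 X1 X2 * X2 = g78 X0 X1 X2 :=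
  deduce (path_cons (E_78_2 X0 X1 X2) (path_nil (g95 X0 X1 X2))) (path_nil (g78 X0 X1 X2)) (rel_2_1 X0 X1 X2 hr0 hr1 hr2 hr3 hr4 hr5)
theorem E_97_2 (X0 X1 X2 : M) (hr0 : X0 * (X0 * (X0 * 1)) = 1) (hr1 : X1 * (X1 * (X1 * (X1 * (X1 * 1)))) = 1) (hr2 : X2 * (X2 * 1) = 1) (hr3 : X2⁻¹ * (X0 * (X2 * (X0⁻¹ * 1))) = 1) (hr4 : X2⁻¹ * (X1 * (X2 * (X1⁻¹ * 1))) = 1) (hr5 : X0 * (X1 * (X0 * (X1 * (X2⁻¹ * 1)))) = 1) : g97 X0 X1 X2 * X2 = g80 X0 X1 X2 :=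
  deduce (path_cons (E_80_2 X0 X1 X2) (path_nil (g97 X0 X1 X2))) (path_nil (g80 X0 X1 X2)) (rel_2_1 X0 X1 X2 hr0 hr1 hr2 hr3 hr4 hr5)
theorem E_99_2 (X0 X1 X2 : M) (hr0 : X0 * (X0 * (X0 * 1)) = 1) (hr1 : X1 * (X1 * (X1 * (X1 * (X1 * 1)))) = 1) (hr2 : X2 * (X2 * 1) = 1) (hr3 : X2⁻¹ * (X0 * (X2 * (X0⁻¹ * 1))) = 1) (hr4 : X2⁻¹ * (X1 * (X2 * (X1⁻¹ * 1))) = 1) (hr5 : X0 * (X1 * (X0 * (X1 * (X2⁻¹ * 1)))) = 1) : g99 X0 X1 X2 * X2 = g82 X0 X1 X2 :=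
  deduce (path_cons (E_82_2 X0 X1 X2) (path_nil (g99 X0 X1 X2))) (path_nil (g82 X0 X1 X2)) (rel_2_1 X0 X1 X2 hr0 hr1 hr2 hr3 hr4 hr5)
theorem E_101_2 (X0 X1 X2 : M) (hr0 : X0 * (X0 * (X0 * 1)) = 1) (hr1 : X1 * (X1 * (X1 * (X1 * (X1 * 1)))) = 1) (hr2 : X2 * (X2 * 1) = 1) (hr3 : X2⁻¹ * (X0 * (X2 * (X0⁻¹ * 1))) = 1) (hr4 : X2⁻¹ * (X1 * (X2 * (X1⁻¹ * 1))) = 1) (hr5 : X0 * (X1 * (X0 * (X1 * (X2⁻¹ * 1)))) = 1) : g101 X0 X1 X2 * X2 = g83 X0 X1 X2 :=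
  deduce (path_cons (E_83_2 X0 X1 X2) (path_nil (g101 X0 X1 X2))) (path_nil (g83 X0 X1 X2)) (rel_2_1 X0 X1 X2 hr0 hr1 hr2 hr3 hr4 hr5)
theorem E_103_2 (X0 X1 X2 : M) (hr0 : X0 * (X0 * (X0 * 1)) = 1) (hr1 : X1 * (X1 * (X1 * (X1 * (X1 * 1)))) = 1) (hr2 : X2 * (X2 * 1) = 1) (hr3 : X2⁻¹ * (X0 * (X2 * (X0⁻¹ * 1))) = 1) (hr4 : X2⁻¹ * (X1 * (X2 * (X1⁻¹ * 1))) = 1) (hr5 : X0 * (X1 * (X0 * (X1 * (X2⁻¹ * 1)))) = 1) : g103 X0 X1 X2 * X2 = g85 X0 X1 X2 :=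
  deduce (path_cons (E_85_2 X0 X1 X2) (path_nil (g103 X0 X1 X2))) (path_nil (g85 X0 X1 X2)) (rel_2_1 X0 X1 X2 hr0 hr1 hr2 hr3 hr4 hr5)
theorem E_105_2 (X0 X1 X2 : M) (hr0 : X0 * (X0 * (X0 * 1)) = 1) (hr1 : X1 * (X1 * (X1 * (X1 * (X1 * 1)))) = 1) (hr2 : X2 * (X2 * 1) = 1) (hr3 : X2⁻¹ * (X0 * (X2 * (X0⁻¹ * 1))) = 1) (hr4 : X2⁻¹ * (X1 * (X2 * (X1⁻¹ * 1))) = 1) (hr5 : X0 * (X1 * (X0 * (X1 * (X2⁻¹ * 1)))) = 1) : g105 X0 X1 X2 * X2 = g87 X0 X1 X2 :=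
  deduce (path_cons (E_87_2 X0 X1 X2) (path_nil (g105 X0 X1 X2))) (path_nil (g87 X0 X1 X2)) (rel_2_1 X0 X1 X2 hr0 hr1 hr2 hr3 hr4 hr5)
theorem E_106_2 (X0 X1 X2 : M) (hr0 : X0 * (X0 * (X0 * 1)) = 1) (hr1 : X1 * (X1 * (X1 * (X1 * (X1 * 1)))) = 1) (hr2 : X2 * (X2 * 1) = 1) (hr3 : X2⁻¹ * (X0 * (X2 * (X0⁻¹ * 1))) = 1) (hr4 : X2⁻¹ * (X1 * (X2 * (X1⁻¹ * 1))) = 1) (hr5 : X0 * (X1 * (X0 * (X1 * (X2⁻¹ * 1)))) = 1) : g106 X0 X1 X2 * X2 = g89 X0 X1 X2 :=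
  deduce (path_cons (E_89_2 X0 X1 X2) (path_nil (g106 X0 X1 X2))) (path_nil (g89 X0 X1 X2)) (rel_2_1 X0 X1 X2 hr0 hr1 hr2 hr3 hr4 hr5)
theorem E_108_2 (X0 X1 X2 : M) (hr0 : X0 * (X0 * (X0 * 1)) = 1) (hr1 : X1 * (X1 * (X1 * (X1 * (X1 * 1)))) = 1) (hr2 : X2 * (X2 * 1) = 1) (hr3 : X2⁻¹ * (X0 * (X2 * (X0⁻¹ * 1))) = 1) (hr4 : X2⁻¹ * (X1 * (X2 * (X1⁻¹ * 1))) = 1) (hr5 : X0 * (X1 * (X0 * (X1 * (X2⁻¹ * 1)))) = 1) : g108 X0 X1 X2 * X2 = g91 X0 X1 X2 :=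
  deduce (path_cons (E_91_2 X0 X1 X2) (path_nil (g108 X0 X1 X2))) (path_nil (g91 X0 X1 X2)) (rel_2_1 X0 X1 X2 hr0 hr1 hr2 hr3 hr4 hr5)
theorem E_110_2 (X0 X1 X2 : M) (hr0 : X0 * (X0 * (X0 * 1)) = 1) (hr1 : X1 * (X1 * (X1 * (X1 * (X1 * 1)))) = 1) (hr2 : X2 * (X2 * 1) = 1) (hr3 : X2⁻¹ * (X0 * (X2 * (X0⁻¹ * 1))) = 1) (hr4 : X2⁻¹ * (X1 * (X2 * (X1⁻¹ * 1))) = 1) (hr5 : X0 * (X1 * (X0 * (X1 * (X2⁻¹ * 1)))) = 1) : g110 X0 X1 X2 * X2 = g93 X0 X1 X2 :=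
  deduce (path_cons (E_93_2 X0 X1 X2) (path_nil (g110 X0 X1 X2))) (path_nil (g93 X0 X1 X2)) (rel_2_1 X0 X1 X2 hr0 hr1 hr2 hr3 hr4 hr5)
theorem E_113_2 (X0 X1 X2 : M) (hr0 : X0 * (X0 * (X0 * 1)) = 1) (hr1 : X1 * (X1 * (X1 * (X1 * (X1 * 1)))) = 1) (hr2 : X2 * (X2 * 1) = 1) (hr3 : X2⁻¹ * (X0 * (X2 * (X0⁻¹ * 1))) = 1) (hr4 : X2⁻¹ * (X1 * (X2 * (X1⁻¹ * 1))) = 1) (hr5 : X0 * (X1 * (X0 * (X1 * (X2⁻¹ * 1)))) = 1) : g113 X0 X1 X2 * X2 = g98 X0 X1 X2 :=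
  deduce (path_cons (E_98_2 X0 X1 X2) (path_nil (g113 X0 X1 X2))) (path_nil (g98 X0 X1 X2)) (rel_2_1 X0 X1 X2 hr0 hr1 hr2 hr3 hr4 hr5)
theorem E_114_2 (X0 X1 X2 : M) (hr0 : X0 * (X0 * (X0 * 1)) = 1) (hr1 : X1 * (X1 * (X1 * (X1 * (X1 * 1)))) = 1) (hr2 : X2 * (X2 * 1) = 1) (hr3 : X2⁻¹ * (X0 * (X2 * (X0⁻¹ * 1))) = 1) (hr4 : X2⁻¹ * (X1 * (X2 * (X1⁻¹ * 1))) = 1) (hr5 : X0 * (X1 * (X0 * (X1 * (X2⁻¹ * 1)))) = 1) : g114 X0 X1 X2 * X2 = g100 X0 X1 X2 :=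
  deduce (path_cons (E_100_2 X0 X1 X2) (path_nil (g114 X0 X1 X2))) (path_nil (g100 X0 X1 X2)) (rel_2_1 X0 X1 X2 hr0 hr1 hr2 hr3 hr4 hr5)
theorem E_115_2 (X0 X1 X2 : M) (hr0 : X0 * (X0 * (X0 * 1)) = 1) (hr1 : X1 * (X1 * (X1 * (X1 * (X1 * 1)))) = 1) (hr2 : X2 * (X2 * 1) = 1) (hr3 : X2⁻¹ * (X0 * (X2 * (X0⁻¹ * 1))) = 1) (hr4 : X2⁻¹ * (X1 * (X2 * (X1⁻¹ * 1))) = 1) (hr5 : X0 * (X1 * (X0 * (X1 * (X2⁻¹ * 1)))) = 1) : g115 X0 X1 X2 * X2 = g102 X0 X1 X2 :=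
  deduce (path_cons (E_102_2 X0 X1 X2) (path_nil (g115 X0 X1 X2))) (path_nil (g102 X0 X1 X2)) (rel_2_1 X0 X1 X2 hr0 hr1 hr2 hr3 hr4 hr5)
theorem E_119_2 (X0 X1 X2 : M) (hr0 : X0 * (X0 * (X0 * 1)) = 1) (hr1 : X1 * (X1 * (X1 * (X1 * (X1 * 1)))) = 1) (hr2 : X2 * (X2 * 1) = 1) (hr3 : X2⁻¹ * (X0 * (X2 * (X0⁻¹ * 1))) = 1) (hr4 : X2⁻¹ * (X1 * (X2 * (X1⁻¹ * 1))) = 1) (hr5 : X0 * (X1 * (X0 * (X1 * (X2⁻¹ * 1)))) = 1) : g119 X0 X1 X2 * X2 = g109 X0 X1 X2 :=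
  deduce (path_cons (E_109_2 X0 X1 X2) (path_nil (g119 X0 X1 X2))) (path_nil (g109 X0 X1 X2)) (rel_2_1 X0 X1 X2 hr0 hr1 hr2 hr3 hr4 hr5)
theorem E_3_0 (X0 X1 X2 : M) (hr0 : X0 * (X0 * (X0 * 1)) = 1) (hr1 : X1 * (X1 * (X1 * (X1 * (X1 * 1)))) = 1) (hr2 : X2 * (X2 * 1) = 1) (hr3 : X2⁻¹ * (X0 * (X2 * (X0⁻¹ * 1))) = 1) (hr4 : X2⁻¹ * (X1 * (X2 * (X1⁻¹ * 1))) = 1) (hr5 : X0 * (X1 * (X0 * (X1 * (X2⁻¹ * 1)))) = 1) : g3 X0 X1 X2 * X0 = g6 X0 X1 X2 :=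
  deduce (path_cons (inv_edge (E_3_2 X0 X1 X2 hr0 hr1 hr2 hr3 hr4 hr5)) (path_nil (g3 X0 X1 X2))) (path_cons (E_6_2 X0 X1 X2 hr0 hr1 hr2 hr3 hr4 hr5) (path_cons (inv_edge (E_0_0 X0 X1 X2)) (path_nil (g0 X0 X1 X2)))) (rel_3_1 X0 X1 X2 hr0 hr1 hr2 hr3 hr4 hr5)
theorem E_6_0 (X0 X1 X2 : M) (hr0 : X0 * (X0 * (X0 * 1)) = 1) (hr1 : X1 * (X1 * (X1 * (X1 * (X1 * 1)))) = 1) (hr2 : X2 * (X2 * 1) = 1) (hr3 : X2⁻¹ * (X0 * (X2 * (X0⁻¹ * 1))) = 1) (hr4 : X2⁻¹ * (X1 * (X2 * (X1⁻¹ * 1))) = 1) (hr5 : X0 * (X1 * (X0 * (X1 * (X2⁻¹ * 1)))) = 1) : g6 X0 X1 X2 * X0 = g11 X0 X1 X2 :=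
  deduce (path_cons (inv_edge (E_6_2 X0 X1 X2 hr0 hr1 hr2 hr3 hr4 hr5)) (path_nil (g6 X0 X1 X2))) (path_cons (E_11_2 X0 X1 X2 hr0 hr1 hr2 hr3 hr4 hr5) (path_cons (inv_edge (E_1_0 X0 X1 X2)) (path_nil (g1 X0 X1 X2)))) (rel_3_1 X0 X1 X2 hr0 hr1 hr2 hr3 hr4 hr5)
theorem E_9_0 (X0 X1 X2 : M) (hr0 : X0 * (X0 * (X0 * 1)) = 1) (hr1 : X1 * (X1 * (X1 * (X1 * (X1 * 1)))) = 1) (hr2 : X2 * (X2 * 1) = 1) (hr3 : X2⁻¹ * (X0 * (X2 * (X0⁻¹ * 1))) = 1) (hr4 : X2⁻¹ * (X1 * (X2 * (X1⁻¹ * 1))) = 1) (hr5 : X0 * (X1 * (X0 * (X1 * (X2⁻¹ * 1)))) = 1) : g9 X0 X1 X2 * X0 = g16 X0 X1 X2 :=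
  deduce (path_cons (inv_edge (E_9_2 X0 X1 X2 hr0 hr1 hr2 hr3 hr4 hr5)) (path_nil (g9 X0 X1 X2))) (path_cons (E_16_2 X0 X1 X2 hr0 hr1 hr2 hr3 hr4 hr5) (path_cons (inv_edge (E_2_0 X0 X1 X2)) (path_nil (g2 X0 X1 X2)))) (rel_3_1 X0 X1 X2 hr0 hr1 hr2 hr3 hr4 hr5)
theorem E_11_0 (X0 X1 X2 : M) (hr0 : X0 * (X0 * (X0 * 1)) = 1) (hr1 : X1 * (X1 * (X1 * (X1 * (X1 * 1)))) = 1) (hr2 : X2 * (X2 * 1) = 1) (hr3 : X2⁻¹ * (X0 * (X2 * (X0⁻¹ * 1))) = 1) (hr4 : X2⁻¹ * (X1 * (X2 * (X1⁻¹ * 1))) = 1) (hr5 : X0 * (X1 * (X0 * (X1 * (X2⁻¹ * 1)))) = 1) : g11 X0 X1 X2 * X0 = g3 X0 X1 X2 :=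
  deduce (path_cons (inv_edge (E_11_2 X0 X1 X2 hr0 hr1 hr2 hr3 hr4 hr5)) (path_nil (g11 X0 X1 X2))) (path_cons (E_3_2 X0 X1 X2 hr0 hr1 hr2 hr3 hr4 hr5) (path_cons (inv_edge (E_4_0 X0 X1 X2 hr0 hr1 hr2 hr3 hr4 hr5)) (path_nil (g4 X0 X1 X2)))) (rel_3_1 X0 X1 X2 hr0 hr1 hr2 hr3 hr4 hr5)
theorem E_14_0 (X0 X1 X2 : M) (hr0 : X0 * (X0 * (X0 * 1)) = 1) (hr1 : X1 * (X1 * (X1 * (X1 * (X1 * 1)))) = 1) (hr2 : X2 * (X2 * 1) = 1) (hr3 : X2⁻¹ * (X0 * (X2 * (X0⁻¹ * 1))) = 1) (hr4 : X2⁻¹ * (X1 * (X2 * (X1⁻¹ * 1))) = 1) (hr5 : X0 * (X1 * (X0 * (X1 * (X2⁻¹ * 1)))) = 1) : g14 X0 X1 X2 * X0 = g24 X0 X1 X2 :=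
  deduce (path_cons (inv_edge (E_14_2 X0 X1 X2 hr0 hr1 hr2 hr3 hr4 hr5)) (path_nil (g14 X0 X1 X2))) (path_cons (E_24_2 X0 X1 X2 hr0 hr1 hr2 hr3 hr4 hr5) (path_cons (inv_edge (E_5_0 X0 X1 X2)) (path_nil (g5 X0 X1 X2)))) (rel_3_1 X0 X1 X2 hr0 hr1 hr2 hr3 hr4 hr5)
theorem E_16_0 (X0 X1 X2 : M) (hr0 : X0 * (X0 * (X0 * 1)) = 1) (hr1 : X1 * (X1 * (X1 * (X1 * (X1 * 1)))) = 1) (hr2 : X2 * (X2 * 1) = 1) (hr3 : X2⁻¹ * (X0 * (X2 * (X0⁻¹ * 1))) = 1) (hr4 : X2⁻¹ * (X1 * (X2 * (X1⁻¹ * 1))) = 1) (hr5 : X0 * (X1 * (X0 * (X1 * (X2⁻¹ * 1)))) = 1) : g16 X0 X1 X2 * X0 = g29 X0 X1 X2 :=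
  deduce (path_cons (inv_edge (E_16_2 X0 X1 X2 hr0 hr1 hr2 hr3 hr4 hr5)) (path_nil (g16 X0 X1 X2))) (path_cons (E_29_2 X0 X1 X2 hr0 hr1 hr2 hr3 hr4 hr5) (path_cons (inv_edge (E_7_0 X0 X1 X2)) (path_nil (g7 X0 X1 X2)))) (rel_3_1 X0 X1 X2 hr0 hr1 hr2 hr3 hr4 hr5)
theorem E_19_0 (X0 X1 X2 : M) (hr0 : X0 * (X0 * (X0 * 1)) = 1) (hr1 : X1 * (X1 * (X1 * (X1 * (X1 * 1)))) = 1) (hr2 : X2 * (X2 * 1) = 1) (hr3 : X2⁻¹ * (X0 * (X2 * (X0⁻¹ * 1))) = 1) (hr4 : X2⁻¹ * (X1 * (X2 * (X1⁻¹ * 1))) = 1) (hr5 : X0 * (X1 * (X0 * (X1 * (X2⁻¹ * 1)))) = 1) : g19 X0 X1 X2 * X0 = g31 X0 X1 X2 :=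
  deduce (path_cons (inv_edge (E_19_2 X0 X1 X2 hr0 hr1 hr2 hr3 hr4 hr5)) (path_nil (g19 X0 X1 X2))) (path_cons (E_31_2 X0 X1 X2 hr0 hr1 hr2 hr3 hr4 hr5) (path_cons (inv_edge (E_8_0 X0 X1 X2)) (path_nil (g8 X0 X1 X2)))) (rel_3_1 X0 X1 X2 hr0 hr1 hr2 hr3 hr4 hr5)
theorem E_22_0 (X0 X1 X2 : M) (hr0 : X0 * (X0 * (X0 * 1)) = 1) (hr1 : X1 * (X1 * (X1 * (X1 * (X1 * 1)))) = 1) (hr2 : X2 * (X2 * 1) = 1) (hr3 : X2⁻¹ * (X0 * (X2 * (X0⁻¹ * 1))) = 1) (hr4 : X2⁻¹ * (X1 * (X2 * (X1⁻¹ * 1))) = 1) (hr5 : X0 * (X1 * (X0 * (X1 * (X2⁻¹ * 1)))) = 1) : g22 X0 X1 X2 * X0 = g35 X0 X1 X2 :=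
  deduce (path_cons (inv_edge (E_22_2 X0 X1 X2 hr0 hr1 hr2 hr3 hr4 hr5)) (path_nil (g22 X0 X1 X2))) (path_cons (E_35_2 X0 X1 X2 hr0 hr1 hr2 hr3 hr4 hr5) (path_cons (inv_edge (E_10_0 X0 X1 X2)) (path_nil (g10 X0 X1 X2)))) (rel_3_1 X0 X1 X2 hr0 hr1 hr2 hr3 hr4 hr5)
theorem E_24_0 (X0 X1 X2 : M) (hr0 : X0 * (X0 * (X0 * 1)) = 1) (hr1 : X1 * (X1 * (X1 * (X1 * (X1 * 1)))) = 1) (hr2 : X2 * (X2 * 1) = 1) (hr3 : X2⁻¹ * (X0 * (X2 * (X0⁻¹ * 1))) = 1) (hr4 : X2⁻¹ * (X1 * (X2 * (X1⁻¹ * 1))) = 1) (hr5 : X0 * (X1 * (X0 * (X1 * (X2⁻¹ * 1)))) = 1) : g24 X0 X1 X2 * X0 = g40 X0 X1 X2 :=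
  deduce (path_cons (inv_edge (E_24_2 X0 X1 X2 hr0 hr1 hr2 hr3 hr4 hr5)) (path_nil (g24 X0 X1 X2))) (path_cons (E_40_2 X0 X1 X2 hr0 hr1 hr2 hr3 hr4 hr5) (path_cons (inv_edge (E_12_0 X0 X1 X2)) (path_nil (g12 X0 X1 X2)))) (rel_3_1 X0 X1 X2 hr0 hr1 hr2 hr3 hr4 hr5)
theorem E_27_0 (X0 X1 X2 : M) (hr0 : X0 * (X0 * (X0 * 1)) = 1) (hr1 : X1 * (X1 * (X1 * (X1 * (X1 * 1)))) = 1) (hr2 : X2 * (X2 * 1) = 1) (hr3 : X2⁻¹ * (X0 * (X2 * (X0⁻¹ * 1))) = 1) (hr4 : X2⁻¹ * (X1 * (X2 * (X1⁻¹ * 1))) = 1) (hr5 : X0 * (X1 * (X0 * (X1 * (X2⁻¹ * 1)))) = 1) : g27 X0 X1 X2 * X0 = g42 X0 X1 X2 :=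
  deduce (path_cons (inv_edge (E_27_2 X0 X1 X2 hr0 hr1 hr2 hr3 hr4 hr5)) (path_nil (g27 X0 X1 X2))) (path_cons (E_42_2 X0 X1 X2 hr0 hr1 hr2 hr3 hr4 hr5) (path_cons (inv_edge (E_13_0 X0 X1 X2)) (path_nil (g13 X0 X1 X2)))) (rel_3_1 X0 X1 X2 hr0 hr1 hr2 hr3 hr4 hr5)
theorem E_29_0 (X0 X1 X2 : M) (hr0 : X0 * (X0 * (X0 * 1)) = 1) (hr1 : X1 * (X1 * (X1 * (X1 * (X1 * 1)))) = 1) (hr2 : X2 * (X2 * 1) = 1) (hr3 : X2⁻¹ * (X0 * (X2 * (X0⁻¹ * 1))) = 1) (hr4 : X2⁻¹ * (X1 * (X2 * (X1⁻¹ * 1))) = 1) (hr5 : X0 * (X1 * (X0 * (X1 * (X2⁻¹ * 1)))) = 1) : g29 X0 X1 X2 * X0 = g9 X0 X1 X2 :=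
  deduce (path_cons (inv_edge (E_29_2 X0 X1 X2 hr0 hr1 hr2 hr3 hr4 hr5)) (path_nil (g29 X0 X1 X2))) (path_cons (E_9_2 X0 X1 X2 hr0 hr1 hr2 hr3 hr4 hr5) (path_cons (inv_edge (E_15_0 X0 X1 X2 hr0 hr1 hr2 hr3 hr4 hr5)) (path_nil (g15 X0 X1 X2)))) (rel_3_1 X0 X1 X2 hr0 hr1 hr2 hr3 hr4 hr5)
theorem E_31_0 (X0 X1 X2 : M) (hr0 : X0 * (X0 * (X0 * 1)) = 1) (hr1 : X1 * (X1 * (X1 * (X1 * (X1 * 1)))) = 1) (hr2 : X2 * (X2 * 1) = 1) (hr3 : X2⁻¹ * (X0 * (X2 * (X0⁻¹ * 1))) = 1) (hr4 : X2⁻¹ * (X1 * (X2 * (X1⁻¹ * 1))) = 1) (hr5 : X0 * (X1 * (X0 * (X1 * (X2⁻¹ * 1)))) = 1) : g31 X0 X1 X2 * X0 = g48 X0 X1 X2 :=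
  deduce (path_cons (inv_edge (E_31_2 X0 X1 X2 hr0 hr1 hr2 hr3 hr4 hr5)) (path_nil (g31 X0 X1 X2))) (path_cons (E_48_2 X0 X1 X2 hr0 hr1 hr2 hr3 hr4 hr5) (path_cons (inv_edge (E_17_0 X0 X1 X2)) (path_nil (g17 X0 X1 X2)))) (rel_3_1 X0 X1 X2 hr0 hr1 hr2 hr3 hr4 hr5)
theorem E_33_0 (X0 X1 X2 : M) (hr0 : X0 * (X0 * (X0 * 1)) = 1) (hr1 : X1 * (X1 * (X1 * (X1 * (X1 * 1)))) = 1) (hr2 : X2 * (X2 * 1) = 1) (hr3 : X2⁻¹ * (X0 * (X2 * (X0⁻¹ * 1))) = 1) (hr4 : X2⁻¹ * (X1 * (X2 * (X1⁻¹ * 1))) = 1) (hr5 : X0 * (X1 * (X0 * (X1 * (X2⁻¹ * 1)))) = 1) : g33 X0 X1 X2 * X0 = g49 X0 X1 X2 :=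
  deduce (path_cons (inv_edge (E_33_2 X0 X1 X2 hr0 hr1 hr2 hr3 hr4 hr5)) (path_nil (g33 X0 X1 X2))) (path_cons (E_49_2 X0 X1 X2 hr0 hr1 hr2 hr3 hr4 hr5) (path_cons (inv_edge (E_18_0 X0 X1 X2)) (path_nil (g18 X0 X1 X2)))) (rel_3_1 X0 X1 X2 hr0 hr1 hr2 hr3 hr4 hr5)
theorem E_35_0 (X0 X1 X2 : M) (hr0 : X0 * (X0 * (X0 * 1)) = 1) (hr1 : X1 * (X1 * (X1 * (X1 * (X1 * 1)))) = 1) (hr2 : X2 * (X2 * 1) = 1) (hr3 : X2⁻¹ * (X0 * (X2 * (X0⁻¹ * 1))) = 1) (hr4 : X2⁻¹ * (X1 * (X2 * (X1⁻¹ * 1))) = 1) (hr5 : X0 * (X1 * (X0 * (X1 * (X2⁻¹ * 1)))) = 1) : g35 X0 X1 X2 * X0 = g51 X0 X1 X2 :=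
  deduce (path_cons (inv_edge (E_35_2 X0 X1 X2 hr0 hr1 hr2 hr3 hr4 hr5)) (path_nil (g35 X0 X1 X2))) (path_cons (E_51_2 X0 X1 X2 hr0 hr1 hr2 hr3 hr4 hr5) (path_cons (inv_edge (E_20_0 X0 X1 X2)) (path_nil (g20 X0 X1 X2)))) (rel_3_1 X0 X1 X2 hr0 hr1 hr2 hr3 hr4 hr5)
theorem E_38_0 (X0 X1 X2 : M) (hr0 : X0 * (X0 * (X0 * 1)) = 1) (hr1 : X1 * (X1 * (X1 * (X1 * (X1 * 1)))) = 1) (hr2 : X2 * (X2 * 1) = 1) (hr3 : X2⁻¹ * (X0 * (X2 * (X0⁻¹ * 1))) = 1) (hr4 : X2⁻¹ * (X1 * (X2 * (X1⁻¹ * 1))) = 1) (hr5 : X0 * (X1 * (X0 * (X1 * (X2⁻¹ * 1)))) = 1) : g38 X0 X1 X2 * X0 = g53 X0 X1 X2 :=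
  deduce (path_cons (inv_edge (E_38_2 X0 X1 X2 hr0 hr1 hr2 hr3 hr4 hr5)) (path_nil (g38 X0 X1 X2))) (path_cons (E_53_2 X0 X1 X2 hr0 hr1 hr2 hr3 hr4 hr5) (path_cons (inv_edge (E_21_0 X0 X1 X2)) (path_nil (g21 X0 X1 X2)))) (rel_3_1 X0 X1 X2 hr0 hr1 hr2 hr3 hr4 hr5)
theorem E_40_0 (X0 X1 X2 : M) (hr0 : X0 * (X0 * (X0 * 1)) = 1) (hr1 : X1 * (X1 * (X1 * (X1 * (X1 * 1)))) = 1) (hr2 : X2 * (X2 * 1) = 1) (hr3 : X2⁻¹ * (X0 * (X2 * (X0⁻¹ * 1))) = 1) (hr4 : X2⁻¹ * (X1 * (X2 * (X1⁻¹ * 1))) = 1) (hr5 : X0 * (X1 * (X0 * (X1 * (X2⁻¹ * 1)))) = 1) : g40 X0 X1 X2 * X0 = g14 X0 X1 X2 :=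
  deduce (path_cons (inv_edge (E_40_2 X0 X1 X2 hr0 hr1 hr2 hr3 hr4 hr5)) (path_nil (g40 X0 X1 X2))) (path_cons (E_14_2 X0 X1 X2 hr0 hr1 hr2 hr3 hr4 hr5) (path_cons (inv_edge (E_23_0 X0 X1 X2 hr0 hr1 hr2 hr3 hr4 hr5)) (path_nil (g23 X0 X1 X2)))) (rel_3_1 X0 X1 X2 hr0 hr1 hr2 hr3 hr4 hr5)
theorem E_42_0 (X0 X1 X2 : M) (hr0 : X0 * (X0 * (X0 * 1)) = 1) (hr1 : X1 * (X1 * (X1 * (X1 * (X1 * 1)))) = 1) (hr2 : X2 * (X2 * 1) = 1) (hr3 : X2⁻¹ * (X0 * (X2 * (X0⁻¹ * 1))) = 1) (hr4 : X2⁻¹ * (X1 * (X2 * (X1⁻¹ * 1))) = 1) (hr5 : X0 * (X1 * (X0 * (X1 * (X2⁻¹ * 1)))) = 1) : g42 X0 X1 X2 * X0 = g59 X0 X1 X2 :=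
  deduce (path_cons (inv_edge (E_42_2 X0 X1 X2 hr0 hr1 hr2 hr3 hr4 hr5)) (path_nil (g42 X0 X1 X2))) (path_cons (E_59_2 X0 X1 X2 hr0 hr1 hr2 hr3 hr4 hr5) (path_cons (inv_edge (E_25_0 X0 X1 X2)) (path_nil (g25 X0 X1 X2)))) (rel_3_1 X0 X1 X2 hr0 hr1 hr2 hr3 hr4 hr5)
theorem E_44_0 (X0 X1 X2 : M) (hr0 : X0 * (X0 * (X0 * 1)) = 1) (hr1 : X1 * (X1 * (X1 * (X1 * (X1 * 1)))) = 1) (hr2 : X2 * (X2 * 1) = 1) (hr3 : X2⁻¹ * (X0 * (X2 * (X0⁻¹ * 1))) = 1) (hr4 : X2⁻¹ * (X1 * (X2 * (X1⁻¹ * 1))) = 1) (hr5 : X0 * (X1 * (X0 * (X1 * (X2⁻¹ * 1)))) = 1) : g44 X0 X1 X2 * X0 = g60 X0 X1 X2 :=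
  deduce (path_cons (inv_edge (E_44_2 X0 X1 X2 hr0 hr1 hr2 hr3 hr4 hr5)) (path_nil (g44 X0 X1 X2))) (path_cons (E_60_2 X0 X1 X2 hr0 hr1 hr2 hr3 hr4 hr5) (path_cons (inv_edge (E_26_0 X0 X1 X2)) (path_nil (g26 X0 X1 X2)))) (rel_3_1 X0 X1 X2 hr0 hr1 hr2 hr3 hr4 hr5)
theorem E_48_0 (X0 X1 X2 : M) (hr0 : X0 * (X0 * (X0 * 1)) = 1) (hr1 : X1 * (X1 * (X1 * (X1 * (X1 * 1)))) = 1) (hr2 : X2 * (X2 * 1) = 1) (hr3 : X2⁻¹ * (X0 * (X2 * (X0⁻¹ * 1))) = 1) (hr4 : X2⁻¹ * (X1 * (X2 * (X1⁻¹ * 1))) = 1) (hr5 : X0 * (X1 * (X0 * (X1 * (X2⁻¹ * 1)))) = 1) : g48 X0 X1 X2 * X0 = g19 X0 X1 X2 :=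
  deduce (path_cons (inv_edge (E_48_2 X0 X1 X2 hr0 hr1 hr2 hr3 hr4 hr5)) (path_nil (g48 X0 X1 X2))) (path_cons (E_19_2 X0 X1 X2 hr0 hr1 hr2 hr3 hr4 hr5) (path_cons (inv_edge (E_30_0 X0 X1 X2 hr0 hr1 hr2 hr3 hr4 hr5)) (path_nil (g30 X0 X1 X2)))) (rel_3_1 X0 X1 X2 hr0 hr1 hr2 hr3 hr4 hr5)
theorem E_51_0 (X0 X1 X2 : M) (hr0 : X0 * (X0 * (X0 * 1)) = 1) (hr1 : X1 * (X1 * (X1 * (X1 * (X1 * 1)))) = 1) (hr2 : X2 * (X2 * 1) = 1) (hr3 : X2⁻¹ * (X0 * (X2 * (X0⁻¹ * 1))) = 1) (hr4 : X2⁻¹ * (X1 * (X2 * (X1⁻¹ * 1))) = 1) (hr5 : X0 * (X1 * (X0 * (X1 * (X2⁻¹ * 1)))) = 1) : g51 X0 X1 X2 * X0 = g22 X0 X1 X2 :=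
  deduce (path_cons (inv_edge (E_51_2 X0 X1 X2 hr0 hr1 hr2 hr3 hr4 hr5)) (path_nil (g51 X0 X1 X2))) (path_cons (E_22_2 X0 X1 X2 hr0 hr1 hr2 hr3 hr4 hr5) (path_cons (inv_edge (E_34_0 X0 X1 X2 hr0 hr1 hr2 hr3 hr4 hr5)) (path_nil (g34 X0 X1 X2)))) (rel_3_1 X0 X1 X2 hr0 hr1 hr2 hr3 hr4 hr5)
theorem E_53_0 (X0 X1 X2 : M) (hr0 : X0 * (X0 * (X0 * 1)) = 1) (hr1 : X1 * (X1 * (X1 * (X1 * (X1 * 1)))) = 1) (hr2 : X2 * (X2 * 1) = 1) (hr3 : X2⁻¹ * (X0 * (X2 * (X0⁻¹ * 1))) = 1) (hr4 : X2⁻¹ * (X1 * (X2 * (X1⁻¹ * 1))) = 1) (hr5 : X0 * (X1 * (X0 * (X1 * (X2⁻¹ * 1)))) = 1) : g53 X0 X1 X2 * X0 = g69 X0 X1 X2 :=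
  deduce (path_cons (inv_edge (E_53_2 X0 X1 X2 hr0 hr1 hr2 hr3 hr4 hr5)) (path_nil (g53 X0 X1 X2))) (path_cons (E_69_2 X0 X1 X2 hr0 hr1 hr2 hr3 hr4 hr5) (path_cons (inv_edge (E_36_0 X0 X1 X2)) (path_nil (g36 X0 X1 X2)))) (rel_3_1 X0 X1 X2 hr0 hr1 hr2 hr3 hr4 hr5)
theorem E_55_0 (X0 X1 X2 : M) (hr0 : X0 * (X0 * (X0 * 1)) = 1) (hr1 : X1 * (X1 * (X1 * (X1 * (X1 * 1)))) = 1) (hr2 : X2 * (X2 * 1) = 1) (hr3 : X2⁻¹ * (X0 * (X2 * (X0⁻¹ * 1))) = 1) (hr4 : X2⁻¹ * (X1 * (X2 * (X1⁻¹ * 1))) = 1) (hr5 : X0 * (X1 * (X0 * (X1 * (X2⁻¹ * 1)))) = 1) : g55 X0 X1 X2 * X0 = g70 X0 X1 X2 :=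
  deduce (path_cons (inv_edge (E_55_2 X0 X1 X2 hr0 hr1 hr2 hr3 hr4 hr5)) (path_nil (g55 X0 X1 X2))) (path_cons (E_70_2 X0 X1 X2 hr0 hr1 hr2 hr3 hr4 hr5) (path_cons (inv_edge (E_37_0 X0 X1 X2)) (path_nil (g37 X0 X1 X2)))) (rel_3_1 X0 X1 X2 hr0 hr1 hr2 hr3 hr4 hr5)
theorem E_59_0 (X0 X1 X2 : M) (hr0 : X0 * (X0 * (X0 * 1)) = 1) (hr1 : X1 * (X1 * (X1 * (X1 * (X1 * 1)))) = 1) (hr2 : X2 * (X2 * 1) = 1) (hr3 : X2⁻¹ * (X0 * (X2 * (X0⁻¹ * 1))) = 1) (hr4 : X2⁻¹ * (X1 * (X2 * (X1⁻¹ * 1))) = 1) (hr5 : X0 * (X1 * (X0 * (X1 * (X2⁻¹ * 1)))) = 1) : g59 X0 X1 X2 * X0 = g27 X0 X1 X2 :=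
  deduce (path_cons (inv_edge (E_59_2 X0 X1 X2 hr0 hr1 hr2 hr3 hr4 hr5)) (path_nil (g59 X0 X1 X2))) (path_cons (E_27_2 X0 X1 X2 hr0 hr1 hr2 hr3 hr4 hr5) (path_cons (inv_edge (E_41_0 X0 X1 X2 hr0 hr1 hr2 hr3 hr4 hr5)) (path_nil (g41 X0 X1 X2)))) (rel_3_1 X0 X1 X2 hr0 hr1 hr2 hr3 hr4 hr5)
theorem E_63_0 (X0 X1 X2 : M) (hr0 : X0 * (X0 * (X0 * 1)) = 1) (hr1 : X1 * (X1 * (X1 * (X1 * (X1 * 1)))) = 1) (hr2 : X2 * (X2 * 1) = 1) (hr3 : X2⁻¹ * (X0 * (X2 * (X0⁻¹ * 1))) = 1) (hr4 : X2⁻¹ * (X1 * (X2 * (X1⁻¹ * 1))) = 1) (hr5 : X0 * (X1 * (X0 * (X1 * (X2⁻¹ * 1)))) = 1) : g63 X0 X1 X2 * X0 = g77 X0 X1 X2 :=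
  deduce (path_cons (inv_edge (E_63_2 X0 X1 X2 hr0 hr1 hr2 hr3 hr4 hr5)) (path_nil (g63 X0 X1 X2))) (path_cons (E_77_2 X0 X1 X2 hr0 hr1 hr2 hr3 hr4 hr5) (path_cons (inv_edge (E_45_0 X0 X1 X2)) (path_nil (g45 X0 X1 X2)))) (rel_3_1 X0 X1 X2 hr0 hr1 hr2 hr3 hr4 hr5)
theorem E_69_0 (X0 X1 X2 : M) (hr0 : X0 * (X0 * (X0 * 1)) = 1) (hr1 : X1 * (X1 * (X1 * (X1 * (X1 * 1)))) = 1) (hr2 : X2 * (X2 * 1) = 1) (hr3 : X2⁻¹ * (X0 * (X2 * (X0⁻¹ * 1))) = 1) (hr4 : X2⁻¹ * (X1 * (X2 * (X1⁻¹ * 1))) = 1) (hr5 : X0 * (X1 * (X0 * (X1 * (X2⁻¹ * 1)))) = 1) : g69 X0 X1 X2 * X0 = g38 X0 X1 X2 :=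
  deduce (path_cons (inv_edge (E_69_2 X0 X1 X2 hr0 hr1 hr2 hr3 hr4 hr5)) (path_nil (g69 X0 X1 X2))) (path_cons (E_38_2 X0 X1 X2 hr0 hr1 hr2 hr3 hr4 hr5) (path_cons (inv_edge (E_52_0 X0 X1 X2 hr0 hr1 hr2 hr3 hr4 hr5)) (path_nil (g52 X0 X1 X2)))) (rel_3_1 X0 X1 X2 hr0 hr1 hr2 hr3 hr4 hr5)
theorem E_73_0 (X0 X1 X2 : M) (hr0 : X0 * (X0 * (X0 * 1)) = 1) (hr1 : X1 * (X1 * (X1 * (X1 * (X1 * 1)))) = 1) (hr2 : X2 * (X2 * 1) = 1) (hr3 : X2⁻¹ * (X0 * (X2 * (X0⁻¹ * 1))) = 1) (hr4 : X2⁻¹ * (X1 * (X2 * (X1⁻¹ * 1))) = 1) (hr5 : X0 * (X1 * (X0 * (X1 * (X2⁻¹ * 1)))) = 1) : g73 X0 X1 X2 * X0 = g88 X0 X1 X2 :=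
  deduce (path_cons (inv_edge (E_73_2 X0 X1 X2 hr0 hr1 hr2 hr3 hr4 hr5)) (path_nil (g73 X0 X1 X2))) (path_cons (E_88_2 X0 X1 X2 hr0 hr1 hr2 hr3 hr4 hr5) (path_cons (inv_edge (E_56_0 X0 X1 X2)) (path_nil (g56 X0 X1 X2)))) (rel_3_1 X0 X1 X2 hr0 hr1 hr2 hr3 hr4 hr5)
theorem E_77_0 (X0 X1 X2 : M) (hr0 : X0 * (X0 * (X0 * 1)) = 1) (hr1 : X1 * (X1 * (X1 * (X1 * (X1 * 1)))) = 1) (hr2 : X2 * (X2 * 1) = 1) (hr3 : X2⁻¹ * (X0 * (X2 * (X0⁻¹ * 1))) = 1) (hr4 : X2⁻¹ * (X1 * (X2 * (X1⁻¹ * 1))) = 1) (hr5 : X0 * (X1 * (X0 * (X1 * (X2⁻¹ * 1)))) = 1) : g77 X0 X1 X2 * X0 = g94 X0 X1 X2 :=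
  deduce (path_cons (inv_edge (E_77_2 X0 X1 X2 hr0 hr1 hr2 hr3 hr4 hr5)) (path_nil (g77 X0 X1 X2))) (path_cons (E_94_2 X0 X1 X2 hr0 hr1 hr2 hr3 hr4 hr5) (path_cons (inv_edge (E_61_0 X0 X1 X2)) (path_nil (g61 X0 X1 X2)))) (rel_3_1 X0 X1 X2 hr0 hr1 hr2 hr3 hr4 hr5)
theorem E_79_0 (X0 X1 X2 : M) (hr0 : X0 * (X0 * (X0 * 1)) = 1) (hr1 : X1 * (X1 * (X1 * (X1 * (X1 * 1)))) = 1) (hr2 : X2 * (X2 * 1) = 1) (hr3 : X2⁻¹ * (X0 * (X2 * (X0⁻¹ * 1))) = 1) (hr4 : X2⁻¹ * (X1 * (X2 * (X1⁻¹ * 1))) = 1) (hr5 : X0 * (X1 * (X0 * (X1 * (X2⁻¹ * 1)))) = 1) : g79 X0 X1 X2 * X0 = g95 X0 X1 X2 :=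
  deduce (path_cons (inv_edge (E_79_2 X0 X1 X2 hr0 hr1 hr2 hr3 hr4 hr5)) (path_nil (g79 X0 X1 X2))) (path_cons (E_95_2 X0 X1 X2 hr0 hr1 hr2 hr3 hr4 hr5) (path_cons (inv_edge (E_62_0 X0 X1 X2)) (path_nil (g62 X0 X1 X2)))) (rel_3_1 X0 X1 X2 hr0 hr1 hr2 hr3 hr4 hr5)
theorem E_81_0 (X0 X1 X2 : M) (hr0 : X0 * (X0 * (X0 * 1)) = 1) (hr1 : X1 * (X1 * (X1 * (X1 * (X1 * 1)))) = 1) (hr2 : X2 * (X2 * 1) = 1) (hr3 : X2⁻¹ * (X0 * (X2 * (X0⁻¹ * 1))) = 1) (hr4 : X2⁻¹ * (X1 * (X2 * (X1⁻¹ * 1))) = 1) (hr5 : X0 * (X1 * (X0 * (X1 * (X2⁻¹ * 1)))) = 1) : g81 X0 X1 X2 * X0 = g97 X0 X1 X2 :=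
  deduce (path_cons (inv_edge (E_81_2 X0 X1 X2 hr0 hr1 hr2 hr3 hr4 hr5)) (path_nil (g81 X0 X1 X2))) (path_cons (E_97_2 X0 X1 X2 hr0 hr1 hr2 hr3 hr4 hr5) (path_cons (inv_edge (E_64_0 X0 X1 X2)) (path_nil (g64 X0 X1 X2)))) (rel_3_1 X0 X1 X2 hr0 hr1 hr2 hr3 hr4 hr5)
theorem E_84_0 (X0 X1 X2 : M) (hr0 : X0 * (X0 * (X0 * 1)) = 1) (hr1 : X1 * (X1 * (X1 * (X1 * (X1 * 1)))) = 1) (hr2 : X2 * (X2 * 1) = 1) (hr3 : X2⁻¹ * (X0 * (X2 * (X0⁻¹ * 1))) = 1) (hr4 : X2⁻¹ * (X1 * (X2 * (X1⁻¹ * 1))) = 1) (hr5 : X0 * (X1 * (X0 * (X1 * (X2⁻¹ * 1)))) = 1) : g84 X0 X1 X2 * X0 = g99 X0 X1 X2 :=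
  deduce (path_cons (inv_edge (E_84_2 X0 X1 X2 hr0 hr1 hr2 hr3 hr4 hr5)) (path_nil (g84 X0 X1 X2))) (path_cons (E_99_2 X0 X1 X2 hr0 hr1 hr2 hr3 hr4 hr5) (path_cons (inv_edge (E_66_0 X0 X1 X2)) (path_nil (g66 X0 X1 X2)))) (rel_3_1 X0 X1 X2 hr0 hr1 hr2 hr3 hr4 hr5)
theorem E_88_0 (X0 X1 X2 : M) (hr0 : X0 * (X0 * (X0 * 1)) = 1) (hr1 : X1 * (X1 * (X1 * (X1 * (X1 * 1)))) = 1) (hr2 : X2 * (X2 * 1) = 1) (hr3 : X2⁻¹ * (X0 * (X2 * (X0⁻¹ * 1))) = 1) (hr4 : X2⁻¹ * (X1 * (X2 * (X1⁻¹ * 1))) = 1) (hr5 : X0 * (X1 * (X0 * (X1 * (X2⁻¹ * 1)))) = 1) : g88 X0 X1 X2 * X0 = g105 X0 X1 X2 :=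
  deduce (path_cons (inv_edge (E_88_2 X0 X1 X2 hr0 hr1 hr2 hr3 hr4 hr5)) (path_nil (g88 X0 X1 X2))) (path_cons (E_105_2 X0 X1 X2 hr0 hr1 hr2 hr3 hr4 hr5) (path_cons (inv_edge (E_71_0 X0 X1 X2)) (path_nil (g71 X0 X1 X2)))) (rel_3_1 X0 X1 X2 hr0 hr1 hr2 hr3 hr4 hr5)
theorem E_90_0 (X0 X1 X2 : M) (hr0 : X0 * (X0 * (X0 * 1)) = 1) (hr1 : X1 * (X1 * (X1 * (X1 * (X1 * 1)))) = 1) (hr2 : X2 * (X2 * 1) = 1) (hr3 : X2⁻¹ * (X0 * (X2 * (X0⁻¹ * 1))) = 1) (hr4 : X2⁻¹ * (X1 * (X2 * (X1⁻¹ * 1))) = 1) (hr5 : X0 * (X1 * (X0 * (X1 * (X2⁻¹ * 1)))) = 1) : g90 X0 X1 X2 * X0 = g106 X0 X1 X2 :=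
  deduce (path_cons (inv_edge (E_90_2 X0 X1 X2 hr0 hr1 hr2 hr3 hr4 hr5)) (path_nil (g90 X0 X1 X2))) (path_cons (E_106_2 X0 X1 X2 hr0 hr1 hr2 hr3 hr4 hr5) (path_cons (inv_edge (E_72_0 X0 X1 X2)) (path_nil (g72 X0 X1 X2)))) (rel_3_1 X0 X1 X2 hr0 hr1 hr2 hr3 hr4 hr5)
theorem E_92_0 (X0 X1 X2 : M) (hr0 : X0 * (X0 * (X0 * 1)) = 1) (hr1 : X1 * (X1 * (X1 * (X1 * (X1 * 1)))) = 1) (hr2 : X2 * (X2 * 1) = 1) (hr3 : X2⁻¹ * (X0 * (X2 * (X0⁻¹ * 1))) = 1) (hr4 : X2⁻¹ * (X1 * (X2 * (X1⁻¹ * 1))) = 1) (hr5 : X0 * (X1 * (X0 * (X1 * (X2⁻¹ * 1)))) = 1) : g92 X0 X1 X2 * X0 = g108 X0 X1 X2 :=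
  deduce (path_cons (inv_edge (E_92_2 X0 X1 X2 hr0 hr1 hr2 hr3 hr4 hr5)) (path_nil (g92 X0 X1 X2))) (path_cons (E_108_2 X0 X1 X2 hr0 hr1 hr2 hr3 hr4 hr5) (path_cons (inv_edge (E_74_0 X0 X1 X2)) (path_nil (g74 X0 X1 X2)))) (rel_3_1 X0 X1 X2 hr0 hr1 hr2 hr3 hr4 hr5)
theorem E_94_0 (X0 X1 X2 : M) (hr0 : X0 * (X0 * (X0 * 1)) = 1) (hr1 : X1 * (X1 * (X1 * (X1 * (X1 * 1)))) = 1) (hr2 : X2 * (X2 * 1) = 1) (hr3 : X2⁻¹ * (X0 * (X2 * (X0⁻¹ * 1))) = 1) (hr4 : X2⁻¹ * (X1 * (X2 * (X1⁻¹ * 1))) = 1) (hr5 : X0 * (X1 * (X0 * (X1 * (X2⁻¹ * 1)))) = 1) : g94 X0 X1 X2 * X0 = g63 X0 X1 X2 :=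
  deduce (path_cons (inv_edge (E_94_2 X0 X1 X2 hr0 hr1 hr2 hr3 hr4 hr5)) (path_nil (g94 X0 X1 X2))) (path_cons (E_63_2 X0 X1 X2 hr0 hr1 hr2 hr3 hr4 hr5) (path_cons (inv_edge (E_76_0 X0 X1 X2 hr0 hr1 hr2 hr3 hr4 hr5)) (path_nil (g76 X0 X1 X2)))) (rel_3_1 X0 X1 X2 hr0 hr1 hr2 hr3 hr4 hr5)
theorem E_99_0 (X0 X1 X2 : M) (hr0 : X0 * (X0 * (X0 * 1)) = 1) (hr1 : X1 * (X1 * (X1 * (X1 * (X1 * 1)))) = 1) (hr2 : X2 * (X2 * 1) = 1) (hr3 : X2⁻¹ * (X0 * (X2 * (X0⁻¹ * 1))) = 1) (hr4 : X2⁻¹ * (X1 * (X2 * (X1⁻¹ * 1))) = 1) (hr5 : X0 * (X1 * (X0 * (X1 * (X2⁻¹ * 1)))) = 1) : g99 X0 X1 X2 * X0 = g113 X0 X1 X2 :=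
  deduce (path_cons (inv_edge (E_99_2 X0 X1 X2 hr0 hr1 hr2 hr3 hr4 hr5)) (path_nil (g99 X0 X1 X2))) (path_cons (E_113_2 X0 X1 X2 hr0 hr1 hr2 hr3 hr4 hr5) (path_cons (inv_edge (E_82_0 X0 X1 X2)) (path_nil (g82 X0 X1 X2)))) (rel_3_1 X0 X1 X2 hr0 hr1 hr2 hr3 hr4 hr5)
theorem E_101_0 (X0 X1 X2 : M) (hr0 : X0 * (X0 * (X0 * 1)) = 1) (hr1 : X1 * (X1 * (X1 * (X1 * (X1 * 1)))) = 1) (hr2 : X2 * (X2 * 1) = 1) (hr3 : X2⁻¹ * (X0 * (X2 * (X0⁻¹ * 1))) = 1) (hr4 : X2⁻¹ * (X1 * (X2 * (X1⁻¹ * 1))) = 1) (hr5 : X0 * (X1 * (X0 * (X1 * (X2⁻¹ * 1)))) = 1) : g101 X0 X1 X2 * X0 = g114 X0 X1 X2 :=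
  deduce (path_cons (inv_edge (E_101_2 X0 X1 X2 hr0 hr1 hr2 hr3 hr4 hr5)) (path_nil (g101 X0 X1 X2))) (path_cons (E_114_2 X0 X1 X2 hr0 hr1 hr2 hr3 hr4 hr5) (path_cons (inv_edge (E_83_0 X0 X1 X2)) (path_nil (g83 X0 X1 X2)))) (rel_3_1 X0 X1 X2 hr0 hr1 hr2 hr3 hr4 hr5)
theorem E_103_0 (X0 X1 X2 : M) (hr0 : X0 * (X0 * (X0 * 1)) = 1) (hr1 : X1 * (X1 * (X1 * (X1 * (X1 * 1)))) = 1) (hr2 : X2 * (X2 * 1) = 1) (hr3 : X2⁻¹ * (X0 * (X2 * (X0⁻¹ * 1))) = 1) (hr4 : X2⁻¹ * (X1 * (X2 * (X1⁻¹ * 1))) = 1) (hr5 : X0 * (X1 * (X0 * (X1 * (X2⁻¹ * 1)))) = 1) : g103 X0 X1 X2 * X0 = g115 X0 X1 X2 :=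
  deduce (path_cons (inv_edge (E_103_2 X0 X1 X2 hr0 hr1 hr2 hr3 hr4 hr5)) (path_nil (g103 X0 X1 X2))) (path_cons (E_115_2 X0 X1 X2 hr0 hr1 hr2 hr3 hr4 hr5) (path_cons (inv_edge (E_85_0 X0 X1 X2)) (path_nil (g85 X0 X1 X2)))) (rel_3_1 X0 X1 X2 hr0 hr1 hr2 hr3 hr4 hr5)
theorem E_105_0 (X0 X1 X2 : M) (hr0 : X0 * (X0 * (X0 * 1)) = 1) (hr1 : X1 * (X1 * (X1 * (X1 * (X1 * 1)))) = 1) (hr2 : X2 * (X2 * 1) = 1) (hr3 : X2⁻¹ * (X0 * (X2 * (X0⁻¹ * 1))) = 1) (hr4 : X2⁻¹ * (X1 * (X2 * (X1⁻¹ * 1))) = 1) (hr5 : X0 * (X1 * (X0 * (X1 * (X2⁻¹ * 1)))) = 1) : g105 X0 X1 X2 * X0 = g73 X0 X1 X2 :=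
  deduce (path_cons (inv_edge (E_105_2 X0 X1 X2 hr0 hr1 hr2 hr3 hr4 hr5)) (path_nil (g105 X0 X1 X2))) (path_cons (E_73_2 X0 X1 X2 hr0 hr1 hr2 hr3 hr4 hr5) (path_cons (inv_edge (E_87_0 X0 X1 X2 hr0 hr1 hr2 hr3 hr4 hr5)) (path_nil (g87 X0 X1 X2)))) (rel_3_1 X0 X1 X2 hr0 hr1 hr2 hr3 hr4 hr5)
theorem E_113_0 (X0 X1 X2 : M) (hr0 : X0 * (X0 * (X0 * 1)) = 1) (hr1 : X1 * (X1 * (X1 * (X1 * (X1 * 1)))) = 1) (hr2 : X2 * (X2 * 1) = 1) (hr3 : X2⁻¹ * (X0 * (X2 * (X0⁻¹ * 1))) = 1) (hr4 : X2⁻¹ * (X1 * (X2 * (X1⁻¹ * 1))) = 1) (hr5 : X0 * (X1 * (X0 * (X1 * (X2⁻¹ * 1)))) = 1) : g113 X0 X1 X2 * X0 = g84 X0 X1 X2 :=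
  deduce (path_cons (inv_edge (E_113_2 X0 X1 X2 hr0 hr1 hr2 hr3 hr4 hr5)) (path_nil (g113 X0 X1 X2))) (path_cons (E_84_2 X0 X1 X2 hr0 hr1 hr2 hr3 hr4 hr5) (path_cons (inv_edge (E_98_0 X0 X1 X2 hr0 hr1 hr2 hr3 hr4 hr5)) (path_nil (g98 X0 X1 X2)))) (rel_3_1 X0 X1 X2 hr0 hr1 hr2 hr3 hr4 hr5)
theorem E_3_1 (X0 X1 X2 : M) (hr0 : X0 * (X0 * (X0 * 1)) = 1) (hr1 : X1 * (X1 * (X1 * (X1 * (X1 * 1)))) = 1) (hr2 : X2 * (X2 * 1) = 1) (hr3 : X2⁻¹ * (X0 * (X2 * (X0⁻¹ * 1))) = 1) (hr4 : X2⁻¹ * (X1 * (X2 * (X1⁻¹ * 1))) = 1) (hr5 : X0 * (X1 * (X0 * (X1 * (X2⁻¹ * 1)))) = 1) : g3 X0 X1 X2 * X1 = g9 X0 X1 X2 :=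
  deduce (path_cons (inv_edge (E_3_2 X0 X1 X2 hr0 hr1 hr2 hr3 hr4 hr5)) (path_nil (g3 X0 X1 X2))) (path_cons (E_9_2 X0 X1 X2 hr0 hr1 hr2 hr3 hr4 hr5) (path_cons (inv_edge (E_0_1 X0 X1 X2)) (path_nil (g0 X0 X1 X2)))) (rel_4_1 X0 X1 X2 hr0 hr1 hr2 hr3 hr4 hr5)
theorem E_6_1 (X0 X1 X2 : M) (hr0 : X0 * (X0 * (X0 * 1)) = 1) (hr1 : X1 * (X1 * (X1 * (X1 * (X1 * 1)))) = 1) (hr2 : X2 * (X2 * 1) = 1) (hr3 : X2⁻¹ * (X0 * (X2 * (X0⁻¹ * 1))) = 1) (hr4 : X2⁻¹ * (X1 * (X2 * (X1⁻¹ * 1))) = 1) (hr5 : X0 * (X1 * (X0 * (X1 * (X2⁻¹ * 1)))) = 1) : g6 X0 X1 X2 * X1 = g14 X0 X1 X2 :=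
  deduce (path_cons (inv_edge (E_6_2 X0 X1 X2 hr0 hr1 hr2 hr3 hr4 hr5)) (path_nil (g6 X0 X1 X2))) (path_cons (E_14_2 X0 X1 X2 hr0 hr1 hr2 hr3 hr4 hr5) (path_cons (inv_edge (E_1_1 X0 X1 X2)) (path_nil (g1 X0 X1 X2)))) (rel_4_1 X0 X1 X2 hr0 hr1 hr2 hr3 hr4 hr5)
theorem E_9_1 (X0 X1 X2 : M) (hr0 : X0 * (X0 * (X0 * 1)) = 1) (hr1 : X1 * (X1 * (X1 * (X1 * (X1 * 1)))) = 1) (hr2 : X2 * (X2 * 1) = 1) (hr3 : X2⁻¹ * (X0 * (X2 * (X0⁻¹ * 1))) = 1) (hr4 : X2⁻¹ * (X1 * (X2 * (X1⁻¹ * 1))) = 1) (hr5 : X0 * (X1 * (X0 * (X1 * (X2⁻¹ * 1)))) = 1) : g9 X0 X1 X2 * X1 = g19 X0 X1 X2 :=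
  deduce (path_cons (inv_edge (E_9_2 X0 X1 X2 hr0 hr1 hr2 hr3 hr4 hr5)) (path_nil (g9 X0 X1 X2))) (path_cons (E_19_2 X0 X1 X2 hr0 hr1 hr2 hr3 hr4 hr5) (path_cons (inv_edge (E_2_1 X0 X1 X2)) (path_nil (g2 X0 X1 X2)))) (rel_4_1 X0 X1 X2 hr0 hr1 hr2 hr3 hr4 hr5)
theorem E_11_1 (X0 X1 X2 : M) (hr0 : X0 * (X0 * (X0 * 1)) = 1) (hr1 : X1 * (X1 * (X1 * (X1 * (X1 * 1)))) = 1) (hr2 : X2 * (X2 * 1) = 1) (hr3 : X2⁻¹ * (X0 * (X2 * (X0⁻¹ * 1))) = 1) (hr4 : X2⁻¹ * (X1 * (X2 * (X1⁻¹ * 1))) = 1) (hr5 : X0 * (X1 * (X0 * (X1 * (X2⁻¹ * 1)))) = 1) : g11 X0 X1 X2 * X1 = g22 X0 X1 X2 :=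
  deduce (path_cons (inv_edge (E_11_2 X0 X1 X2 hr0 hr1 hr2 hr3 hr4 hr5)) (path_nil (g11 X0 X1 X2))) (path_cons (E_22_2 X0 X1 X2 hr0 hr1 hr2 hr3 hr4 hr5) (path_cons (inv_edge (E_4_1 X0 X1 X2)) (path_nil (g4 X0 X1 X2)))) (rel_4_1 X0 X1 X2 hr0 hr1 hr2 hr3 hr4 hr5)
theorem E_14_1 (X0 X1 X2 : M) (hr0 : X0 * (X0 * (X0 * 1)) = 1) (hr1 : X1 * (X1 * (X1 * (X1 * (X1 * 1)))) = 1) (hr2 : X2 * (X2 * 1) = 1) (hr3 : X2⁻¹ * (X0 * (X2 * (X0⁻¹ * 1))) = 1) (hr4 : X2⁻¹ * (X1 * (X2 * (X1⁻¹ * 1))) = 1) (hr5 : X0 * (X1 * (X0 * (X1 * (X2⁻¹ * 1)))) = 1) : g14 X0 X1 X2 * X1 = g27 X0 X1 X2 :=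
  deduce (path_cons (inv_edge (E_14_2 X0 X1 X2 hr0 hr1 hr2 hr3 hr4 hr5)) (path_nil (g14 X0 X1 X2))) (path_cons (E_27_2 X0 X1 X2 hr0 hr1 hr2 hr3 hr4 hr5) (path_cons (inv_edge (E_5_1 X0 X1 X2)) (path_nil (g5 X0 X1 X2)))) (rel_4_1 X0 X1 X2 hr0 hr1 hr2 hr3 hr4 hr5)
theorem E_19_1 (X0 X1 X2 : M) (hr0 : X0 * (X0 * (X0 * 1)) = 1) (hr1 : X1 * (X1 * (X1 * (X1 * (X1 * 1)))) = 1) (hr2 : X2 * (X2 * 1) = 1) (hr3 : X2⁻¹ * (X0 * (X2 * (X0⁻¹ * 1))) = 1) (hr4 : X2⁻¹ * (X1 * (X2 * (X1⁻¹ * 1))) = 1) (hr5 : X0 * (X1 * (X0 * (X1 * (X2⁻¹ * 1)))) = 1) : g19 X0 X1 X2 * X1 = g33 X0 X1 X2 :=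
  deduce (path_cons (inv_edge (E_19_2 X0 X1 X2 hr0 hr1 hr2 hr3 hr4 hr5)) (path_nil (g19 X0 X1 X2))) (path_cons (E_33_2 X0 X1 X2 hr0 hr1 hr2 hr3 hr4 hr5) (path_cons (inv_edge (E_8_1 X0 X1 X2)) (path_nil (g8 X0 X1 X2)))) (rel_4_1 X0 X1 X2 hr0 hr1 hr2 hr3 hr4 hr5)
theorem E_22_1 (X0 X1 X2 : M) (hr0 : X0 * (X0 * (X0 * 1)) = 1) (hr1 : X1 * (X1 * (X1 * (X1 * (X1 * 1)))) = 1) (hr2 : X2 * (X2 * 1) = 1) (hr3 : X2⁻¹ * (X0 * (X2 * (X0⁻¹ * 1))) = 1) (hr4 : X2⁻¹ * (X1 * (X2 * (X1⁻¹ * 1))) = 1) (hr5 : X0 * (X1 * (X0 * (X1 * (X2⁻¹ * 1)))) = 1) : g22 X0 X1 X2 * X1 = g38 X0 X1 X2 :=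
  deduce (path_cons (inv_edge (E_22_2 X0 X1 X2 hr0 hr1 hr2 hr3 hr4 hr5)) (path_nil (g22 X0 X1 X2))) (path_cons (E_38_2 X0 X1 X2 hr0 hr1 hr2 hr3 hr4 hr5) (path_cons (inv_edge (E_10_1 X0 X1 X2)) (path_nil (g10 X0 X1 X2)))) (rel_4_1 X0 X1 X2 hr0 hr1 hr2 hr3 hr4 hr5)
theorem E_27_1 (X0 X1 X2 : M) (hr0 : X0 * (X0 * (X0 * 1)) = 1) (hr1 : X1 * (X1 * (X1 * (X1 * (X1 * 1)))) = 1) (hr2 : X2 * (X2 * 1) = 1) (hr3 : X2⁻¹ * (X0 * (X2 * (X0⁻¹ * 1))) = 1) (hr4 : X2⁻¹ * (X1 * (X2 * (X1⁻¹ * 1))) = 1) (hr5 : X0 * (X1 * (X0 * (X1 * (X2⁻¹ * 1)))) = 1) : g27 X0 X1 X2 * X1 = g44 X0 X1 X2 :=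
  deduce (path_cons (inv_edge (E_27_2 X0 X1 X2 hr0 hr1 hr2 hr3 hr4 hr5)) (path_nil (g27 X0 X1 X2))) (path_cons (E_44_2 X0 X1 X2 hr0 hr1 hr2 hr3 hr4 hr5) (path_cons (inv_edge (E_13_1 X0 X1 X2)) (path_nil (g13 X0 X1 X2)))) (rel_4_1 X0 X1 X2 hr0 hr1 hr2 hr3 hr4 hr5)
theorem E_29_1 (X0 X1 X2 : M) (hr0 : X0 * (X0 * (X0 * 1)) = 1) (hr1 : X1 * (X1 * (X1 * (X1 * (X1 * 1)))) = 1) (hr2 : X2 * (X2 * 1) = 1) (hr3 : X2⁻¹ * (X0 * (X2 * (X0⁻¹ * 1))) = 1) (hr4 : X2⁻¹ * (X1 * (X2 * (X1⁻¹ * 1))) = 1) (hr5 : X0 * (X1 * (X0 * (X1 * (X2⁻¹ * 1)))) = 1) : g29 X0 X1 X2 * X1 = g46 X0 X1 X2 :=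
  deduce (path_cons (inv_edge (E_29_2 X0 X1 X2 hr0 hr1 hr2 hr3 hr4 hr5)) (path_nil (g29 X0 X1 X2))) (path_cons (E_46_2 X0 X1 X2 hr0 hr1 hr2 hr3 hr4 hr5) (path_cons (inv_edge (E_15_1 X0 X1 X2)) (path_nil (g15 X0 X1 X2)))) (rel_4_1 X0 X1 X2 hr0 hr1 hr2 hr3 hr4 hr5)
theorem E_38_1 (X0 X1 X2 : M) (hr0 : X0 * (X0 * (X0 * 1)) = 1) (hr1 : X1 * (X1 * (X1 * (X1 * (X1 * 1)))) = 1) (hr2 : X2 * (X2 * 1) = 1) (hr3 : X2⁻¹ * (X0 * (X2 * (X0⁻¹ * 1))) = 1) (hr4 : X2⁻¹ * (X1 * (X2 * (X1⁻¹ * 1))) = 1) (hr5 : X0 * (X1 * (X0 * (X1 * (X2⁻¹ * 1)))) = 1) : g38 X0 X1 X2 * X1 = g55 X0 X1 X2 :=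
  deduce (path_cons (inv_edge (E_38_2 X0 X1 X2 hr0 hr1 hr2 hr3 hr4 hr5)) (path_nil (g38 X0 X1 X2))) (path_cons (E_55_2 X0 X1 X2 hr0 hr1 hr2 hr3 hr4 hr5) (path_cons (inv_edge (E_21_1 X0 X1 X2)) (path_nil (g21 X0 X1 X2)))) (rel_4_1 X0 X1 X2 hr0 hr1 hr2 hr3 hr4 hr5)
theorem E_40_1 (X0 X1 X2 : M) (hr0 : X0 * (X0 * (X0 * 1)) = 1) (hr1 : X1 * (X1 * (X1 * (X1 * (X1 * 1)))) = 1) (hr2 : X2 * (X2 * 1) = 1) (hr3 : X2⁻¹ * (X0 * (X2 * (X0⁻¹ * 1))) = 1) (hr4 : X2⁻¹ * (X1 * (X2 * (X1⁻¹ * 1))) = 1) (hr5 : X0 * (X1 * (X0 * (X1 * (X2⁻¹ * 1)))) = 1) : g40 X0 X1 X2 * X1 = g57 X0 X1 X2 :=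
  deduce (path_cons (inv_edge (E_40_2 X0 X1 X2 hr0 hr1 hr2 hr3 hr4 hr5)) (path_nil (g40 X0 X1 X2))) (path_cons (E_57_2 X0 X1 X2 hr0 hr1 hr2 hr3 hr4 hr5) (path_cons (inv_edge (E_23_1 X0 X1 X2)) (path_nil (g23 X0 X1 X2)))) (rel_4_1 X0 X1 X2 hr0 hr1 hr2 hr3 hr4 hr5)
theorem E_46_1 (X0 X1 X2 : M) (hr0 : X0 * (X0 * (X0 * 1)) = 1) (hr1 : X1 * (X1 * (X1 * (X1 * (X1 * 1)))) = 1) (hr2 : X2 * (X2 * 1) = 1) (hr3 : X2⁻¹ * (X0 * (X2 * (X0⁻¹ * 1))) = 1) (hr4 : X2⁻¹ * (X1 * (X2 * (X1⁻¹ * 1))) = 1) (hr5 : X0 * (X1 * (X0 * (X1 * (X2⁻¹ * 1)))) = 1) : g46 X0 X1 X2 * X1 = g63 X0 X1 X2 :=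
  deduce (path_cons (inv_edge (E_46_2 X0 X1 X2 hr0 hr1 hr2 hr3 hr4 hr5)) (path_nil (g46 X0 X1 X2))) (path_cons (E_63_2 X0 X1 X2 hr0 hr1 hr2 hr3 hr4 hr5) (path_cons (inv_edge (E_28_1 X0 X1 X2)) (path_nil (g28 X0 X1 X2)))) (rel_4_1 X0 X1 X2 hr0 hr1 hr2 hr3 hr4 hr5)
theorem E_48_1 (X0 X1 X2 : M) (hr0 : X0 * (X0 * (X0 * 1)) = 1) (hr1 : X1 * (X1 * (X1 * (X1 * (X1 * 1)))) = 1) (hr2 : X2 * (X2 * 1) = 1) (hr3 : X2⁻¹ * (X0 * (X2 * (X0⁻¹ * 1))) = 1) (hr4 : X2⁻¹ * (X1 * (X2 * (X1⁻¹ * 1))) = 1) (hr5 : X0 * (X1 * (X0 * (X1 * (X2⁻¹ * 1)))) = 1) : g48 X0 X1 X2 * X1 = g65 X0 X1 X2 :=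
  deduce (path_cons (inv_edge (E_48_2 X0 X1 X2 hr0 hr1 hr2 hr3 hr4 hr5)) (path_nil (g48 X0 X1 X2))) (path_cons (E_65_2 X0 X1 X2 hr0 hr1 hr2 hr3 hr4 hr5) (path_cons (inv_edge (E_30_1 X0 X1 X2)) (path_nil (g30 X0 X1 X2)))) (rel_4_1 X0 X1 X2 hr0 hr1 hr2 hr3 hr4 hr5)
theorem E_51_1 (X0 X1 X2 : M) (hr0 : X0 * (X0 * (X0 * 1)) = 1) (hr1 : X1 * (X1 * (X1 * (X1 * (X1 * 1)))) = 1) (hr2 : X2 * (X2 * 1) = 1) (hr3 : X2⁻¹ * (X0 * (X2 * (X0⁻¹ * 1))) = 1) (hr4 : X2⁻¹ * (X1 * (X2 * (X1⁻¹ * 1))) = 1) (hr5 : X0 * (X1 * (X0 * (X1 * (X2⁻¹ * 1)))) = 1) : g51 X0 X1 X2 * X1 = g67 X0 X1 X2 :=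
  deduce (path_cons (inv_edge (E_51_2 X0 X1 X2 hr0 hr1 hr2 hr3 hr4 hr5)) (path_nil (g51 X0 X1 X2))) (path_cons (E_67_2 X0 X1 X2 hr0 hr1 hr2 hr3 hr4 hr5) (path_cons (inv_edge (E_34_1 X0 X1 X2)) (path_nil (g34 X0 X1 X2)))) (rel_4_1 X0 X1 X2 hr0 hr1 hr2 hr3 hr4 hr5)
theorem E_57_1 (X0 X1 X2 : M) (hr0 : X0 * (X0 * (X0 * 1)) = 1) (hr1 : X1 * (X1 * (X1 * (X1 * (X1 * 1)))) = 1) (hr2 : X2 * (X2 * 1) = 1) (hr3 : X2⁻¹ * (X0 * (X2 * (X0⁻¹ * 1))) = 1) (hr4 : X2⁻¹ * (X1 * (X2 * (X1⁻¹ * 1))) = 1) (hr5 : X0 * (X1 * (X0 * (X1 * (X2⁻¹ * 1)))) = 1) : g57 X0 X1 X2 * X1 = g73 X0 X1 X2 :=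
  deduce (path_cons (inv_edge (E_57_2 X0 X1 X2 hr0 hr1 hr2 hr3 hr4 hr5)) (path_nil (g57 X0 X1 X2))) (path_cons (E_73_2 X0 X1 X2 hr0 hr1 hr2 hr3 hr4 hr5) (path_cons (inv_edge (E_39_1 X0 X1 X2)) (path_nil (g39 X0 X1 X2)))) (rel_4_1 X0 X1 X2 hr0 hr1 hr2 hr3 hr4 hr5)
theorem E_59_1 (X0 X1 X2 : M) (hr0 : X0 * (X0 * (X0 * 1)) = 1) (hr1 : X1 * (X1 * (X1 * (X1 * (X1 * 1)))) = 1) (hr2 : X2 * (X2 * 1) = 1) (hr3 : X2⁻¹ * (X0 * (X2 * (X0⁻¹ * 1))) = 1) (hr4 : X2⁻¹ * (X1 * (X2 * (X1⁻¹ * 1))) = 1) (hr5 : X0 * (X1 * (X0 * (X1 * (X2⁻¹ * 1)))) = 1) : g59 X0 X1 X2 * X1 = g75 X0 X1 X2 :=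
  deduce (path_cons (inv_edge (E_59_2 X0 X1 X2 hr0 hr1 hr2 hr3 hr4 hr5)) (path_nil (g59 X0 X1 X2))) (path_cons (E_75_2 X0 X1 X2 hr0 hr1 hr2 hr3 hr4 hr5) (path_cons (inv_edge (E_41_1 X0 X1 X2)) (path_nil (g41 X0 X1 X2)))) (rel_4_1 X0 X1 X2 hr0 hr1 hr2 hr3 hr4 hr5)
theorem E_63_1 (X0 X1 X2 : M) (hr0 : X0 * (X0 * (X0 * 1)) = 1) (hr1 : X1 * (X1 * (X1 * (X1 * (X1 * 1)))) = 1) (hr2 : X2 * (X2 * 1) = 1) (hr3 : X2⁻¹ * (X0 * (X2 * (X0⁻¹ * 1))) = 1) (hr4 : X2⁻¹ * (X1 * (X2 * (X1⁻¹ * 1))) = 1) (hr5 : X0 * (X1 * (X0 * (X1 * (X2⁻¹ * 1)))) = 1) : g63 X0 X1 X2 * X1 = g79 X0 X1 X2 :=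
  deduce (path_cons (inv_edge (E_63_2 X0 X1 X2 hr0 hr1 hr2 hr3 hr4 hr5)) (path_nil (g63 X0 X1 X2))) (path_cons (E_79_2 X0 X1 X2 hr0 hr1 hr2 hr3 hr4 hr5) (path_cons (inv_edge (E_45_1 X0 X1 X2)) (path_nil (g45 X0 X1 X2)))) (rel_4_1 X0 X1 X2 hr0 hr1 hr2 hr3 hr4 hr5)
theorem E_65_1 (X0 X1 X2 : M) (hr0 : X0 * (X0 * (X0 * 1)) = 1) (hr1 : X1 * (X1 * (X1 * (X1 * (X1 * 1)))) = 1) (hr2 : X2 * (X2 * 1) = 1) (hr3 : X2⁻¹ * (X0 * (X2 * (X0⁻¹ * 1))) = 1) (hr4 : X2⁻¹ * (X1 * (X2 * (X1⁻¹ * 1))) = 1) (hr5 : X0 * (X1 * (X0 * (X1 * (X2⁻¹ * 1)))) = 1) : g65 X0 X1 X2 * X1 = g81 X0 X1 X2 :=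
  deduce (path_cons (inv_edge (E_65_2 X0 X1 X2 hr0 hr1 hr2 hr3 hr4 hr5)) (path_nil (g65 X0 X1 X2))) (path_cons (E_81_2 X0 X1 X2 hr0 hr1 hr2 hr3 hr4 hr5) (path_cons (inv_edge (E_47_1 X0 X1 X2)) (path_nil (g47 X0 X1 X2)))) (rel_4_1 X0 X1 X2 hr0 hr1 hr2 hr3 hr4 hr5)
theorem E_67_1 (X0 X1 X2 : M) (hr0 : X0 * (X0 * (X0 * 1)) = 1) (hr1 : X1 * (X1 * (X1 * (X1 * (X1 * 1)))) = 1) (hr2 : X2 * (X2 * 1) = 1) (hr3 : X2⁻¹ * (X0 * (X2 * (X0⁻¹ * 1))) = 1) (hr4 : X2⁻¹ * (X1 * (X2 * (X1⁻¹ * 1))) = 1) (hr5 : X0 * (X1 * (X0 * (X1 * (X2⁻¹ * 1)))) = 1) : g67 X0 X1 X2 * X1 = g84 X0 X1 X2 :=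
  deduce (path_cons (inv_edge (E_67_2 X0 X1 X2 hr0 hr1 hr2 hr3 hr4 hr5)) (path_nil (g67 X0 X1 X2))) (path_cons (E_84_2 X0 X1 X2 hr0 hr1 hr2 hr3 hr4 hr5) (path_cons (inv_edge (E_50_1 X0 X1 X2)) (path_nil (g50 X0 X1 X2)))) (rel_4_1 X0 X1 X2 hr0 hr1 hr2 hr3 hr4 hr5)
theorem E_69_1 (X0 X1 X2 : M) (hr0 : X0 * (X0 * (X0 * 1)) = 1) (hr1 : X1 * (X1 * (X1 * (X1 * (X1 * 1)))) = 1) (hr2 : X2 * (X2 * 1) = 1) (hr3 : X2⁻¹ * (X0 * (X2 * (X0⁻¹ * 1))) = 1) (hr4 : X2⁻¹ * (X1 * (X2 * (X1⁻¹ * 1))) = 1) (hr5 : X0 * (X1 * (X0 * (X1 * (X2⁻¹ * 1)))) = 1) : g69 X0 X1 X2 * X1 = g86 X0 X1 X2 :=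
  deduce (path_cons (inv_edge (E_69_2 X0 X1 X2 hr0 hr1 hr2 hr3 hr4 hr5)) (path_nil (g69 X0 X1 X2))) (path_cons (E_86_2 X0 X1 X2 hr0 hr1 hr2 hr3 hr4 hr5) (path_cons (inv_edge (E_52_1 X0 X1 X2)) (path_nil (g52 X0 X1 X2)))) (rel_4_1 X0 X1 X2 hr0 hr1 hr2 hr3 hr4 hr5)
theorem E_73_1 (X0 X1 X2 : M) (hr0 : X0 * (X0 * (X0 * 1)) = 1) (hr1 : X1 * (X1 * (X1 * (X1 * (X1 * 1)))) = 1) (hr2 : X2 * (X2 * 1) = 1) (hr3 : X2⁻¹ * (X0 * (X2 * (X0⁻¹ * 1))) = 1) (hr4 : X2⁻¹ * (X1 * (X2 * (X1⁻¹ * 1))) = 1) (hr5 : X0 * (X1 * (X0 * (X1 * (X2⁻¹ * 1)))) = 1) : g73 X0 X1 X2 * X1 = g90 X0 X1 X2 :=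
  deduce (path_cons (inv_edge (E_73_2 X0 X1 X2 hr0 hr1 hr2 hr3 hr4 hr5)) (path_nil (g73 X0 X1 X2))) (path_cons (E_90_2 X0 X1 X2 hr0 hr1 hr2 hr3 hr4 hr5) (path_cons (inv_edge (E_56_1 X0 X1 X2)) (path_nil (g56 X0 X1 X2)))) (rel_4_1 X0 X1 X2 hr0 hr1 hr2 hr3 hr4 hr5)
theorem E_75_1 (X0 X1 X2 : M) (hr0 : X0 * (X0 * (X0 * 1)) = 1) (hr1 : X1 * (X1 * (X1 * (X1 * (X1 * 1)))) = 1) (hr2 : X2 * (X2 * 1) = 1) (hr3 : X2⁻¹ * (X0 * (X2 * (X0⁻¹ * 1))) = 1) (hr4 : X2⁻¹ * (X1 * (X2 * (X1⁻¹ * 1))) = 1) (hr5 : X0 * (X1 * (X0 * (X1 * (X2⁻¹ * 1)))) = 1) : g75 X0 X1 X2 * X1 = g92 X0 X1 X2 :=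
  deduce (path_cons (inv_edge (E_75_2 X0 X1 X2 hr0 hr1 hr2 hr3 hr4 hr5)) (path_nil (g75 X0 X1 X2))) (path_cons (E_92_2 X0 X1 X2 hr0 hr1 hr2 hr3 hr4 hr5) (path_cons (inv_edge (E_58_1 X0 X1 X2)) (path_nil (g58 X0 X1 X2)))) (rel_4_1 X0 X1 X2 hr0 hr1 hr2 hr3 hr4 hr5)
theorem E_84_1 (X0 X1 X2 : M) (hr0 : X0 * (X0 * (X0 * 1)) = 1) (hr1 : X1 * (X1 * (X1 * (X1 * (X1 * 1)))) = 1) (hr2 : X2 * (X2 * 1) = 1) (hr3 : X2⁻¹ * (X0 * (X2 * (X0⁻¹ * 1))) = 1) (hr4 : X2⁻¹ * (X1 * (X2 * (X1⁻¹ * 1))) = 1) (hr5 : X0 * (X1 * (X0 * (X1 * (X2⁻¹ * 1)))) = 1) : g84 X0 X1 X2 * X1 = g101 X0 X1 X2 :=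
  deduce (path_cons (inv_edge (E_84_2 X0 X1 X2 hr0 hr1 hr2 hr3 hr4 hr5)) (path_nil (g84 X0 X1 X2))) (path_cons (E_101_2 X0 X1 X2 hr0 hr1 hr2 hr3 hr4 hr5) (path_cons (inv_edge (E_66_1 X0 X1 X2)) (path_nil (g66 X0 X1 X2)))) (rel_4_1 X0 X1 X2 hr0 hr1 hr2 hr3 hr4 hr5)
theorem E_86_1 (X0 X1 X2 : M) (hr0 : X0 * (X0 * (X0 * 1)) = 1) (hr1 : X1 * (X1 * (X1 * (X1 * (X1 * 1)))) = 1) (hr2 : X2 * (X2 * 1) = 1) (hr3 : X2⁻¹ * (X0 * (X2 * (X0⁻¹ * 1))) = 1) (hr4 : X2⁻¹ * (X1 * (X2 * (X1⁻¹ * 1))) = 1) (hr5 : X0 * (X1 * (X0 * (X1 * (X2⁻¹ * 1)))) = 1) : g86 X0 X1 X2 * X1 = g103 X0 X1 X2 :=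
  deduce (path_cons (inv_edge (E_86_2 X0 X1 X2 hr0 hr1 hr2 hr3 hr4 hr5)) (path_nil (g86 X0 X1 X2))) (path_cons (E_103_2 X0 X1 X2 hr0 hr1 hr2 hr3 hr4 hr5) (path_cons (inv_edge (E_68_1 X0 X1 X2)) (path_nil (g68 X0 X1 X2)))) (rel_4_1 X0 X1 X2 hr0 hr1 hr2 hr3 hr4 hr5)
theorem E_94_1 (X0 X1 X2 : M) (hr0 : X0 * (X0 * (X0 * 1)) = 1) (hr1 : X1 * (X1 * (X1 * (X1 * (X1 * 1)))) = 1) (hr2 : X2 * (X2 * 1) = 1) (hr3 : X2⁻¹ * (X0 * (X2 * (X0⁻¹ * 1))) = 1) (hr4 : X2⁻¹ * (X1 * (X2 * (X1⁻¹ * 1))) = 1) (hr5 : X0 * (X1 * (X0 * (X1 * (X2⁻¹ * 1)))) = 1) : g94 X0 X1 X2 * X1 = g110 X0 X1 X2 :=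
  deduce (path_cons (inv_edge (E_94_2 X0 X1 X2 hr0 hr1 hr2 hr3 hr4 hr5)) (path_nil (g94 X0 X1 X2))) (path_cons (E_110_2 X0 X1 X2 hr0 hr1 hr2 hr3 hr4 hr5) (path_cons (inv_edge (E_76_1 X0 X1 X2)) (path_nil (g76 X0 X1 X2)))) (rel_4_1 X0 X1 X2 hr0 hr1 hr2 hr3 hr4 hr5)
theorem E_110_1 (X0 X1 X2 : M) (hr0 : X0 * (X0 * (X0 * 1)) = 1) (hr1 : X1 * (X1 * (X1 * (X1 * (X1 * 1)))) = 1) (hr2 : X2 * (X2 * 1) = 1) (hr3 : X2⁻¹ * (X0 * (X2 * (X0⁻¹ * 1))) = 1) (hr4 : X2⁻¹ * (X1 * (X2 * (X1⁻¹ * 1))) = 1) (hr5 : X0 * (X1 * (X0 * (X1 * (X2⁻¹ * 1)))) = 1) : g110 X0 X1 X2 * X1 = g119 X0 X1 X2 :=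
  deduce (path_cons (inv_edge (E_110_2 X0 X1 X2 hr0 hr1 hr2 hr3 hr4 hr5)) (path_nil (g110 X0 X1 X2))) (path_cons (E_119_2 X0 X1 X2 hr0 hr1 hr2 hr3 hr4 hr5) (path_cons (inv_edge (E_93_1 X0 X1 X2)) (path_nil (g93 X0 X1 X2)))) (rel_4_1 X0 X1 X2 hr0 hr1 hr2 hr3 hr4 hr5)
theorem E_12_1 (X0 X1 X2 : M) (hr0 : X0 * (X0 * (X0 * 1)) = 1) (hr1 : X1 * (X1 * (X1 * (X1 * (X1 * 1)))) = 1) (hr2 : X2 * (X2 * 1) = 1) (hr3 : X2⁻¹ * (X0 * (X2 * (X0⁻¹ * 1))) = 1) (hr4 : X2⁻¹ * (X1 * (X2 * (X1⁻¹ * 1))) = 1) (hr5 : X0 * (X1 * (X0 * (X1 * (X2⁻¹ * 1)))) = 1) : g12 X0 X1 X2 * X1 = g3 X0 X1 X2 :=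
  deduce (path_cons (E_0_0 X0 X1 X2) (path_cons (E_1_1 X0 X1 X2) (path_cons (E_5_0 X0 X1 X2) (path_nil (g12 X0 X1 X2))))) (path_cons (inv_edge (E_0_2 X0 X1 X2)) (path_nil (g0 X0 X1 X2))) (rel_5_3 X0 X1 X2 hr0 hr1 hr2 hr3 hr4 hr5)
theorem E_20_1 (X0 X1 X2 : M) (hr0 : X0 * (X0 * (X0 * 1)) = 1) (hr1 : X1 * (X1 * (X1 * (X1 * (X1 * 1)))) = 1) (hr2 : X2 * (X2 * 1) = 1) (hr3 : X2⁻¹ * (X0 * (X2 * (X0⁻¹ * 1))) = 1) (hr4 : X2⁻¹ * (X1 * (X2 * (X1⁻¹ * 1))) = 1) (hr5 : X0 * (X1 * (X0 * (X1 * (X2⁻¹ * 1)))) = 1) : g20 X0 X1 X2 * X1 = g6 X0 X1 X2 :=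
  deduce (path_cons (E_1_0 X0 X1 X2) (path_cons (E_4_1 X0 X1 X2) (path_cons (E_10_0 X0 X1 X2) (path_nil (g20 X0 X1 X2))))) (path_cons (inv_edge (E_1_2 X0 X1 X2)) (path_nil (g1 X0 X1 X2))) (rel_5_3 X0 X1 X2 hr0 hr1 hr2 hr3 hr4 hr5)
theorem E_7_1 (X0 X1 X2 : M) (hr0 : X0 * (X0 * (X0 * 1)) = 1) (hr1 : X1 * (X1 * (X1 * (X1 * (X1 * 1)))) = 1) (hr2 : X2 * (X2 * 1) = 1) (hr3 : X2⁻¹ * (X0 * (X2 * (X0⁻¹ * 1))) = 1) (hr4 : X2⁻¹ * (X1 * (X2 * (X1⁻¹ * 1))) = 1) (hr5 : X0 * (X1 * (X0 * (X1 * (X2⁻¹ * 1)))) = 1) : g7 X0 X1 X2 * X1 = g11 X0 X1 X2 :=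
  deduce (path_cons (E_2_0 X0 X1 X2) (path_nil (g7 X0 X1 X2))) (path_cons (E_11_0 X0 X1 X2 hr0 hr1 hr2 hr3 hr4 hr5) (path_cons (E_3_1 X0 X1 X2 hr0 hr1 hr2 hr3 hr4 hr5) (path_cons (inv_edge (E_2_2 X0 X1 X2)) (path_nil (g2 X0 X1 X2))))) (rel_5_1 X0 X1 X2 hr0 hr1 hr2 hr3 hr4 hr5)
theorem E_24_1 (X0 X1 X2 : M) (hr0 : X0 * (X0 * (X0 * 1)) = 1) (hr1 : X1 * (X1 * (X1 * (X1 * (X1 * 1)))) = 1) (hr2 : X2 * (X2 * 1) = 1) (hr3 : X2⁻¹ * (X0 * (X2 * (X0⁻¹ * 1))) = 1) (hr4 : X2⁻¹ * (X1 * (X2 * (X1⁻¹ * 1))) = 1) (hr5 : X0 * (X1 * (X0 * (X1 * (X2⁻¹ * 1)))) = 1) : g24 X0 X1 X2 * X1 = g0 X0 X1 X2 :=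
  deduce (path_cons (E_3_0 X0 X1 X2 hr0 hr1 hr2 hr3 hr4 hr5) (path_cons (E_6_1 X0 X1 X2 hr0 hr1 hr2 hr3 hr4 hr5) (path_cons (E_14_0 X0 X1 X2 hr0 hr1 hr2 hr3 hr4 hr5) (path_nil (g24 X0 X1 X2))))) (path_cons (inv_edge (E_3_2 X0 X1 X2 hr0 hr1 hr2 hr3 hr4 hr5)) (path_nil (g3 X0 X1 X2))) (rel_5_3 X0 X1 X2 hr0 hr1 hr2 hr3 hr4 hr5)
theorem E_35_1 (X0 X1 X2 : M) (hr0 : X0 * (X0 * (X0 * 1)) = 1) (hr1 : X1 * (X1 * (X1 * (X1 * (X1 * 1)))) = 1) (hr2 : X2 * (X2 * 1) = 1) (hr3 : X2⁻¹ * (X0 * (X2 * (X0⁻¹ * 1))) = 1) (hr4 : X2⁻¹ * (X1 * (X2 * (X1⁻¹ * 1))) = 1) (hr5 : X0 * (X1 * (X0 * (X1 * (X2⁻¹ * 1)))) = 1) : g35 X0 X1 X2 * X1 = g1 X0 X1 X2 :=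
  deduce (path_cons (E_6_0 X0 X1 X2 hr0 hr1 hr2 hr3 hr4 hr5) (path_cons (E_11_1 X0 X1 X2 hr0 hr1 hr2 hr3 hr4 hr5) (path_cons (E_22_0 X0 X1 X2 hr0 hr1 hr2 hr3 hr4 hr5) (path_nil (g35 X0 X1 X2))))) (path_cons (inv_edge (E_6_2 X0 X1 X2 hr0 hr1 hr2 hr3 hr4 hr5)) (path_nil (g6 X0 X1 X2))) (rel_5_3 X0 X1 X2 hr0 hr1 hr2 hr3 hr4 hr5)
theorem E_17_1 (X0 X1 X2 : M) (hr0 : X0 * (X0 * (X0 * 1)) = 1) (hr1 : X1 * (X1 * (X1 * (X1 * (X1 * 1)))) = 1) (hr2 : X2 * (X2 * 1) = 1) (hr3 : X2⁻¹ * (X0 * (X2 * (X0⁻¹ * 1))) = 1) (hr4 : X2⁻¹ * (X1 * (X2 * (X1⁻¹ * 1))) = 1) (hr5 : X0 * (X1 * (X0 * (X1 * (X2⁻¹ * 1)))) = 1) : g17 X0 X1 X2 * X1 = g29 X0 X1 X2 :=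
  deduce (path_cons (E_8_0 X0 X1 X2) (path_nil (g17 X0 X1 X2))) (path_cons (E_29_0 X0 X1 X2 hr0 hr1 hr2 hr3 hr4 hr5) (path_cons (E_9_1 X0 X1 X2 hr0 hr1 hr2 hr3 hr4 hr5) (path_cons (inv_edge (E_8_2 X0 X1 X2)) (path_nil (g8 X0 X1 X2))))) (rel_5_1 X0 X1 X2 hr0 hr1 hr2 hr3 hr4 hr5)
theorem E_16_1 (X0 X1 X2 : M) (hr0 : X0 * (X0 * (X0 * 1)) = 1) (hr1 : X1 * (X1 * (X1 * (X1 * (X1 * 1)))) = 1) (hr2 : X2 * (X2 * 1) = 1) (hr3 : X2⁻¹ * (X0 * (X2 * (X0⁻¹ * 1))) = 1) (hr4 : X2⁻¹ * (X1 * (X2 * (X1⁻¹ * 1))) = 1) (hr5 : X0 * (X1 * (X0 * (X1 * (X2⁻¹ * 1)))) = 1) : g16 X0 X1 X2 * X1 = g4 X0 X1 X2 :=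
  deduce (path_cons (E_9_0 X0 X1 X2 hr0 hr1 hr2 hr3 hr4 hr5) (path_nil (g16 X0 X1 X2))) (path_cons (E_4_0 X0 X1 X2 hr0 hr1 hr2 hr3 hr4 hr5) (path_cons (E_0_1 X0 X1 X2) (path_cons (inv_edge (E_9_2 X0 X1 X2 hr0 hr1 hr2 hr3 hr4 hr5)) (path_nil (g9 X0 X1 X2))))) (rel_5_1 X0 X1 X2 hr0 hr1 hr2 hr3 hr4 hr5)
theorem E_25_1 (X0 X1 X2 : M) (hr0 : X0 * (X0 * (X0 * 1)) = 1) (hr1 : X1 * (X1 * (X1 * (X1 * (X1 * 1)))) = 1) (hr2 : X2 * (X2 * 1) = 1) (hr3 : X2⁻¹ * (X0 * (X2 * (X0⁻¹ * 1))) = 1) (hr4 : X2⁻¹ * (X1 * (X2 * (X1⁻¹ * 1))) = 1) (hr5 : X0 * (X1 * (X0 * (X1 * (X2⁻¹ * 1)))) = 1) : g25 X0 X1 X2 * X1 = g40 X0 X1 X2 :=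
  deduce (path_cons (E_13_0 X0 X1 X2) (path_nil (g25 X0 X1 X2))) (path_cons (E_40_0 X0 X1 X2 hr0 hr1 hr2 hr3 hr4 hr5) (path_cons (E_14_1 X0 X1 X2 hr0 hr1 hr2 hr3 hr4 hr5) (path_cons (inv_edge (E_13_2 X0 X1 X2)) (path_nil (g13 X0 X1 X2))))) (rel_5_1 X0 X1 X2 hr0 hr1 hr2 hr3 hr4 hr5)
theorem E_32_1 (X0 X1 X2 : M) (hr0 : X0 * (X0 * (X0 * 1)) = 1) (hr1 : X1 * (X1 * (X1 * (X1 * (X1 * 1)))) = 1) (hr2 : X2 * (X2 * 1) = 1) (hr3 : X2⁻¹ * (X0 * (X2 * (X0⁻¹ * 1))) = 1) (hr4 : X2⁻¹ * (X1 * (X2 * (X1⁻¹ * 1))) = 1) (hr5 : X0 * (X1 * (X0 * (X1 * (X2⁻¹ * 1)))) = 1) : g32 X0 X1 X2 * X1 = g48 X0 X1 X2 :=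
  deduce (path_cons (E_18_0 X0 X1 X2) (path_nil (g32 X0 X1 X2))) (path_cons (E_48_0 X0 X1 X2 hr0 hr1 hr2 hr3 hr4 hr5) (path_cons (E_19_1 X0 X1 X2 hr0 hr1 hr2 hr3 hr4 hr5) (path_cons (inv_edge (E_18_2 X0 X1 X2)) (path_nil (g18 X0 X1 X2))))) (rel_5_1 X0 X1 X2 hr0 hr1 hr2 hr3 hr4 hr5)
theorem E_31_1 (X0 X1 X2 : M) (hr0 : X0 * (X0 * (X0 * 1)) = 1) (hr1 : X1 * (X1 * (X1 * (X1 * (X1 * 1)))) = 1) (hr2 : X2 * (X2 * 1) = 1) (hr3 : X2⁻¹ * (X0 * (X2 * (X0⁻¹ * 1))) = 1) (hr4 : X2⁻¹ * (X1 * (X2 * (X1⁻¹ * 1))) = 1) (hr5 : X0 * (X1 * (X0 * (X1 * (X2⁻¹ * 1)))) = 1) : g31 X0 X1 X2 * X1 = g15 X0 X1 X2 :=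
  deduce (path_cons (E_19_0 X0 X1 X2 hr0 hr1 hr2 hr3 hr4 hr5) (path_nil (g31 X0 X1 X2))) (path_cons (E_15_0 X0 X1 X2 hr0 hr1 hr2 hr3 hr4 hr5) (path_cons (E_2_1 X0 X1 X2) (path_cons (inv_edge (E_19_2 X0 X1 X2 hr0 hr1 hr2 hr3 hr4 hr5)) (path_nil (g19 X0 X1 X2))))) (rel_5_1 X0 X1 X2 hr0 hr1 hr2 hr3 hr4 hr5)
theorem E_36_1 (X0 X1 X2 : M) (hr0 : X0 * (X0 * (X0 * 1)) = 1) (hr1 : X1 * (X1 * (X1 * (X1 * (X1 * 1)))) = 1) (hr2 : X2 * (X2 * 1) = 1) (hr3 : X2⁻¹ * (X0 * (X2 * (X0⁻¹ * 1))) = 1) (hr4 : X2⁻¹ * (X1 * (X2 * (X1⁻¹ * 1))) = 1) (hr5 : X0 * (X1 * (X0 * (X1 * (X2⁻¹ * 1)))) = 1) : g36 X0 X1 X2 * X1 = g51 X0 X1 X2 :=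
  deduce (path_cons (E_21_0 X0 X1 X2) (path_nil (g36 X0 X1 X2))) (path_cons (E_51_0 X0 X1 X2 hr0 hr1 hr2 hr3 hr4 hr5) (path_cons (E_22_1 X0 X1 X2 hr0 hr1 hr2 hr3 hr4 hr5) (path_cons (inv_edge (E_21_2 X0 X1 X2)) (path_nil (g21 X0 X1 X2))))) (rel_5_1 X0 X1 X2 hr0 hr1 hr2 hr3 hr4 hr5)
theorem E_43_1 (X0 X1 X2 : M) (hr0 : X0 * (X0 * (X0 * 1)) = 1) (hr1 : X1 * (X1 * (X1 * (X1 * (X1 * 1)))) = 1) (hr2 : X2 * (X2 * 1) = 1) (hr3 : X2⁻¹ * (X0 * (X2 * (X0⁻¹ * 1))) = 1) (hr4 : X2⁻¹ * (X1 * (X2 * (X1⁻¹ * 1))) = 1) (hr5 : X0 * (X1 * (X0 * (X1 * (X2⁻¹ * 1)))) = 1) : g43 X0 X1 X2 * X1 = g59 X0 X1 X2 :=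
  deduce (path_cons (E_26_0 X0 X1 X2) (path_nil (g43 X0 X1 X2))) (path_cons (E_59_0 X0 X1 X2 hr0 hr1 hr2 hr3 hr4 hr5) (path_cons (E_27_1 X0 X1 X2 hr0 hr1 hr2 hr3 hr4 hr5) (path_cons (inv_edge (E_26_2 X0 X1 X2)) (path_nil (g26 X0 X1 X2))))) (rel_5_1 X0 X1 X2 hr0 hr1 hr2 hr3 hr4 hr5)
theorem E_42_1 (X0 X1 X2 : M) (hr0 : X0 * (X0 * (X0 * 1)) = 1) (hr1 : X1 * (X1 * (X1 * (X1 * (X1 * 1)))) = 1) (hr2 : X2 * (X2 * 1) = 1) (hr3 : X2⁻¹ * (X0 * (X2 * (X0⁻¹ * 1))) = 1) (hr4 : X2⁻¹ * (X1 * (X2 * (X1⁻¹ * 1))) = 1) (hr5 : X0 * (X1 * (X0 * (X1 * (X2⁻¹ * 1)))) = 1) : g42 X0 X1 X2 * X1 = g23 X0 X1 X2 :=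
  deduce (path_cons (E_27_0 X0 X1 X2 hr0 hr1 hr2 hr3 hr4 hr5) (path_nil (g42 X0 X1 X2))) (path_cons (E_23_0 X0 X1 X2 hr0 hr1 hr2 hr3 hr4 hr5) (path_cons (E_5_1 X0 X1 X2) (path_cons (inv_edge (E_27_2 X0 X1 X2 hr0 hr1 hr2 hr3 hr4 hr5)) (path_nil (g27 X0 X1 X2))))) (rel_5_1 X0 X1 X2 hr0 hr1 hr2 hr3 hr4 hr5)
theorem E_49_1 (X0 X1 X2 : M) (hr0 : X0 * (X0 * (X0 * 1)) = 1) (hr1 : X1 * (X1 * (X1 * (X1 * (X1 * 1)))) = 1) (hr2 : X2 * (X2 * 1) = 1) (hr3 : X2⁻¹ * (X0 * (X2 * (X0⁻¹ * 1))) = 1) (hr4 : X2⁻¹ * (X1 * (X2 * (X1⁻¹ * 1))) = 1) (hr5 : X0 * (X1 * (X0 * (X1 * (X2⁻¹ * 1)))) = 1) : g49 X0 X1 X2 * X1 = g30 X0 X1 X2 :=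
  deduce (path_cons (E_33_0 X0 X1 X2 hr0 hr1 hr2 hr3 hr4 hr5) (path_nil (g49 X0 X1 X2))) (path_cons (E_30_0 X0 X1 X2 hr0 hr1 hr2 hr3 hr4 hr5) (path_cons (E_8_1 X0 X1 X2) (path_cons (inv_edge (E_33_2 X0 X1 X2 hr0 hr1 hr2 hr3 hr4 hr5)) (path_nil (g33 X0 X1 X2))))) (rel_5_1 X0 X1 X2 hr0 hr1 hr2 hr3 hr4 hr5)
theorem E_54_1 (X0 X1 X2 : M) (hr0 : X0 * (X0 * (X0 * 1)) = 1) (hr1 : X1 * (X1 * (X1 * (X1 * (X1 * 1)))) = 1) (hr2 : X2 * (X2 * 1) = 1) (hr3 : X2⁻¹ * (X0 * (X2 * (X0⁻¹ * 1))) = 1) (hr4 : X2⁻¹ * (X1 * (X2 * (X1⁻¹ * 1))) = 1) (hr5 : X0 * (X1 * (X0 * (X1 * (X2⁻¹ * 1)))) = 1) : g54 X0 X1 X2 * X1 = g69 X0 X1 X2 :=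
  deduce (path_cons (E_37_0 X0 X1 X2) (path_nil (g54 X0 X1 X2))) (path_cons (E_69_0 X0 X1 X2 hr0 hr1 hr2 hr3 hr4 hr5) (path_cons (E_38_1 X0 X1 X2 hr0 hr1 hr2 hr3 hr4 hr5) (path_cons (inv_edge (E_37_2 X0 X1 X2)) (path_nil (g37 X0 X1 X2))))) (rel_5_1 X0 X1 X2 hr0 hr1 hr2 hr3 hr4 hr5)
theorem E_53_1 (X0 X1 X2 : M) (hr0 : X0 * (X0 * (X0 * 1)) = 1) (hr1 : X1 * (X1 * (X1 * (X1 * (X1 * 1)))) = 1) (hr2 : X2 * (X2 * 1) = 1) (hr3 : X2⁻¹ * (X0 * (X2 * (X0⁻¹ * 1))) = 1) (hr4 : X2⁻¹ * (X1 * (X2 * (X1⁻¹ * 1))) = 1) (hr5 : X0 * (X1 * (X0 * (X1 * (X2⁻¹ * 1)))) = 1) : g53 X0 X1 X2 * X1 = g34 X0 X1 X2 :=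
  deduce (path_cons (E_38_0 X0 X1 X2 hr0 hr1 hr2 hr3 hr4 hr5) (path_nil (g53 X0 X1 X2))) (path_cons (E_34_0 X0 X1 X2 hr0 hr1 hr2 hr3 hr4 hr5) (path_cons (E_10_1 X0 X1 X2) (path_cons (inv_edge (E_38_2 X0 X1 X2 hr0 hr1 hr2 hr3 hr4 hr5)) (path_nil (g38 X0 X1 X2))))) (rel_5_1 X0 X1 X2 hr0 hr1 hr2 hr3 hr4 hr5)
theorem E_60_1 (X0 X1 X2 : M) (hr0 : X0 * (X0 * (X0 * 1)) = 1) (hr1 : X1 * (X1 * (X1 * (X1 * (X1 * 1)))) = 1) (hr2 : X2 * (X2 * 1) = 1) (hr3 : X2⁻¹ * (X0 * (X2 * (X0⁻¹ * 1))) = 1) (hr4 : X2⁻¹ * (X1 * (X2 * (X1⁻¹ * 1))) = 1) (hr5 : X0 * (X1 * (X0 * (X1 * (X2⁻¹ * 1)))) = 1) : g60 X0 X1 X2 * X1 = g41 X0 X1 X2 :=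
  deduce (path_cons (E_44_0 X0 X1 X2 hr0 hr1 hr2 hr3 hr4 hr5) (path_nil (g60 X0 X1 X2))) (path_cons (E_41_0 X0 X1 X2 hr0 hr1 hr2 hr3 hr4 hr5) (path_cons (E_13_1 X0 X1 X2) (path_cons (inv_edge (E_44_2 X0 X1 X2 hr0 hr1 hr2 hr3 hr4 hr5)) (path_nil (g44 X0 X1 X2))))) (rel_5_1 X0 X1 X2 hr0 hr1 hr2 hr3 hr4 hr5)
theorem E_70_1 (X0 X1 X2 : M) (hr0 : X0 * (X0 * (X0 * 1)) = 1) (hr1 : X1 * (X1 * (X1 * (X1 * (X1 * 1)))) = 1) (hr2 : X2 * (X2 * 1) = 1) (hr3 : X2⁻¹ * (X0 * (X2 * (X0⁻¹ * 1))) = 1) (hr4 : X2⁻¹ * (X1 * (X2 * (X1⁻¹ * 1))) = 1) (hr5 : X0 * (X1 * (X0 * (X1 * (X2⁻¹ * 1)))) = 1) : g70 X0 X1 X2 * X1 = g52 X0 X1 X2 :=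
  deduce (path_cons (E_55_0 X0 X1 X2 hr0 hr1 hr2 hr3 hr4 hr5) (path_nil (g70 X0 X1 X2))) (path_cons (E_52_0 X0 X1 X2 hr0 hr1 hr2 hr3 hr4 hr5) (path_cons (E_21_1 X0 X1 X2) (path_cons (inv_edge (E_55_2 X0 X1 X2 hr0 hr1 hr2 hr3 hr4 hr5)) (path_nil (g55 X0 X1 X2))))) (rel_5_1 X0 X1 X2 hr0 hr1 hr2 hr3 hr4 hr5)
theorem E_78_1 (X0 X1 X2 : M) (hr0 : X0 * (X0 * (X0 * 1)) = 1) (hr1 : X1 * (X1 * (X1 * (X1 * (X1 * 1)))) = 1) (hr2 : X2 * (X2 * 1) = 1) (hr3 : X2⁻¹ * (X0 * (X2 * (X0⁻¹ * 1))) = 1) (hr4 : X2⁻¹ * (X1 * (X2 * (X1⁻¹ * 1))) = 1) (hr5 : X0 * (X1 * (X0 * (X1 * (X2⁻¹ * 1)))) = 1) : g78 X0 X1 X2 * X1 = g94 X0 X1 X2 :=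
  deduce (path_cons (E_62_0 X0 X1 X2) (path_nil (g78 X0 X1 X2))) (path_cons (E_94_0 X0 X1 X2 hr0 hr1 hr2 hr3 hr4 hr5) (path_cons (E_63_1 X0 X1 X2 hr0 hr1 hr2 hr3 hr4 hr5) (path_cons (inv_edge (E_62_2 X0 X1 X2)) (path_nil (g62 X0 X1 X2))))) (rel_5_1 X0 X1 X2 hr0 hr1 hr2 hr3 hr4 hr5)
theorem E_89_1 (X0 X1 X2 : M) (hr0 : X0 * (X0 * (X0 * 1)) = 1) (hr1 : X1 * (X1 * (X1 * (X1 * (X1 * 1)))) = 1) (hr2 : X2 * (X2 * 1) = 1) (hr3 : X2⁻¹ * (X0 * (X2 * (X0⁻¹ * 1))) = 1) (hr4 : X2⁻¹ * (X1 * (X2 * (X1⁻¹ * 1))) = 1) (hr5 : X0 * (X1 * (X0 * (X1 * (X2⁻¹ * 1)))) = 1) : g89 X0 X1 X2 * X1 = g105 X0 X1 X2 :=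
  deduce (path_cons (E_72_0 X0 X1 X2) (path_nil (g89 X0 X1 X2))) (path_cons (E_105_0 X0 X1 X2 hr0 hr1 hr2 hr3 hr4 hr5) (path_cons (E_73_1 X0 X1 X2 hr0 hr1 hr2 hr3 hr4 hr5) (path_cons (inv_edge (E_72_2 X0 X1 X2)) (path_nil (g72 X0 X1 X2))))) (rel_5_1 X0 X1 X2 hr0 hr1 hr2 hr3 hr4 hr5)
theorem E_95_1 (X0 X1 X2 : M) (hr0 : X0 * (X0 * (X0 * 1)) = 1) (hr1 : X1 * (X1 * (X1 * (X1 * (X1 * 1)))) = 1) (hr2 : X2 * (X2 * 1) = 1) (hr3 : X2⁻¹ * (X0 * (X2 * (X0⁻¹ * 1))) = 1) (hr4 : X2⁻¹ * (X1 * (X2 * (X1⁻¹ * 1))) = 1) (hr5 : X0 * (X1 * (X0 * (X1 * (X2⁻¹ * 1)))) = 1) : g95 X0 X1 X2 * X1 = g76 X0 X1 X2 :=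
  deduce (path_cons (E_79_0 X0 X1 X2 hr0 hr1 hr2 hr3 hr4 hr5) (path_nil (g95 X0 X1 X2))) (path_cons (E_76_0 X0 X1 X2 hr0 hr1 hr2 hr3 hr4 hr5) (path_cons (E_45_1 X0 X1 X2) (path_cons (inv_edge (E_79_2 X0 X1 X2 hr0 hr1 hr2 hr3 hr4 hr5)) (path_nil (g79 X0 X1 X2))))) (rel_5_1 X0 X1 X2 hr0 hr1 hr2 hr3 hr4 hr5)
theorem E_100_1 (X0 X1 X2 : M) (hr0 : X0 * (X0 * (X0 * 1)) = 1) (hr1 : X1 * (X1 * (X1 * (X1 * (X1 * 1)))) = 1) (hr2 : X2 * (X2 * 1) = 1) (hr3 : X2⁻¹ * (X0 * (X2 * (X0⁻¹ * 1))) = 1) (hr4 : X2⁻¹ * (X1 * (X2 * (X1⁻¹ * 1))) = 1) (hr5 : X0 * (X1 * (X0 * (X1 * (X2⁻¹ * 1)))) = 1) : g100 X0 X1 X2 * X1 = g113 X0 X1 X2 :=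
  deduce (path_cons (E_83_0 X0 X1 X2) (path_nil (g100 X0 X1 X2))) (path_cons (E_113_0 X0 X1 X2 hr0 hr1 hr2 hr3 hr4 hr5) (path_cons (E_84_1 X0 X1 X2 hr0 hr1 hr2 hr3 hr4 hr5) (path_cons (inv_edge (E_83_2 X0 X1 X2)) (path_nil (g83 X0 X1 X2))))) (rel_5_1 X0 X1 X2 hr0 hr1 hr2 hr3 hr4 hr5)
theorem E_106_1 (X0 X1 X2 : M) (hr0 : X0 * (X0 * (X0 * 1)) = 1) (hr1 : X1 * (X1 * (X1 * (X1 * (X1 * 1)))) = 1) (hr2 : X2 * (X2 * 1) = 1) (hr3 : X2⁻¹ * (X0 * (X2 * (X0⁻¹ * 1))) = 1) (hr4 : X2⁻¹ * (X1 * (X2 * (X1⁻¹ * 1))) = 1) (hr5 : X0 * (X1 * (X0 * (X1 * (X2⁻¹ * 1)))) = 1) : g106 X0 X1 X2 * X1 = g87 X0 X1 X2 :=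
  deduce (path_cons (E_90_0 X0 X1 X2 hr0 hr1 hr2 hr3 hr4 hr5) (path_nil (g106 X0 X1 X2))) (path_cons (E_87_0 X0 X1 X2 hr0 hr1 hr2 hr3 hr4 hr5) (path_cons (E_56_1 X0 X1 X2) (path_cons (inv_edge (E_90_2 X0 X1 X2 hr0 hr1 hr2 hr3 hr4 hr5)) (path_nil (g90 X0 X1 X2))))) (rel_5_1 X0 X1 X2 hr0 hr1 hr2 hr3 hr4 hr5)
theorem E_114_1 (X0 X1 X2 : M) (hr0 : X0 * (X0 * (X0 * 1)) = 1) (hr1 : X1 * (X1 * (X1 * (X1 * (X1 * 1)))) = 1) (hr2 : X2 * (X2 * 1) = 1) (hr3 : X2⁻¹ * (X0 * (X2 * (X0⁻¹ * 1))) = 1) (hr4 : X2⁻¹ * (X1 * (X2 * (X1⁻¹ * 1))) = 1) (hr5 : X0 * (X1 * (X0 * (X1 * (X2⁻¹ * 1)))) = 1) : g114 X0 X1 X2 * X1 = g98 X0 X1 X2 :=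
  deduce (path_cons (E_101_0 X0 X1 X2 hr0 hr1 hr2 hr3 hr4 hr5) (path_nil (g114 X0 X1 X2))) (path_cons (E_98_0 X0 X1 X2 hr0 hr1 hr2 hr3 hr4 hr5) (path_cons (E_66_1 X0 X1 X2) (path_cons (inv_edge (E_101_2 X0 X1 X2 hr0 hr1 hr2 hr3 hr4 hr5)) (path_nil (g101 X0 X1 X2))))) (rel_5_1 X0 X1 X2 hr0 hr1 hr2 hr3 hr4 hr5)
theorem E_18_1 (X0 X1 X2 : M) (hr0 : X0 * (X0 * (X0 * 1)) = 1) (hr1 : X1 * (X1 * (X1 * (X1 * (X1 * 1)))) = 1) (hr2 : X2 * (X2 * 1) = 1) (hr3 : X2⁻¹ * (X0 * (X2 * (X0⁻¹ * 1))) = 1) (hr4 : X2⁻¹ * (X1 * (X2 * (X1⁻¹ * 1))) = 1) (hr5 : X0 * (X1 * (X0 * (X1 * (X2⁻¹ * 1)))) = 1) : g18 X0 X1 X2 * X1 = g24 X0 X1 X2 :=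
  deduce (path_cons (E_0_1 X0 X1 X2) (path_cons (E_2_1 X0 X1 X2) (path_cons (E_8_1 X0 X1 X2) (path_nil (g18 X0 X1 X2))))) (path_cons (E_24_1 X0 X1 X2 hr0 hr1 hr2 hr3 hr4 hr5) (path_nil (g0 X0 X1 X2))) (rel_1_3 X0 X1 X2 hr0 hr1 hr2 hr3 hr4 hr5)
theorem E_26_1 (X0 X1 X2 : M) (hr0 : X0 * (X0 * (X0 * 1)) = 1) (hr1 : X1 * (X1 * (X1 * (X1 * (X1 * 1)))) = 1) (hr2 : X2 * (X2 * 1) = 1) (hr3 : X2⁻¹ * (X0 * (X2 * (X0⁻¹ * 1))) = 1) (hr4 : X2⁻¹ * (X1 * (X2 * (X1⁻¹ * 1))) = 1) (hr5 : X0 * (X1 * (X0 * (X1 * (X2⁻¹ * 1)))) = 1) : g26 X0 X1 X2 * X1 = g35 X0 X1 X2 :=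
  deduce (path_cons (E_1_1 X0 X1 X2) (path_cons (E_5_1 X0 X1 X2) (path_cons (E_13_1 X0 X1 X2) (path_nil (g26 X0 X1 X2))))) (path_cons (E_35_1 X0 X1 X2 hr0 hr1 hr2 hr3 hr4 hr5) (path_nil (g1 X0 X1 X2))) (rel_1_3 X0 X1 X2 hr0 hr1 hr2 hr3 hr4 hr5)
theorem E_33_1 (X0 X1 X2 : M) (hr0 : X0 * (X0 * (X0 * 1)) = 1) (hr1 : X1 * (X1 * (X1 * (X1 * (X1 * 1)))) = 1) (hr2 : X2 * (X2 * 1) = 1) (hr3 : X2⁻¹ * (X0 * (X2 * (X0⁻¹ * 1))) = 1) (hr4 : X2⁻¹ * (X1 * (X2 * (X1⁻¹ * 1))) = 1) (hr5 : X0 * (X1 * (X0 * (X1 * (X2⁻¹ * 1)))) = 1) : g33 X0 X1 X2 * X1 = g12 X0 X1 X2 :=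
  deduce (path_cons (E_3_1 X0 X1 X2 hr0 hr1 hr2 hr3 hr4 hr5) (path_cons (E_9_1 X0 X1 X2 hr0 hr1 hr2 hr3 hr4 hr5) (path_cons (E_19_1 X0 X1 X2 hr0 hr1 hr2 hr3 hr4 hr5) (path_nil (g33 X0 X1 X2))))) (path_cons (E_12_1 X0 X1 X2 hr0 hr1 hr2 hr3 hr4 hr5) (path_nil (g3 X0 X1 X2))) (rel_1_3 X0 X1 X2 hr0 hr1 hr2 hr3 hr4 hr5)
theorem E_37_1 (X0 X1 X2 : M) (hr0 : X0 * (X0 * (X0 * 1)) = 1) (hr1 : X1 * (X1 * (X1 * (X1 * (X1 * 1)))) = 1) (hr2 : X2 * (X2 * 1) = 1) (hr3 : X2⁻¹ * (X0 * (X2 * (X0⁻¹ * 1))) = 1) (hr4 : X2⁻¹ * (X1 * (X2 * (X1⁻¹ * 1))) = 1) (hr5 : X0 * (X1 * (X0 * (X1 * (X2⁻¹ * 1)))) = 1) : g37 X0 X1 X2 * X1 = g16 X0 X1 X2 :=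
  deduce (path_cons (E_4_1 X0 X1 X2) (path_cons (E_10_1 X0 X1 X2) (path_cons (E_21_1 X0 X1 X2) (path_nil (g37 X0 X1 X2))))) (path_cons (E_16_1 X0 X1 X2 hr0 hr1 hr2 hr3 hr4 hr5) (path_nil (g4 X0 X1 X2))) (rel_1_3 X0 X1 X2 hr0 hr1 hr2 hr3 hr4 hr5)
theorem E_44_1 (X0 X1 X2 : M) (hr0 : X0 * (X0 * (X0 * 1)) = 1) (hr1 : X1 * (X1 * (X1 * (X1 * (X1 * 1)))) = 1) (hr2 : X2 * (X2 * 1) = 1) (hr3 : X2⁻¹ * (X0 * (X2 * (X0⁻¹ * 1))) = 1) (hr4 : X2⁻¹ * (X1 * (X2 * (X1⁻¹ * 1))) = 1) (hr5 : X0 * (X1 * (X0 * (X1 * (X2⁻¹ * 1)))) = 1) : g44 X0 X1 X2 * X1 = g20 X0 X1 X2 :=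
  deduce (path_cons (E_6_1 X0 X1 X2 hr0 hr1 hr2 hr3 hr4 hr5) (path_cons (E_14_1 X0 X1 X2 hr0 hr1 hr2 hr3 hr4 hr5) (path_cons (E_27_1 X0 X1 X2 hr0 hr1 hr2 hr3 hr4 hr5) (path_nil (g44 X0 X1 X2))))) (path_cons (E_20_1 X0 X1 X2 hr0 hr1 hr2 hr3 hr4 hr5) (path_nil (g6 X0 X1 X2))) (rel_1_3 X0 X1 X2 hr0 hr1 hr2 hr3 hr4 hr5)
theorem E_55_1 (X0 X1 X2 : M) (hr0 : X0 * (X0 * (X0 * 1)) = 1) (hr1 : X1 * (X1 * (X1 * (X1 * (X1 * 1)))) = 1) (hr2 : X2 * (X2 * 1) = 1) (hr3 : X2⁻¹ * (X0 * (X2 * (X0⁻¹ * 1))) = 1) (hr4 : X2⁻¹ * (X1 * (X2 * (X1⁻¹ * 1))) = 1) (hr5 : X0 * (X1 * (X0 * (X1 * (X2⁻¹ * 1)))) = 1) : g55 X0 X1 X2 * X1 = g7 X0 X1 X2 :=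
  deduce (path_cons (E_7_1 X0 X1 X2 hr0 hr1 hr2 hr3 hr4 hr5) (path_cons (E_11_1 X0 X1 X2 hr0 hr1 hr2 hr3 hr4 hr5) (path_cons (E_22_1 X0 X1 X2 hr0 hr1 hr2 hr3 hr4 hr5) (path_cons (E_38_1 X0 X1 X2 hr0 hr1 hr2 hr3 hr4 hr5) (path_nil (g55 X0 X1 X2)))))) (path_nil (g7 X0 X1 X2)) (rel_1_4 X0 X1 X2 hr0 hr1 hr2 hr3 hr4 hr5)
theorem E_62_1 (X0 X1 X2 : M) (hr0 : X0 * (X0 * (X0 * 1)) = 1) (hr1 : X1 * (X1 * (X1 * (X1 * (X1 * 1)))) = 1) (hr2 : X2 * (X2 * 1) = 1) (hr3 : X2⁻¹ * (X0 * (X2 * (X0⁻¹ * 1))) = 1) (hr4 : X2⁻¹ * (X1 * (X2 * (X1⁻¹ * 1))) = 1) (hr5 : X0 * (X1 * (X0 * (X1 * (X2⁻¹ * 1)))) = 1) : g62 X0 X1 X2 * X1 = g31 X0 X1 X2 :=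
  deduce (path_cons (E_15_1 X0 X1 X2) (path_cons (E_28_1 X0 X1 X2) (path_cons (E_45_1 X0 X1 X2) (path_nil (g62 X0 X1 X2))))) (path_cons (E_31_1 X0 X1 X2 hr0 hr1 hr2 hr3 hr4 hr5) (path_nil (g15 X0 X1 X2))) (rel_1_3 X0 X1 X2 hr0 hr1 hr2 hr3 hr4 hr5)
theorem E_79_1 (X0 X1 X2 : M) (hr0 : X0 * (X0 * (X0 * 1)) = 1) (hr1 : X1 * (X1 * (X1 * (X1 * (X1 * 1)))) = 1) (hr2 : X2 * (X2 * 1) = 1) (hr3 : X2⁻¹ * (X0 * (X2 * (X0⁻¹ * 1))) = 1) (hr4 : X2⁻¹ * (X1 * (X2 * (X1⁻¹ * 1))) = 1) (hr5 : X0 * (X1 * (X0 * (X1 * (X2⁻¹ * 1)))) = 1) : g79 X0 X1 X2 * X1 = g17 X0 X1 X2 :=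
  deduce (path_cons (E_17_1 X0 X1 X2 hr0 hr1 hr2 hr3 hr4 hr5) (path_cons (E_29_1 X0 X1 X2 hr0 hr1 hr2 hr3 hr4 hr5) (path_cons (E_46_1 X0 X1 X2 hr0 hr1 hr2 hr3 hr4 hr5) (path_cons (E_63_1 X0 X1 X2 hr0 hr1 hr2 hr3 hr4 hr5) (path_nil (g79 X0 X1 X2)))))) (path_nil (g17 X0 X1 X2)) (rel_1_4 X0 X1 X2 hr0 hr1 hr2 hr3 hr4 hr5)
theorem E_72_1 (X0 X1 X2 : M) (hr0 : X0 * (X0 * (X0 * 1)) = 1) (hr1 : X1 * (X1 * (X1 * (X1 * (X1 * 1)))) = 1) (hr2 : X2 * (X2 * 1) = 1) (hr3 : X2⁻¹ * (X0 * (X2 * (X0⁻¹ * 1))) = 1) (hr4 : X2⁻¹ * (X1 * (X2 * (X1⁻¹ * 1))) = 1) (hr5 : X0 * (X1 * (X0 * (X1 * (X2⁻¹ * 1)))) = 1) : g72 X0 X1 X2 * X1 = g42 X0 X1 X2 :=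
  deduce (path_cons (E_23_1 X0 X1 X2) (path_cons (E_39_1 X0 X1 X2) (path_cons (E_56_1 X0 X1 X2) (path_nil (g72 X0 X1 X2))))) (path_cons (E_42_1 X0 X1 X2 hr0 hr1 hr2 hr3 hr4 hr5) (path_nil (g23 X0 X1 X2))) (rel_1_3 X0 X1 X2 hr0 hr1 hr2 hr3 hr4 hr5)
theorem E_90_1 (X0 X1 X2 : M) (hr0 : X0 * (X0 * (X0 * 1)) = 1) (hr1 : X1 * (X1 * (X1 * (X1 * (X1 * 1)))) = 1) (hr2 : X2 * (X2 * 1) = 1) (hr3 : X2⁻¹ * (X0 * (X2 * (X0⁻¹ * 1))) = 1) (hr4 : X2⁻¹ * (X1 * (X2 * (X1⁻¹ * 1))) = 1) (hr5 : X0 * (X1 * (X0 * (X1 * (X2⁻¹ * 1)))) = 1) : g90 X0 X1 X2 * X1 = g25 X0 X1 X2 :=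
  deduce (path_cons (E_25_1 X0 X1 X2 hr0 hr1 hr2 hr3 hr4 hr5) (path_cons (E_40_1 X0 X1 X2 hr0 hr1 hr2 hr3 hr4 hr5) (path_cons (E_57_1 X0 X1 X2 hr0 hr1 hr2 hr3 hr4 hr5) (path_cons (E_73_1 X0 X1 X2 hr0 hr1 hr2 hr3 hr4 hr5) (path_nil (g90 X0 X1 X2)))))) (path_nil (g25 X0 X1 X2)) (rel_1_4 X0 X1 X2 hr0 hr1 hr2 hr3 hr4 hr5)
theorem E_83_1 (X0 X1 X2 : M) (hr0 : X0 * (X0 * (X0 * 1)) = 1) (hr1 : X1 * (X1 * (X1 * (X1 * (X1 * 1)))) = 1) (hr2 : X2 * (X2 * 1) = 1) (hr3 : X2⁻¹ * (X0 * (X2 * (X0⁻¹ * 1))) = 1) (hr4 : X2⁻¹ * (X1 * (X2 * (X1⁻¹ * 1))) = 1) (hr5 : X0 * (X1 * (X0 * (X1 * (X2⁻¹ * 1)))) = 1) : g83 X0 X1 X2 * X1 = g53 X0 X1 X2 :=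
  deduce (path_cons (E_34_1 X0 X1 X2) (path_cons (E_50_1 X0 X1 X2) (path_cons (E_66_1 X0 X1 X2) (path_nil (g83 X0 X1 X2))))) (path_cons (E_53_1 X0 X1 X2 hr0 hr1 hr2 hr3 hr4 hr5) (path_nil (g34 X0 X1 X2))) (rel_1_3 X0 X1 X2 hr0 hr1 hr2 hr3 hr4 hr5)
theorem E_101_1 (X0 X1 X2 : M) (hr0 : X0 * (X0 * (X0 * 1)) = 1) (hr1 : X1 * (X1 * (X1 * (X1 * (X1 * 1)))) = 1) (hr2 : X2 * (X2 * 1) = 1) (hr3 : X2⁻¹ * (X0 * (X2 * (X0⁻¹ * 1))) = 1) (hr4 : X2⁻¹ * (X1 * (X2 * (X1⁻¹ * 1))) = 1) (hr5 : X0 * (X1 * (X0 * (X1 * (X2⁻¹ * 1)))) = 1) : g101 X0 X1 X2 * X1 = g36 X0 X1 X2 :=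
  deduce (path_cons (E_36_1 X0 X1 X2 hr0 hr1 hr2 hr3 hr4 hr5) (path_cons (E_51_1 X0 X1 X2 hr0 hr1 hr2 hr3 hr4 hr5) (path_cons (E_67_1 X0 X1 X2 hr0 hr1 hr2 hr3 hr4 hr5) (path_cons (E_84_1 X0 X1 X2 hr0 hr1 hr2 hr3 hr4 hr5) (path_nil (g101 X0 X1 X2)))))) (path_nil (g36 X0 X1 X2)) (rel_1_4 X0 X1 X2 hr0 hr1 hr2 hr3 hr4 hr5)
theorem E_28_0 (X0 X1 X2 : M) (hr0 : X0 * (X0 * (X0 * 1)) = 1) (hr1 : X1 * (X1 * (X1 * (X1 * (X1 * 1)))) = 1) (hr2 : X2 * (X2 * 1) = 1) (hr3 : X2⁻¹ * (X0 * (X2 * (X0⁻¹ * 1))) = 1) (hr4 : X2⁻¹ * (X1 * (X2 * (X1⁻¹ * 1))) = 1) (hr5 : X0 * (X1 * (X0 * (X1 * (X2⁻¹ * 1)))) = 1) : g28 X0 X1 X2 * X0 = g37 X0 X1 X2 :=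
  deduce (path_cons (E_7_0 X0 X1 X2) (path_cons (E_15_1 X0 X1 X2) (path_nil (g28 X0 X1 X2)))) (path_cons (E_37_1 X0 X1 X2 hr0 hr1 hr2 hr3 hr4 hr5) (path_cons (inv_edge (E_7_2 X0 X1 X2)) (path_nil (g7 X0 X1 X2)))) (rel_5_2 X0 X1 X2 hr0 hr1 hr2 hr3 hr4 hr5)
theorem E_39_0 (X0 X1 X2 : M) (hr0 : X0 * (X0 * (X0 * 1)) = 1) (hr1 : X1 * (X1 * (X1 * (X1 * (X1 * 1)))) = 1) (hr2 : X2 * (X2 * 1) = 1) (hr3 : X2⁻¹ * (X0 * (X2 * (X0⁻¹ * 1))) = 1) (hr4 : X2⁻¹ * (X1 * (X2 * (X1⁻¹ * 1))) = 1) (hr5 : X0 * (X1 * (X0 * (X1 * (X2⁻¹ * 1)))) = 1) : g39 X0 X1 X2 * X0 = g18 X0 X1 X2 :=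
  deduce (path_cons (E_12_0 X0 X1 X2) (path_cons (E_23_1 X0 X1 X2) (path_nil (g39 X0 X1 X2)))) (path_cons (E_18_1 X0 X1 X2 hr0 hr1 hr2 hr3 hr4 hr5) (path_cons (inv_edge (E_12_2 X0 X1 X2)) (path_nil (g12 X0 X1 X2)))) (rel_5_2 X0 X1 X2 hr0 hr1 hr2 hr3 hr4 hr5)
theorem E_46_0 (X0 X1 X2 : M) (hr0 : X0 * (X0 * (X0 * 1)) = 1) (hr1 : X1 * (X1 * (X1 * (X1 * (X1 * 1)))) = 1) (hr2 : X2 * (X2 * 1) = 1) (hr3 : X2⁻¹ * (X0 * (X2 * (X0⁻¹ * 1))) = 1) (hr4 : X2⁻¹ * (X1 * (X2 * (X1⁻¹ * 1))) = 1) (hr5 : X0 * (X1 * (X0 * (X1 * (X2⁻¹ * 1)))) = 1) : g46 X0 X1 X2 * X0 = g55 X0 X1 X2 :=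
  deduce (path_cons (E_16_0 X0 X1 X2 hr0 hr1 hr2 hr3 hr4 hr5) (path_cons (E_29_1 X0 X1 X2 hr0 hr1 hr2 hr3 hr4 hr5) (path_nil (g46 X0 X1 X2)))) (path_cons (E_55_1 X0 X1 X2 hr0 hr1 hr2 hr3 hr4 hr5) (path_cons (inv_edge (E_16_2 X0 X1 X2 hr0 hr1 hr2 hr3 hr4 hr5)) (path_nil (g16 X0 X1 X2)))) (rel_5_2 X0 X1 X2 hr0 hr1 hr2 hr3 hr4 hr5)
theorem E_47_0 (X0 X1 X2 : M) (hr0 : X0 * (X0 * (X0 * 1)) = 1) (hr1 : X1 * (X1 * (X1 * (X1 * (X1 * 1)))) = 1) (hr2 : X2 * (X2 * 1) = 1) (hr3 : X2⁻¹ * (X0 * (X2 * (X0⁻¹ * 1))) = 1) (hr4 : X2⁻¹ * (X1 * (X2 * (X1⁻¹ * 1))) = 1) (hr5 : X0 * (X1 * (X0 * (X1 * (X2⁻¹ * 1)))) = 1) : g47 X0 X1 X2 * X0 = g62 X0 X1 X2 :=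
  deduce (path_cons (E_17_0 X0 X1 X2) (path_cons (E_30_1 X0 X1 X2) (path_nil (g47 X0 X1 X2)))) (path_cons (E_62_1 X0 X1 X2 hr0 hr1 hr2 hr3 hr4 hr5) (path_cons (inv_edge (E_17_2 X0 X1 X2)) (path_nil (g17 X0 X1 X2)))) (rel_5_2 X0 X1 X2 hr0 hr1 hr2 hr3 hr4 hr5)
theorem E_50_0 (X0 X1 X2 : M) (hr0 : X0 * (X0 * (X0 * 1)) = 1) (hr1 : X1 * (X1 * (X1 * (X1 * (X1 * 1)))) = 1) (hr2 : X2 * (X2 * 1) = 1) (hr3 : X2⁻¹ * (X0 * (X2 * (X0⁻¹ * 1))) = 1) (hr4 : X2⁻¹ * (X1 * (X2 * (X1⁻¹ * 1))) = 1) (hr5 : X0 * (X1 * (X0 * (X1 * (X2⁻¹ * 1)))) = 1) : g50 X0 X1 X2 * X0 = g26 X0 X1 X2 :=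
  deduce (path_cons (E_20_0 X0 X1 X2) (path_cons (E_34_1 X0 X1 X2) (path_nil (g50 X0 X1 X2)))) (path_cons (E_26_1 X0 X1 X2 hr0 hr1 hr2 hr3 hr4 hr5) (path_cons (inv_edge (E_20_2 X0 X1 X2)) (path_nil (g20 X0 X1 X2)))) (rel_5_2 X0 X1 X2 hr0 hr1 hr2 hr3 hr4 hr5)
theorem E_57_0 (X0 X1 X2 : M) (hr0 : X0 * (X0 * (X0 * 1)) = 1) (hr1 : X1 * (X1 * (X1 * (X1 * (X1 * 1)))) = 1) (hr2 : X2 * (X2 * 1) = 1) (hr3 : X2⁻¹ * (X0 * (X2 * (X0⁻¹ * 1))) = 1) (hr4 : X2⁻¹ * (X1 * (X2 * (X1⁻¹ * 1))) = 1) (hr5 : X0 * (X1 * (X0 * (X1 * (X2⁻¹ * 1)))) = 1) : g57 X0 X1 X2 * X0 = g33 X0 X1 X2 :=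
  deduce (path_cons (E_24_0 X0 X1 X2 hr0 hr1 hr2 hr3 hr4 hr5) (path_cons (E_40_1 X0 X1 X2 hr0 hr1 hr2 hr3 hr4 hr5) (path_nil (g57 X0 X1 X2)))) (path_cons (E_33_1 X0 X1 X2 hr0 hr1 hr2 hr3 hr4 hr5) (path_cons (inv_edge (E_24_2 X0 X1 X2 hr0 hr1 hr2 hr3 hr4 hr5)) (path_nil (g24 X0 X1 X2)))) (rel_5_2 X0 X1 X2 hr0 hr1 hr2 hr3 hr4 hr5)
theorem E_58_0 (X0 X1 X2 : M) (hr0 : X0 * (X0 * (X0 * 1)) = 1) (hr1 : X1 * (X1 * (X1 * (X1 * (X1 * 1)))) = 1) (hr2 : X2 * (X2 * 1) = 1) (hr3 : X2⁻¹ * (X0 * (X2 * (X0⁻¹ * 1))) = 1) (hr4 : X2⁻¹ * (X1 * (X2 * (X1⁻¹ * 1))) = 1) (hr5 : X0 * (X1 * (X0 * (X1 * (X2⁻¹ * 1)))) = 1) : g58 X0 X1 X2 * X0 = g72 X0 X1 X2 :=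
  deduce (path_cons (E_25_0 X0 X1 X2) (path_cons (E_41_1 X0 X1 X2) (path_nil (g58 X0 X1 X2)))) (path_cons (E_72_1 X0 X1 X2 hr0 hr1 hr2 hr3 hr4 hr5) (path_cons (inv_edge (E_25_2 X0 X1 X2)) (path_nil (g25 X0 X1 X2)))) (rel_5_2 X0 X1 X2 hr0 hr1 hr2 hr3 hr4 hr5)
theorem E_65_0 (X0 X1 X2 : M) (hr0 : X0 * (X0 * (X0 * 1)) = 1) (hr1 : X1 * (X1 * (X1 * (X1 * (X1 * 1)))) = 1) (hr2 : X2 * (X2 * 1) = 1) (hr3 : X2⁻¹ * (X0 * (X2 * (X0⁻¹ * 1))) = 1) (hr4 : X2⁻¹ * (X1 * (X2 * (X1⁻¹ * 1))) = 1) (hr5 : X0 * (X1 * (X0 * (X1 * (X2⁻¹ * 1)))) = 1) : g65 X0 X1 X2 * X0 = g79 X0 X1 X2 :=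
  deduce (path_cons (E_31_0 X0 X1 X2 hr0 hr1 hr2 hr3 hr4 hr5) (path_cons (E_48_1 X0 X1 X2 hr0 hr1 hr2 hr3 hr4 hr5) (path_nil (g65 X0 X1 X2)))) (path_cons (E_79_1 X0 X1 X2 hr0 hr1 hr2 hr3 hr4 hr5) (path_cons (inv_edge (E_31_2 X0 X1 X2 hr0 hr1 hr2 hr3 hr4 hr5)) (path_nil (g31 X0 X1 X2)))) (rel_5_2 X0 X1 X2 hr0 hr1 hr2 hr3 hr4 hr5)
theorem E_67_0 (X0 X1 X2 : M) (hr0 : X0 * (X0 * (X0 * 1)) = 1) (hr1 : X1 * (X1 * (X1 * (X1 * (X1 * 1)))) = 1) (hr2 : X2 * (X2 * 1) = 1) (hr3 : X2⁻¹ * (X0 * (X2 * (X0⁻¹ * 1))) = 1) (hr4 : X2⁻¹ * (X1 * (X2 * (X1⁻¹ * 1))) = 1) (hr5 : X0 * (X1 * (X0 * (X1 * (X2⁻¹ * 1)))) = 1) : g67 X0 X1 X2 * X0 = g44 X0 X1 X2 :=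
  deduce (path_cons (E_35_0 X0 X1 X2 hr0 hr1 hr2 hr3 hr4 hr5) (path_cons (E_51_1 X0 X1 X2 hr0 hr1 hr2 hr3 hr4 hr5) (path_nil (g67 X0 X1 X2)))) (path_cons (E_44_1 X0 X1 X2 hr0 hr1 hr2 hr3 hr4 hr5) (path_cons (inv_edge (E_35_2 X0 X1 X2 hr0 hr1 hr2 hr3 hr4 hr5)) (path_nil (g35 X0 X1 X2)))) (rel_5_2 X0 X1 X2 hr0 hr1 hr2 hr3 hr4 hr5)
theorem E_68_0 (X0 X1 X2 : M) (hr0 : X0 * (X0 * (X0 * 1)) = 1) (hr1 : X1 * (X1 * (X1 * (X1 * (X1 * 1)))) = 1) (hr2 : X2 * (X2 * 1) = 1) (hr3 : X2⁻¹ * (X0 * (X2 * (X0⁻¹ * 1))) = 1) (hr4 : X2⁻¹ * (X1 * (X2 * (X1⁻¹ * 1))) = 1) (hr5 : X0 * (X1 * (X0 * (X1 * (X2⁻¹ * 1)))) = 1) : g68 X0 X1 X2 * X0 = g83 X0 X1 X2 :=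
  deduce (path_cons (E_36_0 X0 X1 X2) (path_cons (E_52_1 X0 X1 X2) (path_nil (g68 X0 X1 X2)))) (path_cons (E_83_1 X0 X1 X2 hr0 hr1 hr2 hr3 hr4 hr5) (path_cons (inv_edge (E_36_2 X0 X1 X2)) (path_nil (g36 X0 X1 X2)))) (rel_5_2 X0 X1 X2 hr0 hr1 hr2 hr3 hr4 hr5)
theorem E_75_0 (X0 X1 X2 : M) (hr0 : X0 * (X0 * (X0 * 1)) = 1) (hr1 : X1 * (X1 * (X1 * (X1 * (X1 * 1)))) = 1) (hr2 : X2 * (X2 * 1) = 1) (hr3 : X2⁻¹ * (X0 * (X2 * (X0⁻¹ * 1))) = 1) (hr4 : X2⁻¹ * (X1 * (X2 * (X1⁻¹ * 1))) = 1) (hr5 : X0 * (X1 * (X0 * (X1 * (X2⁻¹ * 1)))) = 1) : g75 X0 X1 X2 * X0 = g90 X0 X1 X2 :=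
  deduce (path_cons (E_42_0 X0 X1 X2 hr0 hr1 hr2 hr3 hr4 hr5) (path_cons (E_59_1 X0 X1 X2 hr0 hr1 hr2 hr3 hr4 hr5) (path_nil (g75 X0 X1 X2)))) (path_cons (E_90_1 X0 X1 X2 hr0 hr1 hr2 hr3 hr4 hr5) (path_cons (inv_edge (E_42_2 X0 X1 X2 hr0 hr1 hr2 hr3 hr4 hr5)) (path_nil (g42 X0 X1 X2)))) (rel_5_2 X0 X1 X2 hr0 hr1 hr2 hr3 hr4 hr5)
theorem E_86_0 (X0 X1 X2 : M) (hr0 : X0 * (X0 * (X0 * 1)) = 1) (hr1 : X1 * (X1 * (X1 * (X1 * (X1 * 1)))) = 1) (hr2 : X2 * (X2 * 1) = 1) (hr3 : X2⁻¹ * (X0 * (X2 * (X0⁻¹ * 1))) = 1) (hr4 : X2⁻¹ * (X1 * (X2 * (X1⁻¹ * 1))) = 1) (hr5 : X0 * (X1 * (X0 * (X1 * (X2⁻¹ * 1)))) = 1) : g86 X0 X1 X2 * X0 = g101 X0 X1 X2 :=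
  deduce (path_cons (E_53_0 X0 X1 X2 hr0 hr1 hr2 hr3 hr4 hr5) (path_cons (E_69_1 X0 X1 X2 hr0 hr1 hr2 hr3 hr4 hr5) (path_nil (g86 X0 X1 X2)))) (path_cons (E_101_1 X0 X1 X2 hr0 hr1 hr2 hr3 hr4 hr5) (path_cons (inv_edge (E_53_2 X0 X1 X2 hr0 hr1 hr2 hr3 hr4 hr5)) (path_nil (g53 X0 X1 X2)))) (rel_5_2 X0 X1 X2 hr0 hr1 hr2 hr3 hr4 hr5)
theorem E_32_0 (X0 X1 X2 : M) (hr0 : X0 * (X0 * (X0 * 1)) = 1) (hr1 : X1 * (X1 * (X1 * (X1 * (X1 * 1)))) = 1) (hr2 : X2 * (X2 * 1) = 1) (hr3 : X2⁻¹ * (X0 * (X2 * (X0⁻¹ * 1))) = 1) (hr4 : X2⁻¹ * (X1 * (X2 * (X1⁻¹ * 1))) = 1) (hr5 : X0 * (X1 * (X0 * (X1 * (X2⁻¹ * 1)))) = 1) : g32 X0 X1 X2 * X0 = g39 X0 X1 X2 :=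
  deduce (path_cons (E_18_0 X0 X1 X2) (path_nil (g32 X0 X1 X2))) (path_cons (E_39_0 X0 X1 X2 hr0 hr1 hr2 hr3 hr4 hr5) (path_nil (g18 X0 X1 X2))) (rel_0_1 X0 X1 X2 hr0 hr1 hr2 hr3 hr4 hr5)
theorem E_43_0 (X0 X1 X2 : M) (hr0 : X0 * (X0 * (X0 * 1)) = 1) (hr1 : X1 * (X1 * (X1 * (X1 * (X1 * 1)))) = 1) (hr2 : X2 * (X2 * 1) = 1) (hr3 : X2⁻¹ * (X0 * (X2 * (X0⁻¹ * 1))) = 1) (hr4 : X2⁻¹ * (X1 * (X2 * (X1⁻¹ * 1))) = 1) (hr5 : X0 * (X1 * (X0 * (X1 * (X2⁻¹ * 1)))) = 1) : g43 X0 X1 X2 * X0 = g50 X0 X1 X2 :=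
  deduce (path_cons (E_26_0 X0 X1 X2) (path_nil (g43 X0 X1 X2))) (path_cons (E_50_0 X0 X1 X2 hr0 hr1 hr2 hr3 hr4 hr5) (path_nil (g26 X0 X1 X2))) (rel_0_1 X0 X1 X2 hr0 hr1 hr2 hr3 hr4 hr5)
theorem E_54_0 (X0 X1 X2 : M) (hr0 : X0 * (X0 * (X0 * 1)) = 1) (hr1 : X1 * (X1 * (X1 * (X1 * (X1 * 1)))) = 1) (hr2 : X2 * (X2 * 1) = 1) (hr3 : X2⁻¹ * (X0 * (X2 * (X0⁻¹ * 1))) = 1) (hr4 : X2⁻¹ * (X1 * (X2 * (X1⁻¹ * 1))) = 1) (hr5 : X0 * (X1 * (X0 * (X1 * (X2⁻¹ * 1)))) = 1) : g54 X0 X1 X2 * X0 = g28 X0 X1 X2 :=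
  deduce (path_cons (E_28_0 X0 X1 X2 hr0 hr1 hr2 hr3 hr4 hr5) (path_cons (E_37_0 X0 X1 X2) (path_nil (g54 X0 X1 X2)))) (path_nil (g28 X0 X1 X2)) (rel_0_2 X0 X1 X2 hr0 hr1 hr2 hr3 hr4 hr5)
theorem E_49_0 (X0 X1 X2 : M) (hr0 : X0 * (X0 * (X0 * 1)) = 1) (hr1 : X1 * (X1 * (X1 * (X1 * (X1 * 1)))) = 1) (hr2 : X2 * (X2 * 1) = 1) (hr3 : X2⁻¹ * (X0 * (X2 * (X0⁻¹ * 1))) = 1) (hr4 : X2⁻¹ * (X1 * (X2 * (X1⁻¹ * 1))) = 1) (hr5 : X0 * (X1 * (X0 * (X1 * (X2⁻¹ * 1)))) = 1) : g49 X0 X1 X2 * X0 = g57 X0 X1 X2 :=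
  deduce (path_cons (E_33_0 X0 X1 X2 hr0 hr1 hr2 hr3 hr4 hr5) (path_nil (g49 X0 X1 X2))) (path_cons (E_57_0 X0 X1 X2 hr0 hr1 hr2 hr3 hr4 hr5) (path_nil (g33 X0 X1 X2))) (rel_0_1 X0 X1 X2 hr0 hr1 hr2 hr3 hr4 hr5)
theorem E_60_0 (X0 X1 X2 : M) (hr0 : X0 * (X0 * (X0 * 1)) = 1) (hr1 : X1 * (X1 * (X1 * (X1 * (X1 * 1)))) = 1) (hr2 : X2 * (X2 * 1) = 1) (hr3 : X2⁻¹ * (X0 * (X2 * (X0⁻¹ * 1))) = 1) (hr4 : X2⁻¹ * (X1 * (X2 * (X1⁻¹ * 1))) = 1) (hr5 : X0 * (X1 * (X0 * (X1 * (X2⁻¹ * 1)))) = 1) : g60 X0 X1 X2 * X0 = g67 X0 X1 X2 :=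
  deduce (path_cons (E_44_0 X0 X1 X2 hr0 hr1 hr2 hr3 hr4 hr5) (path_nil (g60 X0 X1 X2))) (path_cons (E_67_0 X0 X1 X2 hr0 hr1 hr2 hr3 hr4 hr5) (path_nil (g44 X0 X1 X2))) (rel_0_1 X0 X1 X2 hr0 hr1 hr2 hr3 hr4 hr5)
theorem E_70_0 (X0 X1 X2 : M) (hr0 : X0 * (X0 * (X0 * 1)) = 1) (hr1 : X1 * (X1 * (X1 * (X1 * (X1 * 1)))) = 1) (hr2 : X2 * (X2 * 1) = 1) (hr3 : X2⁻¹ * (X0 * (X2 * (X0⁻¹ * 1))) = 1) (hr4 : X2⁻¹ * (X1 * (X2 * (X1⁻¹ * 1))) = 1) (hr5 : X0 * (X1 * (X0 * (X1 * (X2⁻¹ * 1)))) = 1) : g70 X0 X1 X2 * X0 = g46 X0 X1 X2 :=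
  deduce (path_cons (E_46_0 X0 X1 X2 hr0 hr1 hr2 hr3 hr4 hr5) (path_cons (E_55_0 X0 X1 X2 hr0 hr1 hr2 hr3 hr4 hr5) (path_nil (g70 X0 X1 X2)))) (path_nil (g46 X0 X1 X2)) (rel_0_2 X0 X1 X2 hr0 hr1 hr2 hr3 hr4 hr5)
theorem E_78_0 (X0 X1 X2 : M) (hr0 : X0 * (X0 * (X0 * 1)) = 1) (hr1 : X1 * (X1 * (X1 * (X1 * (X1 * 1)))) = 1) (hr2 : X2 * (X2 * 1) = 1) (hr3 : X2⁻¹ * (X0 * (X2 * (X0⁻¹ * 1))) = 1) (hr4 : X2⁻¹ * (X1 * (X2 * (X1⁻¹ * 1))) = 1) (hr5 : X0 * (X1 * (X0 * (X1 * (X2⁻¹ * 1)))) = 1) : g78 X0 X1 X2 * X0 = g47 X0 X1 X2 :=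
  deduce (path_cons (E_47_0 X0 X1 X2 hr0 hr1 hr2 hr3 hr4 hr5) (path_cons (E_62_0 X0 X1 X2) (path_nil (g78 X0 X1 X2)))) (path_nil (g47 X0 X1 X2)) (rel_0_2 X0 X1 X2 hr0 hr1 hr2 hr3 hr4 hr5)
theorem E_89_0 (X0 X1 X2 : M) (hr0 : X0 * (X0 * (X0 * 1)) = 1) (hr1 : X1 * (X1 * (X1 * (X1 * (X1 * 1)))) = 1) (hr2 : X2 * (X2 * 1) = 1) (hr3 : X2⁻¹ * (X0 * (X2 * (X0⁻¹ * 1))) = 1) (hr4 : X2⁻¹ * (X1 * (X2 * (X1⁻¹ * 1))) = 1) (hr5 : X0 * (X1 * (X0 * (X1 * (X2⁻¹ * 1)))) = 1) : g89 X0 X1 X2 * X0 = g58 X0 X1 X2 :=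
  deduce (path_cons (E_58_0 X0 X1 X2 hr0 hr1 hr2 hr3 hr4 hr5) (path_cons (E_72_0 X0 X1 X2) (path_nil (g89 X0 X1 X2)))) (path_nil (g58 X0 X1 X2)) (rel_0_2 X0 X1 X2 hr0 hr1 hr2 hr3 hr4 hr5)
theorem E_95_0 (X0 X1 X2 : M) (hr0 : X0 * (X0 * (X0 * 1)) = 1) (hr1 : X1 * (X1 * (X1 * (X1 * (X1 * 1)))) = 1) (hr2 : X2 * (X2 * 1) = 1) (hr3 : X2⁻¹ * (X0 * (X2 * (X0⁻¹ * 1))) = 1) (hr4 : X2⁻¹ * (X1 * (X2 * (X1⁻¹ * 1))) = 1) (hr5 : X0 * (X1 * (X0 * (X1 * (X2⁻¹ * 1)))) = 1) : g95 X0 X1 X2 * X0 = g65 X0 X1 X2 :=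
  deduce (path_cons (E_65_0 X0 X1 X2 hr0 hr1 hr2 hr3 hr4 hr5) (path_cons (E_79_0 X0 X1 X2 hr0 hr1 hr2 hr3 hr4 hr5) (path_nil (g95 X0 X1 X2)))) (path_nil (g65 X0 X1 X2)) (rel_0_2 X0 X1 X2 hr0 hr1 hr2 hr3 hr4 hr5)
theorem E_100_0 (X0 X1 X2 : M) (hr0 : X0 * (X0 * (X0 * 1)) = 1) (hr1 : X1 * (X1 * (X1 * (X1 * (X1 * 1)))) = 1) (hr2 : X2 * (X2 * 1) = 1) (hr3 : X2⁻¹ * (X0 * (X2 * (X0⁻¹ * 1))) = 1) (hr4 : X2⁻¹ * (X1 * (X2 * (X1⁻¹ * 1))) = 1) (hr5 : X0 * (X1 * (X0 * (X1 * (X2⁻¹ * 1)))) = 1) : g100 X0 X1 X2 * X0 = g68 X0 X1 X2 :=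
  deduce (path_cons (E_68_0 X0 X1 X2 hr0 hr1 hr2 hr3 hr4 hr5) (path_cons (E_83_0 X0 X1 X2) (path_nil (g100 X0 X1 X2)))) (path_nil (g68 X0 X1 X2)) (rel_0_2 X0 X1 X2 hr0 hr1 hr2 hr3 hr4 hr5)
theorem E_106_0 (X0 X1 X2 : M) (hr0 : X0 * (X0 * (X0 * 1)) = 1) (hr1 : X1 * (X1 * (X1 * (X1 * (X1 * 1)))) = 1) (hr2 : X2 * (X2 * 1) = 1) (hr3 : X2⁻¹ * (X0 * (X2 * (X0⁻¹ * 1))) = 1) (hr4 : X2⁻¹ * (X1 * (X2 * (X1⁻¹ * 1))) = 1) (hr5 : X0 * (X1 * (X0 * (X1 * (X2⁻¹ * 1)))) = 1) : g106 X0 X1 X2 * X0 = g75 X0 X1 X2 :=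
  deduce (path_cons (E_75_0 X0 X1 X2 hr0 hr1 hr2 hr3 hr4 hr5) (path_cons (E_90_0 X0 X1 X2 hr0 hr1 hr2 hr3 hr4 hr5) (path_nil (g106 X0 X1 X2)))) (path_nil (g75 X0 X1 X2)) (rel_0_2 X0 X1 X2 hr0 hr1 hr2 hr3 hr4 hr5)
theorem E_114_0 (X0 X1 X2 : M) (hr0 : X0 * (X0 * (X0 * 1)) = 1) (hr1 : X1 * (X1 * (X1 * (X1 * (X1 * 1)))) = 1) (hr2 : X2 * (X2 * 1) = 1) (hr3 : X2⁻¹ * (X0 * (X2 * (X0⁻¹ * 1))) = 1) (hr4 : X2⁻¹ * (X1 * (X2 * (X1⁻¹ * 1))) = 1) (hr5 : X0 * (X1 * (X0 * (X1 * (X2⁻¹ * 1)))) = 1) : g114 X0 X1 X2 * X0 = g86 X0 X1 X2 :=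
  deduce (path_cons (E_86_0 X0 X1 X2 hr0 hr1 hr2 hr3 hr4 hr5) (path_cons (E_101_0 X0 X1 X2 hr0 hr1 hr2 hr3 hr4 hr5) (path_nil (g114 X0 X1 X2)))) (path_nil (g86 X0 X1 X2)) (rel_0_2 X0 X1 X2 hr0 hr1 hr2 hr3 hr4 hr5)
theorem E_71_1 (X0 X1 X2 : M) (hr0 : X0 * (X0 * (X0 * 1)) = 1) (hr1 : X1 * (X1 * (X1 * (X1 * (X1 * 1)))) = 1) (hr2 : X2 * (X2 * 1) = 1) (hr3 : X2⁻¹ * (X0 * (X2 * (X0⁻¹ * 1))) = 1) (hr4 : X2⁻¹ * (X1 * (X2 * (X1⁻¹ * 1))) = 1) (hr5 : X0 * (X1 * (X0 * (X1 * (X2⁻¹ * 1)))) = 1) : g71 X0 X1 X2 * X1 = g49 X0 X1 X2 :=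
  deduce (path_cons (E_32_0 X0 X1 X2 hr0 hr1 hr2 hr3 hr4 hr5) (path_cons (E_39_1 X0 X1 X2) (path_cons (E_56_0 X0 X1 X2) (path_nil (g71 X0 X1 X2))))) (path_cons (inv_edge (E_32_2 X0 X1 X2)) (path_nil (g32 X0 X1 X2))) (rel_5_3 X0 X1 X2 hr0 hr1 hr2 hr3 hr4 hr5)
theorem E_82_1 (X0 X1 X2 : M) (hr0 : X0 * (X0 * (X0 * 1)) = 1) (hr1 : X1 * (X1 * (X1 * (X1 * (X1 * 1)))) = 1) (hr2 : X2 * (X2 * 1) = 1) (hr3 : X2⁻¹ * (X0 * (X2 * (X0⁻¹ * 1))) = 1) (hr4 : X2⁻¹ * (X1 * (X2 * (X1⁻¹ * 1))) = 1) (hr5 : X0 * (X1 * (X0 * (X1 * (X2⁻¹ * 1)))) = 1) : g82 X0 X1 X2 * X1 = g60 X0 X1 X2 :=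
  deduce (path_cons (E_43_0 X0 X1 X2 hr0 hr1 hr2 hr3 hr4 hr5) (path_cons (E_50_1 X0 X1 X2) (path_cons (E_66_0 X0 X1 X2) (path_nil (g82 X0 X1 X2))))) (path_cons (inv_edge (E_43_2 X0 X1 X2)) (path_nil (g43 X0 X1 X2))) (rel_5_3 X0 X1 X2 hr0 hr1 hr2 hr3 hr4 hr5)
theorem E_61_1 (X0 X1 X2 : M) (hr0 : X0 * (X0 * (X0 * 1)) = 1) (hr1 : X1 * (X1 * (X1 * (X1 * (X1 * 1)))) = 1) (hr2 : X2 * (X2 * 1) = 1) (hr3 : X2⁻¹ * (X0 * (X2 * (X0⁻¹ * 1))) = 1) (hr4 : X2⁻¹ * (X1 * (X2 * (X1⁻¹ * 1))) = 1) (hr5 : X0 * (X1 * (X0 * (X1 * (X2⁻¹ * 1)))) = 1) : g61 X0 X1 X2 * X1 = g70 X0 X1 X2 :=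
  deduce (path_cons (E_45_0 X0 X1 X2) (path_nil (g61 X0 X1 X2))) (path_cons (E_70_0 X0 X1 X2 hr0 hr1 hr2 hr3 hr4 hr5) (path_cons (E_46_1 X0 X1 X2 hr0 hr1 hr2 hr3 hr4 hr5) (path_cons (inv_edge (E_45_2 X0 X1 X2)) (path_nil (g45 X0 X1 X2))))) (rel_5_1 X0 X1 X2 hr0 hr1 hr2 hr3 hr4 hr5)
theorem E_88_1 (X0 X1 X2 : M) (hr0 : X0 * (X0 * (X0 * 1)) = 1) (hr1 : X1 * (X1 * (X1 * (X1 * (X1 * 1)))) = 1) (hr2 : X2 * (X2 * 1) = 1) (hr3 : X2⁻¹ * (X0 * (X2 * (X0⁻¹ * 1))) = 1) (hr4 : X2⁻¹ * (X1 * (X2 * (X1⁻¹ * 1))) = 1) (hr5 : X0 * (X1 * (X0 * (X1 * (X2⁻¹ * 1)))) = 1) : g88 X0 X1 X2 * X1 = g32 X0 X1 X2 :=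
  deduce (path_cons (E_49_0 X0 X1 X2 hr0 hr1 hr2 hr3 hr4 hr5) (path_cons (E_57_1 X0 X1 X2 hr0 hr1 hr2 hr3 hr4 hr5) (path_cons (E_73_0 X0 X1 X2 hr0 hr1 hr2 hr3 hr4 hr5) (path_nil (g88 X0 X1 X2))))) (path_cons (inv_edge (E_49_2 X0 X1 X2 hr0 hr1 hr2 hr3 hr4 hr5)) (path_nil (g49 X0 X1 X2))) (rel_5_3 X0 X1 X2 hr0 hr1 hr2 hr3 hr4 hr5)
theorem E_99_1 (X0 X1 X2 : M) (hr0 : X0 * (X0 * (X0 * 1)) = 1) (hr1 : X1 * (X1 * (X1 * (X1 * (X1 * 1)))) = 1) (hr2 : X2 * (X2 * 1) = 1) (hr3 : X2⁻¹ * (X0 * (X2 * (X0⁻¹ * 1))) = 1) (hr4 : X2⁻¹ * (X1 * (X2 * (X1⁻¹ * 1))) = 1) (hr5 : X0 * (X1 * (X0 * (X1 * (X2⁻¹ * 1)))) = 1) : g99 X0 X1 X2 * X1 = g43 X0 X1 X2 :=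
  deduce (path_cons (E_60_0 X0 X1 X2 hr0 hr1 hr2 hr3 hr4 hr5) (path_cons (E_67_1 X0 X1 X2 hr0 hr1 hr2 hr3 hr4 hr5) (path_cons (E_84_0 X0 X1 X2 hr0 hr1 hr2 hr3 hr4 hr5) (path_nil (g99 X0 X1 X2))))) (path_cons (inv_edge (E_60_2 X0 X1 X2 hr0 hr1 hr2 hr3 hr4 hr5)) (path_nil (g60 X0 X1 X2))) (rel_5_3 X0 X1 X2 hr0 hr1 hr2 hr3 hr4 hr5)
theorem E_77_1 (X0 X1 X2 : M) (hr0 : X0 * (X0 * (X0 * 1)) = 1) (hr1 : X1 * (X1 * (X1 * (X1 * (X1 * 1)))) = 1) (hr2 : X2 * (X2 * 1) = 1) (hr3 : X2⁻¹ * (X0 * (X2 * (X0⁻¹ * 1))) = 1) (hr4 : X2⁻¹ * (X1 * (X2 * (X1⁻¹ * 1))) = 1) (hr5 : X0 * (X1 * (X0 * (X1 * (X2⁻¹ * 1)))) = 1) : g77 X0 X1 X2 * X1 = g54 X0 X1 X2 :=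
  deduce (path_cons (E_63_0 X0 X1 X2 hr0 hr1 hr2 hr3 hr4 hr5) (path_nil (g77 X0 X1 X2))) (path_cons (E_54_0 X0 X1 X2 hr0 hr1 hr2 hr3 hr4 hr5) (path_cons (E_28_1 X0 X1 X2) (path_cons (inv_edge (E_63_2 X0 X1 X2 hr0 hr1 hr2 hr3 hr4 hr5)) (path_nil (g63 X0 X1 X2))))) (rel_5_1 X0 X1 X2 hr0 hr1 hr2 hr3 hr4 hr5)
theorem E_80_1 (X0 X1 X2 : M) (hr0 : X0 * (X0 * (X0 * 1)) = 1) (hr1 : X1 * (X1 * (X1 * (X1 * (X1 * 1)))) = 1) (hr2 : X2 * (X2 * 1) = 1) (hr3 : X2⁻¹ * (X0 * (X2 * (X0⁻¹ * 1))) = 1) (hr4 : X2⁻¹ * (X1 * (X2 * (X1⁻¹ * 1))) = 1) (hr5 : X0 * (X1 * (X0 * (X1 * (X2⁻¹ * 1)))) = 1) : g80 X0 X1 X2 * X1 = g95 X0 X1 X2 :=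
  deduce (path_cons (E_64_0 X0 X1 X2) (path_nil (g80 X0 X1 X2))) (path_cons (E_95_0 X0 X1 X2 hr0 hr1 hr2 hr3 hr4 hr5) (path_cons (E_65_1 X0 X1 X2 hr0 hr1 hr2 hr3 hr4 hr5) (path_cons (inv_edge (E_64_2 X0 X1 X2)) (path_nil (g64 X0 X1 X2))))) (rel_5_1 X0 X1 X2 hr0 hr1 hr2 hr3 hr4 hr5)
theorem E_91_1 (X0 X1 X2 : M) (hr0 : X0 * (X0 * (X0 * 1)) = 1) (hr1 : X1 * (X1 * (X1 * (X1 * (X1 * 1)))) = 1) (hr2 : X2 * (X2 * 1) = 1) (hr3 : X2⁻¹ * (X0 * (X2 * (X0⁻¹ * 1))) = 1) (hr4 : X2⁻¹ * (X1 * (X2 * (X1⁻¹ * 1))) = 1) (hr5 : X0 * (X1 * (X0 * (X1 * (X2⁻¹ * 1)))) = 1) : g91 X0 X1 X2 * X1 = g106 X0 X1 X2 :=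
  deduce (path_cons (E_74_0 X0 X1 X2) (path_nil (g91 X0 X1 X2))) (path_cons (E_106_0 X0 X1 X2 hr0 hr1 hr2 hr3 hr4 hr5) (path_cons (E_75_1 X0 X1 X2 hr0 hr1 hr2 hr3 hr4 hr5) (path_cons (inv_edge (E_74_2 X0 X1 X2)) (path_nil (g74 X0 X1 X2))))) (rel_5_1 X0 X1 X2 hr0 hr1 hr2 hr3 hr4 hr5)
theorem E_97_1 (X0 X1 X2 : M) (hr0 : X0 * (X0 * (X0 * 1)) = 1) (hr1 : X1 * (X1 * (X1 * (X1 * (X1 * 1)))) = 1) (hr2 : X2 * (X2 * 1) = 1) (hr3 : X2⁻¹ * (X0 * (X2 * (X0⁻¹ * 1))) = 1) (hr4 : X2⁻¹ * (X1 * (X2 * (X1⁻¹ * 1))) = 1) (hr5 : X0 * (X1 * (X0 * (X1 * (X2⁻¹ * 1)))) = 1) : g97 X0 X1 X2 * X1 = g78 X0 X1 X2 :=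
  deduce (path_cons (E_81_0 X0 X1 X2 hr0 hr1 hr2 hr3 hr4 hr5) (path_nil (g97 X0 X1 X2))) (path_cons (E_78_0 X0 X1 X2 hr0 hr1 hr2 hr3 hr4 hr5) (path_cons (E_47_1 X0 X1 X2) (path_cons (inv_edge (E_81_2 X0 X1 X2 hr0 hr1 hr2 hr3 hr4 hr5)) (path_nil (g81 X0 X1 X2))))) (rel_5_1 X0 X1 X2 hr0 hr1 hr2 hr3 hr4 hr5)
theorem E_102_1 (X0 X1 X2 : M) (hr0 : X0 * (X0 * (X0 * 1)) = 1) (hr1 : X1 * (X1 * (X1 * (X1 * (X1 * 1)))) = 1) (hr2 : X2 * (X2 * 1) = 1) (hr3 : X2⁻¹ * (X0 * (X2 * (X0⁻¹ * 1))) = 1) (hr4 : X2⁻¹ * (X1 * (X2 * (X1⁻¹ * 1))) = 1) (hr5 : X0 * (X1 * (X0 * (X1 * (X2⁻¹ * 1)))) = 1) : g102 X0 X1 X2 * X1 = g114 X0 X1 X2 :=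
  deduce (path_cons (E_85_0 X0 X1 X2) (path_nil (g102 X0 X1 X2))) (path_cons (E_114_0 X0 X1 X2 hr0 hr1 hr2 hr3 hr4 hr5) (path_cons (E_86_1 X0 X1 X2 hr0 hr1 hr2 hr3 hr4 hr5) (path_cons (inv_edge (E_85_2 X0 X1 X2)) (path_nil (g85 X0 X1 X2))))) (rel_5_1 X0 X1 X2 hr0 hr1 hr2 hr3 hr4 hr5)
theorem E_108_1 (X0 X1 X2 : M) (hr0 : X0 * (X0 * (X0 * 1)) = 1) (hr1 : X1 * (X1 * (X1 * (X1 * (X1 * 1)))) = 1) (hr2 : X2 * (X2 * 1) = 1) (hr3 : X2⁻¹ * (X0 * (X2 * (X0⁻¹ * 1))) = 1) (hr4 : X2⁻¹ * (X1 * (X2 * (X1⁻¹ * 1))) = 1) (hr5 : X0 * (X1 * (X0 * (X1 * (X2⁻¹ * 1)))) = 1) : g108 X0 X1 X2 * X1 = g89 X0 X1 X2 :=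
  deduce (path_cons (E_92_0 X0 X1 X2 hr0 hr1 hr2 hr3 hr4 hr5) (path_nil (g108 X0 X1 X2))) (path_cons (E_89_0 X0 X1 X2 hr0 hr1 hr2 hr3 hr4 hr5) (path_cons (E_58_1 X0 X1 X2) (path_cons (inv_edge (E_92_2 X0 X1 X2 hr0 hr1 hr2 hr3 hr4 hr5)) (path_nil (g92 X0 X1 X2))))) (rel_5_1 X0 X1 X2 hr0 hr1 hr2 hr3 hr4 hr5)
theorem E_115_1 (X0 X1 X2 : M) (hr0 : X0 * (X0 * (X0 * 1)) = 1) (hr1 : X1 * (X1 * (X1 * (X1 * (X1 * 1)))) = 1) (hr2 : X2 * (X2 * 1) = 1) (hr3 : X2⁻¹ * (X0 * (X2 * (X0⁻¹ * 1))) = 1) (hr4 : X2⁻¹ * (X1 * (X2 * (X1⁻¹ * 1))) = 1) (hr5 : X0 * (X1 * (X0 * (X1 * (X2⁻¹ * 1)))) = 1) : g115 X0 X1 X2 * X1 = g100 X0 X1 X2 :=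
  deduce (path_cons (E_103_0 X0 X1 X2 hr0 hr1 hr2 hr3 hr4 hr5) (path_nil (g115 X0 X1 X2))) (path_cons (E_100_0 X0 X1 X2 hr0 hr1 hr2 hr3 hr4 hr5) (path_cons (E_68_1 X0 X1 X2) (path_cons (inv_edge (E_103_2 X0 X1 X2 hr0 hr1 hr2 hr3 hr4 hr5)) (path_nil (g103 X0 X1 X2))))) (rel_5_1 X0 X1 X2 hr0 hr1 hr2 hr3 hr4 hr5)
theorem E_64_1 (X0 X1 X2 : M) (hr0 : X0 * (X0 * (X0 * 1)) = 1) (hr1 : X1 * (X1 * (X1 * (X1 * (X1 * 1)))) = 1) (hr2 : X2 * (X2 * 1) = 1) (hr3 : X2⁻¹ * (X0 * (X2 * (X0⁻¹ * 1))) = 1) (hr4 : X2⁻¹ * (X1 * (X2 * (X1⁻¹ * 1))) = 1) (hr5 : X0 * (X1 * (X0 * (X1 * (X2⁻¹ * 1)))) = 1) : g64 X0 X1 X2 * X1 = g71 X0 X1 X2 :=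
  deduce (path_cons (E_30_1 X0 X1 X2) (path_cons (E_47_1 X0 X1 X2) (path_nil (g64 X0 X1 X2)))) (path_cons (E_71_1 X0 X1 X2 hr0 hr1 hr2 hr3 hr4 hr5) (path_cons (E_49_1 X0 X1 X2 hr0 hr1 hr2 hr3 hr4 hr5) (path_nil (g30 X0 X1 X2)))) (rel_1_2 X0 X1 X2 hr0 hr1 hr2 hr3 hr4 hr5)
theorem E_81_1 (X0 X1 X2 : M) (hr0 : X0 * (X0 * (X0 * 1)) = 1) (hr1 : X1 * (X1 * (X1 * (X1 * (X1 * 1)))) = 1) (hr2 : X2 * (X2 * 1) = 1) (hr3 : X2⁻¹ * (X0 * (X2 * (X0⁻¹ * 1))) = 1) (hr4 : X2⁻¹ * (X1 * (X2 * (X1⁻¹ * 1))) = 1) (hr5 : X0 * (X1 * (X0 * (X1 * (X2⁻¹ * 1)))) = 1) : g81 X0 X1 X2 * X1 = g88 X0 X1 X2 :=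
  deduce (path_cons (E_32_1 X0 X1 X2 hr0 hr1 hr2 hr3 hr4 hr5) (path_cons (E_48_1 X0 X1 X2 hr0 hr1 hr2 hr3 hr4 hr5) (path_cons (E_65_1 X0 X1 X2 hr0 hr1 hr2 hr3 hr4 hr5) (path_nil (g81 X0 X1 X2))))) (path_cons (E_88_1 X0 X1 X2 hr0 hr1 hr2 hr3 hr4 hr5) (path_nil (g32 X0 X1 X2))) (rel_1_3 X0 X1 X2 hr0 hr1 hr2 hr3 hr4 hr5)
theorem E_74_1 (X0 X1 X2 : M) (hr0 : X0 * (X0 * (X0 * 1)) = 1) (hr1 : X1 * (X1 * (X1 * (X1 * (X1 * 1)))) = 1) (hr2 : X2 * (X2 * 1) = 1) (hr3 : X2⁻¹ * (X0 * (X2 * (X0⁻¹ * 1))) = 1) (hr4 : X2⁻¹ * (X1 * (X2 * (X1⁻¹ * 1))) = 1) (hr5 : X0 * (X1 * (X0 * (X1 * (X2⁻¹ * 1)))) = 1) : g74 X0 X1 X2 * X1 = g82 X0 X1 X2 :=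
  deduce (path_cons (E_41_1 X0 X1 X2) (path_cons (E_58_1 X0 X1 X2) (path_nil (g74 X0 X1 X2)))) (path_cons (E_82_1 X0 X1 X2 hr0 hr1 hr2 hr3 hr4 hr5) (path_cons (E_60_1 X0 X1 X2 hr0 hr1 hr2 hr3 hr4 hr5) (path_nil (g41 X0 X1 X2)))) (rel_1_2 X0 X1 X2 hr0 hr1 hr2 hr3 hr4 hr5)
theorem E_92_1 (X0 X1 X2 : M) (hr0 : X0 * (X0 * (X0 * 1)) = 1) (hr1 : X1 * (X1 * (X1 * (X1 * (X1 * 1)))) = 1) (hr2 : X2 * (X2 * 1) = 1) (hr3 : X2⁻¹ * (X0 * (X2 * (X0⁻¹ * 1))) = 1) (hr4 : X2⁻¹ * (X1 * (X2 * (X1⁻¹ * 1))) = 1) (hr5 : X0 * (X1 * (X0 * (X1 * (X2⁻¹ * 1)))) = 1) : g92 X0 X1 X2 * X1 = g99 X0 X1 X2 :=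
  deduce (path_cons (E_43_1 X0 X1 X2 hr0 hr1 hr2 hr3 hr4 hr5) (path_cons (E_59_1 X0 X1 X2 hr0 hr1 hr2 hr3 hr4 hr5) (path_cons (E_75_1 X0 X1 X2 hr0 hr1 hr2 hr3 hr4 hr5) (path_nil (g92 X0 X1 X2))))) (path_cons (E_99_1 X0 X1 X2 hr0 hr1 hr2 hr3 hr4 hr5) (path_nil (g43 X0 X1 X2))) (rel_1_3 X0 X1 X2 hr0 hr1 hr2 hr3 hr4 hr5)
theorem E_85_1 (X0 X1 X2 : M) (hr0 : X0 * (X0 * (X0 * 1)) = 1) (hr1 : X1 * (X1 * (X1 * (X1 * (X1 * 1)))) = 1) (hr2 : X2 * (X2 * 1) = 1) (hr3 : X2⁻¹ * (X0 * (X2 * (X0⁻¹ * 1))) = 1) (hr4 : X2⁻¹ * (X1 * (X2 * (X1⁻¹ * 1))) = 1) (hr5 : X0 * (X1 * (X0 * (X1 * (X2⁻¹ * 1)))) = 1) : g85 X0 X1 X2 * X1 = g61 X0 X1 X2 :=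
  deduce (path_cons (E_52_1 X0 X1 X2) (path_cons (E_68_1 X0 X1 X2) (path_nil (g85 X0 X1 X2)))) (path_cons (E_61_1 X0 X1 X2 hr0 hr1 hr2 hr3 hr4 hr5) (path_cons (E_70_1 X0 X1 X2 hr0 hr1 hr2 hr3 hr4 hr5) (path_nil (g52 X0 X1 X2)))) (rel_1_2 X0 X1 X2 hr0 hr1 hr2 hr3 hr4 hr5)
theorem E_103_1 (X0 X1 X2 : M) (hr0 : X0 * (X0 * (X0 * 1)) = 1) (hr1 : X1 * (X1 * (X1 * (X1 * (X1 * 1)))) = 1) (hr2 : X2 * (X2 * 1) = 1) (hr3 : X2⁻¹ * (X0 * (X2 * (X0⁻¹ * 1))) = 1) (hr4 : X2⁻¹ * (X1 * (X2 * (X1⁻¹ * 1))) = 1) (hr5 : X0 * (X1 * (X0 * (X1 * (X2⁻¹ * 1)))) = 1) : g103 X0 X1 X2 * X1 = g77 X0 X1 X2 :=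
  deduce (path_cons (E_54_1 X0 X1 X2 hr0 hr1 hr2 hr3 hr4 hr5) (path_cons (E_69_1 X0 X1 X2 hr0 hr1 hr2 hr3 hr4 hr5) (path_cons (E_86_1 X0 X1 X2 hr0 hr1 hr2 hr3 hr4 hr5) (path_nil (g103 X0 X1 X2))))) (path_cons (E_77_1 X0 X1 X2 hr0 hr1 hr2 hr3 hr4 hr5) (path_nil (g54 X0 X1 X2))) (rel_1_3 X0 X1 X2 hr0 hr1 hr2 hr3 hr4 hr5)
theorem E_109_1 (X0 X1 X2 : M) (hr0 : X0 * (X0 * (X0 * 1)) = 1) (hr1 : X1 * (X1 * (X1 * (X1 * (X1 * 1)))) = 1) (hr2 : X2 * (X2 * 1) = 1) (hr3 : X2⁻¹ * (X0 * (X2 * (X0⁻¹ * 1))) = 1) (hr4 : X2⁻¹ * (X1 * (X2 * (X1⁻¹ * 1))) = 1) (hr5 : X0 * (X1 * (X0 * (X1 * (X2⁻¹ * 1)))) = 1) : g109 X0 X1 X2 * X1 = g80 X0 X1 X2 :=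
  deduce (path_cons (E_76_1 X0 X1 X2) (path_cons (E_93_1 X0 X1 X2) (path_nil (g109 X0 X1 X2)))) (path_cons (E_80_1 X0 X1 X2 hr0 hr1 hr2 hr3 hr4 hr5) (path_cons (E_95_1 X0 X1 X2 hr0 hr1 hr2 hr3 hr4 hr5) (path_nil (g76 X0 X1 X2)))) (rel_1_2 X0 X1 X2 hr0 hr1 hr2 hr3 hr4 hr5)
theorem E_119_1 (X0 X1 X2 : M) (hr0 : X0 * (X0 * (X0 * 1)) = 1) (hr1 : X1 * (X1 * (X1 * (X1 * (X1 * 1)))) = 1) (hr2 : X2 * (X2 * 1) = 1) (hr3 : X2⁻¹ * (X0 * (X2 * (X0⁻¹ * 1))) = 1) (hr4 : X2⁻¹ * (X1 * (X2 * (X1⁻¹ * 1))) = 1) (hr5 : X0 * (X1 * (X0 * (X1 * (X2⁻¹ * 1)))) = 1) : g119 X0 X1 X2 * X1 = g97 X0 X1 X2 :=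
  deduce (path_cons (E_78_1 X0 X1 X2 hr0 hr1 hr2 hr3 hr4 hr5) (path_cons (E_94_1 X0 X1 X2 hr0 hr1 hr2 hr3 hr4 hr5) (path_cons (E_110_1 X0 X1 X2 hr0 hr1 hr2 hr3 hr4 hr5) (path_nil (g119 X0 X1 X2))))) (path_cons (E_97_1 X0 X1 X2 hr0 hr1 hr2 hr3 hr4 hr5) (path_nil (g78 X0 X1 X2))) (rel_1_3 X0 X1 X2 hr0 hr1 hr2 hr3 hr4 hr5)
theorem E_116_1 (X0 X1 X2 : M) (hr0 : X0 * (X0 * (X0 * 1)) = 1) (hr1 : X1 * (X1 * (X1 * (X1 * (X1 * 1)))) = 1) (hr2 : X2 * (X2 * 1) = 1) (hr3 : X2⁻¹ * (X0 * (X2 * (X0⁻¹ * 1))) = 1) (hr4 : X2⁻¹ * (X1 * (X2 * (X1⁻¹ * 1))) = 1) (hr5 : X0 * (X1 * (X0 * (X1 * (X2⁻¹ * 1)))) = 1) : g116 X0 X1 X2 * X1 = g91 X0 X1 X2 :=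
  deduce (path_cons (E_87_1 X0 X1 X2) (path_cons (E_104_1 X0 X1 X2) (path_nil (g116 X0 X1 X2)))) (path_cons (E_91_1 X0 X1 X2 hr0 hr1 hr2 hr3 hr4 hr5) (path_cons (E_106_1 X0 X1 X2 hr0 hr1 hr2 hr3 hr4 hr5) (path_nil (g87 X0 X1 X2)))) (rel_1_2 X0 X1 X2 hr0 hr1 hr2 hr3 hr4 hr5)
theorem E_93_0 (X0 X1 X2 : M) (hr0 : X0 * (X0 * (X0 * 1)) = 1) (hr1 : X1 * (X1 * (X1 * (X1 * (X1 * 1)))) = 1) (hr2 : X2 * (X2 * 1) = 1) (hr3 : X2⁻¹ * (X0 * (X2 * (X0⁻¹ * 1))) = 1) (hr4 : X2⁻¹ * (X1 * (X2 * (X1⁻¹ * 1))) = 1) (hr5 : X0 * (X1 * (X0 * (X1 * (X2⁻¹ * 1)))) = 1) : g93 X0 X1 X2 * X0 = g103 X0 X1 X2 :=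
  deduce (path_cons (E_61_0 X0 X1 X2) (path_cons (E_76_1 X0 X1 X2) (path_nil (g93 X0 X1 X2)))) (path_cons (E_103_1 X0 X1 X2 hr0 hr1 hr2 hr3 hr4 hr5) (path_cons (inv_edge (E_61_2 X0 X1 X2)) (path_nil (g61 X0 X1 X2)))) (rel_5_2 X0 X1 X2 hr0 hr1 hr2 hr3 hr4 hr5)
theorem E_104_0 (X0 X1 X2 : M) (hr0 : X0 * (X0 * (X0 * 1)) = 1) (hr1 : X1 * (X1 * (X1 * (X1 * (X1 * 1)))) = 1) (hr2 : X2 * (X2 * 1) = 1) (hr3 : X2⁻¹ * (X0 * (X2 * (X0⁻¹ * 1))) = 1) (hr4 : X2⁻¹ * (X1 * (X2 * (X1⁻¹ * 1))) = 1) (hr5 : X0 * (X1 * (X0 * (X1 * (X2⁻¹ * 1)))) = 1) : g104 X0 X1 X2 * X0 = g81 X0 X1 X2 :=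
  deduce (path_cons (E_71_0 X0 X1 X2) (path_cons (E_87_1 X0 X1 X2) (path_nil (g104 X0 X1 X2)))) (path_cons (E_81_1 X0 X1 X2 hr0 hr1 hr2 hr3 hr4 hr5) (path_cons (inv_edge (E_71_2 X0 X1 X2)) (path_nil (g71 X0 X1 X2)))) (rel_5_2 X0 X1 X2 hr0 hr1 hr2 hr3 hr4 hr5)
theorem E_110_0 (X0 X1 X2 : M) (hr0 : X0 * (X0 * (X0 * 1)) = 1) (hr1 : X1 * (X1 * (X1 * (X1 * (X1 * 1)))) = 1) (hr2 : X2 * (X2 * 1) = 1) (hr3 : X2⁻¹ * (X0 * (X2 * (X0⁻¹ * 1))) = 1) (hr4 : X2⁻¹ * (X1 * (X2 * (X1⁻¹ * 1))) = 1) (hr5 : X0 * (X1 * (X0 * (X1 * (X2⁻¹ * 1)))) = 1) : g110 X0 X1 X2 * X0 = g85 X0 X1 X2 :=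
  deduce (path_cons (E_77_0 X0 X1 X2 hr0 hr1 hr2 hr3 hr4 hr5) (path_cons (E_94_1 X0 X1 X2 hr0 hr1 hr2 hr3 hr4 hr5) (path_nil (g110 X0 X1 X2)))) (path_cons (E_85_1 X0 X1 X2 hr0 hr1 hr2 hr3 hr4 hr5) (path_cons (inv_edge (E_77_2 X0 X1 X2 hr0 hr1 hr2 hr3 hr4 hr5)) (path_nil (g77 X0 X1 X2)))) (rel_5_2 X0 X1 X2 hr0 hr1 hr2 hr3 hr4 hr5)
theorem E_111_0 (X0 X1 X2 : M) (hr0 : X0 * (X0 * (X0 * 1)) = 1) (hr1 : X1 * (X1 * (X1 * (X1 * (X1 * 1)))) = 1) (hr2 : X2 * (X2 * 1) = 1) (hr3 : X2⁻¹ * (X0 * (X2 * (X0⁻¹ * 1))) = 1) (hr4 : X2⁻¹ * (X1 * (X2 * (X1⁻¹ * 1))) = 1) (hr5 : X0 * (X1 * (X0 * (X1 * (X2⁻¹ * 1)))) = 1) : g111 X0 X1 X2 * X0 = g119 X0 X1 X2 :=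
  deduce (path_cons (E_80_0 X0 X1 X2) (path_cons (E_96_1 X0 X1 X2) (path_nil (g111 X0 X1 X2)))) (path_cons (E_119_1 X0 X1 X2 hr0 hr1 hr2 hr3 hr4 hr5) (path_cons (inv_edge (E_80_2 X0 X1 X2)) (path_nil (g80 X0 X1 X2)))) (rel_5_2 X0 X1 X2 hr0 hr1 hr2 hr3 hr4 hr5)
theorem E_112_0 (X0 X1 X2 : M) (hr0 : X0 * (X0 * (X0 * 1)) = 1) (hr1 : X1 * (X1 * (X1 * (X1 * (X1 * 1)))) = 1) (hr2 : X2 * (X2 * 1) = 1) (hr3 : X2⁻¹ * (X0 * (X2 * (X0⁻¹ * 1))) = 1) (hr4 : X2⁻¹ * (X1 * (X2 * (X1⁻¹ * 1))) = 1) (hr5 : X0 * (X1 * (X0 * (X1 * (X2⁻¹ * 1)))) = 1) : g112 X0 X1 X2 * X0 = g92 X0 X1 X2 :=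
  deduce (path_cons (E_82_0 X0 X1 X2) (path_cons (E_98_1 X0 X1 X2) (path_nil (g112 X0 X1 X2)))) (path_cons (E_92_1 X0 X1 X2 hr0 hr1 hr2 hr3 hr4 hr5) (path_cons (inv_edge (E_82_2 X0 X1 X2)) (path_nil (g82 X0 X1 X2)))) (rel_5_2 X0 X1 X2 hr0 hr1 hr2 hr3 hr4 hr5)
theorem E_105_1 (X0 X1 X2 : M) (hr0 : X0 * (X0 * (X0 * 1)) = 1) (hr1 : X1 * (X1 * (X1 * (X1 * (X1 * 1)))) = 1) (hr2 : X2 * (X2 * 1) = 1) (hr3 : X2⁻¹ * (X0 * (X2 * (X0⁻¹ * 1))) = 1) (hr4 : X2⁻¹ * (X1 * (X2 * (X1⁻¹ * 1))) = 1) (hr5 : X0 * (X1 * (X0 * (X1 * (X2⁻¹ * 1)))) = 1) : g105 X0 X1 X2 * X1 = g96 X0 X1 X2 :=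
  deduce (path_cons (E_88_0 X0 X1 X2 hr0 hr1 hr2 hr3 hr4 hr5) (path_nil (g105 X0 X1 X2))) (path_cons (E_96_0 X0 X1 X2 hr0 hr1 hr2 hr3 hr4 hr5) (path_cons (E_64_1 X0 X1 X2 hr0 hr1 hr2 hr3 hr4 hr5) (path_cons (inv_edge (E_88_2 X0 X1 X2 hr0 hr1 hr2 hr3 hr4 hr5)) (path_nil (g88 X0 X1 X2))))) (rel_5_1 X0 X1 X2 hr0 hr1 hr2 hr3 hr4 hr5)
theorem E_96_2 (X0 X1 X2 : M) (hr0 : X0 * (X0 * (X0 * 1)) = 1) (hr1 : X1 * (X1 * (X1 * (X1 * (X1 * 1)))) = 1) (hr2 : X2 * (X2 * 1) = 1) (hr3 : X2⁻¹ * (X0 * (X2 * (X0⁻¹ * 1))) = 1) (hr4 : X2⁻¹ * (X1 * (X2 * (X1⁻¹ * 1))) = 1) (hr5 : X0 * (X1 * (X0 * (X1 * (X2⁻¹ * 1)))) = 1) : g96 X0 X1 X2 * X2 = g104 X0 X1 X2 :=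
  edge_of_inv (deduce (path_cons (E_96_0 X0 X1 X2 hr0 hr1 hr2 hr3 hr4 hr5) (path_cons (E_64_1 X0 X1 X2 hr0 hr1 hr2 hr3 hr4 hr5) (path_cons (E_71_0 X0 X1 X2) (path_cons (E_87_1 X0 X1 X2) (path_nil (g104 X0 X1 X2)))))) (path_nil (g96 X0 X1 X2)) (rel_5_4 X0 X1 X2 hr0 hr1 hr2 hr3 hr4 hr5))
theorem E_113_1 (X0 X1 X2 : M) (hr0 : X0 * (X0 * (X0 * 1)) = 1) (hr1 : X1 * (X1 * (X1 * (X1 * (X1 * 1)))) = 1) (hr2 : X2 * (X2 * 1) = 1) (hr3 : X2⁻¹ * (X0 * (X2 * (X0⁻¹ * 1))) = 1) (hr4 : X2⁻¹ * (X1 * (X2 * (X1⁻¹ * 1))) = 1) (hr5 : X0 * (X1 * (X0 * (X1 * (X2⁻¹ * 1)))) = 1) : g113 X0 X1 X2 * X1 = g107 X0 X1 X2 :=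
  deduce (path_cons (E_99_0 X0 X1 X2 hr0 hr1 hr2 hr3 hr4 hr5) (path_nil (g113 X0 X1 X2))) (path_cons (E_107_0 X0 X1 X2 hr0 hr1 hr2 hr3 hr4 hr5) (path_cons (E_74_1 X0 X1 X2 hr0 hr1 hr2 hr3 hr4 hr5) (path_cons (inv_edge (E_99_2 X0 X1 X2 hr0 hr1 hr2 hr3 hr4 hr5)) (path_nil (g99 X0 X1 X2))))) (rel_5_1 X0 X1 X2 hr0 hr1 hr2 hr3 hr4 hr5)
theorem E_104_2 (X0 X1 X2 : M) (hr0 : X0 * (X0 * (X0 * 1)) = 1) (hr1 : X1 * (X1 * (X1 * (X1 * (X1 * 1)))) = 1) (hr2 : X2 * (X2 * 1) = 1) (hr3 : X2⁻¹ * (X0 * (X2 * (X0⁻¹ * 1))) = 1) (hr4 : X2⁻¹ * (X1 * (X2 * (X1⁻¹ * 1))) = 1) (hr5 : X0 * (X1 * (X0 * (X1 * (X2⁻¹ * 1)))) = 1) : g104 X0 X1 X2 * X2 = g96 X0 X1 X2 :=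
  edge_of_inv (deduce (path_cons (E_104_0 X0 X1 X2 hr0 hr1 hr2 hr3 hr4 hr5) (path_cons (E_81_1 X0 X1 X2 hr0 hr1 hr2 hr3 hr4 hr5) (path_cons (E_88_0 X0 X1 X2 hr0 hr1 hr2 hr3 hr4 hr5) (path_cons (E_105_1 X0 X1 X2 hr0 hr1 hr2 hr3 hr4 hr5) (path_nil (g96 X0 X1 X2)))))) (path_nil (g104 X0 X1 X2)) (rel_5_4 X0 X1 X2 hr0 hr1 hr2 hr3 hr4 hr5))
theorem E_107_2 (X0 X1 X2 : M) (hr0 : X0 * (X0 * (X0 * 1)) = 1) (hr1 : X1 * (X1 * (X1 * (X1 * (X1 * 1)))) = 1) (hr2 : X2 * (X2 * 1) = 1) (hr3 : X2⁻¹ * (X0 * (X2 * (X0⁻¹ * 1))) = 1) (hr4 : X2⁻¹ * (X1 * (X2 * (X1⁻¹ * 1))) = 1) (hr5 : X0 * (X1 * (X0 * (X1 * (X2⁻¹ * 1)))) = 1) : g107 X0 X1 X2 * X2 = g112 X0 X1 X2 :=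
  edge_of_inv (deduce (path_cons (E_107_0 X0 X1 X2 hr0 hr1 hr2 hr3 hr4 hr5) (path_cons (E_74_1 X0 X1 X2 hr0 hr1 hr2 hr3 hr4 hr5) (path_cons (E_82_0 X0 X1 X2) (path_cons (E_98_1 X0 X1 X2) (path_nil (g112 X0 X1 X2)))))) (path_nil (g107 X0 X1 X2)) (rel_5_4 X0 X1 X2 hr0 hr1 hr2 hr3 hr4 hr5))
theorem E_112_2 (X0 X1 X2 : M) (hr0 : X0 * (X0 * (X0 * 1)) = 1) (hr1 : X1 * (X1 * (X1 * (X1 * (X1 * 1)))) = 1) (hr2 : X2 * (X2 * 1) = 1) (hr3 : X2⁻¹ * (X0 * (X2 * (X0⁻¹ * 1))) = 1) (hr4 : X2⁻¹ * (X1 * (X2 * (X1⁻¹ * 1))) = 1) (hr5 : X0 * (X1 * (X0 * (X1 * (X2⁻¹ * 1)))) = 1) : g112 X0 X1 X2 * X2 = g107 X0 X1 X2 :=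
  edge_of_inv (deduce (path_cons (E_112_0 X0 X1 X2 hr0 hr1 hr2 hr3 hr4 hr5) (path_cons (E_92_1 X0 X1 X2 hr0 hr1 hr2 hr3 hr4 hr5) (path_cons (E_99_0 X0 X1 X2 hr0 hr1 hr2 hr3 hr4 hr5) (path_cons (E_113_1 X0 X1 X2 hr0 hr1 hr2 hr3 hr4 hr5) (path_nil (g107 X0 X1 X2)))))) (path_nil (g112 X0 X1 X2)) (rel_5_4 X0 X1 X2 hr0 hr1 hr2 hr3 hr4 hr5))
theorem E_97_0 (X0 X1 X2 : M) (hr0 : X0 * (X0 * (X0 * 1)) = 1) (hr1 : X1 * (X1 * (X1 * (X1 * (X1 * 1)))) = 1) (hr2 : X2 * (X2 * 1) = 1) (hr3 : X2⁻¹ * (X0 * (X2 * (X0⁻¹ * 1))) = 1) (hr4 : X2⁻¹ * (X1 * (X2 * (X1⁻¹ * 1))) = 1) (hr5 : X0 * (X1 * (X0 * (X1 * (X2⁻¹ * 1)))) = 1) : g97 X0 X1 X2 * X0 = g104 X0 X1 X2 :=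
  deduce (path_cons (E_81_0 X0 X1 X2 hr0 hr1 hr2 hr3 hr4 hr5) (path_nil (g97 X0 X1 X2))) (path_cons (E_104_0 X0 X1 X2 hr0 hr1 hr2 hr3 hr4 hr5) (path_nil (g81 X0 X1 X2))) (rel_0_1 X0 X1 X2 hr0 hr1 hr2 hr3 hr4 hr5)
theorem E_102_0 (X0 X1 X2 : M) (hr0 : X0 * (X0 * (X0 * 1)) = 1) (hr1 : X1 * (X1 * (X1 * (X1 * (X1 * 1)))) = 1) (hr2 : X2 * (X2 * 1) = 1) (hr3 : X2⁻¹ * (X0 * (X2 * (X0⁻¹ * 1))) = 1) (hr4 : X2⁻¹ * (X1 * (X2 * (X1⁻¹ * 1))) = 1) (hr5 : X0 * (X1 * (X0 * (X1 * (X2⁻¹ * 1)))) = 1) : g102 X0 X1 X2 * X0 = g110 X0 X1 X2 :=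
  deduce (path_cons (E_85_0 X0 X1 X2) (path_nil (g102 X0 X1 X2))) (path_cons (E_110_0 X0 X1 X2 hr0 hr1 hr2 hr3 hr4 hr5) (path_nil (g85 X0 X1 X2))) (rel_0_1 X0 X1 X2 hr0 hr1 hr2 hr3 hr4 hr5)
theorem E_108_0 (X0 X1 X2 : M) (hr0 : X0 * (X0 * (X0 * 1)) = 1) (hr1 : X1 * (X1 * (X1 * (X1 * (X1 * 1)))) = 1) (hr2 : X2 * (X2 * 1) = 1) (hr3 : X2⁻¹ * (X0 * (X2 * (X0⁻¹ * 1))) = 1) (hr4 : X2⁻¹ * (X1 * (X2 * (X1⁻¹ * 1))) = 1) (hr5 : X0 * (X1 * (X0 * (X1 * (X2⁻¹ * 1)))) = 1) : g108 X0 X1 X2 * X0 = g112 X0 X1 X2 :=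
  deduce (path_cons (E_92_0 X0 X1 X2 hr0 hr1 hr2 hr3 hr4 hr5) (path_nil (g108 X0 X1 X2))) (path_cons (E_112_0 X0 X1 X2 hr0 hr1 hr2 hr3 hr4 hr5) (path_nil (g92 X0 X1 X2))) (rel_0_1 X0 X1 X2 hr0 hr1 hr2 hr3 hr4 hr5)
theorem E_115_0 (X0 X1 X2 : M) (hr0 : X0 * (X0 * (X0 * 1)) = 1) (hr1 : X1 * (X1 * (X1 * (X1 * (X1 * 1)))) = 1) (hr2 : X2 * (X2 * 1) = 1) (hr3 : X2⁻¹ * (X0 * (X2 * (X0⁻¹ * 1))) = 1) (hr4 : X2⁻¹ * (X1 * (X2 * (X1⁻¹ * 1))) = 1) (hr5 : X0 * (X1 * (X0 * (X1 * (X2⁻¹ * 1)))) = 1) : g115 X0 X1 X2 * X0 = g93 X0 X1 X2 :=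
  deduce (path_cons (E_93_0 X0 X1 X2 hr0 hr1 hr2 hr3 hr4 hr5) (path_cons (E_103_0 X0 X1 X2 hr0 hr1 hr2 hr3 hr4 hr5) (path_nil (g115 X0 X1 X2)))) (path_nil (g93 X0 X1 X2)) (rel_0_2 X0 X1 X2 hr0 hr1 hr2 hr3 hr4 hr5)
theorem E_111_1 (X0 X1 X2 : M) (hr0 : X0 * (X0 * (X0 * 1)) = 1) (hr1 : X1 * (X1 * (X1 * (X1 * (X1 * 1)))) = 1) (hr2 : X2 * (X2 * 1) = 1) (hr3 : X2⁻¹ * (X0 * (X2 * (X0⁻¹ * 1))) = 1) (hr4 : X2⁻¹ * (X1 * (X2 * (X1⁻¹ * 1))) = 1) (hr5 : X0 * (X1 * (X0 * (X1 * (X2⁻¹ * 1)))) = 1) : g111 X0 X1 X2 * X1 = g108 X0 X1 X2 :=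
  deduce (path_cons (E_89_1 X0 X1 X2 hr0 hr1 hr2 hr3 hr4 hr5) (path_cons (E_105_1 X0 X1 X2 hr0 hr1 hr2 hr3 hr4 hr5) (path_cons (E_96_1 X0 X1 X2) (path_nil (g111 X0 X1 X2))))) (path_cons (E_108_1 X0 X1 X2 hr0 hr1 hr2 hr3 hr4 hr5) (path_nil (g89 X0 X1 X2))) (rel_1_3 X0 X1 X2 hr0 hr1 hr2 hr3 hr4 hr5)
theorem E_117_1 (X0 X1 X2 : M) (hr0 : X0 * (X0 * (X0 * 1)) = 1) (hr1 : X1 * (X1 * (X1 * (X1 * (X1 * 1)))) = 1) (hr2 : X2 * (X2 * 1) = 1) (hr3 : X2⁻¹ * (X0 * (X2 * (X0⁻¹ * 1))) = 1) (hr4 : X2⁻¹ * (X1 * (X2 * (X1⁻¹ * 1))) = 1) (hr5 : X0 * (X1 * (X0 * (X1 * (X2⁻¹ * 1)))) = 1) : g117 X0 X1 X2 * X1 = g115 X0 X1 X2 :=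
  deduce (path_cons (E_100_1 X0 X1 X2 hr0 hr1 hr2 hr3 hr4 hr5) (path_cons (E_113_1 X0 X1 X2 hr0 hr1 hr2 hr3 hr4 hr5) (path_cons (E_107_1 X0 X1 X2) (path_nil (g117 X0 X1 X2))))) (path_cons (E_115_1 X0 X1 X2 hr0 hr1 hr2 hr3 hr4 hr5) (path_nil (g100 X0 X1 X2))) (rel_1_3 X0 X1 X2 hr0 hr1 hr2 hr3 hr4 hr5)
theorem E_116_2 (X0 X1 X2 : M) (hr0 : X0 * (X0 * (X0 * 1)) = 1) (hr1 : X1 * (X1 * (X1 * (X1 * (X1 * 1)))) = 1) (hr2 : X2 * (X2 * 1) = 1) (hr3 : X2⁻¹ * (X0 * (X2 * (X0⁻¹ * 1))) = 1) (hr4 : X2⁻¹ * (X1 * (X2 * (X1⁻¹ * 1))) = 1) (hr5 : X0 * (X1 * (X0 * (X1 * (X2⁻¹ * 1)))) = 1) : g116 X0 X1 X2 * X2 = g111 X0 X1 X2 :=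
  deduce (path_cons (inv_edge (E_104_2 X0 X1 X2 hr0 hr1 hr2 hr3 hr4 hr5)) (path_cons (E_104_1 X0 X1 X2) (path_nil (g116 X0 X1 X2)))) (path_cons (inv_edge (E_96_1 X0 X1 X2)) (path_nil (g96 X0 X1 X2))) (rel_4_2 X0 X1 X2 hr0 hr1 hr2 hr3 hr4 hr5)
theorem E_111_2 (X0 X1 X2 : M) (hr0 : X0 * (X0 * (X0 * 1)) = 1) (hr1 : X1 * (X1 * (X1 * (X1 * (X1 * 1)))) = 1) (hr2 : X2 * (X2 * 1) = 1) (hr3 : X2⁻¹ * (X0 * (X2 * (X0⁻¹ * 1))) = 1) (hr4 : X2⁻¹ * (X1 * (X2 * (X1⁻¹ * 1))) = 1) (hr5 : X0 * (X1 * (X0 * (X1 * (X2⁻¹ * 1)))) = 1) : g111 X0 X1 X2 * X2 = g116 X0 X1 X2 :=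
  deduce (path_cons (inv_edge (E_96_2 X0 X1 X2 hr0 hr1 hr2 hr3 hr4 hr5)) (path_cons (E_96_1 X0 X1 X2) (path_nil (g111 X0 X1 X2)))) (path_cons (inv_edge (E_104_1 X0 X1 X2)) (path_nil (g104 X0 X1 X2))) (rel_4_2 X0 X1 X2 hr0 hr1 hr2 hr3 hr4 hr5)
theorem E_117_0 (X0 X1 X2 : M) (hr0 : X0 * (X0 * (X0 * 1)) = 1) (hr1 : X1 * (X1 * (X1 * (X1 * (X1 * 1)))) = 1) (hr2 : X2 * (X2 * 1) = 1) (hr3 : X2⁻¹ * (X0 * (X2 * (X0⁻¹ * 1))) = 1) (hr4 : X2⁻¹ * (X1 * (X2 * (X1⁻¹ * 1))) = 1) (hr5 : X0 * (X1 * (X0 * (X1 * (X2⁻¹ * 1)))) = 1) : g117 X0 X1 X2 * X0 = g111 X0 X1 X2 :=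
  deduce (path_cons (E_91_0 X0 X1 X2) (path_cons (E_107_1 X0 X1 X2) (path_nil (g117 X0 X1 X2)))) (path_cons (E_111_1 X0 X1 X2 hr0 hr1 hr2 hr3 hr4 hr5) (path_cons (inv_edge (E_91_2 X0 X1 X2)) (path_nil (g91 X0 X1 X2)))) (rel_5_2 X0 X1 X2 hr0 hr1 hr2 hr3 hr4 hr5)
theorem E_116_0 (X0 X1 X2 : M) (hr0 : X0 * (X0 * (X0 * 1)) = 1) (hr1 : X1 * (X1 * (X1 * (X1 * (X1 * 1)))) = 1) (hr2 : X2 * (X2 * 1) = 1) (hr3 : X2⁻¹ * (X0 * (X2 * (X0⁻¹ * 1))) = 1) (hr4 : X2⁻¹ * (X1 * (X2 * (X1⁻¹ * 1))) = 1) (hr5 : X0 * (X1 * (X0 * (X1 * (X2⁻¹ * 1)))) = 1) : g116 X0 X1 X2 * X0 = g109 X0 X1 X2 :=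
  deduce (path_cons (E_97_0 X0 X1 X2 hr0 hr1 hr2 hr3 hr4 hr5) (path_cons (E_104_1 X0 X1 X2) (path_nil (g116 X0 X1 X2)))) (path_cons (E_109_1 X0 X1 X2 hr0 hr1 hr2 hr3 hr4 hr5) (path_cons (inv_edge (E_97_2 X0 X1 X2 hr0 hr1 hr2 hr3 hr4 hr5)) (path_nil (g97 X0 X1 X2)))) (rel_5_2 X0 X1 X2 hr0 hr1 hr2 hr3 hr4 hr5)
theorem E_119_0 (X0 X1 X2 : M) (hr0 : X0 * (X0 * (X0 * 1)) = 1) (hr1 : X1 * (X1 * (X1 * (X1 * (X1 * 1)))) = 1) (hr2 : X2 * (X2 * 1) = 1) (hr3 : X2⁻¹ * (X0 * (X2 * (X0⁻¹ * 1))) = 1) (hr4 : X2⁻¹ * (X1 * (X2 * (X1⁻¹ * 1))) = 1) (hr5 : X0 * (X1 * (X0 * (X1 * (X2⁻¹ * 1)))) = 1) : g119 X0 X1 X2 * X0 = g117 X0 X1 X2 :=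
  deduce (path_cons (E_102_0 X0 X1 X2 hr0 hr1 hr2 hr3 hr4 hr5) (path_cons (E_110_1 X0 X1 X2 hr0 hr1 hr2 hr3 hr4 hr5) (path_nil (g119 X0 X1 X2)))) (path_cons (E_117_1 X0 X1 X2 hr0 hr1 hr2 hr3 hr4 hr5) (path_cons (inv_edge (E_102_2 X0 X1 X2)) (path_nil (g102 X0 X1 X2)))) (rel_5_2 X0 X1 X2 hr0 hr1 hr2 hr3 hr4 hr5)
theorem E_118_1 (X0 X1 X2 : M) (hr0 : X0 * (X0 * (X0 * 1)) = 1) (hr1 : X1 * (X1 * (X1 * (X1 * (X1 * 1)))) = 1) (hr2 : X2 * (X2 * 1) = 1) (hr3 : X2⁻¹ * (X0 * (X2 * (X0⁻¹ * 1))) = 1) (hr4 : X2⁻¹ * (X1 * (X2 * (X1⁻¹ * 1))) = 1) (hr5 : X0 * (X1 * (X0 * (X1 * (X2⁻¹ * 1)))) = 1) : g118 X0 X1 X2 * X1 = g102 X0 X1 X2 :=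
  deduce (path_cons (E_109_0 X0 X1 X2) (path_nil (g118 X0 X1 X2))) (path_cons (E_102_0 X0 X1 X2 hr0 hr1 hr2 hr3 hr4 hr5) (path_cons (E_110_1 X0 X1 X2 hr0 hr1 hr2 hr3 hr4 hr5) (path_cons (inv_edge (E_109_2 X0 X1 X2)) (path_nil (g109 X0 X1 X2))))) (rel_5_1 X0 X1 X2 hr0 hr1 hr2 hr3 hr4 hr5)
theorem E_118_0 (X0 X1 X2 : M) (hr0 : X0 * (X0 * (X0 * 1)) = 1) (hr1 : X1 * (X1 * (X1 * (X1 * (X1 * 1)))) = 1) (hr2 : X2 * (X2 * 1) = 1) (hr3 : X2⁻¹ * (X0 * (X2 * (X0⁻¹ * 1))) = 1) (hr4 : X2⁻¹ * (X1 * (X2 * (X1⁻¹ * 1))) = 1) (hr5 : X0 * (X1 * (X0 * (X1 * (X2⁻¹ * 1)))) = 1) : g118 X0 X1 X2 * X0 = g116 X0 X1 X2 :=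
  deduce (path_cons (E_109_0 X0 X1 X2) (path_nil (g118 X0 X1 X2))) (path_cons (E_116_0 X0 X1 X2 hr0 hr1 hr2 hr3 hr4 hr5) (path_nil (g109 X0 X1 X2))) (rel_0_1 X0 X1 X2 hr0 hr1 hr2 hr3 hr4 hr5)
theorem E_112_1 (X0 X1 X2 : M) (hr0 : X0 * (X0 * (X0 * 1)) = 1) (hr1 : X1 * (X1 * (X1 * (X1 * (X1 * 1)))) = 1) (hr2 : X2 * (X2 * 1) = 1) (hr3 : X2⁻¹ * (X0 * (X2 * (X0⁻¹ * 1))) = 1) (hr4 : X2⁻¹ * (X1 * (X2 * (X1⁻¹ * 1))) = 1) (hr5 : X0 * (X1 * (X0 * (X1 * (X2⁻¹ * 1)))) = 1) : g112 X0 X1 X2 * X1 = g118 X0 X1 X2 :=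
  deduce (path_cons (E_98_1 X0 X1 X2) (path_nil (g112 X0 X1 X2))) (path_cons (E_118_1 X0 X1 X2 hr0 hr1 hr2 hr3 hr4 hr5) (path_cons (E_102_1 X0 X1 X2 hr0 hr1 hr2 hr3 hr4 hr5) (path_cons (E_114_1 X0 X1 X2 hr0 hr1 hr2 hr3 hr4 hr5) (path_nil (g98 X0 X1 X2))))) (rel_1_1 X0 X1 X2 hr0 hr1 hr2 hr3 hr4 hr5)
theorem E_117_2 (X0 X1 X2 : M) (hr0 : X0 * (X0 * (X0 * 1)) = 1) (hr1 : X1 * (X1 * (X1 * (X1 * (X1 * 1)))) = 1) (hr2 : X2 * (X2 * 1) = 1) (hr3 : X2⁻¹ * (X0 * (X2 * (X0⁻¹ * 1))) = 1) (hr4 : X2⁻¹ * (X1 * (X2 * (X1⁻¹ * 1))) = 1) (hr5 : X0 * (X1 * (X0 * (X1 * (X2⁻¹ * 1)))) = 1) : g117 X0 X1 X2 * X2 = g118 X0 X1 X2 :=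
  deduce (path_cons (inv_edge (E_119_2 X0 X1 X2 hr0 hr1 hr2 hr3 hr4 hr5)) (path_cons (E_119_0 X0 X1 X2 hr0 hr1 hr2 hr3 hr4 hr5) (path_nil (g117 X0 X1 X2)))) (path_cons (inv_edge (E_109_0 X0 X1 X2)) (path_nil (g109 X0 X1 X2))) (rel_3_2 X0 X1 X2 hr0 hr1 hr2 hr3 hr4 hr5)
theorem E_118_2 (X0 X1 X2 : M) (hr0 : X0 * (X0 * (X0 * 1)) = 1) (hr1 : X1 * (X1 * (X1 * (X1 * (X1 * 1)))) = 1) (hr2 : X2 * (X2 * 1) = 1) (hr3 : X2⁻¹ * (X0 * (X2 * (X0⁻¹ * 1))) = 1) (hr4 : X2⁻¹ * (X1 * (X2 * (X1⁻¹ * 1))) = 1) (hr5 : X0 * (X1 * (X0 * (X1 * (X2⁻¹ * 1)))) = 1) : g118 X0 X1 X2 * X2 = g117 X0 X1 X2 :=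
  edge_of_inv (deduce (path_nil (g117 X0 X1 X2)) (path_cons (E_118_0 X0 X1 X2 hr0 hr1 hr2 hr3 hr4 hr5) (path_cons (E_116_2 X0 X1 X2 hr0 hr1 hr2 hr3 hr4 hr5) (path_cons (inv_edge (E_117_0 X0 X1 X2 hr0 hr1 hr2 hr3 hr4 hr5)) (path_nil (g117 X0 X1 X2))))) (rel_3_0 X0 X1 X2 hr0 hr1 hr2 hr3 hr4 hr5))

def gAll (X0 X1 X2 : M) : Fin 120 → M := ![g0 X0 X1 X2, g1 X0 X1 X2, g2 X0 X1 X2, g3 X0 X1 X2, g4 X0 X1 X2, g5 X0 X1 X2, g6 X0 X1 X2, g7 X0 X1 X2, g8 X0 X1 X2, g9 X0 X1 X2, g10 X0 X1 X2, g11 X0 X1 X2, g12 X0 X1 X2, g13 X0 X1 X2, g14 X0 X1 X2, g15 X0 X1 X2, g16 X0 X1 X2, g17 X0 X1 X2, g18 X0 X1 X2, g19 X0 X1 X2, g20 X0 X1 X2, g21 X0 X1 X2, g22 X0 X1 X2, g23 X0 X1 X2, g24 X0 X1 X2, g25 X0 X1 X2, g26 X0 X1 X2, g27 X0 X1 X2, g28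 X0 X1 X2, g29 X0 X1 X2, g30 X0 X1 X2, g31 X0 X1 X2, g32 X0 X1 X2, g33 X0 X1 X2, g34 X0 X1 X2, g35 X0 X1 X2, g36 X0 X1 X2, g37 X0 X1 X2, g38 X0 X1 X2, g39 X0 X1 X2, g40 X0 X1 X2, g41 X0 X1 X2, g42 X0 X1 X2, g43 X0 X1 X2, g44 X0 X1 X2, g45 X0 X1 X2, g46 X0 X1 X2, g47 X0 X1 X2, g48 X0 X1 X2, g49 X0 X1 X2, g50 X0 X1 X2, g51 X0 X1 X2, g52 X0 X1 X2, g53 X0 X1 X2, g54 X0 X1 X2, g55 X0 X1 X2, g56 X0 X1 X2, g57 X0 X1 X2, g58 X0 X1 X2, g59 X0 X1 X2, g60 X0 X1 X2, g61 X0 X1 X2, g62 X0 X1 X2, g63 X0 X1 X2, g64 X0 X1 X2, g65 X0 X1 X2, g66 X0 X1 X2, g67 X0 X1 X2, g68 X0 X1 X2, g69 X0 X1 X2, g70 X0 X1 X2, g71 X0 X1 X2, g72 X0 X1 X2, g73 X0 X1 X2, g74 X0 X1 X2, g75 X0 X1 X2, g76 X0 X1 X2, g77 X0 X1 X2, g78 X0 X1 X2, g79 X0 X1 X2, g80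 X0 X1 X2, g81 X0 X1 X2, g82 X0 X1 X2, g83 X0 X1 X2, g84 X0 X1 X2, g85 X0 X1 X2, g86 X0 X1 X2, g87 X0 X1 X2, g88 X0 X1 X2, g89 X0 X1 X2, g90 X0 X1 X2, g91 X0 X1 X2, g92 X0 X1 X2, g93 X0 X1 X2, g94 X0 X1 X2, g95 X0 X1 X2, g96 X0 X1 X2, g97 X0 X1 X2, g98 X0 X1 X2, g99 X0 X1 X2, g100 X0 X1 X2, g101 X0 X1 X2, g102 X0 X1 X2, g103 X0 X1 X2, g104 X0 X1 X2, g105 X0 X1 X2, g106 X0 X1 X2, g107 X0 X1 X2, g108 X0 X1 X2, g109 X0 X1 X2, g110 X0 X1 X2, g111 X0 X1 X2, g112 X0 X1 X2, g113 X0 X1 X2, g114 X0 X1 X2, g115 X0 X1 X2, g116 X0 X1 X2, g117 X0 X1 X2, g118 X0 X1 X2, g119 X0 X1 X2]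
def nx0 : Fin 120 → Fin 120 := ![1, 4, 7, 6, 0, 12, 11, 15, 17, 16, 20, 3, 23, 25, 24, 2, 29, 30, 32, 31, 34, 36, 35, 5, 40, 41, 43, 42, 37, 9, 8, 48, 39, 49, 10, 51, 52, 54, 53, 18, 14, 13, 59, 50, 60, 61, 55, 62, 19, 57, 26, 22, 21, 69, 28, 70, 71, 33, 72, 27, 67, 76, 78, 77, 80, 79, 82, 44, 83, 38, 46, 87, 89, 88, 91, 90, 45, 94, 47, 95, 96, 97, 98, 100, 99, 102, 101, 56, 105, 58, 106, 107, 108, 103, 63, 65, 64, 104, 66, 113, 68, 114, 110, 115, 81, 73, 75, 74, 112, 118, 85, 119, 92, 84, 86, 93, 109, 111, 116, 117]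
def pv0 : Fin 120 → Fin 120 := ![4, 0, 15, 11, 1, 23, 3, 2, 30, 29, 34, 6, 5, 41, 40, 7, 9, 8, 39, 48, 10, 52, 51, 12, 14, 13, 50, 59, 54, 16, 17, 19, 18, 57, 20, 22, 21, 28, 69, 32, 24, 25, 27, 26, 67, 76, 70, 78, 31, 33, 43, 35, 36, 38, 37, 46, 87, 49, 89, 42, 44, 45, 47, 94, 96, 95, 98, 60, 100, 53, 55, 56, 58, 105, 107, 106, 61, 63, 62, 65, 64, 104, 66, 68, 113, 110, 114, 71, 73, 72, 75, 74, 112, 115, 77, 79, 80, 81, 82, 84, 83, 86, 85, 93, 97, 88, 90, 91, 92, 116, 102, 117, 108, 99, 101, 103, 118, 119, 109, 111]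
def nx1 : Fin 120 → Fin 120 := ![2, 5, 8, 9, 10, 13, 14, 11, 18, 19, 21, 22, 3, 26, 27, 28, 4, 29, 24, 33, 6, 37, 38, 39, 0, 40, 35, 44, 45, 46, 47, 15, 48, 12, 50, 1, 51, 16, 55, 56, 57, 58, 23, 59, 20, 62, 63, 64, 65, 30, 66, 67, 68, 34, 69, 7, 72, 73, 74, 75, 41, 70, 31, 79, 71, 81, 83, 84, 85, 86, 52, 49, 42, 90, 82, 92, 93, 54, 94, 17, 95, 88, 60, 53, 101, 61, 103, 104, 32, 105, 25, 106, 99, 109, 110, 76, 111, 78, 112, 43, 113, 36, 114, 77, 116, 96, 87, 117, 89, 80, 119, 108, 118, 107, 98, 100, 91, 115, 102, 97]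
def pv1 : Fin 120 → Fin 120 := ![24, 35, 0, 12, 16, 1, 20, 55, 2, 3, 4, 7, 33, 5, 6, 31, 37, 79, 8, 9, 44, 10, 11, 42, 18, 90, 13, 14, 15, 17, 49, 62, 88, 19, 53, 26, 101, 21, 22, 23, 25, 60, 72, 99, 27, 28, 29, 30, 32, 71, 34, 36, 70, 83, 77, 38, 39, 40, 41, 43, 82, 85, 45, 46, 47, 48, 50, 51, 52, 54, 61, 64, 56, 57, 58, 59, 95, 103, 97, 63, 109, 65, 74, 66, 67, 68, 69, 106, 81, 108, 73, 116, 75, 76, 78, 80, 105, 119, 114, 92, 115, 84, 118, 86, 87, 89, 91, 113, 111, 93, 94, 96, 98, 100, 102, 117, 104, 107, 112, 110]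
def nx2 : Fin 120 → Fin 120 := ![3, 6, 9, 0, 11, 14, 1, 16, 19, 2, 22, 4, 24, 27, 5, 29, 7, 31, 33, 8, 35, 38, 10, 40, 12, 42, 44, 13, 46, 15, 48, 17, 49, 18, 51, 20, 53, 55, 21, 57, 23, 59, 25, 60, 26, 63, 28, 65, 30, 32, 67, 34, 69, 36, 70, 37, 73, 39, 75, 41, 43, 77, 79, 45, 81, 47, 84, 50, 86, 52, 54, 88, 90, 56, 92, 58, 94, 61, 95, 62, 97, 64, 99, 101, 66, 103, 68, 105, 71, 106, 72, 108, 74, 110, 76, 78, 104, 80, 113, 82, 114, 83, 115, 85, 96, 87, 89, 112, 91, 119, 93, 116, 107, 98, 100, 102, 111, 118, 117, 109]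
def pv2 : Fin 120 → Fin 120 := ![3, 6, 9, 0, 11, 14, 1, 16, 19, 2, 22, 4, 24, 27, 5, 29, 7, 31, 33, 8, 35, 38, 10, 40, 12, 42, 44, 13, 46, 15, 48, 17, 49, 18, 51, 20, 53, 55, 21, 57, 23, 59, 25, 60, 26, 63, 28, 65, 30, 32, 67, 34, 69, 36, 70, 37, 73, 39, 75, 41, 43, 77, 79, 45, 81, 47, 84, 50, 86, 52, 54, 88, 90, 56, 92, 58, 94, 61, 95, 62, 97, 64, 99, 101, 66, 103, 68, 105, 71, 106, 72, 108, 74, 110, 76, 78, 104, 80, 113, 82, 114, 83, 115, 85, 96, 87, 89, 112, 91, 119, 93, 116, 107, 98, 100, 102, 111, 118, 117, 109]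

set_option maxRecDepth 100000 in
theorem stepAll0 (X0 X1 X2 : M) (hr0 : X0 * (X0 * (X0 * 1)) = 1) (hr1 : X1 * (X1 * (X1 * (X1 * (X1 * 1)))) = 1) (hr2 : X2 * (X2 * 1) = 1) (hr3 : X2⁻¹ * (X0 * (X2 * (X0⁻¹ * 1))) = 1) (hr4 : X2⁻¹ * (X1 * (X2 * (X1⁻¹ * 1))) = 1) (hr5 : X0 * (X1 * (X0 * (X1 * (X2⁻¹ * 1)))) = 1) : ∀ i : Fin 120, gAll X0 X1 X2 i * X0 = gAll X0 X1 X2 (nx0 i) := by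
  intro i; fin_cases i
  · exact (E_0_0 X0 X1 X2)
  · exact (E_1_0 X0 X1 X2)
  · exact (E_2_0 X0 X1 X2)
  · exact (E_3_0 X0 X1 X2 hr0 hr1 hr2 hr3 hr4 hr5)
  · exact (E_4_0 X0 X1 X2 hr0 hr1 hr2 hr3 hr4 hr5)
  · exact (E_5_0 X0 X1 X2)
  · exact (E_6_0 X0 X1 X2 hr0 hr1 hr2 hr3 hr4 hr5)
  · exact (E_7_0 X0 X1 X2)
  · exact (E_8_0 X0 X1 X2)
  · exact (E_9_0 X0 X1 X2 hr0 hr1 hr2 hr3 hr4 hr5)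
  · exact (E_10_0 X0 X1 X2)
  · exact (E_11_0 X0 X1 X2 hr0 hr1 hr2 hr3 hr4 hr5)
  · exact (E_12_0 X0 X1 X2)
  · exact (E_13_0 X0 X1 X2)
  · exact (E_14_0 X0 X1 X2 hr0 hr1 hr2 hr3 hr4 hr5)
  · exact (E_15_0 X0 X1 X2 hr0 hr1 hr2 hr3 hr4 hr5)
  · exact (E_16_0 X0 X1 X2 hr0 hr1 hr2 hr3 hr4 hr5)
  · exact (E_17_0 X0 X1 X2)
  · exact (E_18_0 X0 X1 X2)
  · exact (E_19_0 X0 X1 X2 hr0 hr1 hr2 hr3 hr4 hr5)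
  · exact (E_20_0 X0 X1 X2)
  · exact (E_21_0 X0 X1 X2)
  · exact (E_22_0 X0 X1 X2 hr0 hr1 hr2 hr3 hr4 hr5)
  · exact (E_23_0 X0 X1 X2 hr0 hr1 hr2 hr3 hr4 hr5)
  · exact (E_24_0 X0 X1 X2 hr0 hr1 hr2 hr3 hr4 hr5)
  · exact (E_25_0 X0 X1 X2)
  · exact (E_26_0 X0 X1 X2)
  · exact (E_27_0 X0 X1 X2 hr0 hr1 hr2 hr3 hr4 hr5)
  · exact (E_28_0 X0 X1 X2 hr0 hr1 hr2 hr3 hr4 hr5)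
  · exact (E_29_0 X0 X1 X2 hr0 hr1 hr2 hr3 hr4 hr5)
  · exact (E_30_0 X0 X1 X2 hr0 hr1 hr2 hr3 hr4 hr5)
  · exact (E_31_0 X0 X1 X2 hr0 hr1 hr2 hr3 hr4 hr5)
  · exact (E_32_0 X0 X1 X2 hr0 hr1 hr2 hr3 hr4 hr5)
  · exact (E_33_0 X0 X1 X2 hr0 hr1 hr2 hr3 hr4 hr5)
  · exact (E_34_0 X0 X1 X2 hr0 hr1 hr2 hr3 hr4 hr5)
  · exact (E_35_0 X0 X1 X2 hr0 hr1 hr2 hr3 hr4 hr5)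
  · exact (E_36_0 X0 X1 X2)
  · exact (E_37_0 X0 X1 X2)
  · exact (E_38_0 X0 X1 X2 hr0 hr1 hr2 hr3 hr4 hr5)
  · exact (E_39_0 X0 X1 X2 hr0 hr1 hr2 hr3 hr4 hr5)
  · exact (E_40_0 X0 X1 X2 hr0 hr1 hr2 hr3 hr4 hr5)
  · exact (E_41_0 X0 X1 X2 hr0 hr1 hr2 hr3 hr4 hr5)
  · exact (E_42_0 X0 X1 X2 hr0 hr1 hr2 hr3 hr4 hr5)
  · exact (E_43_0 X0 X1 X2 hr0 hr1 hr2 hr3 hr4 hr5)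
  · exact (E_44_0 X0 X1 X2 hr0 hr1 hr2 hr3 hr4 hr5)
  · exact (E_45_0 X0 X1 X2)
  · exact (E_46_0 X0 X1 X2 hr0 hr1 hr2 hr3 hr4 hr5)
  · exact (E_47_0 X0 X1 X2 hr0 hr1 hr2 hr3 hr4 hr5)
  · exact (E_48_0 X0 X1 X2 hr0 hr1 hr2 hr3 hr4 hr5)
  · exact (E_49_0 X0 X1 X2 hr0 hr1 hr2 hr3 hr4 hr5)
  · exact (E_50_0 X0 X1 X2 hr0 hr1 hr2 hr3 hr4 hr5)
  · exact (E_51_0 X0 X1 X2 hr0 hr1 hr2 hr3 hr4 hr5)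
  · exact (E_52_0 X0 X1 X2 hr0 hr1 hr2 hr3 hr4 hr5)
  · exact (E_53_0 X0 X1 X2 hr0 hr1 hr2 hr3 hr4 hr5)
  · exact (E_54_0 X0 X1 X2 hr0 hr1 hr2 hr3 hr4 hr5)
  · exact (E_55_0 X0 X1 X2 hr0 hr1 hr2 hr3 hr4 hr5)
  · exact (E_56_0 X0 X1 X2)
  · exact (E_57_0 X0 X1 X2 hr0 hr1 hr2 hr3 hr4 hr5)
  · exact (E_58_0 X0 X1 X2 hr0 hr1 hr2 hr3 hr4 hr5)
  · exact (E_59_0 X0 X1 X2 hr0 hr1 hr2 hr3 hr4 hr5)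
  · exact (E_60_0 X0 X1 X2 hr0 hr1 hr2 hr3 hr4 hr5)
  · exact (E_61_0 X0 X1 X2)
  · exact (E_62_0 X0 X1 X2)
  · exact (E_63_0 X0 X1 X2 hr0 hr1 hr2 hr3 hr4 hr5)
  · exact (E_64_0 X0 X1 X2)
  · exact (E_65_0 X0 X1 X2 hr0 hr1 hr2 hr3 hr4 hr5)
  · exact (E_66_0 X0 X1 X2)
  · exact (E_67_0 X0 X1 X2 hr0 hr1 hr2 hr3 hr4 hr5)
  · exact (E_68_0 X0 X1 X2 hr0 hr1 hr2 hr3 hr4 hr5)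
  · exact (E_69_0 X0 X1 X2 hr0 hr1 hr2 hr3 hr4 hr5)
  · exact (E_70_0 X0 X1 X2 hr0 hr1 hr2 hr3 hr4 hr5)
  · exact (E_71_0 X0 X1 X2)
  · exact (E_72_0 X0 X1 X2)
  · exact (E_73_0 X0 X1 X2 hr0 hr1 hr2 hr3 hr4 hr5)
  · exact (E_74_0 X0 X1 X2)
  · exact (E_75_0 X0 X1 X2 hr0 hr1 hr2 hr3 hr4 hr5)
  · exact (E_76_0 X0 X1 X2 hr0 hr1 hr2 hr3 hr4 hr5)
  · exact (E_77_0 X0 X1 X2 hr0 hr1 hr2 hr3 hr4 hr5)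
  · exact (E_78_0 X0 X1 X2 hr0 hr1 hr2 hr3 hr4 hr5)
  · exact (E_79_0 X0 X1 X2 hr0 hr1 hr2 hr3 hr4 hr5)
  · exact (E_80_0 X0 X1 X2)
  · exact (E_81_0 X0 X1 X2 hr0 hr1 hr2 hr3 hr4 hr5)
  · exact (E_82_0 X0 X1 X2)
  · exact (E_83_0 X0 X1 X2)
  · exact (E_84_0 X0 X1 X2 hr0 hr1 hr2 hr3 hr4 hr5)
  · exact (E_85_0 X0 X1 X2)
  · exact (E_86_0 X0 X1 X2 hr0 hr1 hr2 hr3 hr4 hr5)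
  · exact (E_87_0 X0 X1 X2 hr0 hr1 hr2 hr3 hr4 hr5)
  · exact (E_88_0 X0 X1 X2 hr0 hr1 hr2 hr3 hr4 hr5)
  · exact (E_89_0 X0 X1 X2 hr0 hr1 hr2 hr3 hr4 hr5)
  · exact (E_90_0 X0 X1 X2 hr0 hr1 hr2 hr3 hr4 hr5)
  · exact (E_91_0 X0 X1 X2)
  · exact (E_92_0 X0 X1 X2 hr0 hr1 hr2 hr3 hr4 hr5)
  · exact (E_93_0 X0 X1 X2 hr0 hr1 hr2 hr3 hr4 hr5)
  · exact (E_94_0 X0 X1 X2 hr0 hr1 hr2 hr3 hr4 hr5)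
  · exact (E_95_0 X0 X1 X2 hr0 hr1 hr2 hr3 hr4 hr5)
  · exact (E_96_0 X0 X1 X2 hr0 hr1 hr2 hr3 hr4 hr5)
  · exact (E_97_0 X0 X1 X2 hr0 hr1 hr2 hr3 hr4 hr5)
  · exact (E_98_0 X0 X1 X2 hr0 hr1 hr2 hr3 hr4 hr5)
  · exact (E_99_0 X0 X1 X2 hr0 hr1 hr2 hr3 hr4 hr5)
  · exact (E_100_0 X0 X1 X2 hr0 hr1 hr2 hr3 hr4 hr5)
  · exact (E_101_0 X0 X1 X2 hr0 hr1 hr2 hr3 hr4 hr5)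
  · exact (E_102_0 X0 X1 X2 hr0 hr1 hr2 hr3 hr4 hr5)
  · exact (E_103_0 X0 X1 X2 hr0 hr1 hr2 hr3 hr4 hr5)
  · exact (E_104_0 X0 X1 X2 hr0 hr1 hr2 hr3 hr4 hr5)
  · exact (E_105_0 X0 X1 X2 hr0 hr1 hr2 hr3 hr4 hr5)
  · exact (E_106_0 X0 X1 X2 hr0 hr1 hr2 hr3 hr4 hr5)
  · exact (E_107_0 X0 X1 X2 hr0 hr1 hr2 hr3 hr4 hr5)
  · exact (E_108_0 X0 X1 X2 hr0 hr1 hr2 hr3 hr4 hr5)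
  · exact (E_109_0 X0 X1 X2)
  · exact (E_110_0 X0 X1 X2 hr0 hr1 hr2 hr3 hr4 hr5)
  · exact (E_111_0 X0 X1 X2 hr0 hr1 hr2 hr3 hr4 hr5)
  · exact (E_112_0 X0 X1 X2 hr0 hr1 hr2 hr3 hr4 hr5)
  · exact (E_113_0 X0 X1 X2 hr0 hr1 hr2 hr3 hr4 hr5)
  · exact (E_114_0 X0 X1 X2 hr0 hr1 hr2 hr3 hr4 hr5)
  · exact (E_115_0 X0 X1 X2 hr0 hr1 hr2 hr3 hr4 hr5)
  · exact (E_116_0 X0 X1 X2 hr0 hr1 hr2 hr3 hr4 hr5)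
  · exact (E_117_0 X0 X1 X2 hr0 hr1 hr2 hr3 hr4 hr5)
  · exact (E_118_0 X0 X1 X2 hr0 hr1 hr2 hr3 hr4 hr5)
  · exact (E_119_0 X0 X1 X2 hr0 hr1 hr2 hr3 hr4 hr5)
set_option maxRecDepth 100000 in
theorem stepInv0 (X0 X1 X2 : M) (hr0 : X0 * (X0 * (X0 * 1)) = 1) (hr1 : X1 * (X1 * (X1 * (X1 * (X1 * 1)))) = 1) (hr2 : X2 * (X2 * 1) = 1) (hr3 : X2⁻¹ * (X0 * (X2 * (X0⁻¹ * 1))) = 1) (hr4 : X2⁻¹ * (X1 * (X2 * (X1⁻¹ * 1))) = 1) (hr5 : X0 * (X1 * (X0 * (X1 * (X2⁻¹ * 1)))) = 1) : ∀ i : Fin 120, gAll X0 X1 X2 i * X0⁻¹ = gAll X0 X1 X2 (pv0 i) := by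
  intro i; fin_cases i
  · exact inv_edge (E_4_0 X0 X1 X2 hr0 hr1 hr2 hr3 hr4 hr5)
  · exact inv_edge (E_0_0 X0 X1 X2)
  · exact inv_edge (E_15_0 X0 X1 X2 hr0 hr1 hr2 hr3 hr4 hr5)
  · exact inv_edge (E_11_0 X0 X1 X2 hr0 hr1 hr2 hr3 hr4 hr5)
  · exact inv_edge (E_1_0 X0 X1 X2)
  · exact inv_edge (E_23_0 X0 X1 X2 hr0 hr1 hr2 hr3 hr4 hr5)
  · exact inv_edge (E_3_0 X0 X1 X2 hr0 hr1 hr2 hr3 hr4 hr5)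
  · exact inv_edge (E_2_0 X0 X1 X2)
  · exact inv_edge (E_30_0 X0 X1 X2 hr0 hr1 hr2 hr3 hr4 hr5)
  · exact inv_edge (E_29_0 X0 X1 X2 hr0 hr1 hr2 hr3 hr4 hr5)
  · exact inv_edge (E_34_0 X0 X1 X2 hr0 hr1 hr2 hr3 hr4 hr5)
  · exact inv_edge (E_6_0 X0 X1 X2 hr0 hr1 hr2 hr3 hr4 hr5)
  · exact inv_edge (E_5_0 X0 X1 X2)
  · exact inv_edge (E_41_0 X0 X1 X2 hr0 hr1 hr2 hr3 hr4 hr5)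
  · exact inv_edge (E_40_0 X0 X1 X2 hr0 hr1 hr2 hr3 hr4 hr5)
  · exact inv_edge (E_7_0 X0 X1 X2)
  · exact inv_edge (E_9_0 X0 X1 X2 hr0 hr1 hr2 hr3 hr4 hr5)
  · exact inv_edge (E_8_0 X0 X1 X2)
  · exact inv_edge (E_39_0 X0 X1 X2 hr0 hr1 hr2 hr3 hr4 hr5)
  · exact inv_edge (E_48_0 X0 X1 X2 hr0 hr1 hr2 hr3 hr4 hr5)
  · exact inv_edge (E_10_0 X0 X1 X2)
  · exact inv_edge (E_52_0 X0 X1 X2 hr0 hr1 hr2 hr3 hr4 hr5)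
  · exact inv_edge (E_51_0 X0 X1 X2 hr0 hr1 hr2 hr3 hr4 hr5)
  · exact inv_edge (E_12_0 X0 X1 X2)
  · exact inv_edge (E_14_0 X0 X1 X2 hr0 hr1 hr2 hr3 hr4 hr5)
  · exact inv_edge (E_13_0 X0 X1 X2)
  · exact inv_edge (E_50_0 X0 X1 X2 hr0 hr1 hr2 hr3 hr4 hr5)
  · exact inv_edge (E_59_0 X0 X1 X2 hr0 hr1 hr2 hr3 hr4 hr5)
  · exact inv_edge (E_54_0 X0 X1 X2 hr0 hr1 hr2 hr3 hr4 hr5)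
  · exact inv_edge (E_16_0 X0 X1 X2 hr0 hr1 hr2 hr3 hr4 hr5)
  · exact inv_edge (E_17_0 X0 X1 X2)
  · exact inv_edge (E_19_0 X0 X1 X2 hr0 hr1 hr2 hr3 hr4 hr5)
  · exact inv_edge (E_18_0 X0 X1 X2)
  · exact inv_edge (E_57_0 X0 X1 X2 hr0 hr1 hr2 hr3 hr4 hr5)
  · exact inv_edge (E_20_0 X0 X1 X2)
  · exact inv_edge (E_22_0 X0 X1 X2 hr0 hr1 hr2 hr3 hr4 hr5)
  · exact inv_edge (E_21_0 X0 X1 X2)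
  · exact inv_edge (E_28_0 X0 X1 X2 hr0 hr1 hr2 hr3 hr4 hr5)
  · exact inv_edge (E_69_0 X0 X1 X2 hr0 hr1 hr2 hr3 hr4 hr5)
  · exact inv_edge (E_32_0 X0 X1 X2 hr0 hr1 hr2 hr3 hr4 hr5)
  · exact inv_edge (E_24_0 X0 X1 X2 hr0 hr1 hr2 hr3 hr4 hr5)
  · exact inv_edge (E_25_0 X0 X1 X2)
  · exact inv_edge (E_27_0 X0 X1 X2 hr0 hr1 hr2 hr3 hr4 hr5)
  · exact inv_edge (E_26_0 X0 X1 X2)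
  · exact inv_edge (E_67_0 X0 X1 X2 hr0 hr1 hr2 hr3 hr4 hr5)
  · exact inv_edge (E_76_0 X0 X1 X2 hr0 hr1 hr2 hr3 hr4 hr5)
  · exact inv_edge (E_70_0 X0 X1 X2 hr0 hr1 hr2 hr3 hr4 hr5)
  · exact inv_edge (E_78_0 X0 X1 X2 hr0 hr1 hr2 hr3 hr4 hr5)
  · exact inv_edge (E_31_0 X0 X1 X2 hr0 hr1 hr2 hr3 hr4 hr5)
  · exact inv_edge (E_33_0 X0 X1 X2 hr0 hr1 hr2 hr3 hr4 hr5)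
  · exact inv_edge (E_43_0 X0 X1 X2 hr0 hr1 hr2 hr3 hr4 hr5)
  · exact inv_edge (E_35_0 X0 X1 X2 hr0 hr1 hr2 hr3 hr4 hr5)
  · exact inv_edge (E_36_0 X0 X1 X2)
  · exact inv_edge (E_38_0 X0 X1 X2 hr0 hr1 hr2 hr3 hr4 hr5)
  · exact inv_edge (E_37_0 X0 X1 X2)
  · exact inv_edge (E_46_0 X0 X1 X2 hr0 hr1 hr2 hr3 hr4 hr5)
  · exact inv_edge (E_87_0 X0 X1 X2 hr0 hr1 hr2 hr3 hr4 hr5)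
  · exact inv_edge (E_49_0 X0 X1 X2 hr0 hr1 hr2 hr3 hr4 hr5)
  · exact inv_edge (E_89_0 X0 X1 X2 hr0 hr1 hr2 hr3 hr4 hr5)
  · exact inv_edge (E_42_0 X0 X1 X2 hr0 hr1 hr2 hr3 hr4 hr5)
  · exact inv_edge (E_44_0 X0 X1 X2 hr0 hr1 hr2 hr3 hr4 hr5)
  · exact inv_edge (E_45_0 X0 X1 X2)
  · exact inv_edge (E_47_0 X0 X1 X2 hr0 hr1 hr2 hr3 hr4 hr5)
  · exact inv_edge (E_94_0 X0 X1 X2 hr0 hr1 hr2 hr3 hr4 hr5)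
  · exact inv_edge (E_96_0 X0 X1 X2 hr0 hr1 hr2 hr3 hr4 hr5)
  · exact inv_edge (E_95_0 X0 X1 X2 hr0 hr1 hr2 hr3 hr4 hr5)
  · exact inv_edge (E_98_0 X0 X1 X2 hr0 hr1 hr2 hr3 hr4 hr5)
  · exact inv_edge (E_60_0 X0 X1 X2 hr0 hr1 hr2 hr3 hr4 hr5)
  · exact inv_edge (E_100_0 X0 X1 X2 hr0 hr1 hr2 hr3 hr4 hr5)
  · exact inv_edge (E_53_0 X0 X1 X2 hr0 hr1 hr2 hr3 hr4 hr5)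
  · exact inv_edge (E_55_0 X0 X1 X2 hr0 hr1 hr2 hr3 hr4 hr5)
  · exact inv_edge (E_56_0 X0 X1 X2)
  · exact inv_edge (E_58_0 X0 X1 X2 hr0 hr1 hr2 hr3 hr4 hr5)
  · exact inv_edge (E_105_0 X0 X1 X2 hr0 hr1 hr2 hr3 hr4 hr5)
  · exact inv_edge (E_107_0 X0 X1 X2 hr0 hr1 hr2 hr3 hr4 hr5)
  · exact inv_edge (E_106_0 X0 X1 X2 hr0 hr1 hr2 hr3 hr4 hr5)
  · exact inv_edge (E_61_0 X0 X1 X2)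
  · exact inv_edge (E_63_0 X0 X1 X2 hr0 hr1 hr2 hr3 hr4 hr5)
  · exact inv_edge (E_62_0 X0 X1 X2)
  · exact inv_edge (E_65_0 X0 X1 X2 hr0 hr1 hr2 hr3 hr4 hr5)
  · exact inv_edge (E_64_0 X0 X1 X2)
  · exact inv_edge (E_104_0 X0 X1 X2 hr0 hr1 hr2 hr3 hr4 hr5)
  · exact inv_edge (E_66_0 X0 X1 X2)
  · exact inv_edge (E_68_0 X0 X1 X2 hr0 hr1 hr2 hr3 hr4 hr5)
  · exact inv_edge (E_113_0 X0 X1 X2 hr0 hr1 hr2 hr3 hr4 hr5)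
  · exact inv_edge (E_110_0 X0 X1 X2 hr0 hr1 hr2 hr3 hr4 hr5)
  · exact inv_edge (E_114_0 X0 X1 X2 hr0 hr1 hr2 hr3 hr4 hr5)
  · exact inv_edge (E_71_0 X0 X1 X2)
  · exact inv_edge (E_73_0 X0 X1 X2 hr0 hr1 hr2 hr3 hr4 hr5)
  · exact inv_edge (E_72_0 X0 X1 X2)
  · exact inv_edge (E_75_0 X0 X1 X2 hr0 hr1 hr2 hr3 hr4 hr5)
  · exact inv_edge (E_74_0 X0 X1 X2)
  · exact inv_edge (E_112_0 X0 X1 X2 hr0 hr1 hr2 hr3 hr4 hr5)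
  · exact inv_edge (E_115_0 X0 X1 X2 hr0 hr1 hr2 hr3 hr4 hr5)
  · exact inv_edge (E_77_0 X0 X1 X2 hr0 hr1 hr2 hr3 hr4 hr5)
  · exact inv_edge (E_79_0 X0 X1 X2 hr0 hr1 hr2 hr3 hr4 hr5)
  · exact inv_edge (E_80_0 X0 X1 X2)
  · exact inv_edge (E_81_0 X0 X1 X2 hr0 hr1 hr2 hr3 hr4 hr5)
  · exact inv_edge (E_82_0 X0 X1 X2)
  · exact inv_edge (E_84_0 X0 X1 X2 hr0 hr1 hr2 hr3 hr4 hr5)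
  · exact inv_edge (E_83_0 X0 X1 X2)
  · exact inv_edge (E_86_0 X0 X1 X2 hr0 hr1 hr2 hr3 hr4 hr5)
  · exact inv_edge (E_85_0 X0 X1 X2)
  · exact inv_edge (E_93_0 X0 X1 X2 hr0 hr1 hr2 hr3 hr4 hr5)
  · exact inv_edge (E_97_0 X0 X1 X2 hr0 hr1 hr2 hr3 hr4 hr5)
  · exact inv_edge (E_88_0 X0 X1 X2 hr0 hr1 hr2 hr3 hr4 hr5)
  · exact inv_edge (E_90_0 X0 X1 X2 hr0 hr1 hr2 hr3 hr4 hr5)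
  · exact inv_edge (E_91_0 X0 X1 X2)
  · exact inv_edge (E_92_0 X0 X1 X2 hr0 hr1 hr2 hr3 hr4 hr5)
  · exact inv_edge (E_116_0 X0 X1 X2 hr0 hr1 hr2 hr3 hr4 hr5)
  · exact inv_edge (E_102_0 X0 X1 X2 hr0 hr1 hr2 hr3 hr4 hr5)
  · exact inv_edge (E_117_0 X0 X1 X2 hr0 hr1 hr2 hr3 hr4 hr5)
  · exact inv_edge (E_108_0 X0 X1 X2 hr0 hr1 hr2 hr3 hr4 hr5)
  · exact inv_edge (E_99_0 X0 X1 X2 hr0 hr1 hr2 hr3 hr4 hr5)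
  · exact inv_edge (E_101_0 X0 X1 X2 hr0 hr1 hr2 hr3 hr4 hr5)
  · exact inv_edge (E_103_0 X0 X1 X2 hr0 hr1 hr2 hr3 hr4 hr5)
  · exact inv_edge (E_118_0 X0 X1 X2 hr0 hr1 hr2 hr3 hr4 hr5)
  · exact inv_edge (E_119_0 X0 X1 X2 hr0 hr1 hr2 hr3 hr4 hr5)
  · exact inv_edge (E_109_0 X0 X1 X2)
  · exact inv_edge (E_111_0 X0 X1 X2 hr0 hr1 hr2 hr3 hr4 hr5)
set_option maxRecDepth 100000 in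
theorem stepAll1 (X0 X1 X2 : M) (hr0 : X0 * (X0 * (X0 * 1)) = 1) (hr1 : X1 * (X1 * (X1 * (X1 * (X1 * 1)))) = 1) (hr2 : X2 * (X2 * 1) = 1) (hr3 : X2⁻¹ * (X0 * (X2 * (X0⁻¹ * 1))) = 1) (hr4 : X2⁻¹ * (X1 * (X2 * (X1⁻¹ * 1))) = 1) (hr5 : X0 * (X1 * (X0 * (X1 * (X2⁻¹ * 1)))) = 1) : ∀ i : Fin 120, gAll X0 X1 X2 i * X1 = gAll X0 X1 X2 (nx1 i) := by
  intro i; fin_cases i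
  · exact (E_0_1 X0 X1 X2)
  · exact (E_1_1 X0 X1 X2)
  · exact (E_2_1 X0 X1 X2)
  · exact (E_3_1 X0 X1 X2 hr0 hr1 hr2 hr3 hr4 hr5)
  · exact (E_4_1 X0 X1 X2)
  · exact (E_5_1 X0 X1 X2)
  · exact (E_6_1 X0 X1 X2 hr0 hr1 hr2 hr3 hr4 hr5)
  · exact (E_7_1 X0 X1 X2 hr0 hr1 hr2 hr3 hr4 hr5)
  · exact (E_8_1 X0 X1 X2)
  · exact (E_9_1 X0 X1 X2 hr0 hr1 hr2 hr3 hr4 hr5)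
  · exact (E_10_1 X0 X1 X2)
  · exact (E_11_1 X0 X1 X2 hr0 hr1 hr2 hr3 hr4 hr5)
  · exact (E_12_1 X0 X1 X2 hr0 hr1 hr2 hr3 hr4 hr5)
  · exact (E_13_1 X0 X1 X2)
  · exact (E_14_1 X0 X1 X2 hr0 hr1 hr2 hr3 hr4 hr5)
  · exact (E_15_1 X0 X1 X2)
  · exact (E_16_1 X0 X1 X2 hr0 hr1 hr2 hr3 hr4 hr5)
  · exact (E_17_1 X0 X1 X2 hr0 hr1 hr2 hr3 hr4 hr5)
  · exact (E_18_1 X0 X1 X2 hr0 hr1 hr2 hr3 hr4 hr5)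
  · exact (E_19_1 X0 X1 X2 hr0 hr1 hr2 hr3 hr4 hr5)
  · exact (E_20_1 X0 X1 X2 hr0 hr1 hr2 hr3 hr4 hr5)
  · exact (E_21_1 X0 X1 X2)
  · exact (E_22_1 X0 X1 X2 hr0 hr1 hr2 hr3 hr4 hr5)
  · exact (E_23_1 X0 X1 X2)
  · exact (E_24_1 X0 X1 X2 hr0 hr1 hr2 hr3 hr4 hr5)
  · exact (E_25_1 X0 X1 X2 hr0 hr1 hr2 hr3 hr4 hr5)
  · exact (E_26_1 X0 X1 X2 hr0 hr1 hr2 hr3 hr4 hr5)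
  · exact (E_27_1 X0 X1 X2 hr0 hr1 hr2 hr3 hr4 hr5)
  · exact (E_28_1 X0 X1 X2)
  · exact (E_29_1 X0 X1 X2 hr0 hr1 hr2 hr3 hr4 hr5)
  · exact (E_30_1 X0 X1 X2)
  · exact (E_31_1 X0 X1 X2 hr0 hr1 hr2 hr3 hr4 hr5)
  · exact (E_32_1 X0 X1 X2 hr0 hr1 hr2 hr3 hr4 hr5)
  · exact (E_33_1 X0 X1 X2 hr0 hr1 hr2 hr3 hr4 hr5)
  · exact (E_34_1 X0 X1 X2)
  · exact (E_35_1 X0 X1 X2 hr0 hr1 hr2 hr3 hr4 hr5)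
  · exact (E_36_1 X0 X1 X2 hr0 hr1 hr2 hr3 hr4 hr5)
  · exact (E_37_1 X0 X1 X2 hr0 hr1 hr2 hr3 hr4 hr5)
  · exact (E_38_1 X0 X1 X2 hr0 hr1 hr2 hr3 hr4 hr5)
  · exact (E_39_1 X0 X1 X2)
  · exact (E_40_1 X0 X1 X2 hr0 hr1 hr2 hr3 hr4 hr5)
  · exact (E_41_1 X0 X1 X2)
  · exact (E_42_1 X0 X1 X2 hr0 hr1 hr2 hr3 hr4 hr5)
  · exact (E_43_1 X0 X1 X2 hr0 hr1 hr2 hr3 hr4 hr5)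
  · exact (E_44_1 X0 X1 X2 hr0 hr1 hr2 hr3 hr4 hr5)
  · exact (E_45_1 X0 X1 X2)
  · exact (E_46_1 X0 X1 X2 hr0 hr1 hr2 hr3 hr4 hr5)
  · exact (E_47_1 X0 X1 X2)
  · exact (E_48_1 X0 X1 X2 hr0 hr1 hr2 hr3 hr4 hr5)
  · exact (E_49_1 X0 X1 X2 hr0 hr1 hr2 hr3 hr4 hr5)
  · exact (E_50_1 X0 X1 X2)
  · exact (E_51_1 X0 X1 X2 hr0 hr1 hr2 hr3 hr4 hr5)
  · exact (E_52_1 X0 X1 X2)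
  · exact (E_53_1 X0 X1 X2 hr0 hr1 hr2 hr3 hr4 hr5)
  · exact (E_54_1 X0 X1 X2 hr0 hr1 hr2 hr3 hr4 hr5)
  · exact (E_55_1 X0 X1 X2 hr0 hr1 hr2 hr3 hr4 hr5)
  · exact (E_56_1 X0 X1 X2)
  · exact (E_57_1 X0 X1 X2 hr0 hr1 hr2 hr3 hr4 hr5)
  · exact (E_58_1 X0 X1 X2)
  · exact (E_59_1 X0 X1 X2 hr0 hr1 hr2 hr3 hr4 hr5)
  · exact (E_60_1 X0 X1 X2 hr0 hr1 hr2 hr3 hr4 hr5)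
  · exact (E_61_1 X0 X1 X2 hr0 hr1 hr2 hr3 hr4 hr5)
  · exact (E_62_1 X0 X1 X2 hr0 hr1 hr2 hr3 hr4 hr5)
  · exact (E_63_1 X0 X1 X2 hr0 hr1 hr2 hr3 hr4 hr5)
  · exact (E_64_1 X0 X1 X2 hr0 hr1 hr2 hr3 hr4 hr5)
  · exact (E_65_1 X0 X1 X2 hr0 hr1 hr2 hr3 hr4 hr5)
  · exact (E_66_1 X0 X1 X2)
  · exact (E_67_1 X0 X1 X2 hr0 hr1 hr2 hr3 hr4 hr5)
  · exact (E_68_1 X0 X1 X2)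
  · exact (E_69_1 X0 X1 X2 hr0 hr1 hr2 hr3 hr4 hr5)
  · exact (E_70_1 X0 X1 X2 hr0 hr1 hr2 hr3 hr4 hr5)
  · exact (E_71_1 X0 X1 X2 hr0 hr1 hr2 hr3 hr4 hr5)
  · exact (E_72_1 X0 X1 X2 hr0 hr1 hr2 hr3 hr4 hr5)
  · exact (E_73_1 X0 X1 X2 hr0 hr1 hr2 hr3 hr4 hr5)
  · exact (E_74_1 X0 X1 X2 hr0 hr1 hr2 hr3 hr4 hr5)
  · exact (E_75_1 X0 X1 X2 hr0 hr1 hr2 hr3 hr4 hr5)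
  · exact (E_76_1 X0 X1 X2)
  · exact (E_77_1 X0 X1 X2 hr0 hr1 hr2 hr3 hr4 hr5)
  · exact (E_78_1 X0 X1 X2 hr0 hr1 hr2 hr3 hr4 hr5)
  · exact (E_79_1 X0 X1 X2 hr0 hr1 hr2 hr3 hr4 hr5)
  · exact (E_80_1 X0 X1 X2 hr0 hr1 hr2 hr3 hr4 hr5)
  · exact (E_81_1 X0 X1 X2 hr0 hr1 hr2 hr3 hr4 hr5)
  · exact (E_82_1 X0 X1 X2 hr0 hr1 hr2 hr3 hr4 hr5)
  · exact (E_83_1 X0 X1 X2 hr0 hr1 hr2 hr3 hr4 hr5)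
  · exact (E_84_1 X0 X1 X2 hr0 hr1 hr2 hr3 hr4 hr5)
  · exact (E_85_1 X0 X1 X2 hr0 hr1 hr2 hr3 hr4 hr5)
  · exact (E_86_1 X0 X1 X2 hr0 hr1 hr2 hr3 hr4 hr5)
  · exact (E_87_1 X0 X1 X2)
  · exact (E_88_1 X0 X1 X2 hr0 hr1 hr2 hr3 hr4 hr5)
  · exact (E_89_1 X0 X1 X2 hr0 hr1 hr2 hr3 hr4 hr5)
  · exact (E_90_1 X0 X1 X2 hr0 hr1 hr2 hr3 hr4 hr5)
  · exact (E_91_1 X0 X1 X2 hr0 hr1 hr2 hr3 hr4 hr5)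
  · exact (E_92_1 X0 X1 X2 hr0 hr1 hr2 hr3 hr4 hr5)
  · exact (E_93_1 X0 X1 X2)
  · exact (E_94_1 X0 X1 X2 hr0 hr1 hr2 hr3 hr4 hr5)
  · exact (E_95_1 X0 X1 X2 hr0 hr1 hr2 hr3 hr4 hr5)
  · exact (E_96_1 X0 X1 X2)
  · exact (E_97_1 X0 X1 X2 hr0 hr1 hr2 hr3 hr4 hr5)
  · exact (E_98_1 X0 X1 X2)
  · exact (E_99_1 X0 X1 X2 hr0 hr1 hr2 hr3 hr4 hr5)
  · exact (E_100_1 X0 X1 X2 hr0 hr1 hr2 hr3 hr4 hr5)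
  · exact (E_101_1 X0 X1 X2 hr0 hr1 hr2 hr3 hr4 hr5)
  · exact (E_102_1 X0 X1 X2 hr0 hr1 hr2 hr3 hr4 hr5)
  · exact (E_103_1 X0 X1 X2 hr0 hr1 hr2 hr3 hr4 hr5)
  · exact (E_104_1 X0 X1 X2)
  · exact (E_105_1 X0 X1 X2 hr0 hr1 hr2 hr3 hr4 hr5)
  · exact (E_106_1 X0 X1 X2 hr0 hr1 hr2 hr3 hr4 hr5)
  · exact (E_107_1 X0 X1 X2)
  · exact (E_108_1 X0 X1 X2 hr0 hr1 hr2 hr3 hr4 hr5)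
  · exact (E_109_1 X0 X1 X2 hr0 hr1 hr2 hr3 hr4 hr5)
  · exact (E_110_1 X0 X1 X2 hr0 hr1 hr2 hr3 hr4 hr5)
  · exact (E_111_1 X0 X1 X2 hr0 hr1 hr2 hr3 hr4 hr5)
  · exact (E_112_1 X0 X1 X2 hr0 hr1 hr2 hr3 hr4 hr5)
  · exact (E_113_1 X0 X1 X2 hr0 hr1 hr2 hr3 hr4 hr5)
  · exact (E_114_1 X0 X1 X2 hr0 hr1 hr2 hr3 hr4 hr5)
  · exact (E_115_1 X0 X1 X2 hr0 hr1 hr2 hr3 hr4 hr5)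
  · exact (E_116_1 X0 X1 X2 hr0 hr1 hr2 hr3 hr4 hr5)
  · exact (E_117_1 X0 X1 X2 hr0 hr1 hr2 hr3 hr4 hr5)
  · exact (E_118_1 X0 X1 X2 hr0 hr1 hr2 hr3 hr4 hr5)
  · exact (E_119_1 X0 X1 X2 hr0 hr1 hr2 hr3 hr4 hr5)
set_option maxRecDepth 100000 in
theorem stepInv1 (X0 X1 X2 : M) (hr0 : X0 * (X0 * (X0 * 1)) = 1) (hr1 : X1 * (X1 * (X1 * (X1 * (X1 * 1)))) = 1) (hr2 : X2 * (X2 * 1) = 1) (hr3 : X2⁻¹ * (X0 * (X2 * (X0⁻¹ * 1))) = 1) (hr4 : X2⁻¹ * (X1 * (X2 * (X1⁻¹ * 1))) = 1) (hr5 : X0 * (X1 * (X0 * (X1 * (X2⁻¹ * 1)))) = 1) : ∀ i : Fin 120, gAll X0 X1 X2 i * X1⁻¹ = gAll X0 X1 X2 (pv1 i) := by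
  intro i; fin_cases i
  · exact inv_edge (E_24_1 X0 X1 X2 hr0 hr1 hr2 hr3 hr4 hr5)
  · exact inv_edge (E_35_1 X0 X1 X2 hr0 hr1 hr2 hr3 hr4 hr5)
  · exact inv_edge (E_0_1 X0 X1 X2)
  · exact inv_edge (E_12_1 X0 X1 X2 hr0 hr1 hr2 hr3 hr4 hr5)
  · exact inv_edge (E_16_1 X0 X1 X2 hr0 hr1 hr2 hr3 hr4 hr5)
  · exact inv_edge (E_1_1 X0 X1 X2)
  · exact inv_edge (E_20_1 X0 X1 X2 hr0 hr1 hr2 hr3 hr4 hr5)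
  · exact inv_edge (E_55_1 X0 X1 X2 hr0 hr1 hr2 hr3 hr4 hr5)
  · exact inv_edge (E_2_1 X0 X1 X2)
  · exact inv_edge (E_3_1 X0 X1 X2 hr0 hr1 hr2 hr3 hr4 hr5)
  · exact inv_edge (E_4_1 X0 X1 X2)
  · exact inv_edge (E_7_1 X0 X1 X2 hr0 hr1 hr2 hr3 hr4 hr5)
  · exact inv_edge (E_33_1 X0 X1 X2 hr0 hr1 hr2 hr3 hr4 hr5)
  · exact inv_edge (E_5_1 X0 X1 X2)
  · exact inv_edge (E_6_1 X0 X1 X2 hr0 hr1 hr2 hr3 hr4 hr5)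
  · exact inv_edge (E_31_1 X0 X1 X2 hr0 hr1 hr2 hr3 hr4 hr5)
  · exact inv_edge (E_37_1 X0 X1 X2 hr0 hr1 hr2 hr3 hr4 hr5)
  · exact inv_edge (E_79_1 X0 X1 X2 hr0 hr1 hr2 hr3 hr4 hr5)
  · exact inv_edge (E_8_1 X0 X1 X2)
  · exact inv_edge (E_9_1 X0 X1 X2 hr0 hr1 hr2 hr3 hr4 hr5)
  · exact inv_edge (E_44_1 X0 X1 X2 hr0 hr1 hr2 hr3 hr4 hr5)
  · exact inv_edge (E_10_1 X0 X1 X2)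
  · exact inv_edge (E_11_1 X0 X1 X2 hr0 hr1 hr2 hr3 hr4 hr5)
  · exact inv_edge (E_42_1 X0 X1 X2 hr0 hr1 hr2 hr3 hr4 hr5)
  · exact inv_edge (E_18_1 X0 X1 X2 hr0 hr1 hr2 hr3 hr4 hr5)
  · exact inv_edge (E_90_1 X0 X1 X2 hr0 hr1 hr2 hr3 hr4 hr5)
  · exact inv_edge (E_13_1 X0 X1 X2)
  · exact inv_edge (E_14_1 X0 X1 X2 hr0 hr1 hr2 hr3 hr4 hr5)
  · exact inv_edge (E_15_1 X0 X1 X2)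
  · exact inv_edge (E_17_1 X0 X1 X2 hr0 hr1 hr2 hr3 hr4 hr5)
  · exact inv_edge (E_49_1 X0 X1 X2 hr0 hr1 hr2 hr3 hr4 hr5)
  · exact inv_edge (E_62_1 X0 X1 X2 hr0 hr1 hr2 hr3 hr4 hr5)
  · exact inv_edge (E_88_1 X0 X1 X2 hr0 hr1 hr2 hr3 hr4 hr5)
  · exact inv_edge (E_19_1 X0 X1 X2 hr0 hr1 hr2 hr3 hr4 hr5)
  · exact inv_edge (E_53_1 X0 X1 X2 hr0 hr1 hr2 hr3 hr4 hr5)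
  · exact inv_edge (E_26_1 X0 X1 X2 hr0 hr1 hr2 hr3 hr4 hr5)
  · exact inv_edge (E_101_1 X0 X1 X2 hr0 hr1 hr2 hr3 hr4 hr5)
  · exact inv_edge (E_21_1 X0 X1 X2)
  · exact inv_edge (E_22_1 X0 X1 X2 hr0 hr1 hr2 hr3 hr4 hr5)
  · exact inv_edge (E_23_1 X0 X1 X2)
  · exact inv_edge (E_25_1 X0 X1 X2 hr0 hr1 hr2 hr3 hr4 hr5)
  · exact inv_edge (E_60_1 X0 X1 X2 hr0 hr1 hr2 hr3 hr4 hr5)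
  · exact inv_edge (E_72_1 X0 X1 X2 hr0 hr1 hr2 hr3 hr4 hr5)
  · exact inv_edge (E_99_1 X0 X1 X2 hr0 hr1 hr2 hr3 hr4 hr5)
  · exact inv_edge (E_27_1 X0 X1 X2 hr0 hr1 hr2 hr3 hr4 hr5)
  · exact inv_edge (E_28_1 X0 X1 X2)
  · exact inv_edge (E_29_1 X0 X1 X2 hr0 hr1 hr2 hr3 hr4 hr5)
  · exact inv_edge (E_30_1 X0 X1 X2)
  · exact inv_edge (E_32_1 X0 X1 X2 hr0 hr1 hr2 hr3 hr4 hr5)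
  · exact inv_edge (E_71_1 X0 X1 X2 hr0 hr1 hr2 hr3 hr4 hr5)
  · exact inv_edge (E_34_1 X0 X1 X2)
  · exact inv_edge (E_36_1 X0 X1 X2 hr0 hr1 hr2 hr3 hr4 hr5)
  · exact inv_edge (E_70_1 X0 X1 X2 hr0 hr1 hr2 hr3 hr4 hr5)
  · exact inv_edge (E_83_1 X0 X1 X2 hr0 hr1 hr2 hr3 hr4 hr5)
  · exact inv_edge (E_77_1 X0 X1 X2 hr0 hr1 hr2 hr3 hr4 hr5)
  · exact inv_edge (E_38_1 X0 X1 X2 hr0 hr1 hr2 hr3 hr4 hr5)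
  · exact inv_edge (E_39_1 X0 X1 X2)
  · exact inv_edge (E_40_1 X0 X1 X2 hr0 hr1 hr2 hr3 hr4 hr5)
  · exact inv_edge (E_41_1 X0 X1 X2)
  · exact inv_edge (E_43_1 X0 X1 X2 hr0 hr1 hr2 hr3 hr4 hr5)
  · exact inv_edge (E_82_1 X0 X1 X2 hr0 hr1 hr2 hr3 hr4 hr5)
  · exact inv_edge (E_85_1 X0 X1 X2 hr0 hr1 hr2 hr3 hr4 hr5)
  · exact inv_edge (E_45_1 X0 X1 X2)
  · exact inv_edge (E_46_1 X0 X1 X2 hr0 hr1 hr2 hr3 hr4 hr5)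
  · exact inv_edge (E_47_1 X0 X1 X2)
  · exact inv_edge (E_48_1 X0 X1 X2 hr0 hr1 hr2 hr3 hr4 hr5)
  · exact inv_edge (E_50_1 X0 X1 X2)
  · exact inv_edge (E_51_1 X0 X1 X2 hr0 hr1 hr2 hr3 hr4 hr5)
  · exact inv_edge (E_52_1 X0 X1 X2)
  · exact inv_edge (E_54_1 X0 X1 X2 hr0 hr1 hr2 hr3 hr4 hr5)
  · exact inv_edge (E_61_1 X0 X1 X2 hr0 hr1 hr2 hr3 hr4 hr5)
  · exact inv_edge (E_64_1 X0 X1 X2 hr0 hr1 hr2 hr3 hr4 hr5)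
  · exact inv_edge (E_56_1 X0 X1 X2)
  · exact inv_edge (E_57_1 X0 X1 X2 hr0 hr1 hr2 hr3 hr4 hr5)
  · exact inv_edge (E_58_1 X0 X1 X2)
  · exact inv_edge (E_59_1 X0 X1 X2 hr0 hr1 hr2 hr3 hr4 hr5)
  · exact inv_edge (E_95_1 X0 X1 X2 hr0 hr1 hr2 hr3 hr4 hr5)
  · exact inv_edge (E_103_1 X0 X1 X2 hr0 hr1 hr2 hr3 hr4 hr5)
  · exact inv_edge (E_97_1 X0 X1 X2 hr0 hr1 hr2 hr3 hr4 hr5)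
  · exact inv_edge (E_63_1 X0 X1 X2 hr0 hr1 hr2 hr3 hr4 hr5)
  · exact inv_edge (E_109_1 X0 X1 X2 hr0 hr1 hr2 hr3 hr4 hr5)
  · exact inv_edge (E_65_1 X0 X1 X2 hr0 hr1 hr2 hr3 hr4 hr5)
  · exact inv_edge (E_74_1 X0 X1 X2 hr0 hr1 hr2 hr3 hr4 hr5)
  · exact inv_edge (E_66_1 X0 X1 X2)
  · exact inv_edge (E_67_1 X0 X1 X2 hr0 hr1 hr2 hr3 hr4 hr5)
  · exact inv_edge (E_68_1 X0 X1 X2)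
  · exact inv_edge (E_69_1 X0 X1 X2 hr0 hr1 hr2 hr3 hr4 hr5)
  · exact inv_edge (E_106_1 X0 X1 X2 hr0 hr1 hr2 hr3 hr4 hr5)
  · exact inv_edge (E_81_1 X0 X1 X2 hr0 hr1 hr2 hr3 hr4 hr5)
  · exact inv_edge (E_108_1 X0 X1 X2 hr0 hr1 hr2 hr3 hr4 hr5)
  · exact inv_edge (E_73_1 X0 X1 X2 hr0 hr1 hr2 hr3 hr4 hr5)
  · exact inv_edge (E_116_1 X0 X1 X2 hr0 hr1 hr2 hr3 hr4 hr5)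
  · exact inv_edge (E_75_1 X0 X1 X2 hr0 hr1 hr2 hr3 hr4 hr5)
  · exact inv_edge (E_76_1 X0 X1 X2)
  · exact inv_edge (E_78_1 X0 X1 X2 hr0 hr1 hr2 hr3 hr4 hr5)
  · exact inv_edge (E_80_1 X0 X1 X2 hr0 hr1 hr2 hr3 hr4 hr5)
  · exact inv_edge (E_105_1 X0 X1 X2 hr0 hr1 hr2 hr3 hr4 hr5)
  · exact inv_edge (E_119_1 X0 X1 X2 hr0 hr1 hr2 hr3 hr4 hr5)
  · exact inv_edge (E_114_1 X0 X1 X2 hr0 hr1 hr2 hr3 hr4 hr5)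
  · exact inv_edge (E_92_1 X0 X1 X2 hr0 hr1 hr2 hr3 hr4 hr5)
  · exact inv_edge (E_115_1 X0 X1 X2 hr0 hr1 hr2 hr3 hr4 hr5)
  · exact inv_edge (E_84_1 X0 X1 X2 hr0 hr1 hr2 hr3 hr4 hr5)
  · exact inv_edge (E_118_1 X0 X1 X2 hr0 hr1 hr2 hr3 hr4 hr5)
  · exact inv_edge (E_86_1 X0 X1 X2 hr0 hr1 hr2 hr3 hr4 hr5)
  · exact inv_edge (E_87_1 X0 X1 X2)
  · exact inv_edge (E_89_1 X0 X1 X2 hr0 hr1 hr2 hr3 hr4 hr5)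
  · exact inv_edge (E_91_1 X0 X1 X2 hr0 hr1 hr2 hr3 hr4 hr5)
  · exact inv_edge (E_113_1 X0 X1 X2 hr0 hr1 hr2 hr3 hr4 hr5)
  · exact inv_edge (E_111_1 X0 X1 X2 hr0 hr1 hr2 hr3 hr4 hr5)
  · exact inv_edge (E_93_1 X0 X1 X2)
  · exact inv_edge (E_94_1 X0 X1 X2 hr0 hr1 hr2 hr3 hr4 hr5)
  · exact inv_edge (E_96_1 X0 X1 X2)
  · exact inv_edge (E_98_1 X0 X1 X2)
  · exact inv_edge (E_100_1 X0 X1 X2 hr0 hr1 hr2 hr3 hr4 hr5)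
  · exact inv_edge (E_102_1 X0 X1 X2 hr0 hr1 hr2 hr3 hr4 hr5)
  · exact inv_edge (E_117_1 X0 X1 X2 hr0 hr1 hr2 hr3 hr4 hr5)
  · exact inv_edge (E_104_1 X0 X1 X2)
  · exact inv_edge (E_107_1 X0 X1 X2)
  · exact inv_edge (E_112_1 X0 X1 X2 hr0 hr1 hr2 hr3 hr4 hr5)
  · exact inv_edge (E_110_1 X0 X1 X2 hr0 hr1 hr2 hr3 hr4 hr5)
set_option maxRecDepth 100000 in
theorem stepAll2 (X0 X1 X2 : M) (hr0 : X0 * (X0 * (X0 * 1)) = 1) (hr1 : X1 * (X1 * (X1 * (X1 * (X1 * 1)))) = 1) (hr2 : X2 * (X2 * 1) = 1) (hr3 : X2⁻¹ * (X0 * (X2 * (X0⁻¹ * 1))) = 1) (hr4 : X2⁻¹ * (X1 * (X2 * (X1⁻¹ * 1))) = 1) (hr5 : X0 * (X1 * (X0 * (X1 * (X2⁻¹ * 1)))) = 1) : ∀ i : Fin 120, gAll X0 X1 X2 i * X2 = gAll X0 X1 X2 (nx2 i) := by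
  intro i; fin_cases i
  · exact (E_0_2 X0 X1 X2)
  · exact (E_1_2 X0 X1 X2)
  · exact (E_2_2 X0 X1 X2)
  · exact (E_3_2 X0 X1 X2 hr0 hr1 hr2 hr3 hr4 hr5)
  · exact (E_4_2 X0 X1 X2)
  · exact (E_5_2 X0 X1 X2)
  · exact (E_6_2 X0 X1 X2 hr0 hr1 hr2 hr3 hr4 hr5)
  · exact (E_7_2 X0 X1 X2)
  · exact (E_8_2 X0 X1 X2)
  · exact (E_9_2 X0 X1 X2 hr0 hr1 hr2 hr3 hr4 hr5)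
  · exact (E_10_2 X0 X1 X2)
  · exact (E_11_2 X0 X1 X2 hr0 hr1 hr2 hr3 hr4 hr5)
  · exact (E_12_2 X0 X1 X2)
  · exact (E_13_2 X0 X1 X2)
  · exact (E_14_2 X0 X1 X2 hr0 hr1 hr2 hr3 hr4 hr5)
  · exact (E_15_2 X0 X1 X2)
  · exact (E_16_2 X0 X1 X2 hr0 hr1 hr2 hr3 hr4 hr5)
  · exact (E_17_2 X0 X1 X2)
  · exact (E_18_2 X0 X1 X2)
  · exact (E_19_2 X0 X1 X2 hr0 hr1 hr2 hr3 hr4 hr5)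
  · exact (E_20_2 X0 X1 X2)
  · exact (E_21_2 X0 X1 X2)
  · exact (E_22_2 X0 X1 X2 hr0 hr1 hr2 hr3 hr4 hr5)
  · exact (E_23_2 X0 X1 X2)
  · exact (E_24_2 X0 X1 X2 hr0 hr1 hr2 hr3 hr4 hr5)
  · exact (E_25_2 X0 X1 X2)
  · exact (E_26_2 X0 X1 X2)
  · exact (E_27_2 X0 X1 X2 hr0 hr1 hr2 hr3 hr4 hr5)
  · exact (E_28_2 X0 X1 X2)
  · exact (E_29_2 X0 X1 X2 hr0 hr1 hr2 hr3 hr4 hr5)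
  · exact (E_30_2 X0 X1 X2)
  · exact (E_31_2 X0 X1 X2 hr0 hr1 hr2 hr3 hr4 hr5)
  · exact (E_32_2 X0 X1 X2)
  · exact (E_33_2 X0 X1 X2 hr0 hr1 hr2 hr3 hr4 hr5)
  · exact (E_34_2 X0 X1 X2)
  · exact (E_35_2 X0 X1 X2 hr0 hr1 hr2 hr3 hr4 hr5)
  · exact (E_36_2 X0 X1 X2)
  · exact (E_37_2 X0 X1 X2)
  · exact (E_38_2 X0 X1 X2 hr0 hr1 hr2 hr3 hr4 hr5)
  · exact (E_39_2 X0 X1 X2)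
  · exact (E_40_2 X0 X1 X2 hr0 hr1 hr2 hr3 hr4 hr5)
  · exact (E_41_2 X0 X1 X2)
  · exact (E_42_2 X0 X1 X2 hr0 hr1 hr2 hr3 hr4 hr5)
  · exact (E_43_2 X0 X1 X2)
  · exact (E_44_2 X0 X1 X2 hr0 hr1 hr2 hr3 hr4 hr5)
  · exact (E_45_2 X0 X1 X2)
  · exact (E_46_2 X0 X1 X2 hr0 hr1 hr2 hr3 hr4 hr5)
  · exact (E_47_2 X0 X1 X2)
  · exact (E_48_2 X0 X1 X2 hr0 hr1 hr2 hr3 hr4 hr5)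
  · exact (E_49_2 X0 X1 X2 hr0 hr1 hr2 hr3 hr4 hr5)
  · exact (E_50_2 X0 X1 X2)
  · exact (E_51_2 X0 X1 X2 hr0 hr1 hr2 hr3 hr4 hr5)
  · exact (E_52_2 X0 X1 X2)
  · exact (E_53_2 X0 X1 X2 hr0 hr1 hr2 hr3 hr4 hr5)
  · exact (E_54_2 X0 X1 X2)
  · exact (E_55_2 X0 X1 X2 hr0 hr1 hr2 hr3 hr4 hr5)
  · exact (E_56_2 X0 X1 X2)
  · exact (E_57_2 X0 X1 X2 hr0 hr1 hr2 hr3 hr4 hr5)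
  · exact (E_58_2 X0 X1 X2)
  · exact (E_59_2 X0 X1 X2 hr0 hr1 hr2 hr3 hr4 hr5)
  · exact (E_60_2 X0 X1 X2 hr0 hr1 hr2 hr3 hr4 hr5)
  · exact (E_61_2 X0 X1 X2)
  · exact (E_62_2 X0 X1 X2)
  · exact (E_63_2 X0 X1 X2 hr0 hr1 hr2 hr3 hr4 hr5)
  · exact (E_64_2 X0 X1 X2)
  · exact (E_65_2 X0 X1 X2 hr0 hr1 hr2 hr3 hr4 hr5)
  · exact (E_66_2 X0 X1 X2)
  · exact (E_67_2 X0 X1 X2 hr0 hr1 hr2 hr3 hr4 hr5)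
  · exact (E_68_2 X0 X1 X2)
  · exact (E_69_2 X0 X1 X2 hr0 hr1 hr2 hr3 hr4 hr5)
  · exact (E_70_2 X0 X1 X2 hr0 hr1 hr2 hr3 hr4 hr5)
  · exact (E_71_2 X0 X1 X2)
  · exact (E_72_2 X0 X1 X2)
  · exact (E_73_2 X0 X1 X2 hr0 hr1 hr2 hr3 hr4 hr5)
  · exact (E_74_2 X0 X1 X2)
  · exact (E_75_2 X0 X1 X2 hr0 hr1 hr2 hr3 hr4 hr5)
  · exact (E_76_2 X0 X1 X2)
  · exact (E_77_2 X0 X1 X2 hr0 hr1 hr2 hr3 hr4 hr5)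
  · exact (E_78_2 X0 X1 X2)
  · exact (E_79_2 X0 X1 X2 hr0 hr1 hr2 hr3 hr4 hr5)
  · exact (E_80_2 X0 X1 X2)
  · exact (E_81_2 X0 X1 X2 hr0 hr1 hr2 hr3 hr4 hr5)
  · exact (E_82_2 X0 X1 X2)
  · exact (E_83_2 X0 X1 X2)
  · exact (E_84_2 X0 X1 X2 hr0 hr1 hr2 hr3 hr4 hr5)
  · exact (E_85_2 X0 X1 X2)
  · exact (E_86_2 X0 X1 X2 hr0 hr1 hr2 hr3 hr4 hr5)
  · exact (E_87_2 X0 X1 X2)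
  · exact (E_88_2 X0 X1 X2 hr0 hr1 hr2 hr3 hr4 hr5)
  · exact (E_89_2 X0 X1 X2)
  · exact (E_90_2 X0 X1 X2 hr0 hr1 hr2 hr3 hr4 hr5)
  · exact (E_91_2 X0 X1 X2)
  · exact (E_92_2 X0 X1 X2 hr0 hr1 hr2 hr3 hr4 hr5)
  · exact (E_93_2 X0 X1 X2)
  · exact (E_94_2 X0 X1 X2 hr0 hr1 hr2 hr3 hr4 hr5)
  · exact (E_95_2 X0 X1 X2 hr0 hr1 hr2 hr3 hr4 hr5)
  · exact (E_96_2 X0 X1 X2 hr0 hr1 hr2 hr3 hr4 hr5)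
  · exact (E_97_2 X0 X1 X2 hr0 hr1 hr2 hr3 hr4 hr5)
  · exact (E_98_2 X0 X1 X2)
  · exact (E_99_2 X0 X1 X2 hr0 hr1 hr2 hr3 hr4 hr5)
  · exact (E_100_2 X0 X1 X2)
  · exact (E_101_2 X0 X1 X2 hr0 hr1 hr2 hr3 hr4 hr5)
  · exact (E_102_2 X0 X1 X2)
  · exact (E_103_2 X0 X1 X2 hr0 hr1 hr2 hr3 hr4 hr5)
  · exact (E_104_2 X0 X1 X2 hr0 hr1 hr2 hr3 hr4 hr5)
  · exact (E_105_2 X0 X1 X2 hr0 hr1 hr2 hr3 hr4 hr5)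
  · exact (E_106_2 X0 X1 X2 hr0 hr1 hr2 hr3 hr4 hr5)
  · exact (E_107_2 X0 X1 X2 hr0 hr1 hr2 hr3 hr4 hr5)
  · exact (E_108_2 X0 X1 X2 hr0 hr1 hr2 hr3 hr4 hr5)
  · exact (E_109_2 X0 X1 X2)
  · exact (E_110_2 X0 X1 X2 hr0 hr1 hr2 hr3 hr4 hr5)
  · exact (E_111_2 X0 X1 X2 hr0 hr1 hr2 hr3 hr4 hr5)
  · exact (E_112_2 X0 X1 X2 hr0 hr1 hr2 hr3 hr4 hr5)
  · exact (E_113_2 X0 X1 X2 hr0 hr1 hr2 hr3 hr4 hr5)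
  · exact (E_114_2 X0 X1 X2 hr0 hr1 hr2 hr3 hr4 hr5)
  · exact (E_115_2 X0 X1 X2 hr0 hr1 hr2 hr3 hr4 hr5)
  · exact (E_116_2 X0 X1 X2 hr0 hr1 hr2 hr3 hr4 hr5)
  · exact (E_117_2 X0 X1 X2 hr0 hr1 hr2 hr3 hr4 hr5)
  · exact (E_118_2 X0 X1 X2 hr0 hr1 hr2 hr3 hr4 hr5)
  · exact (E_119_2 X0 X1 X2 hr0 hr1 hr2 hr3 hr4 hr5)
set_option maxRecDepth 100000 in
theorem stepInv2 (X0 X1 X2 : M) (hr0 : X0 * (X0 * (X0 * 1)) = 1) (hr1 : X1 * (X1 * (X1 * (X1 * (X1 * 1)))) = 1) (hr2 : X2 * (X2 * 1) = 1) (hr3 : X2⁻¹ * (X0 * (X2 * (X0⁻¹ * 1))) = 1) (hr4 : X2⁻¹ * (X1 * (X2 * (X1⁻¹ * 1))) = 1) (hr5 : X0 * (X1 * (X0 * (X1 * (X2⁻¹ * 1)))) = 1) : ∀ i : Fin 120, gAll X0 X1 X2 i * X2⁻¹ = gAll X0 X1 X2 (pv2 i) := by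
  intro i; fin_cases i
  · exact inv_edge (E_3_2 X0 X1 X2 hr0 hr1 hr2 hr3 hr4 hr5)
  · exact inv_edge (E_6_2 X0 X1 X2 hr0 hr1 hr2 hr3 hr4 hr5)
  · exact inv_edge (E_9_2 X0 X1 X2 hr0 hr1 hr2 hr3 hr4 hr5)
  · exact inv_edge (E_0_2 X0 X1 X2)
  · exact inv_edge (E_11_2 X0 X1 X2 hr0 hr1 hr2 hr3 hr4 hr5)
  · exact inv_edge (E_14_2 X0 X1 X2 hr0 hr1 hr2 hr3 hr4 hr5)
  · exact inv_edge (E_1_2 X0 X1 X2)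
  · exact inv_edge (E_16_2 X0 X1 X2 hr0 hr1 hr2 hr3 hr4 hr5)
  · exact inv_edge (E_19_2 X0 X1 X2 hr0 hr1 hr2 hr3 hr4 hr5)
  · exact inv_edge (E_2_2 X0 X1 X2)
  · exact inv_edge (E_22_2 X0 X1 X2 hr0 hr1 hr2 hr3 hr4 hr5)
  · exact inv_edge (E_4_2 X0 X1 X2)
  · exact inv_edge (E_24_2 X0 X1 X2 hr0 hr1 hr2 hr3 hr4 hr5)
  · exact inv_edge (E_27_2 X0 X1 X2 hr0 hr1 hr2 hr3 hr4 hr5)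
  · exact inv_edge (E_5_2 X0 X1 X2)
  · exact inv_edge (E_29_2 X0 X1 X2 hr0 hr1 hr2 hr3 hr4 hr5)
  · exact inv_edge (E_7_2 X0 X1 X2)
  · exact inv_edge (E_31_2 X0 X1 X2 hr0 hr1 hr2 hr3 hr4 hr5)
  · exact inv_edge (E_33_2 X0 X1 X2 hr0 hr1 hr2 hr3 hr4 hr5)
  · exact inv_edge (E_8_2 X0 X1 X2)
  · exact inv_edge (E_35_2 X0 X1 X2 hr0 hr1 hr2 hr3 hr4 hr5)
  · exact inv_edge (E_38_2 X0 X1 X2 hr0 hr1 hr2 hr3 hr4 hr5)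
  · exact inv_edge (E_10_2 X0 X1 X2)
  · exact inv_edge (E_40_2 X0 X1 X2 hr0 hr1 hr2 hr3 hr4 hr5)
  · exact inv_edge (E_12_2 X0 X1 X2)
  · exact inv_edge (E_42_2 X0 X1 X2 hr0 hr1 hr2 hr3 hr4 hr5)
  · exact inv_edge (E_44_2 X0 X1 X2 hr0 hr1 hr2 hr3 hr4 hr5)
  · exact inv_edge (E_13_2 X0 X1 X2)
  · exact inv_edge (E_46_2 X0 X1 X2 hr0 hr1 hr2 hr3 hr4 hr5)
  · exact inv_edge (E_15_2 X0 X1 X2)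
  · exact inv_edge (E_48_2 X0 X1 X2 hr0 hr1 hr2 hr3 hr4 hr5)
  · exact inv_edge (E_17_2 X0 X1 X2)
  · exact inv_edge (E_49_2 X0 X1 X2 hr0 hr1 hr2 hr3 hr4 hr5)
  · exact inv_edge (E_18_2 X0 X1 X2)
  · exact inv_edge (E_51_2 X0 X1 X2 hr0 hr1 hr2 hr3 hr4 hr5)
  · exact inv_edge (E_20_2 X0 X1 X2)
  · exact inv_edge (E_53_2 X0 X1 X2 hr0 hr1 hr2 hr3 hr4 hr5)
  · exact inv_edge (E_55_2 X0 X1 X2 hr0 hr1 hr2 hr3 hr4 hr5)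
  · exact inv_edge (E_21_2 X0 X1 X2)
  · exact inv_edge (E_57_2 X0 X1 X2 hr0 hr1 hr2 hr3 hr4 hr5)
  · exact inv_edge (E_23_2 X0 X1 X2)
  · exact inv_edge (E_59_2 X0 X1 X2 hr0 hr1 hr2 hr3 hr4 hr5)
  · exact inv_edge (E_25_2 X0 X1 X2)
  · exact inv_edge (E_60_2 X0 X1 X2 hr0 hr1 hr2 hr3 hr4 hr5)
  · exact inv_edge (E_26_2 X0 X1 X2)
  · exact inv_edge (E_63_2 X0 X1 X2 hr0 hr1 hr2 hr3 hr4 hr5)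
  · exact inv_edge (E_28_2 X0 X1 X2)
  · exact inv_edge (E_65_2 X0 X1 X2 hr0 hr1 hr2 hr3 hr4 hr5)
  · exact inv_edge (E_30_2 X0 X1 X2)
  · exact inv_edge (E_32_2 X0 X1 X2)
  · exact inv_edge (E_67_2 X0 X1 X2 hr0 hr1 hr2 hr3 hr4 hr5)
  · exact inv_edge (E_34_2 X0 X1 X2)
  · exact inv_edge (E_69_2 X0 X1 X2 hr0 hr1 hr2 hr3 hr4 hr5)
  · exact inv_edge (E_36_2 X0 X1 X2)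
  · exact inv_edge (E_70_2 X0 X1 X2 hr0 hr1 hr2 hr3 hr4 hr5)
  · exact inv_edge (E_37_2 X0 X1 X2)
  · exact inv_edge (E_73_2 X0 X1 X2 hr0 hr1 hr2 hr3 hr4 hr5)
  · exact inv_edge (E_39_2 X0 X1 X2)
  · exact inv_edge (E_75_2 X0 X1 X2 hr0 hr1 hr2 hr3 hr4 hr5)
  · exact inv_edge (E_41_2 X0 X1 X2)
  · exact inv_edge (E_43_2 X0 X1 X2)
  · exact inv_edge (E_77_2 X0 X1 X2 hr0 hr1 hr2 hr3 hr4 hr5)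
  · exact inv_edge (E_79_2 X0 X1 X2 hr0 hr1 hr2 hr3 hr4 hr5)
  · exact inv_edge (E_45_2 X0 X1 X2)
  · exact inv_edge (E_81_2 X0 X1 X2 hr0 hr1 hr2 hr3 hr4 hr5)
  · exact inv_edge (E_47_2 X0 X1 X2)
  · exact inv_edge (E_84_2 X0 X1 X2 hr0 hr1 hr2 hr3 hr4 hr5)
  · exact inv_edge (E_50_2 X0 X1 X2)
  · exact inv_edge (E_86_2 X0 X1 X2 hr0 hr1 hr2 hr3 hr4 hr5)
  · exact inv_edge (E_52_2 X0 X1 X2)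
  · exact inv_edge (E_54_2 X0 X1 X2)
  · exact inv_edge (E_88_2 X0 X1 X2 hr0 hr1 hr2 hr3 hr4 hr5)
  · exact inv_edge (E_90_2 X0 X1 X2 hr0 hr1 hr2 hr3 hr4 hr5)
  · exact inv_edge (E_56_2 X0 X1 X2)
  · exact inv_edge (E_92_2 X0 X1 X2 hr0 hr1 hr2 hr3 hr4 hr5)
  · exact inv_edge (E_58_2 X0 X1 X2)
  · exact inv_edge (E_94_2 X0 X1 X2 hr0 hr1 hr2 hr3 hr4 hr5)
  · exact inv_edge (E_61_2 X0 X1 X2)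
  · exact inv_edge (E_95_2 X0 X1 X2 hr0 hr1 hr2 hr3 hr4 hr5)
  · exact inv_edge (E_62_2 X0 X1 X2)
  · exact inv_edge (E_97_2 X0 X1 X2 hr0 hr1 hr2 hr3 hr4 hr5)
  · exact inv_edge (E_64_2 X0 X1 X2)
  · exact inv_edge (E_99_2 X0 X1 X2 hr0 hr1 hr2 hr3 hr4 hr5)
  · exact inv_edge (E_101_2 X0 X1 X2 hr0 hr1 hr2 hr3 hr4 hr5)
  · exact inv_edge (E_66_2 X0 X1 X2)
  · exact inv_edge (E_103_2 X0 X1 X2 hr0 hr1 hr2 hr3 hr4 hr5)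
  · exact inv_edge (E_68_2 X0 X1 X2)
  · exact inv_edge (E_105_2 X0 X1 X2 hr0 hr1 hr2 hr3 hr4 hr5)
  · exact inv_edge (E_71_2 X0 X1 X2)
  · exact inv_edge (E_106_2 X0 X1 X2 hr0 hr1 hr2 hr3 hr4 hr5)
  · exact inv_edge (E_72_2 X0 X1 X2)
  · exact inv_edge (E_108_2 X0 X1 X2 hr0 hr1 hr2 hr3 hr4 hr5)
  · exact inv_edge (E_74_2 X0 X1 X2)
  · exact inv_edge (E_110_2 X0 X1 X2 hr0 hr1 hr2 hr3 hr4 hr5)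
  · exact inv_edge (E_76_2 X0 X1 X2)
  · exact inv_edge (E_78_2 X0 X1 X2)
  · exact inv_edge (E_104_2 X0 X1 X2 hr0 hr1 hr2 hr3 hr4 hr5)
  · exact inv_edge (E_80_2 X0 X1 X2)
  · exact inv_edge (E_113_2 X0 X1 X2 hr0 hr1 hr2 hr3 hr4 hr5)
  · exact inv_edge (E_82_2 X0 X1 X2)
  · exact inv_edge (E_114_2 X0 X1 X2 hr0 hr1 hr2 hr3 hr4 hr5)
  · exact inv_edge (E_83_2 X0 X1 X2)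
  · exact inv_edge (E_115_2 X0 X1 X2 hr0 hr1 hr2 hr3 hr4 hr5)
  · exact inv_edge (E_85_2 X0 X1 X2)
  · exact inv_edge (E_96_2 X0 X1 X2 hr0 hr1 hr2 hr3 hr4 hr5)
  · exact inv_edge (E_87_2 X0 X1 X2)
  · exact inv_edge (E_89_2 X0 X1 X2)
  · exact inv_edge (E_112_2 X0 X1 X2 hr0 hr1 hr2 hr3 hr4 hr5)
  · exact inv_edge (E_91_2 X0 X1 X2)
  · exact inv_edge (E_119_2 X0 X1 X2 hr0 hr1 hr2 hr3 hr4 hr5)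
  · exact inv_edge (E_93_2 X0 X1 X2)
  · exact inv_edge (E_116_2 X0 X1 X2 hr0 hr1 hr2 hr3 hr4 hr5)
  · exact inv_edge (E_107_2 X0 X1 X2 hr0 hr1 hr2 hr3 hr4 hr5)
  · exact inv_edge (E_98_2 X0 X1 X2)
  · exact inv_edge (E_100_2 X0 X1 X2)
  · exact inv_edge (E_102_2 X0 X1 X2)
  · exact inv_edge (E_111_2 X0 X1 X2 hr0 hr1 hr2 hr3 hr4 hr5)
  · exact inv_edge (E_118_2 X0 X1 X2 hr0 hr1 hr2 hr3 hr4 hr5)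
  · exact inv_edge (E_117_2 X0 X1 X2 hr0 hr1 hr2 hr3 hr4 hr5)
  · exact inv_edge (E_109_2 X0 X1 X2)

theorem gAll_surjective (X0 X1 X2 : M) (hr0 : X0 * (X0 * (X0 * 1)) = 1) (hr1 : X1 * (X1 * (X1 * (X1 * (X1 * 1)))) = 1) (hr2 : X2 * (X2 * 1) = 1) (hr3 : X2⁻¹ * (X0 * (X2 * (X0⁻¹ * 1))) = 1) (hr4 : X2⁻¹ * (X1 * (X2 * (X1⁻¹ * 1))) = 1) (hr5 : X0 * (X1 * (X0 * (X1 * (X2⁻¹ * 1)))) = 1) (hgen : Subgroup.closure ({X0, X1, X2} : Set M) = ⊤) :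
    Function.Surjective (gAll X0 X1 X2) := by
  have key : ∀ m ∈ Submonoid.closure (({X0, X1, X2} : Set M) ∪ ({X0, X1, X2} : Set M)⁻¹),
      ∀ i : Fin 120, ∃ j : Fin 120, gAll X0 X1 X2 i * m = gAll X0 X1 X2 j := by
    intro m hm
    induction hm using Submonoid.closure_induction with
    | mem x hx =>
      intro i
      rcases hx with hx | hx
      · simp only [Set.mem_insert_iff, Set.mem_singleton_iff] at hx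
        rcases hx with hx | hx | hx
        · refine ⟨nx0 i, ?_⟩
          rw [hx]
          exact stepAll0 X0 X1 X2 hr0 hr1 hr2 hr3 hr4 hr5 i
        · refine ⟨nx1 i, ?_⟩
          rw [hx]
          exact stepAll1 X0 X1 X2 hr0 hr1 hr2 hr3 hr4 hr5 i
        · refine ⟨nx2 i, ?_⟩
          rw [hx]
          exact stepAll2 X0 X1 X2 hr0 hr1 hr2 hr3 hr4 hr5 i
      · simp only [Set.mem_inv, Set.mem_insert_iff, Set.mem_singleton_iff] at hx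
        rcases hx with hx | hx | hx
        · refine ⟨pv0 i, ?_⟩
          rw [← inv_inv x, hx]
          exact stepInv0 X0 X1 X2 hr0 hr1 hr2 hr3 hr4 hr5 i
        · refine ⟨pv1 i, ?_⟩
          rw [← inv_inv x, hx]
          exact stepInv1 X0 X1 X2 hr0 hr1 hr2 hr3 hr4 hr5 i
        · refine ⟨pv2 i, ?_⟩
          rw [← inv_inv x, hx]
          exact stepInv2 X0 X1 X2 hr0 hr1 hr2 hr3 hr4 hr5 i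
    | one => intro i; exact ⟨i, mul_one _⟩
    | mul x y _ _ hx hy =>
      intro i
      obtain ⟨j, hj⟩ := hx i
      obtain ⟨l, hl⟩ := hy j
      exact ⟨l, by rw [← mul_assoc, hj, hl]⟩
  intro m
  have hm : m ∈ Subgroup.closure ({X0, X1, X2} : Set M) := by rw [hgen]; trivial
  rw [← Subgroup.mem_toSubmonoid, Subgroup.closure_toSubmonoid] at hm
  obtain ⟨j, hj⟩ := key m hm 0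
  refine ⟨j, ?_⟩
  rw [← hj]
  exact one_mul m

end sl25_table

end Cfsg.Agent.Lib.Helper56.SL25
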