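/-
Generic tools for permutation-group certificates, by helper56:
* `ptStab` and `card_ptStab_ge`: lower bounds for the order of a permutation group from a chain of
  pointwise stabilizers with exhibited partial orbits;
* `mem_normal_of_pow_eq_one'`: a normal subgroup whose order is divisible by the full `p`-part
  contains all elements of order `p`;
* `isSimpleGroup_of_rank3`: a simplicity criterion for rank-3 permutation groups;
* `card_le_of_quotient_equiv`: order bound from a coset enumeration and a bound for the subgroup.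
-/
import Mathlib

set_option autoImplicit false

namespace Cfsg.Agent.Lib.Helper56

open MulAction

section ptStab

variable {X : Type*}

/-- The subgroup of `G` fixing all the points of a list. -/
def ptStab (G : Subgroup (Equiv.Perm X)) (pts : List X) : Subgroup (Equiv.Perm X) where
  carrier := {g | g ∈ G ∧ ∀ p ∈ pts, g p = p}
  one_mem' := ⟨G.one_mem, fun _ _ => rfl⟩
  mul_mem' := by
    rintro a b ⟨ha, ha'⟩ ⟨hb, hb'⟩
    exact ⟨G.mul_mem ha hb, fun p hp => by rw [Equiv.Perm.mul_apply, hb' p hp, ha' p hp]⟩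
  inv_mem' := by
    rintro a ⟨ha, ha'⟩
    exact ⟨G.inv_mem ha, fun p hp => by rw [Equiv.Perm.inv_eq_iff_eq, ha' p hp]⟩

theorem mem_ptStab {G : Subgroup (Equiv.Perm X)} {pts : List X} {g : Equiv.Perm X} :
    g ∈ ptStab G pts ↔ g ∈ G ∧ ∀ p ∈ pts, g p = p := Iff.rfl

theorem ptStab_nil (G : Subgroup (Equiv.Perm X)) : ptStab G [] = G := by
  ext g
  simp [mem_ptStab]

theorem ptStab_le (G : Subgroup (Equiv.Perm X)) (pts : List X) : ptStab G pts ≤ G :=
  fun _ h => h.1

/-- One step of the chain: if elements of `ptStab G pts` move `b` to at least `m` points and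
`ptStab G (b :: pts)` has at least `k` elements then `ptStab G pts` has at least `m * k`. -/
theorem card_ptStab_ge [Finite X] (G : Subgroup (Equiv.Perm X)) (pts : List X) (b : X)
    (S : Set (Equiv.Perm X)) (hS : ∀ s ∈ S, s ∈ ptStab G pts) (m k : ℕ)
    (hm : m ≤ (orbit (Subgroup.closure S) b).ncard)
    (hk : k ≤ Nat.card (ptStab G (b :: pts))) :
    m * k ≤ Nat.card (ptStab G pts) := by
  classical
  have : Fintype X := Fintype.ofFinite X
  set B := ptStab G pts with hB
  have hle : Subgroup.closure S ≤ B := (Subgroup.closure_le B).2 hS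
  -- orbit-stabilizer in `B`
  have h1 : (stabilizer B b).index = (orbit B b).ncard := index_stabilizer B b
  have h2 : (stabilizer B b).index * Nat.card (stabilizer B b) = Nat.card B :=
    Subgroup.index_mul_card _
  -- the orbit of `B` contains the orbit of the closure
  have h3 : (orbit (Subgroup.closure S) b).ncard ≤ (orbit B b).ncard := by
    apply Set.ncard_le_ncard _ (Set.toFinite _)
    rintro _ ⟨⟨g, hg⟩, rfl⟩
    exact ⟨⟨g, hle hg⟩, rfl⟩
  -- the stabilizer in `B` is the next group of the chain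
  have h4 : Nat.card (stabilizer B b) = Nat.card (ptStab G (b :: pts)) := by
    have hmap : (stabilizer B b).map B.subtype = ptStab G (b :: pts) := by
      ext g
      constructor
      · rintro ⟨⟨g', hg'⟩, hst, rfl⟩
        have hst' : g' b = b := by
          have := mem_stabilizer_iff.1 hst
          exact this
        refine ⟨hg'.1, ?_⟩
        intro p hp
        rcases List.mem_cons.1 hp with rfl | hp
        · exact hst'
        · exact hg'.2 p hp
      · rintro ⟨hgG, hfix⟩
        have hgB : g ∈ B := ⟨hgG, fun p hp => hfix p (List.mem_cons_of_mem _ hp)⟩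
        refine ⟨⟨g, hgB⟩, ?_, rfl⟩
        apply mem_stabilizer_iff.2
        exact hfix b List.mem_cons_self
    rw [← hmap]
    exact (Nat.card_congr ((stabilizer B b).equivMapOfInjective B.subtype
      B.subtype_injective).toEquiv)
  calc m * k ≤ (orbit B b).ncard * Nat.card (ptStab G (b :: pts)) :=
        Nat.mul_le_mul (le_trans hm h3) hk
    _ = Nat.card B := by rw [← h4, ← h1, h2]

end ptStab

/-- If `p ^ k` divides the order of a normal subgroup but `p ^ (k + 1)` does not divide the order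
of the group, the normal subgroup contains every element of order `p`. -/
theorem mem_normal_of_pow_eq_one' {G : Type*} [Group G] [Finite G] (N : Subgroup G) [N.Normal]
    (p k : ℕ) (hp : p.Prime) (hpN : p ^ k ∣ Nat.card N) (hpG : ¬ p ^ (k + 1) ∣ Nat.card G)
    (a : G) (ha : a ^ p = 1) : a ∈ N := by
  have hcard : Nat.card G = Nat.card (G ⧸ N) * Nat.card N :=
    Subgroup.card_eq_card_quotient_mul_card_subgroup N
  have hcop : Nat.Coprime p (Nat.card (G ⧸ N)) := by
    rw [hp.coprime_iff_not_dvd]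
    intro hdvd
    apply hpG
    rw [hcard, pow_succ, mul_comm (p ^ k) p]
    exact Nat.mul_dvd_mul hdvd hpN
  have h1 : (QuotientGroup.mk a : G ⧸ N) ^ p = 1 := by
    rw [← QuotientGroup.mk_pow, ha]; rfl
  have h2 : (QuotientGroup.mk a : G ⧸ N) ^ Nat.card (G ⧸ N) = 1 := pow_card_eq_one'
  have h3 := pow_gcd_eq_one.mpr ⟨h1, h2⟩
  rw [Nat.Coprime.gcd_eq_one hcop, pow_one] at h3
  exact (QuotientGroup.eq_one_iff a).mp h3

section rank3

variable {X : Type*} [Fintype X] [DecidableEq X]

/-- A simplicity criterion for rank-3 permutation groups: `G` is transitive on `X`, a subgroup `K`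
of the stabilizer of `b0` is transitive on the two sets `O1`, `O2` making up the rest of `X`,
neither `1 + |O1|` nor `1 + |O2|` divides `|X|`, the full `p`-part of `|G|` divides `|X|`, and `G` is
generated by products of two elements of order `p`. -/
theorem isSimpleGroup_of_rank3 (G : Subgroup (Equiv.Perm X)) (b0 : X) (hX : 1 < Fintype.card X)
    (htrans : ∀ c, ∃ g ∈ G, g b0 = c)
    (K : Subgroup (Equiv.Perm X)) (hKG : K ≤ G) (hKfix : ∀ k ∈ K, k b0 = b0)
    (O1 O2 : Set X) (hcover : ∀ c, c = b0 ∨ c ∈ O1 ∨ c ∈ O2)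
    (hO1 : ∀ d ∈ O1, ∀ e ∈ O1, ∃ k ∈ K, k d = e)
    (hO2 : ∀ d ∈ O2, ∀ e ∈ O2, ∃ k ∈ K, k d = e)
    (hb1 : b0 ∉ O1) (hb2 : b0 ∉ O2)
    (hd1 : ¬ (1 + O1.ncard) ∣ Fintype.card X) (hd2 : ¬ (1 + O2.ncard) ∣ Fintype.card X)
    (p k : ℕ) (hp : p.Prime) (hpX : p ^ k ∣ Fintype.card X) (hpG : ¬ p ^ (k + 1) ∣ Nat.card G)
    (S : Set (Equiv.Perm X)) (hGS : G = Subgroup.closure S)
    (hS : ∀ s ∈ S, ∃ u v : Equiv.Perm X, u ∈ G ∧ v ∈ G ∧ u ^ p = 1 ∧ v ^ p = 1 ∧ s = u * v) :
    IsSimpleGroup G := by
  classical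
  -- `G` is transitive
  haveI : IsPretransitive G X := by
    refine ⟨fun a b => ?_⟩
    obtain ⟨g, hg, hga⟩ := htrans a
    obtain ⟨g', hg', hgb⟩ := htrans b
    refine ⟨⟨g' * g⁻¹, G.mul_mem hg' (G.inv_mem hg)⟩, ?_⟩
    show (g' * g⁻¹) a = b
    have h5 : g⁻¹ a = b0 := Equiv.Perm.inv_eq_iff_eq.mpr hga.symm
    rw [Equiv.Perm.mul_apply, h5, hgb]
  have hnt : Nontrivial G := by
    obtain ⟨c, hc⟩ : ∃ c : X, c ≠ b0 := by
      by_contra hcon
      push Not at hcon
      have : Fintype.card X ≤ 1 := Fintype.card_le_one_iff.2 fun a b => by rw [hcon a, hcon b]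
      omega
    obtain ⟨g, hg, hgc⟩ := htrans c
    refine ⟨⟨⟨g, hg⟩, 1, ?_⟩⟩
    intro h
    have h' : g = 1 := congrArg Subtype.val h
    rw [h'] at hgc
    exact hc hgc.symm
  refine ⟨fun N hN => ?_⟩
  by_cases hN1 : N = ⊥
  · exact Or.inl hN1
  right
  -- an element of `N` moving the base point
  obtain ⟨n0, hn0N, hn0⟩ : ∃ n ∈ N, ((n : G) : Equiv.Perm X) b0 ≠ b0 := by
    obtain ⟨⟨n, hn⟩, hn1⟩ := (Subgroup.ne_bot_iff_exists_ne_one (H := N)).mp hN1
    have hn1' : (n : Equiv.Perm X) ≠ 1 := by
      intro h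
      apply hn1
      apply Subtype.ext
      apply Subtype.ext
      exact h
    have : ∃ c, (n : Equiv.Perm X) c ≠ c := by
      by_contra hcon
      push Not at hcon
      exact hn1' (Equiv.ext hcon)
    obtain ⟨c, hc⟩ := this
    obtain ⟨g, hg, hgc⟩ := htrans c
    refine ⟨(⟨g, hg⟩ : G)⁻¹ * n * (⟨g, hg⟩ : G), ?_, ?_⟩
    · have := hN.conj_mem n hn (⟨g, hg⟩ : G)⁻¹
      rwa [inv_inv] at this
    · show (g⁻¹ * (n : Equiv.Perm X) * g) b0 ≠ b0
      rw [Equiv.Perm.mul_apply, Equiv.Perm.mul_apply, hgc]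
      intro h
      rw [Equiv.Perm.inv_eq_iff_eq, hgc] at h
      exact hc h
  set O : Set X := orbit N b0 with hO
  have hmem : ∀ c, c ∈ O ↔ ∃ n ∈ N, ((n : G) : Equiv.Perm X) b0 = c := by
    intro c
    rw [hO, mem_orbit_iff]
    constructor
    · rintro ⟨⟨n, hn⟩, h⟩
      exact ⟨n, hn, h⟩
    · rintro ⟨n, hn, h⟩
      exact ⟨⟨n, hn⟩, h⟩
  have hb0O : b0 ∈ O := mem_orbit_self b0
  have hblock : IsBlock G O := IsBlock.orbit_of_normal b0
  have hdvd : O.ncard ∣ Fintype.card X := by
    have := hblock.ncard_dvd_card ⟨b0, hb0O⟩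
    simpa using this
  -- invariance under `K`
  have hinv : ∀ h ∈ K, ∀ c ∈ O, h c ∈ O := by
    intro h hh c hc
    obtain ⟨n, hn, hnc⟩ := (hmem c).mp hc
    have hh0 : h ∈ G := hKG hh
    refine (hmem _).mpr ⟨(⟨h, hh0⟩ : G) * n * (⟨h, hh0⟩ : G)⁻¹, hN.conj_mem n hn _, ?_⟩
    show (h * (n : Equiv.Perm X) * h⁻¹) b0 = h c
    have h5 : h⁻¹ b0 = b0 := Equiv.Perm.inv_eq_iff_eq.mpr (hKfix h hh).symm
    rw [Equiv.Perm.mul_apply, Equiv.Perm.mul_apply, h5, hnc]
  have hcls1 : ∀ d ∈ O, d ∈ O1 → O1 ⊆ O := by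
    intro d hd hd1 e he
    obtain ⟨h, hh, hhd⟩ := hO1 d hd1 e he
    rw [← hhd]; exact hinv h hh d hd
  have hcls2 : ∀ d ∈ O, d ∈ O2 → O2 ⊆ O := by
    intro d hd hd2 e he
    obtain ⟨h, hh, hhd⟩ := hO2 d hd2 e he
    rw [← hhd]; exact hinv h hh d hd
  have hd0O : ((n0 : G) : Equiv.Perm X) b0 ∈ O := (hmem _).mpr ⟨n0, hn0N, rfl⟩
  -- the orbit is everything
  have hOuniv : O = Set.univ := by
    by_contra hne
    set d := ((n0 : G) : Equiv.Perm X) b0 with hd
    have hcard_insert : ∀ A : Set X, b0 ∉ A → (insert b0 A).ncard = 1 + A.ncard := by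
      intro A hA
      rw [Set.ncard_insert_of_notMem hA (Set.toFinite A), add_comm]
    rcases hcover d with h | h | h
    · exact hn0 h
    · -- `O1 ⊆ O`, so `O2` is not contained in `O`
      have h1 : O1 ⊆ O := hcls1 d hd0O h
      have h2 : ∀ e ∈ O2, e ∉ O := by
        intro e he heO
        apply hne
        have h2' : O2 ⊆ O := hcls2 e heO he
        apply Set.eq_univ_of_forall
        intro c
        rcases hcover c with hc | hc | hc
        · rw [hc]; exact hb0O
        · exact h1 hc
        · exact h2' hc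
      have hOeq : O = insert b0 O1 := by
        ext c
        constructor
        · intro hc
          rcases hcover c with hc' | hc' | hc'
          · rw [hc']; exact Set.mem_insert _ _
          · exact Set.mem_insert_of_mem _ hc'
          · exact absurd hc (h2 c hc')
        · rintro (hc | hc)
          · rw [hc]; exact hb0O
          · exact h1 hc
      rw [hOeq, hcard_insert O1 hb1] at hdvd
      exact hd1 hdvd
    · have h1 : O2 ⊆ O := hcls2 d hd0O h
      have h2 : ∀ e ∈ O1, e ∉ O := by
        intro e he heO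
        apply hne
        have h2' : O1 ⊆ O := hcls1 e heO he
        apply Set.eq_univ_of_forall
        intro c
        rcases hcover c with hc | hc | hc
        · rw [hc]; exact hb0O
        · exact h2' hc
        · exact h1 hc
      have hOeq : O = insert b0 O2 := by
        ext c
        constructor
        · intro hc
          rcases hcover c with hc' | hc' | hc'
          · rw [hc']; exact Set.mem_insert _ _
          · exact absurd hc (h2 c hc')
          · exact Set.mem_insert_of_mem _ hc'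
        · rintro (hc | hc)
          · rw [hc]; exact hb0O
          · exact h1 hc
      rw [hOeq, hcard_insert O2 hb2] at hdvd
      exact hd2 hdvd
  -- `N` is transitive, so `|X| ∣ |N|`
  have hXN : Fintype.card X ∣ Nat.card N := by
    have h1 : (stabilizer N b0).index = O.ncard := index_stabilizer N b0
    rw [hOuniv, Set.ncard_univ, Nat.card_eq_fintype_card] at h1
    have h3 := Subgroup.index_dvd_card (stabilizer N b0)
    rwa [h1] at h3
  have hpN : p ^ k ∣ Nat.card N := Dvd.dvd.trans hpX hXN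
  have hSN : ∀ s ∈ S, ∃ hs : s ∈ G, (⟨s, hs⟩ : G) ∈ N := by
    intro s hs
    obtain ⟨u, v, hu, hv, hup, hvp, rfl⟩ := hS s hs
    have huN : (⟨u, hu⟩ : G) ∈ N :=
      mem_normal_of_pow_eq_one' N p k hp hpN hpG _ (Subtype.ext hup)
    have hvN : (⟨v, hv⟩ : G) ∈ N :=
      mem_normal_of_pow_eq_one' N p k hp hpN hpG _ (Subtype.ext hvp)
    exact ⟨G.mul_mem hu hv, N.mul_mem huN hvN⟩
  have hle : G ≤ N.map G.subtype := by
    have hcl : Subgroup.closure S ≤ N.map G.subtype := by
      rw [Subgroup.closure_le]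
      intro s hs
      obtain ⟨hsG, hsN⟩ := hSN s hs
      exact ⟨_, hsN, rfl⟩
    exact le_trans (le_of_eq hGS) hcl
  rw [eq_top_iff]
  intro g _
  obtain ⟨g', hg', hgg'⟩ := hle g.2
  have : g' = g := Subtype.ext hgg'
  rwa [← this]

end rank3

section upper

/-- Order bound from a coset enumeration: if `G ⧸ H` has `n` elements and `H` is contained in the
image of a finite group `P` with at most `m` elements, then `G` is finite with at most `n * m`
elements. -/
theorem card_le_of_quotient_equiv {G : Type*} [Group G] (H : Subgroup G) {n : ℕ}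
    (e : G ⧸ H ≃ Fin n) {P : Type*} [Group P] [Finite P] (f : P →* G) (hf : H ≤ f.range)
    (m : ℕ) (hm : Nat.card P ≤ m) : Finite G ∧ Nat.card G ≤ n * m := by
  haveI : Finite f.range := Finite.of_surjective f.rangeRestrict f.rangeRestrict_surjective
  haveI : Finite H := Finite.of_injective (Subgroup.inclusion hf) (Subgroup.inclusion_injective hf)
  haveI : Finite (G ⧸ H) := Finite.of_equiv _ e.symm
  haveI : Finite G := Finite.of_equiv _ (Subgroup.groupEquivQuotientProdSubgroup (s := H)).symm
  refine ⟨inferInstance, ?_⟩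
  have h1 : Nat.card G = Nat.card (G ⧸ H) * Nat.card H :=
    Subgroup.card_eq_card_quotient_mul_card_subgroup H
  have h2 : Nat.card (G ⧸ H) = n := by rw [Nat.card_congr e, Nat.card_fin]
  have h3 : Nat.card H ≤ Nat.card f.range :=
    Nat.card_le_card_of_injective _ (Subgroup.inclusion_injective hf)
  have h4 : Nat.card f.range ≤ Nat.card P :=
    Nat.card_le_card_of_surjective _ f.rangeRestrict_surjective
  rw [h1, h2]
  exact Nat.mul_le_mul_left _ (le_trans h3 (le_trans h4 hm))

end upper

end Cfsg.Agent.Lib.Helper56
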