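/-
Homomorphisms between presented groups induced by maps of generators, and consequences of a
verified coset enumeration (helper28's `TC` library), by helper56.
-/
import Cfsg.Agent.Lib.Helper56.PermSimple
import Cfsg.Agent.Lib.Helper28.TCCheck

set_option autoImplicit false
set_option linter.unusedSectionVars false

namespace Cfsg.Agent.Lib.Helper56.PresHom

open Cfsg.Agent.Lib.Helper28 Cfsg.Agent.Lib.Helper28.TC

variable {α β : Type}

theorem wval_map (ι : α → β) {K : Type*} [Group K] (val : β → K) (w : List α) :
    wval (fun x => val (ι x)) w = wval val (w.map ι) := by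
  simp [wval, List.map_map, Function.comp_def]

theorem map_wval {K L : Type*} [Group K] [Group L] (f : K →* L) (val : α → K) (w : List α) :
    f (wval val w) = wval (fun x => f (val x)) w := by
  simp [wval, map_list_prod, List.map_map, Function.comp_def]

variable [DecidableEq α] [DecidableEq β]

/-- A map of generators to involutions of a group, sending relator words to `1`, induces a
homomorphism. -/
theorem exists_hom_to (relEα : List (WE α)) {L : Type*} [Group L] (val : α → L)
    (hinv : ∀ x, val x * val x = 1) (h1 : ∀ e ∈ relEα, wval val e.evalW = 1) :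
    ∃ f : PresentedGroup {r | ∃ e ∈ relEα, r = e.evalF} →* L,
      ∀ x, f (PresentedGroup.of x) = val x := by
  have h : ∀ r ∈ {r | ∃ e ∈ relEα, r = e.evalF}, FreeGroup.lift val r = 1 := by
    rintro r ⟨e, he, rfl⟩
    rw [WE.lift_evalF val hinv e]
    exact h1 e he
  exact ⟨PresentedGroup.toGroup h, fun x => PresentedGroup.toGroup.of h⟩

/-- A map of generators sending relator words to trivial words induces a homomorphism. -/
theorem exists_hom (ι : α → β) (relEα : List (WE α)) (relsβ : Set (FreeGroup β))
    (hinvβ : ∀ x, pval relsβ x * pval relsβ x = 1)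
    (h1 : ∀ e ∈ relEα, wval (pval relsβ) ((e.evalW).map ι) = 1) :
    ∃ f : PresentedGroup {r | ∃ e ∈ relEα, r = e.evalF} →* PresentedGroup relsβ,
      ∀ x, f (PresentedGroup.of x) = pval relsβ (ι x) := by
  have h : ∀ r ∈ {r | ∃ e ∈ relEα, r = e.evalF},
      FreeGroup.lift (fun x => pval relsβ (ι x)) r = 1 := by
    rintro r ⟨e, he, rfl⟩
    rw [WE.lift_evalF (fun x => pval relsβ (ι x)) (fun x => hinvβ (ι x)) e, wval_map]
    exact h1 e he
  exact ⟨PresentedGroup.toGroup h, fun x => PresentedGroup.toGroup.of h⟩

/-- The homomorphism sends the value of a word to the value of the mapped word. -/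
theorem hom_wval (ι : α → β) {relsα : Set (FreeGroup α)} {relsβ : Set (FreeGroup β)}
    (f : PresentedGroup relsα →* PresentedGroup relsβ)
    (hf : ∀ x, f (PresentedGroup.of x) = pval relsβ (ι x)) (w : List α) :
    f (wval (pval relsα) w) = wval (pval relsβ) (w.map ι) := by
  rw [map_wval, ← wval_map]
  congr 1
  funext x
  exact hf x

/-- A homomorphism from a presented group sends the value of a word to the value of the word at
the images of the generators. -/
theorem hom_wval_to {relsα : Set (FreeGroup α)} {L : Type*} [Group L]
    (f : PresentedGroup relsα →* L) (val : α → L)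
    (hf : ∀ x, f (PresentedGroup.of x) = val x) (w : List α) :
    f (wval (pval relsα) w) = wval val w := by
  rw [map_wval]
  congr 1
  funext x
  exact hf x

/-- The subgroup generated by the images of generators lies in the range. -/
theorem subH_le_range (ι : α → β) {relsα : Set (FreeGroup α)} {relsβ : Set (FreeGroup β)}
    (f : PresentedGroup relsα →* PresentedGroup relsβ)
    (hf : ∀ x, f (PresentedGroup.of x) = pval relsβ (ι x))
    (S : Set (FreeGroup β)) (hS : ∀ s ∈ S, ∃ x, s = FreeGroup.of (ι x)) :
    subH relsβ S ≤ f.range := by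
  unfold subH
  rw [Subgroup.map_le_iff_le_comap, Subgroup.closure_le]
  intro s hs
  obtain ⟨x, rfl⟩ := hS s hs
  exact ⟨PresentedGroup.of x, hf x⟩

/-- In a verified coset enumeration, a word fixing row `0` of the table lies in the subgroup. -/
theorem wval_mem_of_fix {rels : Set (FreeGroup α)} {S : Set (FreeGroup α)} {n : ℕ} (hn : 0 < n)
    (T : PermTable α n) (hrel : ∀ r ∈ rels, FreeGroup.lift T.perm r = 1)
    (e : (PresentedGroup rels ⧸ subH rels S) ≃ Fin n)
    (he1 : e ((1 : PresentedGroup rels) : PresentedGroup rels ⧸ subH rels S) = ⟨0, hn⟩)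
    (hequiv : ∀ (g : PresentedGroup rels) (q : PresentedGroup rels ⧸ subH rels S),
      e (g • q) = (PresentedGroup.toGroup hrel g) (e q))
    (w : List α) (hw : act T.tf w 0 = 0) : wval (pval rels) w ∈ subH rels S := by
  set g := wval (pval rels) w with hg
  have h1 : PresentedGroup.toGroup hrel g = (w.map T.perm).prod := by
    rw [hg, map_wval]
    show wval (fun x => PresentedGroup.toGroup hrel (pval rels x)) w = wval T.perm w
    congr 1
  have h2 : e (g • ((1 : PresentedGroup rels) : PresentedGroup rels ⧸ subH rels S)) = ⟨0, hn⟩ := by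
    rw [hequiv, he1, h1]
    apply Fin.ext
    rw [T.wordPerm_apply_val]
    exact hw
  have h3 : g • ((1 : PresentedGroup rels) : PresentedGroup rels ⧸ subH rels S) =
      ((1 : PresentedGroup rels) : PresentedGroup rels ⧸ subH rels S) :=
    e.injective (h2.trans he1.symm)
  have h4 : ((g * 1 : PresentedGroup rels) : PresentedGroup rels ⧸ subH rels S) =
      ((1 : PresentedGroup rels) : PresentedGroup rels ⧸ subH rels S) := h3
  rw [mul_one] at h4
  have h5 := QuotientGroup.eq.1 h4
  rw [mul_one] at h5
  exact inv_inv g ▸ (subH rels S).inv_mem h5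

/-- The subgroup generated by no elements is trivial. -/
theorem subH_empty (rels : Set (FreeGroup α)) (S : Set (FreeGroup α)) (hS : ∀ s, s ∉ S) :
    subH rels S = ⊥ := by
  have : S = ∅ := Set.eq_empty_iff_forall_notMem.2 hS
  unfold subH
  rw [this, Subgroup.closure_empty, Subgroup.map_bot]

/-- Order bound for a presented group with a verified enumeration over the trivial subgroup. -/
theorem card_le_of_regular {rels : Set (FreeGroup α)} {S : Set (FreeGroup α)} {n : ℕ}
    (e : (PresentedGroup rels ⧸ subH rels S) ≃ Fin n) (hS : ∀ s, s ∉ S) :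
    Finite (PresentedGroup rels) ∧ Nat.card (PresentedGroup rels) ≤ n := by
  have hbot : subH rels S ≤ (1 : Unit →* PresentedGroup rels).range := by
    rw [subH_empty rels S hS]
    exact bot_le
  have := card_le_of_quotient_equiv _ e (1 : Unit →* PresentedGroup rels) hbot 1 (by simp)
  simpa using this

end Cfsg.Agent.Lib.Helper56.PresHom
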