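/-
Upper bound for the order of the presented Held group, by helper56.  Coset enumerations:
`He ≥ ⟨a,c,d,e,f,g⟩` (49980, `HeK2`); on the sub-presentation on `a,c,d,e,f,g` with the extra
relator `(dce)^5`: `≥ ⟨d,e,f,g⟩` (480, `HeP`); sub-presentation on `d,e,f,g ≥ 1` (168, `HeD`).
The relation `(dce)^5 = 1` holds in `He`, being true in the sub-presentation on `a,b,c,d,e`
(regular enumeration with 15120 cosets, `HeC`).
-/
import Cfsg.Agent.Lib.Helper56.PresHom
import Cfsg.Agent.Lib.Helper56.HeD.Main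
import Cfsg.Agent.Lib.Helper56.HeP.Main
import Cfsg.Agent.Lib.Helper56.HeC.Main
import Cfsg.Agent.Lib.Helper56.HeK2.Main

set_option autoImplicit false

namespace Cfsg.Agent.Lib.Helper56.HeUpper

open Cfsg.Agent.Lib.Helper28 Cfsg.Agent.Lib.Helper28.TC Cfsg.Agent.Lib.Helper56.PresHom

/-- inclusion of generators -/
def ιDP : HeD.Gen → HeP.Gen
  | .d => .d | .e => .e | .f => .f | .g => .g

/-- inclusion of generators -/
def ιP : HeP.Gen → Cfsg.Spor.He.Gen
  | .a => .a | .c => .c | .d => .d | .e => .e | .f => .f | .g => .g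

/-- inclusion of generators -/
def ιC : HeC.Gen → Cfsg.Spor.He.Gen
  | .a => .a | .b => .b | .c => .c | .d => .d | .e => .e

/-- the word `(dce)^5` -/
def zC : List HeC.Gen :=
  [.d, .c, .e, .d, .c, .e, .d, .c, .e, .d, .c, .e, .d, .c, .e]

theorem wordsDP : ∀ e ∈ HeD.relE, (e.evalW).map ιDP ∈ HeP.relWords := by decide +kernel

theorem wordsC : ∀ e ∈ HeC.relE, (e.evalW).map ιC ∈ HeK2.relWords := by decide +kernel

theorem wordsP : ∀ e ∈ HeP.relE,
    (e.evalW).map ιP ∈ HeK2.relWords ∨ (e.evalW).map ιP = zC.map ιC := by decide +kernel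

theorem zC_fix : act HeC.tf zC 0 = 0 := by decide +kernel

/-- `(dce)^5 = 1` in the sub-presentation on `a, b, c, d, e`. -/
theorem zC_one : wval (pval HeC.rels) zC = 1 := by
  obtain ⟨e, he1, hequiv⟩ := HeC.cosetEquiv
  have h := wval_mem_of_fix HeC.nn_pos HeC.T HeC.hrel e he1 hequiv zC zC_fix
  rw [subH_empty HeC.rels HeC.subS (by rintro s ⟨e, he, -⟩; exact absurd he (by simp [HeC.subE]))]
    at h
  exact Subgroup.mem_bot.1 h

/-- `(dce)^5 = 1` in `He`. -/
theorem z_one : wval (pval HeK2.rels) (zC.map ιC) = 1 := by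
  obtain ⟨f, hf⟩ := exists_hom ιC HeC.relE HeK2.rels HeK2.hinv
    (fun e he => HeK2.relWords_one _ (wordsC e he))
  have := hom_wval ιC f hf zC
  rw [← this]
  show f (wval (pval HeC.rels) zC) = 1
  rw [zC_one, map_one]

/-- `⟨d, e, f, g⟩` has at most 168 elements. -/
theorem card_D : Finite (PresentedGroup HeD.rels) ∧ Nat.card (PresentedGroup HeD.rels) ≤ 168 := by
  obtain ⟨e, -, -⟩ := HeD.cosetEquiv
  have := card_le_of_regular e
    (by rintro s ⟨e, he, -⟩; exact absurd he (by simp [HeD.subE]))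
  simpa [HeD.nn] using this

/-- `⟨a, c, d, e, f, g⟩` has at most `480 * 168` elements. -/
theorem card_P : Finite (PresentedGroup HeP.rels) ∧
    Nat.card (PresentedGroup HeP.rels) ≤ 480 * 168 := by
  obtain ⟨e, -, -⟩ := HeP.cosetEquiv
  obtain ⟨f, hf⟩ := exists_hom ιDP HeD.relE HeP.rels HeP.hinv
    (fun e he => HeP.relWords_one _ (wordsDP e he))
  obtain ⟨hfin, hcard⟩ := card_D
  have hle : subH HeP.rels HeP.subS ≤ f.range := by
    apply subH_le_range ιDP f hf
    rintro s ⟨e, he, rfl⟩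
    simp only [HeP.subE, List.mem_cons, List.not_mem_nil, or_false] at he
    rcases he with rfl | rfl | rfl | rfl
    · exact ⟨.d, rfl⟩
    · exact ⟨.e, rfl⟩
    · exact ⟨.f, rfl⟩
    · exact ⟨.g, rfl⟩
  have := card_le_of_quotient_equiv _ e f hle 168 hcard
  simpa [HeP.nn] using this

/-- The presented Held group is finite with at most `4030387200` elements. -/
theorem card_He_le : Finite (PresentedGroup HeK2.rels) ∧
    Nat.card (PresentedGroup HeK2.rels) ≤ 4030387200 := by
  obtain ⟨e, -, -⟩ := HeK2.cosetEquiv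
  obtain ⟨f, hf⟩ := exists_hom ιP HeP.relE HeK2.rels HeK2.hinv
    (fun e he => by
      rcases wordsP e he with h | h
      · exact HeK2.relWords_one _ h
      · rw [h]; exact z_one)
  obtain ⟨hfin, hcard⟩ := card_P
  have hle : subH HeK2.rels HeK2.subS ≤ f.range := by
    apply subH_le_range ιP f hf
    rintro s ⟨e, he, rfl⟩
    simp only [HeK2.subE, List.mem_cons, List.not_mem_nil, or_false] at he
    rcases he with rfl | rfl | rfl | rfl | rfl | rfl
    · exact ⟨.a, rfl⟩
    · exact ⟨.c, rfl⟩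
    · exact ⟨.d, rfl⟩
    · exact ⟨.e, rfl⟩
    · exact ⟨.f, rfl⟩
    · exact ⟨.g, rfl⟩
  have := card_le_of_quotient_equiv _ e f hle _ hcard
  simpa [HeK2.nn] using this

end Cfsg.Agent.Lib.Helper56.HeUpper
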