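/-
A simplicity criterion for permutation groups with several suborbits, by helper56
(generalizes `isSimpleGroup_of_rank3`).
-/
import Cfsg.Agent.Lib.Helper56.PermSimple

set_option autoImplicit false

namespace Cfsg.Agent.Lib.Helper56

open MulAction

variable {X : Type*} [Fintype X] [DecidableEq X]

/-- `G` is transitive on `X`; a subgroup `K` of the stabilizer of `b0` is transitive on each class
of the labelling `cls` (class `0` being `{b0}`); no union of classes containing `b0`, other than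
`{b0}` and `X`, has size dividing `|X|`; the full `p`-part of `|G|` divides `|X|`; and the
generators of `G` lie in the subgroup generated by the elements of order `p`.  Then `G` is simple. -/
theorem isSimpleGroup_of_suborbits (G : Subgroup (Equiv.Perm X)) (b0 : X)
    (hX : 1 < Fintype.card X) (htrans : ∀ c, ∃ g ∈ G, g b0 = c)
    (K : Subgroup (Equiv.Perm X)) (hKG : K ≤ G) (hKfix : ∀ k ∈ K, k b0 = b0)
    (cls : X → ℕ) (r : ℕ) (hclsr : ∀ c, cls c ≤ r) (hcls0 : ∀ c, cls c = 0 ↔ c = b0)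
    (hK : ∀ d e, cls d = cls e → ∃ k ∈ K, k d = e)
    (m : ℕ → ℕ) (hm : ∀ j, j ≤ r → (Finset.univ.filter (fun c => cls c = j)).card = m j)
    (hdiv : ∀ J ∈ (Finset.range (r + 1)).powerset, 0 ∈ J → J ≠ {0} → J ≠ Finset.range (r + 1) →
      ¬ (∑ j ∈ J, m j) ∣ Fintype.card X)
    (p k : ℕ) (hp : p.Prime) (hpX : p ^ k ∣ Fintype.card X) (hpG : ¬ p ^ (k + 1) ∣ Nat.card G)
    (S : Set (Equiv.Perm X)) (hGS : G = Subgroup.closure S)
    (hS : ∀ s ∈ S, s ∈ Subgroup.closure {u : Equiv.Perm X | u ∈ G ∧ u ^ p = 1}) :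
    IsSimpleGroup G := by
  classical
  have : IsPretransitive G X := by
    refine ⟨fun a b => ?_⟩
    obtain ⟨g, hg, hga⟩ := htrans a
    obtain ⟨g', hg', hgb⟩ := htrans b
    refine ⟨⟨g' * g⁻¹, G.mul_mem hg' (G.inv_mem hg)⟩, ?_⟩
    show (g' * g⁻¹) a = b
    have h5 : g⁻¹ a = b0 := Equiv.Perm.inv_eq_iff_eq.mpr hga.symm
    rw [Equiv.Perm.mul_apply, h5, hgb]
  have hnt : Nontrivial G := by
    obtain ⟨c, hc⟩ : ∃ c : X, c ≠ b0 := by
      by_contra hcon
      push Not at hcon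
      have : Fintype.card X ≤ 1 := Fintype.card_le_one_iff.2 fun a b => by rw [hcon a, hcon b]
      omega
    obtain ⟨g, hg, hgc⟩ := htrans c
    refine ⟨⟨⟨g, hg⟩, 1, ?_⟩⟩
    intro h
    have h' : g = 1 := congrArg Subtype.val h
    rw [h'] at hgc
    exact hc hgc.symm
  refine ⟨fun N hN => ?_⟩
  by_cases hN1 : N = ⊥
  · exact Or.inl hN1
  right
  obtain ⟨n0, hn0N, hn0⟩ : ∃ n ∈ N, ((n : G) : Equiv.Perm X) b0 ≠ b0 := by
    obtain ⟨⟨n, hn⟩, hn1⟩ := (Subgroup.ne_bot_iff_exists_ne_one (H := N)).mp hN1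
    have hn1' : (n : Equiv.Perm X) ≠ 1 := by
      intro h
      apply hn1
      apply Subtype.ext
      apply Subtype.ext
      exact h
    have : ∃ c, (n : Equiv.Perm X) c ≠ c := by
      by_contra hcon
      push Not at hcon
      exact hn1' (Equiv.ext hcon)
    obtain ⟨c, hc⟩ := this
    obtain ⟨g, hg, hgc⟩ := htrans c
    refine ⟨(⟨g, hg⟩ : G)⁻¹ * n * (⟨g, hg⟩ : G), ?_, ?_⟩
    · have := hN.conj_mem n hn (⟨g, hg⟩ : G)⁻¹
      rwa [inv_inv] at this
    · show (g⁻¹ * (n : Equiv.Perm X) * g) b0 ≠ b0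
      rw [Equiv.Perm.mul_apply, Equiv.Perm.mul_apply, hgc]
      intro h
      rw [Equiv.Perm.inv_eq_iff_eq, hgc] at h
      exact hc h
  set O : Set X := orbit N b0 with hO
  have hmem : ∀ c, c ∈ O ↔ ∃ n ∈ N, ((n : G) : Equiv.Perm X) b0 = c := by
    intro c
    rw [hO, mem_orbit_iff]
    constructor
    · rintro ⟨⟨n, hn⟩, h⟩
      exact ⟨n, hn, h⟩
    · rintro ⟨n, hn, h⟩
      exact ⟨⟨n, hn⟩, h⟩
  have hb0O : b0 ∈ O := mem_orbit_self b0
  have hblock : IsBlock G O := IsBlock.orbit_of_normal b0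
  have hdvd : O.ncard ∣ Fintype.card X := by
    have := hblock.ncard_dvd_card ⟨b0, hb0O⟩
    simpa using this
  have hinv : ∀ h ∈ K, ∀ c ∈ O, h c ∈ O := by
    intro h hh c hc
    obtain ⟨n, hn, hnc⟩ := (hmem c).mp hc
    have hh0 : h ∈ G := hKG hh
    refine (hmem _).mpr ⟨(⟨h, hh0⟩ : G) * n * (⟨h, hh0⟩ : G)⁻¹, hN.conj_mem n hn _, ?_⟩
    show (h * (n : Equiv.Perm X) * h⁻¹) b0 = h c
    have h5 : h⁻¹ b0 = b0 := Equiv.Perm.inv_eq_iff_eq.mpr (hKfix h hh).symm
    rw [Equiv.Perm.mul_apply, Equiv.Perm.mul_apply, h5, hnc]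
  have hd0O : ((n0 : G) : Equiv.Perm X) b0 ∈ O := (hmem _).mpr ⟨n0, hn0N, rfl⟩
  -- the set of classes met by the orbit
  set J : Finset ℕ := (Finset.range (r + 1)).filter (fun j => ∃ c ∈ O, cls c = j) with hJ
  have hOJ : ∀ c, c ∈ O ↔ cls c ∈ J := by
    intro c
    constructor
    · intro hc
      rw [hJ, Finset.mem_filter, Finset.mem_range]
      exact ⟨Nat.lt_succ_of_le (hclsr c), c, hc, rfl⟩
    · intro hc
      rw [hJ, Finset.mem_filter] at hc
      obtain ⟨c', hc', hcc'⟩ := hc.2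
      obtain ⟨k', hk', hkc⟩ := hK c' c hcc'
      rw [← hkc]
      exact hinv k' hk' c' hc'
  have hcardO : O.ncard = ∑ j ∈ J, m j := by
    have h1 : O = ↑(Finset.univ.filter (fun c => cls c ∈ J)) := by
      ext c
      simp only [Finset.coe_filter, Finset.mem_univ, true_and, Set.mem_ofPred_eq]
      exact hOJ c
    rw [h1, Set.ncard_coe_finset]
    have hfib := Finset.card_eq_sum_card_fiberwise (f := cls)
      (s := Finset.univ.filter (fun c => cls c ∈ J)) (t := J)
      (by intro x hx; exact (Finset.mem_filter.1 (Finset.mem_coe.1 hx)).2)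
    rw [hfib]
    apply Finset.sum_congr rfl
    intro j hj
    have hjr : j ≤ r := by
      rw [hJ, Finset.mem_filter, Finset.mem_range] at hj
      omega
    rw [← hm j hjr]
    congr 1
    ext c
    simp only [Finset.mem_filter, Finset.mem_univ, true_and]
    constructor
    · rintro ⟨-, h⟩; exact h
    · intro h; exact ⟨h ▸ hj, h⟩
  have hJsub : J ∈ (Finset.range (r + 1)).powerset :=
    Finset.mem_powerset.2 (Finset.filter_subset _ _)
  have h0J : 0 ∈ J := (hOJ b0).1 hb0O |> fun h => by rwa [(hcls0 b0).2 rfl] at h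
  have hJne : J ≠ {0} := by
    intro h
    have := (hOJ _).1 hd0O
    rw [h, Finset.mem_singleton, hcls0] at this
    exact hn0 this
  have hJuniv : J = Finset.range (r + 1) := by
    by_contra hne
    exact hdiv J hJsub h0J hJne hne (hcardO ▸ hdvd)
  have hOuniv : O = Set.univ := by
    apply Set.eq_univ_of_forall
    intro c
    rw [hOJ, hJuniv, Finset.mem_range]
    exact Nat.lt_succ_of_le (hclsr c)
  have hXN : Fintype.card X ∣ Nat.card N := by
    have h1 : (stabilizer N b0).index = O.ncard := index_stabilizer N b0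
    rw [hOuniv, Set.ncard_univ, Nat.card_eq_fintype_card] at h1
    have h3 := Subgroup.index_dvd_card (stabilizer N b0)
    rwa [h1] at h3
  have hpN : p ^ k ∣ Nat.card N := Dvd.dvd.trans hpX hXN
  have hcl0 : Subgroup.closure {u : Equiv.Perm X | u ∈ G ∧ u ^ p = 1} ≤ N.map G.subtype := by
    rw [Subgroup.closure_le]
    rintro u ⟨hu, hup⟩
    have huN : (⟨u, hu⟩ : G) ∈ N :=
      mem_normal_of_pow_eq_one' N p k hp hpN hpG _ (Subtype.ext hup)
    exact ⟨_, huN, rfl⟩
  have hle : G ≤ N.map G.subtype := by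
    have hcl : Subgroup.closure S ≤ N.map G.subtype := by
      rw [Subgroup.closure_le]
      intro s hs
      exact hcl0 (hS s hs)
    exact le_trans (le_of_eq hGS) hcl
  rw [eq_top_iff]
  intro g _
  obtain ⟨g', hg', hgg'⟩ := hle g.2
  have : g' = g := Subtype.ext hgg'
  rwa [← this]

end Cfsg.Agent.Lib.Helper56
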