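/-
A concrete, computable field with four elements (helper56).
Elements: `z = 0`, `o = 1`, `w = ω`, `v = ω² = ω + 1`.
-/
import Mathlib

set_option autoImplicit false

namespace Cfsg.Agent.Lib.Helper56

/-- The field with four elements, as an enumerated type. -/
inductive F4 : Type
  | z | o | w | v
  deriving DecidableEq, Repr

namespace F4

instance : Fintype F4 := ⟨⟨[z, o, w, v], by decide⟩, by intro x; cases x <;> decide⟩

/-- Addition (xor on the codes `0,1,2,3`). -/
def add : F4 → F4 → F4
  | z, x => x
  | x, z => x
  | o, o => z
  | o, w => v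
  | o, v => w
  | w, o => v
  | w, w => z
  | w, v => o
  | v, o => w
  | v, w => o
  | v, v => z

/-- Multiplication. -/
def mul : F4 → F4 → F4
  | z, _ => z
  | _, z => z
  | o, x => x
  | x, o => x
  | w, w => v
  | w, v => o
  | v, w => o
  | v, v => w

/-- Inverse. -/
def inv : F4 → F4
  | z => z
  | o => o
  | w => v
  | v => w

instance : Add F4 := ⟨add⟩
instance : Mul F4 := ⟨mul⟩
instance : Zero F4 := ⟨z⟩
instance : One F4 := ⟨o⟩
instance : Neg F4 := ⟨id⟩
instance : Inv F4 := ⟨inv⟩

instance : CommRing F4 where
  add := (· + ·)
  add_assoc := by decide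
  zero := 0
  zero_add := by decide
  add_zero := by decide
  nsmul := nsmulRec
  add_comm := by decide
  mul := (· * ·)
  left_distrib := by decide
  right_distrib := by decide
  zero_mul := by decide
  mul_zero := by decide
  mul_assoc := by decide
  one := 1
  one_mul := by decide
  mul_one := by decide
  neg := Neg.neg
  zsmul := zsmulRec
  neg_add_cancel := by decide
  mul_comm := by decide
  npow := npowRec

instance : Field F4 where
  inv := Inv.inv
  exists_pair_ne := ⟨0, 1, by decide⟩
  mul_inv_cancel := by decide
  inv_zero := by decide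
  nnqsmul := _
  nnqsmul_def := fun _ _ => rfl
  qsmul := _
  qsmul_def := fun _ _ => rfl

theorem card : Fintype.card F4 = 4 := by decide

end F4

end Cfsg.Agent.Lib.Helper56
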