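import Cfsg.Agent.Lib.Helper85.Suz2Defs

/-!
# SUZ2 module [FPF]: the scalar generator `ξ` is fixed point free on `P` (helper56)
-/

set_option autoImplicit false
set_option linter.style.haveILetI false

namespace Cfsg.Agent.Lib.Helper56.Suz2

open Cfsg.Agent.Lib.Helper19.Suz Cfsg.Agent.Lib.Helper85.Suz2

universe u

variable {P : Type u} [Group P] {Y : Subgroup (MulAut P)}

section coords
variable {F : Type} [Field F] [Fintype F] {aZ : P → F} {κ : MulAut P → F}
  {σ : MulAut P → (F ≃+* F)} {ξ : MulAut P} {n e : ℕ}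

/-- the scalar `κ ξ` is not one -/
theorem LamHyp.lam_ne_one (L : LamHyp P Y F κ σ ξ n e) : κ ξ ≠ 1 := by
  intro h1
  have ho : orderOf (κ ξ) = 1 := by rw [h1]; exact orderOf_one
  have hord := L.order
  rw [ho, one_mul] at hord
  have hn0 : 0 < n := lt_of_lt_of_le (by norm_num) L.two_le
  have hle : e ≤ n := Nat.le_of_dvd hn0 L.e_dvd
  have hlt : n + 1 < 2 ^ n := by
    have : ∀ m : ℕ, 2 ≤ m → m + 1 < 2 ^ m := by
      intro m hm
      induction m, hm using Nat.le_induction with
      | base => norm_num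
      | succ k hk ih =>
        rw [pow_succ]
        omega
    exact this n L.two_le
  omega

/-- [FPF] -/
theorem LamHyp.fpf (h : SHyp P Y) (zc : ZCoord P Y F aZ κ σ) (L : LamHyp P Y F κ σ ξ n e) :
    (∀ x : P, ξ x = x → x = 1) ∧ (∀ g : P, ∃ x : P, x⁻¹ * ξ x = g) := by
  haveI := h.fin
  have hfix : ∀ x : P, ξ x = x → x = 1 := by
    intro x hx
    by_contra hx1
    obtain ⟨m, hm1, hm2⟩ := exists_pow_involution h.pgrp hx1
    have hw : x ^ m ∈ Z0 P := h.mem_Z0_iff.mpr hm2
    have hξw : ξ (x ^ m) = x ^ m := by rw [map_pow, hx]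
    have hact := zc.act ξ L.ξ_mem (x ^ m) hw
    rw [hξw, L.σξ] at hact
    have hact' : aZ (x ^ m) = κ ξ * aZ (x ^ m) := hact
    have h0 : (κ ξ - 1) * aZ (x ^ m) = 0 := by
      rw [sub_mul, one_mul, ← hact', sub_self]
    rcases mul_eq_zero.mp h0 with h1 | h1
    · exact LamHyp.lam_ne_one L (sub_eq_zero.mp h1)
    · exact hm1 (zc.aZ_inj (x ^ m) hw h1)
  refine ⟨hfix, ?_⟩
  have hinj : Function.Injective (fun x : P => x⁻¹ * ξ x) := by
    intro x y hxy
    have hxy' : x⁻¹ * ξ x = y⁻¹ * ξ y := hxy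
    have h1 : y * x⁻¹ = 1 := by
      apply hfix
      rw [map_mul, map_inv]
      have : ξ y = y * (x⁻¹ * ξ x) := by rw [hxy']; group
      rw [this]; group
    have : y = x := by
      have := congrArg (· * x) h1
      simpa using this
    exact this.symm
  intro g
  exact (Finite.injective_iff_surjective.mp hinj) g

end coords

end Cfsg.Agent.Lib.Helper56.Suz2
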