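/-
Machine generated (helper56): a Todd–Coxeter derivation of the Cayley graph of `C₃ ≀ S₃` (order 162)
from the relators `v³, s³, t², (ts)², tvt⁻¹v⁻¹, [v, svs⁻¹]`.  Main results: `gAll_surjective`: a group
generated by three elements satisfying these relators is covered by 162 explicit elements;
`gAll_mem`: these elements lie in every subgroup containing the generators.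
-/
import Mathlib

set_option autoImplicit false
set_option linter.unusedVariables false

namespace Cfsg.Agent.Lib.Helper56.C3wrS3

section c3wr_generic
variable {M : Type*} [Group M]

theorem path_nil (g : M) : g * 1 = g := mul_one g
theorem path_cons {g g' g'' s w : M} (h : g * s = g') (h' : g' * w = g'') : g * (s * w) = g'' := by
  rw [← mul_assoc, h, h']
theorem deduce {gc ge gf A s B : M} (h1 : gc * A = ge) (h2 : gf * B = gc) (hr : A * (s * B) = 1) :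
    ge * s = gf := by
  have h3 : ge * s * B = gc := by rw [← h1, mul_assoc, mul_assoc, hr, mul_one]
  exact mul_right_cancel (h3.trans h2.symm)
theorem inv_edge {gd gc s : M} (h : gd * s = gc) : gc * s⁻¹ = gd := by rw [← h, mul_inv_cancel_right]
theorem edge_of_inv {ge gf s : M} (h : ge * s⁻¹ = gf) : gf * s = ge := by rw [← h, inv_mul_cancel_right]

end c3wr_generic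

section c3wr_table
variable {M : Type*} [Group M]

def g0 (X0 X1 X2 : M) : M := 1
def g1 (X0 X1 X2 : M) : M := g0 X0 X1 X2 * X0
def g2 (X0 X1 X2 : M) : M := g0 X0 X1 X2 * X1
def g3 (X0 X1 X2 : M) : M := g0 X0 X1 X2 * X2
def g4 (X0 X1 X2 : M) : M := g1 X0 X1 X2 * X0
def g5 (X0 X1 X2 : M) : M := g1 X0 X1 X2 * X1
def g6 (X0 X1 X2 : M) : M := g1 X0 X1 X2 * X2
def g7 (X0 X1 X2 : M) : M := g2 X0 X1 X2 * X0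
def g8 (X0 X1 X2 : M) : M := g2 X0 X1 X2 * X1
def g9 (X0 X1 X2 : M) : M := g2 X0 X1 X2 * X2
def g10 (X0 X1 X2 : M) : M := g3 X0 X1 X2 * X1
def g11 (X0 X1 X2 : M) : M := g4 X0 X1 X2 * X1
def g12 (X0 X1 X2 : M) : M := g4 X0 X1 X2 * X2
def g13 (X0 X1 X2 : M) : M := g5 X0 X1 X2 * X0
def g14 (X0 X1 X2 : M) : M := g5 X0 X1 X2 * X1
def g15 (X0 X1 X2 : M) : M := g5 X0 X1 X2 * X2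
def g16 (X0 X1 X2 : M) : M := g6 X0 X1 X2 * X1
def g17 (X0 X1 X2 : M) : M := g7 X0 X1 X2 * X0
def g18 (X0 X1 X2 : M) : M := g7 X0 X1 X2 * X1
def g19 (X0 X1 X2 : M) : M := g7 X0 X1 X2 * X2
def g20 (X0 X1 X2 : M) : M := g8 X0 X1 X2 * X0
def g21 (X0 X1 X2 : M) : M := g10 X0 X1 X2 * X0
def g22 (X0 X1 X2 : M) : M := g11 X0 X1 X2 * X0
def g23 (X0 X1 X2 : M) : M := g11 X0 X1 X2 * X1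
def g24 (X0 X1 X2 : M) : M := g11 X0 X1 X2 * X2
def g25 (X0 X1 X2 : M) : M := g12 X0 X1 X2 * X1
def g26 (X0 X1 X2 : M) : M := g13 X0 X1 X2 * X0
def g27 (X0 X1 X2 : M) : M := g13 X0 X1 X2 * X1
def g28 (X0 X1 X2 : M) : M := g13 X0 X1 X2 * X2
def g29 (X0 X1 X2 : M) : M := g14 X0 X1 X2 * X0
def g30 (X0 X1 X2 : M) : M := g16 X0 X1 X2 * X0
def g31 (X0 X1 X2 : M) : M := g17 X0 X1 X2 * X1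
def g32 (X0 X1 X2 : M) : M := g17 X0 X1 X2 * X2
def g33 (X0 X1 X2 : M) : M := g18 X0 X1 X2 * X0
def g34 (X0 X1 X2 : M) : M := g18 X0 X1 X2 * X1
def g35 (X0 X1 X2 : M) : M := g18 X0 X1 X2 * X2
def g36 (X0 X1 X2 : M) : M := g19 X0 X1 X2 * X1
def g37 (X0 X1 X2 : M) : M := g20 X0 X1 X2 * X0
def g38 (X0 X1 X2 : M) : M := g20 X0 X1 X2 * X1
def g39 (X0 X1 X2 : M) : M := g21 X0 X1 X2 * X0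
def g40 (X0 X1 X2 : M) : M := g21 X0 X1 X2 * X1
def g41 (X0 X1 X2 : M) : M := g22 X0 X1 X2 * X0
def g42 (X0 X1 X2 : M) : M := g22 X0 X1 X2 * X1
def g43 (X0 X1 X2 : M) : M := g22 X0 X1 X2 * X2
def g44 (X0 X1 X2 : M) : M := g23 X0 X1 X2 * X0
def g45 (X0 X1 X2 : M) : M := g25 X0 X1 X2 * X0
def g46 (X0 X1 X2 : M) : M := g26 X0 X1 X2 * X1
def g47 (X0 X1 X2 : M) : M := g26 X0 X1 X2 * X2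
def g48 (X0 X1 X2 : M) : M := g27 X0 X1 X2 * X0
def g49 (X0 X1 X2 : M) : M := g27 X0 X1 X2 * X1
def g50 (X0 X1 X2 : M) : M := g27 X0 X1 X2 * X2
def g51 (X0 X1 X2 : M) : M := g28 X0 X1 X2 * X1
def g52 (X0 X1 X2 : M) : M := g29 X0 X1 X2 * X0
def g53 (X0 X1 X2 : M) : M := g29 X0 X1 X2 * X1
def g54 (X0 X1 X2 : M) : M := g30 X0 X1 X2 * X0
def g55 (X0 X1 X2 : M) : M := g30 X0 X1 X2 * X1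
def g56 (X0 X1 X2 : M) : M := g31 X0 X1 X2 * X0
def g57 (X0 X1 X2 : M) : M := g31 X0 X1 X2 * X1
def g58 (X0 X1 X2 : M) : M := g31 X0 X1 X2 * X2
def g59 (X0 X1 X2 : M) : M := g32 X0 X1 X2 * X1
def g60 (X0 X1 X2 : M) : M := g33 X0 X1 X2 * X0
def g61 (X0 X1 X2 : M) : M := g33 X0 X1 X2 * X1
def g62 (X0 X1 X2 : M) : M := g33 X0 X1 X2 * X2
def g63 (X0 X1 X2 : M) : M := g37 X0 X1 X2 * X1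
def g64 (X0 X1 X2 : M) : M := g38 X0 X1 X2 * X1
def g65 (X0 X1 X2 : M) : M := g38 X0 X1 X2 * X2
def g66 (X0 X1 X2 : M) : M := g39 X0 X1 X2 * X1
def g67 (X0 X1 X2 : M) : M := g40 X0 X1 X2 * X0
def g68 (X0 X1 X2 : M) : M := g41 X0 X1 X2 * X1
def g69 (X0 X1 X2 : M) : M := g41 X0 X1 X2 * X2
def g70 (X0 X1 X2 : M) : M := g42 X0 X1 X2 * X0
def g71 (X0 X1 X2 : M) : M := g42 X0 X1 X2 * X1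
def g72 (X0 X1 X2 : M) : M := g42 X0 X1 X2 * X2
def g73 (X0 X1 X2 : M) : M := g43 X0 X1 X2 * X1
def g74 (X0 X1 X2 : M) : M := g44 X0 X1 X2 * X0
def g75 (X0 X1 X2 : M) : M := g44 X0 X1 X2 * X1
def g76 (X0 X1 X2 : M) : M := g45 X0 X1 X2 * X0
def g77 (X0 X1 X2 : M) : M := g45 X0 X1 X2 * X1
def g78 (X0 X1 X2 : M) : M := g46 X0 X1 X2 * X0
def g79 (X0 X1 X2 : M) : M := g46 X0 X1 X2 * X1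
def g80 (X0 X1 X2 : M) : M := g46 X0 X1 X2 * X2
def g81 (X0 X1 X2 : M) : M := g47 X0 X1 X2 * X1
def g82 (X0 X1 X2 : M) : M := g48 X0 X1 X2 * X0
def g83 (X0 X1 X2 : M) : M := g48 X0 X1 X2 * X1
def g84 (X0 X1 X2 : M) : M := g48 X0 X1 X2 * X2
def g85 (X0 X1 X2 : M) : M := g52 X0 X1 X2 * X1
def g86 (X0 X1 X2 : M) : M := g53 X0 X1 X2 * X1
def g87 (X0 X1 X2 : M) : M := g53 X0 X1 X2 * X2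
def g88 (X0 X1 X2 : M) : M := g54 X0 X1 X2 * X1
def g89 (X0 X1 X2 : M) : M := g55 X0 X1 X2 * X0
def g90 (X0 X1 X2 : M) : M := g56 X0 X1 X2 * X0
def g91 (X0 X1 X2 : M) : M := g56 X0 X1 X2 * X1
def g92 (X0 X1 X2 : M) : M := g56 X0 X1 X2 * X2
def g93 (X0 X1 X2 : M) : M := g60 X0 X1 X2 * X1
def g94 (X0 X1 X2 : M) : M := g60 X0 X1 X2 * X2
def g95 (X0 X1 X2 : M) : M := g61 X0 X1 X2 * X1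
def g96 (X0 X1 X2 : M) : M := g61 X0 X1 X2 * X2
def g97 (X0 X1 X2 : M) : M := g63 X0 X1 X2 * X1
def g98 (X0 X1 X2 : M) : M := g63 X0 X1 X2 * X2
def g99 (X0 X1 X2 : M) : M := g66 X0 X1 X2 * X0
def g100 (X0 X1 X2 : M) : M := g67 X0 X1 X2 * X0
def g101 (X0 X1 X2 : M) : M := g68 X0 X1 X2 * X0
def g102 (X0 X1 X2 : M) : M := g68 X0 X1 X2 * X1
def g103 (X0 X1 X2 : M) : M := g68 X0 X1 X2 * X2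
def g104 (X0 X1 X2 : M) : M := g69 X0 X1 X2 * X1
def g105 (X0 X1 X2 : M) : M := g70 X0 X1 X2 * X0
def g106 (X0 X1 X2 : M) : M := g70 X0 X1 X2 * X1
def g107 (X0 X1 X2 : M) : M := g70 X0 X1 X2 * X2
def g108 (X0 X1 X2 : M) : M := g74 X0 X1 X2 * X1
def g109 (X0 X1 X2 : M) : M := g75 X0 X1 X2 * X1
def g110 (X0 X1 X2 : M) : M := g75 X0 X1 X2 * X2
def g111 (X0 X1 X2 : M) : M := g76 X0 X1 X2 * X1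
def g112 (X0 X1 X2 : M) : M := g77 X0 X1 X2 * X0
def g113 (X0 X1 X2 : M) : M := g78 X0 X1 X2 * X0
def g114 (X0 X1 X2 : M) : M := g78 X0 X1 X2 * X1
def g115 (X0 X1 X2 : M) : M := g78 X0 X1 X2 * X2
def g116 (X0 X1 X2 : M) : M := g82 X0 X1 X2 * X1
def g117 (X0 X1 X2 : M) : M := g82 X0 X1 X2 * X2
def g118 (X0 X1 X2 : M) : M := g83 X0 X1 X2 * X1
def g119 (X0 X1 X2 : M) : M := g83 X0 X1 X2 * X2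
def g120 (X0 X1 X2 : M) : M := g85 X0 X1 X2 * X1
def g121 (X0 X1 X2 : M) : M := g85 X0 X1 X2 * X2
def g122 (X0 X1 X2 : M) : M := g88 X0 X1 X2 * X0
def g123 (X0 X1 X2 : M) : M := g89 X0 X1 X2 * X0
def g124 (X0 X1 X2 : M) : M := g90 X0 X1 X2 * X1
def g125 (X0 X1 X2 : M) : M := g90 X0 X1 X2 * X2
def g126 (X0 X1 X2 : M) : M := g91 X0 X1 X2 * X1
def g127 (X0 X1 X2 : M) : M := g91 X0 X1 X2 * X2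
def g128 (X0 X1 X2 : M) : M := g93 X0 X1 X2 * X1
def g129 (X0 X1 X2 : M) : M := g93 X0 X1 X2 * X2
def g130 (X0 X1 X2 : M) : M := g99 X0 X1 X2 * X0
def g131 (X0 X1 X2 : M) : M := g101 X0 X1 X2 * X0
def g132 (X0 X1 X2 : M) : M := g101 X0 X1 X2 * X1
def g133 (X0 X1 X2 : M) : M := g101 X0 X1 X2 * X2
def g134 (X0 X1 X2 : M) : M := g105 X0 X1 X2 * X1
def g135 (X0 X1 X2 : M) : M := g105 X0 X1 X2 * X2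
def g136 (X0 X1 X2 : M) : M := g106 X0 X1 X2 * X1
def g137 (X0 X1 X2 : M) : M := g106 X0 X1 X2 * X2
def g138 (X0 X1 X2 : M) : M := g108 X0 X1 X2 * X1
def g139 (X0 X1 X2 : M) : M := g108 X0 X1 X2 * X2
def g140 (X0 X1 X2 : M) : M := g111 X0 X1 X2 * X0
def g141 (X0 X1 X2 : M) : M := g112 X0 X1 X2 * X0
def g142 (X0 X1 X2 : M) : M := g113 X0 X1 X2 * X1
def g143 (X0 X1 X2 : M) : M := g113 X0 X1 X2 * X2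
def g144 (X0 X1 X2 : M) : M := g114 X0 X1 X2 * X1
def g145 (X0 X1 X2 : M) : M := g114 X0 X1 X2 * X2
def g146 (X0 X1 X2 : M) : M := g116 X0 X1 X2 * X1
def g147 (X0 X1 X2 : M) : M := g116 X0 X1 X2 * X2
def g148 (X0 X1 X2 : M) : M := g122 X0 X1 X2 * X0
def g149 (X0 X1 X2 : M) : M := g124 X0 X1 X2 * X1
def g150 (X0 X1 X2 : M) : M := g124 X0 X1 X2 * X2
def g151 (X0 X1 X2 : M) : M := g131 X0 X1 X2 * X1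
def g152 (X0 X1 X2 : M) : M := g131 X0 X1 X2 * X2
def g153 (X0 X1 X2 : M) : M := g132 X0 X1 X2 * X1
def g154 (X0 X1 X2 : M) : M := g132 X0 X1 X2 * X2
def g155 (X0 X1 X2 : M) : M := g134 X0 X1 X2 * X1
def g156 (X0 X1 X2 : M) : M := g134 X0 X1 X2 * X2
def g157 (X0 X1 X2 : M) : M := g140 X0 X1 X2 * X0
def g158 (X0 X1 X2 : M) : M := g142 X0 X1 X2 * X1
def g159 (X0 X1 X2 : M) : M := g142 X0 X1 X2 * X2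
def g160 (X0 X1 X2 : M) : M := g151 X0 X1 X2 * X1
def g161 (X0 X1 X2 : M) : M := g151 X0 X1 X2 * X2


theorem rel_0_2 (X0 X1 X2 : M) (hr0 : X0 * (X0 * (X0 * 1)) = 1) (hr1 : X1 * (X1 * (X1 * 1)) = 1) (hr2 : X2 * (X2 * 1) = 1) (hr3 : X2 * (X1 * (X2 * (X1 * 1))) = 1) (hr4 : X2 * (X0 * (X2⁻¹ * (X0⁻¹ * 1))) = 1) (hr5 : X0 * (X1 * (X0 * (X1⁻¹ * (X0⁻¹ * (X1 * (X0⁻¹ * (X1⁻¹ * 1))))))) = 1) : (X0 * (X0 * 1)) * (X0 * (1)) = 1 := by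
  simpa only [mul_assoc, mul_one, one_mul] using hr0
theorem rel_1_1 (X0 X1 X2 : M) (hr0 : X0 * (X0 * (X0 * 1)) = 1) (hr1 : X1 * (X1 * (X1 * 1)) = 1) (hr2 : X2 * (X2 * 1) = 1) (hr3 : X2 * (X1 * (X2 * (X1 * 1))) = 1) (hr4 : X2 * (X0 * (X2⁻¹ * (X0⁻¹ * 1))) = 1) (hr5 : X0 * (X1 * (X0 * (X1⁻¹ * (X0⁻¹ * (X1 * (X0⁻¹ * (X1⁻¹ * 1))))))) = 1) : (X1 * 1) * (X1 * (X1 * 1)) = 1 := by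
  simpa only [mul_assoc, mul_one, one_mul] using hr1
theorem rel_1_2 (X0 X1 X2 : M) (hr0 : X0 * (X0 * (X0 * 1)) = 1) (hr1 : X1 * (X1 * (X1 * 1)) = 1) (hr2 : X2 * (X2 * 1) = 1) (hr3 : X2 * (X1 * (X2 * (X1 * 1))) = 1) (hr4 : X2 * (X0 * (X2⁻¹ * (X0⁻¹ * 1))) = 1) (hr5 : X0 * (X1 * (X0 * (X1⁻¹ * (X0⁻¹ * (X1 * (X0⁻¹ * (X1⁻¹ * 1))))))) = 1) : (X1 * (X1 * 1)) * (X1 * (1)) = 1 := by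
  simpa only [mul_assoc, mul_one, one_mul] using hr1
theorem rel_2_0 (X0 X1 X2 : M) (hr0 : X0 * (X0 * (X0 * 1)) = 1) (hr1 : X1 * (X1 * (X1 * 1)) = 1) (hr2 : X2 * (X2 * 1) = 1) (hr3 : X2 * (X1 * (X2 * (X1 * 1))) = 1) (hr4 : X2 * (X0 * (X2⁻¹ * (X0⁻¹ * 1))) = 1) (hr5 : X0 * (X1 * (X0 * (X1⁻¹ * (X0⁻¹ * (X1 * (X0⁻¹ * (X1⁻¹ * 1))))))) = 1) : (1) * (X2 * (X2 * 1)) = 1 := by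
  simpa only [mul_assoc, mul_one, one_mul] using hr2
theorem rel_2_1 (X0 X1 X2 : M) (hr0 : X0 * (X0 * (X0 * 1)) = 1) (hr1 : X1 * (X1 * (X1 * 1)) = 1) (hr2 : X2 * (X2 * 1) = 1) (hr3 : X2 * (X1 * (X2 * (X1 * 1))) = 1) (hr4 : X2 * (X0 * (X2⁻¹ * (X0⁻¹ * 1))) = 1) (hr5 : X0 * (X1 * (X0 * (X1⁻¹ * (X0⁻¹ * (X1 * (X0⁻¹ * (X1⁻¹ * 1))))))) = 1) : (X2 * 1) * (X2 * (1)) = 1 := by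
  simpa only [mul_assoc, mul_one, one_mul] using hr2
theorem rel_3_1 (X0 X1 X2 : M) (hr0 : X0 * (X0 * (X0 * 1)) = 1) (hr1 : X1 * (X1 * (X1 * 1)) = 1) (hr2 : X2 * (X2 * 1) = 1) (hr3 : X2 * (X1 * (X2 * (X1 * 1))) = 1) (hr4 : X2 * (X0 * (X2⁻¹ * (X0⁻¹ * 1))) = 1) (hr5 : X0 * (X1 * (X0 * (X1⁻¹ * (X0⁻¹ * (X1 * (X0⁻¹ * (X1⁻¹ * 1))))))) = 1) : (X2 * 1) * (X1 * (X2 * (X1 * 1))) = 1 := by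
  simpa only [mul_assoc, mul_one, one_mul] using hr3
theorem rel_3_2 (X0 X1 X2 : M) (hr0 : X0 * (X0 * (X0 * 1)) = 1) (hr1 : X1 * (X1 * (X1 * 1)) = 1) (hr2 : X2 * (X2 * 1) = 1) (hr3 : X2 * (X1 * (X2 * (X1 * 1))) = 1) (hr4 : X2 * (X0 * (X2⁻¹ * (X0⁻¹ * 1))) = 1) (hr5 : X0 * (X1 * (X0 * (X1⁻¹ * (X0⁻¹ * (X1 * (X0⁻¹ * (X1⁻¹ * 1))))))) = 1) : (X2 * (X1 * 1)) * (X2 * (X1 * 1)) = 1 := by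
  simpa only [mul_assoc, mul_one, one_mul] using hr3
theorem rel_3_3 (X0 X1 X2 : M) (hr0 : X0 * (X0 * (X0 * 1)) = 1) (hr1 : X1 * (X1 * (X1 * 1)) = 1) (hr2 : X2 * (X2 * 1) = 1) (hr3 : X2 * (X1 * (X2 * (X1 * 1))) = 1) (hr4 : X2 * (X0 * (X2⁻¹ * (X0⁻¹ * 1))) = 1) (hr5 : X0 * (X1 * (X0 * (X1⁻¹ * (X0⁻¹ * (X1 * (X0⁻¹ * (X1⁻¹ * 1))))))) = 1) : (X2 * (X1 * (X2 * 1))) * (X1 * (1)) = 1 := by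
  simpa only [mul_assoc, mul_one, one_mul] using hr3
theorem rel_4_1 (X0 X1 X2 : M) (hr0 : X0 * (X0 * (X0 * 1)) = 1) (hr1 : X1 * (X1 * (X1 * 1)) = 1) (hr2 : X2 * (X2 * 1) = 1) (hr3 : X2 * (X1 * (X2 * (X1 * 1))) = 1) (hr4 : X2 * (X0 * (X2⁻¹ * (X0⁻¹ * 1))) = 1) (hr5 : X0 * (X1 * (X0 * (X1⁻¹ * (X0⁻¹ * (X1 * (X0⁻¹ * (X1⁻¹ * 1))))))) = 1) : (X2 * 1) * (X0 * (X2⁻¹ * (X0⁻¹ * 1))) = 1 := by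
  simpa only [mul_assoc, mul_one, one_mul] using hr4
theorem rel_4_2 (X0 X1 X2 : M) (hr0 : X0 * (X0 * (X0 * 1)) = 1) (hr1 : X1 * (X1 * (X1 * 1)) = 1) (hr2 : X2 * (X2 * 1) = 1) (hr3 : X2 * (X1 * (X2 * (X1 * 1))) = 1) (hr4 : X2 * (X0 * (X2⁻¹ * (X0⁻¹ * 1))) = 1) (hr5 : X0 * (X1 * (X0 * (X1⁻¹ * (X0⁻¹ * (X1 * (X0⁻¹ * (X1⁻¹ * 1))))))) = 1) : (X2 * (X0 * 1)) * (X2⁻¹ * (X0⁻¹ * 1)) = 1 := by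
  simpa only [mul_assoc, mul_one, one_mul] using hr4
theorem rel_5_2 (X0 X1 X2 : M) (hr0 : X0 * (X0 * (X0 * 1)) = 1) (hr1 : X1 * (X1 * (X1 * 1)) = 1) (hr2 : X2 * (X2 * 1) = 1) (hr3 : X2 * (X1 * (X2 * (X1 * 1))) = 1) (hr4 : X2 * (X0 * (X2⁻¹ * (X0⁻¹ * 1))) = 1) (hr5 : X0 * (X1 * (X0 * (X1⁻¹ * (X0⁻¹ * (X1 * (X0⁻¹ * (X1⁻¹ * 1))))))) = 1) : (X0 * (X1 * 1)) * (X0 * (X1⁻¹ * (X0⁻¹ * (X1 * (X0⁻¹ * (X1⁻¹ * 1)))))) = 1 := by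
  simpa only [mul_assoc, mul_one, one_mul] using hr5
theorem rel_5_3 (X0 X1 X2 : M) (hr0 : X0 * (X0 * (X0 * 1)) = 1) (hr1 : X1 * (X1 * (X1 * 1)) = 1) (hr2 : X2 * (X2 * 1) = 1) (hr3 : X2 * (X1 * (X2 * (X1 * 1))) = 1) (hr4 : X2 * (X0 * (X2⁻¹ * (X0⁻¹ * 1))) = 1) (hr5 : X0 * (X1 * (X0 * (X1⁻¹ * (X0⁻¹ * (X1 * (X0⁻¹ * (X1⁻¹ * 1))))))) = 1) : (X0 * (X1 * (X0 * 1))) * (X1⁻¹ * (X0⁻¹ * (X1 * (X0⁻¹ * (X1⁻¹ * 1))))) = 1 := by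
  simpa only [mul_assoc, mul_one, one_mul] using hr5
theorem rel_5_4 (X0 X1 X2 : M) (hr0 : X0 * (X0 * (X0 * 1)) = 1) (hr1 : X1 * (X1 * (X1 * 1)) = 1) (hr2 : X2 * (X2 * 1) = 1) (hr3 : X2 * (X1 * (X2 * (X1 * 1))) = 1) (hr4 : X2 * (X0 * (X2⁻¹ * (X0⁻¹ * 1))) = 1) (hr5 : X0 * (X1 * (X0 * (X1⁻¹ * (X0⁻¹ * (X1 * (X0⁻¹ * (X1⁻¹ * 1))))))) = 1) : (X0 * (X1 * (X0 * (X1⁻¹ * 1)))) * (X0⁻¹ * (X1 * (X0⁻¹ * (X1⁻¹ * 1)))) = 1 := by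
  simpa only [mul_assoc, mul_one, one_mul] using hr5
theorem rel_5_6 (X0 X1 X2 : M) (hr0 : X0 * (X0 * (X0 * 1)) = 1) (hr1 : X1 * (X1 * (X1 * 1)) = 1) (hr2 : X2 * (X2 * 1) = 1) (hr3 : X2 * (X1 * (X2 * (X1 * 1))) = 1) (hr4 : X2 * (X0 * (X2⁻¹ * (X0⁻¹ * 1))) = 1) (hr5 : X0 * (X1 * (X0 * (X1⁻¹ * (X0⁻¹ * (X1 * (X0⁻¹ * (X1⁻¹ * 1))))))) = 1) : (X0 * (X1 * (X0 * (X1⁻¹ * (X0⁻¹ * (X1 * 1)))))) * (X0⁻¹ * (X1⁻¹ * 1)) = 1 := by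
  simpa only [mul_assoc, mul_one, one_mul] using hr5

theorem E_0_0 (X0 X1 X2 : M) : g0 X0 X1 X2 * X0 = g1 X0 X1 X2 := rfl
theorem E_0_1 (X0 X1 X2 : M) : g0 X0 X1 X2 * X1 = g2 X0 X1 X2 := rfl
theorem E_0_2 (X0 X1 X2 : M) : g0 X0 X1 X2 * X2 = g3 X0 X1 X2 := rfl
theorem E_1_0 (X0 X1 X2 : M) : g1 X0 X1 X2 * X0 = g4 X0 X1 X2 := rfl
theorem E_1_1 (X0 X1 X2 : M) : g1 X0 X1 X2 * X1 = g5 X0 X1 X2 := rfl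
theorem E_1_2 (X0 X1 X2 : M) : g1 X0 X1 X2 * X2 = g6 X0 X1 X2 := rfl
theorem E_2_0 (X0 X1 X2 : M) : g2 X0 X1 X2 * X0 = g7 X0 X1 X2 := rfl
theorem E_2_1 (X0 X1 X2 : M) : g2 X0 X1 X2 * X1 = g8 X0 X1 X2 := rfl
theorem E_2_2 (X0 X1 X2 : M) : g2 X0 X1 X2 * X2 = g9 X0 X1 X2 := rfl
theorem E_3_1 (X0 X1 X2 : M) : g3 X0 X1 X2 * X1 = g10 X0 X1 X2 := rfl
theorem E_4_1 (X0 X1 X2 : M) : g4 X0 X1 X2 * X1 = g11 X0 X1 X2 := rfl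
theorem E_4_2 (X0 X1 X2 : M) : g4 X0 X1 X2 * X2 = g12 X0 X1 X2 := rfl
theorem E_5_0 (X0 X1 X2 : M) : g5 X0 X1 X2 * X0 = g13 X0 X1 X2 := rfl
theorem E_5_1 (X0 X1 X2 : M) : g5 X0 X1 X2 * X1 = g14 X0 X1 X2 := rfl
theorem E_5_2 (X0 X1 X2 : M) : g5 X0 X1 X2 * X2 = g15 X0 X1 X2 := rfl
theorem E_6_1 (X0 X1 X2 : M) : g6 X0 X1 X2 * X1 = g16 X0 X1 X2 := rfl
theorem E_7_0 (X0 X1 X2 : M) : g7 X0 X1 X2 * X0 = g17 X0 X1 X2 := rfl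
theorem E_7_1 (X0 X1 X2 : M) : g7 X0 X1 X2 * X1 = g18 X0 X1 X2 := rfl
theorem E_7_2 (X0 X1 X2 : M) : g7 X0 X1 X2 * X2 = g19 X0 X1 X2 := rfl
theorem E_8_0 (X0 X1 X2 : M) : g8 X0 X1 X2 * X0 = g20 X0 X1 X2 := rfl
theorem E_10_0 (X0 X1 X2 : M) : g10 X0 X1 X2 * X0 = g21 X0 X1 X2 := rfl
theorem E_11_0 (X0 X1 X2 : M) : g11 X0 X1 X2 * X0 = g22 X0 X1 X2 := rfl
theorem E_11_1 (X0 X1 X2 : M) : g11 X0 X1 X2 * X1 = g23 X0 X1 X2 := rfl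
theorem E_11_2 (X0 X1 X2 : M) : g11 X0 X1 X2 * X2 = g24 X0 X1 X2 := rfl
theorem E_12_1 (X0 X1 X2 : M) : g12 X0 X1 X2 * X1 = g25 X0 X1 X2 := rfl
theorem E_13_0 (X0 X1 X2 : M) : g13 X0 X1 X2 * X0 = g26 X0 X1 X2 := rfl
theorem E_13_1 (X0 X1 X2 : M) : g13 X0 X1 X2 * X1 = g27 X0 X1 X2 := rfl
theorem E_13_2 (X0 X1 X2 : M) : g13 X0 X1 X2 * X2 = g28 X0 X1 X2 := rfl
theorem E_14_0 (X0 X1 X2 : M) : g14 X0 X1 X2 * X0 = g29 X0 X1 X2 := rfl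
theorem E_16_0 (X0 X1 X2 : M) : g16 X0 X1 X2 * X0 = g30 X0 X1 X2 := rfl
theorem E_17_1 (X0 X1 X2 : M) : g17 X0 X1 X2 * X1 = g31 X0 X1 X2 := rfl
theorem E_17_2 (X0 X1 X2 : M) : g17 X0 X1 X2 * X2 = g32 X0 X1 X2 := rfl
theorem E_18_0 (X0 X1 X2 : M) : g18 X0 X1 X2 * X0 = g33 X0 X1 X2 := rfl
theorem E_18_1 (X0 X1 X2 : M) : g18 X0 X1 X2 * X1 = g34 X0 X1 X2 := rfl
theorem E_18_2 (X0 X1 X2 : M) : g18 X0 X1 X2 * X2 = g35 X0 X1 X2 := rfl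
theorem E_19_1 (X0 X1 X2 : M) : g19 X0 X1 X2 * X1 = g36 X0 X1 X2 := rfl
theorem E_20_0 (X0 X1 X2 : M) : g20 X0 X1 X2 * X0 = g37 X0 X1 X2 := rfl
theorem E_20_1 (X0 X1 X2 : M) : g20 X0 X1 X2 * X1 = g38 X0 X1 X2 := rfl
theorem E_21_0 (X0 X1 X2 : M) : g21 X0 X1 X2 * X0 = g39 X0 X1 X2 := rfl
theorem E_21_1 (X0 X1 X2 : M) : g21 X0 X1 X2 * X1 = g40 X0 X1 X2 := rfl
theorem E_22_0 (X0 X1 X2 : M) : g22 X0 X1 X2 * X0 = g41 X0 X1 X2 := rfl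
theorem E_22_1 (X0 X1 X2 : M) : g22 X0 X1 X2 * X1 = g42 X0 X1 X2 := rfl
theorem E_22_2 (X0 X1 X2 : M) : g22 X0 X1 X2 * X2 = g43 X0 X1 X2 := rfl
theorem E_23_0 (X0 X1 X2 : M) : g23 X0 X1 X2 * X0 = g44 X0 X1 X2 := rfl
theorem E_25_0 (X0 X1 X2 : M) : g25 X0 X1 X2 * X0 = g45 X0 X1 X2 := rfl
theorem E_26_1 (X0 X1 X2 : M) : g26 X0 X1 X2 * X1 = g46 X0 X1 X2 := rfl
theorem E_26_2 (X0 X1 X2 : M) : g26 X0 X1 X2 * X2 = g47 X0 X1 X2 := rfl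
theorem E_27_0 (X0 X1 X2 : M) : g27 X0 X1 X2 * X0 = g48 X0 X1 X2 := rfl
theorem E_27_1 (X0 X1 X2 : M) : g27 X0 X1 X2 * X1 = g49 X0 X1 X2 := rfl
theorem E_27_2 (X0 X1 X2 : M) : g27 X0 X1 X2 * X2 = g50 X0 X1 X2 := rfl
theorem E_28_1 (X0 X1 X2 : M) : g28 X0 X1 X2 * X1 = g51 X0 X1 X2 := rfl
theorem E_29_0 (X0 X1 X2 : M) : g29 X0 X1 X2 * X0 = g52 X0 X1 X2 := rfl
theorem E_29_1 (X0 X1 X2 : M) : g29 X0 X1 X2 * X1 = g53 X0 X1 X2 := rfl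
theorem E_30_0 (X0 X1 X2 : M) : g30 X0 X1 X2 * X0 = g54 X0 X1 X2 := rfl
theorem E_30_1 (X0 X1 X2 : M) : g30 X0 X1 X2 * X1 = g55 X0 X1 X2 := rfl
theorem E_31_0 (X0 X1 X2 : M) : g31 X0 X1 X2 * X0 = g56 X0 X1 X2 := rfl
theorem E_31_1 (X0 X1 X2 : M) : g31 X0 X1 X2 * X1 = g57 X0 X1 X2 := rfl
theorem E_31_2 (X0 X1 X2 : M) : g31 X0 X1 X2 * X2 = g58 X0 X1 X2 := rfl
theorem E_32_1 (X0 X1 X2 : M) : g32 X0 X1 X2 * X1 = g59 X0 X1 X2 := rfl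
theorem E_33_0 (X0 X1 X2 : M) : g33 X0 X1 X2 * X0 = g60 X0 X1 X2 := rfl
theorem E_33_1 (X0 X1 X2 : M) : g33 X0 X1 X2 * X1 = g61 X0 X1 X2 := rfl
theorem E_33_2 (X0 X1 X2 : M) : g33 X0 X1 X2 * X2 = g62 X0 X1 X2 := rfl
theorem E_37_1 (X0 X1 X2 : M) : g37 X0 X1 X2 * X1 = g63 X0 X1 X2 := rfl
theorem E_38_1 (X0 X1 X2 : M) : g38 X0 X1 X2 * X1 = g64 X0 X1 X2 := rfl
theorem E_38_2 (X0 X1 X2 : M) : g38 X0 X1 X2 * X2 = g65 X0 X1 X2 := rfl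
theorem E_39_1 (X0 X1 X2 : M) : g39 X0 X1 X2 * X1 = g66 X0 X1 X2 := rfl
theorem E_40_0 (X0 X1 X2 : M) : g40 X0 X1 X2 * X0 = g67 X0 X1 X2 := rfl
theorem E_41_1 (X0 X1 X2 : M) : g41 X0 X1 X2 * X1 = g68 X0 X1 X2 := rfl
theorem E_41_2 (X0 X1 X2 : M) : g41 X0 X1 X2 * X2 = g69 X0 X1 X2 := rfl
theorem E_42_0 (X0 X1 X2 : M) : g42 X0 X1 X2 * X0 = g70 X0 X1 X2 := rfl
theorem E_42_1 (X0 X1 X2 : M) : g42 X0 X1 X2 * X1 = g71 X0 X1 X2 := rfl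
theorem E_42_2 (X0 X1 X2 : M) : g42 X0 X1 X2 * X2 = g72 X0 X1 X2 := rfl
theorem E_43_1 (X0 X1 X2 : M) : g43 X0 X1 X2 * X1 = g73 X0 X1 X2 := rfl
theorem E_44_0 (X0 X1 X2 : M) : g44 X0 X1 X2 * X0 = g74 X0 X1 X2 := rfl
theorem E_44_1 (X0 X1 X2 : M) : g44 X0 X1 X2 * X1 = g75 X0 X1 X2 := rfl
theorem E_45_0 (X0 X1 X2 : M) : g45 X0 X1 X2 * X0 = g76 X0 X1 X2 := rfl
theorem E_45_1 (X0 X1 X2 : M) : g45 X0 X1 X2 * X1 = g77 X0 X1 X2 := rfl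
theorem E_46_0 (X0 X1 X2 : M) : g46 X0 X1 X2 * X0 = g78 X0 X1 X2 := rfl
theorem E_46_1 (X0 X1 X2 : M) : g46 X0 X1 X2 * X1 = g79 X0 X1 X2 := rfl
theorem E_46_2 (X0 X1 X2 : M) : g46 X0 X1 X2 * X2 = g80 X0 X1 X2 := rfl
theorem E_47_1 (X0 X1 X2 : M) : g47 X0 X1 X2 * X1 = g81 X0 X1 X2 := rfl
theorem E_48_0 (X0 X1 X2 : M) : g48 X0 X1 X2 * X0 = g82 X0 X1 X2 := rfl
theorem E_48_1 (X0 X1 X2 : M) : g48 X0 X1 X2 * X1 = g83 X0 X1 X2 := rfl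
theorem E_48_2 (X0 X1 X2 : M) : g48 X0 X1 X2 * X2 = g84 X0 X1 X2 := rfl
theorem E_52_1 (X0 X1 X2 : M) : g52 X0 X1 X2 * X1 = g85 X0 X1 X2 := rfl
theorem E_53_1 (X0 X1 X2 : M) : g53 X0 X1 X2 * X1 = g86 X0 X1 X2 := rfl
theorem E_53_2 (X0 X1 X2 : M) : g53 X0 X1 X2 * X2 = g87 X0 X1 X2 := rfl
theorem E_54_1 (X0 X1 X2 : M) : g54 X0 X1 X2 * X1 = g88 X0 X1 X2 := rfl
theorem E_55_0 (X0 X1 X2 : M) : g55 X0 X1 X2 * X0 = g89 X0 X1 X2 := rfl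
theorem E_56_0 (X0 X1 X2 : M) : g56 X0 X1 X2 * X0 = g90 X0 X1 X2 := rfl
theorem E_56_1 (X0 X1 X2 : M) : g56 X0 X1 X2 * X1 = g91 X0 X1 X2 := rfl
theorem E_56_2 (X0 X1 X2 : M) : g56 X0 X1 X2 * X2 = g92 X0 X1 X2 := rfl
theorem E_60_1 (X0 X1 X2 : M) : g60 X0 X1 X2 * X1 = g93 X0 X1 X2 := rfl
theorem E_60_2 (X0 X1 X2 : M) : g60 X0 X1 X2 * X2 = g94 X0 X1 X2 := rfl
theorem E_61_1 (X0 X1 X2 : M) : g61 X0 X1 X2 * X1 = g95 X0 X1 X2 := rfl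
theorem E_61_2 (X0 X1 X2 : M) : g61 X0 X1 X2 * X2 = g96 X0 X1 X2 := rfl
theorem E_63_1 (X0 X1 X2 : M) : g63 X0 X1 X2 * X1 = g97 X0 X1 X2 := rfl
theorem E_63_2 (X0 X1 X2 : M) : g63 X0 X1 X2 * X2 = g98 X0 X1 X2 := rfl
theorem E_66_0 (X0 X1 X2 : M) : g66 X0 X1 X2 * X0 = g99 X0 X1 X2 := rfl
theorem E_67_0 (X0 X1 X2 : M) : g67 X0 X1 X2 * X0 = g100 X0 X1 X2 := rfl
theorem E_68_0 (X0 X1 X2 : M) : g68 X0 X1 X2 * X0 = g101 X0 X1 X2 := rfl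
theorem E_68_1 (X0 X1 X2 : M) : g68 X0 X1 X2 * X1 = g102 X0 X1 X2 := rfl
theorem E_68_2 (X0 X1 X2 : M) : g68 X0 X1 X2 * X2 = g103 X0 X1 X2 := rfl
theorem E_69_1 (X0 X1 X2 : M) : g69 X0 X1 X2 * X1 = g104 X0 X1 X2 := rfl
theorem E_70_0 (X0 X1 X2 : M) : g70 X0 X1 X2 * X0 = g105 X0 X1 X2 := rfl
theorem E_70_1 (X0 X1 X2 : M) : g70 X0 X1 X2 * X1 = g106 X0 X1 X2 := rfl
theorem E_70_2 (X0 X1 X2 : M) : g70 X0 X1 X2 * X2 = g107 X0 X1 X2 := rfl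
theorem E_74_1 (X0 X1 X2 : M) : g74 X0 X1 X2 * X1 = g108 X0 X1 X2 := rfl
theorem E_75_1 (X0 X1 X2 : M) : g75 X0 X1 X2 * X1 = g109 X0 X1 X2 := rfl
theorem E_75_2 (X0 X1 X2 : M) : g75 X0 X1 X2 * X2 = g110 X0 X1 X2 := rfl
theorem E_76_1 (X0 X1 X2 : M) : g76 X0 X1 X2 * X1 = g111 X0 X1 X2 := rfl
theorem E_77_0 (X0 X1 X2 : M) : g77 X0 X1 X2 * X0 = g112 X0 X1 X2 := rfl
theorem E_78_0 (X0 X1 X2 : M) : g78 X0 X1 X2 * X0 = g113 X0 X1 X2 := rfl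
theorem E_78_1 (X0 X1 X2 : M) : g78 X0 X1 X2 * X1 = g114 X0 X1 X2 := rfl
theorem E_78_2 (X0 X1 X2 : M) : g78 X0 X1 X2 * X2 = g115 X0 X1 X2 := rfl
theorem E_82_1 (X0 X1 X2 : M) : g82 X0 X1 X2 * X1 = g116 X0 X1 X2 := rfl
theorem E_82_2 (X0 X1 X2 : M) : g82 X0 X1 X2 * X2 = g117 X0 X1 X2 := rfl
theorem E_83_1 (X0 X1 X2 : M) : g83 X0 X1 X2 * X1 = g118 X0 X1 X2 := rfl
theorem E_83_2 (X0 X1 X2 : M) : g83 X0 X1 X2 * X2 = g119 X0 X1 X2 := rfl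
theorem E_85_1 (X0 X1 X2 : M) : g85 X0 X1 X2 * X1 = g120 X0 X1 X2 := rfl
theorem E_85_2 (X0 X1 X2 : M) : g85 X0 X1 X2 * X2 = g121 X0 X1 X2 := rfl
theorem E_88_0 (X0 X1 X2 : M) : g88 X0 X1 X2 * X0 = g122 X0 X1 X2 := rfl
theorem E_89_0 (X0 X1 X2 : M) : g89 X0 X1 X2 * X0 = g123 X0 X1 X2 := rfl
theorem E_90_1 (X0 X1 X2 : M) : g90 X0 X1 X2 * X1 = g124 X0 X1 X2 := rfl
theorem E_90_2 (X0 X1 X2 : M) : g90 X0 X1 X2 * X2 = g125 X0 X1 X2 := rfl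
theorem E_91_1 (X0 X1 X2 : M) : g91 X0 X1 X2 * X1 = g126 X0 X1 X2 := rfl
theorem E_91_2 (X0 X1 X2 : M) : g91 X0 X1 X2 * X2 = g127 X0 X1 X2 := rfl
theorem E_93_1 (X0 X1 X2 : M) : g93 X0 X1 X2 * X1 = g128 X0 X1 X2 := rfl
theorem E_93_2 (X0 X1 X2 : M) : g93 X0 X1 X2 * X2 = g129 X0 X1 X2 := rfl
theorem E_99_0 (X0 X1 X2 : M) : g99 X0 X1 X2 * X0 = g130 X0 X1 X2 := rfl
theorem E_101_0 (X0 X1 X2 : M) : g101 X0 X1 X2 * X0 = g131 X0 X1 X2 := rfl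
theorem E_101_1 (X0 X1 X2 : M) : g101 X0 X1 X2 * X1 = g132 X0 X1 X2 := rfl
theorem E_101_2 (X0 X1 X2 : M) : g101 X0 X1 X2 * X2 = g133 X0 X1 X2 := rfl
theorem E_105_1 (X0 X1 X2 : M) : g105 X0 X1 X2 * X1 = g134 X0 X1 X2 := rfl
theorem E_105_2 (X0 X1 X2 : M) : g105 X0 X1 X2 * X2 = g135 X0 X1 X2 := rfl
theorem E_106_1 (X0 X1 X2 : M) : g106 X0 X1 X2 * X1 = g136 X0 X1 X2 := rfl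
theorem E_106_2 (X0 X1 X2 : M) : g106 X0 X1 X2 * X2 = g137 X0 X1 X2 := rfl
theorem E_108_1 (X0 X1 X2 : M) : g108 X0 X1 X2 * X1 = g138 X0 X1 X2 := rfl
theorem E_108_2 (X0 X1 X2 : M) : g108 X0 X1 X2 * X2 = g139 X0 X1 X2 := rfl
theorem E_111_0 (X0 X1 X2 : M) : g111 X0 X1 X2 * X0 = g140 X0 X1 X2 := rfl
theorem E_112_0 (X0 X1 X2 : M) : g112 X0 X1 X2 * X0 = g141 X0 X1 X2 := rfl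
theorem E_113_1 (X0 X1 X2 : M) : g113 X0 X1 X2 * X1 = g142 X0 X1 X2 := rfl
theorem E_113_2 (X0 X1 X2 : M) : g113 X0 X1 X2 * X2 = g143 X0 X1 X2 := rfl
theorem E_114_1 (X0 X1 X2 : M) : g114 X0 X1 X2 * X1 = g144 X0 X1 X2 := rfl
theorem E_114_2 (X0 X1 X2 : M) : g114 X0 X1 X2 * X2 = g145 X0 X1 X2 := rfl
theorem E_116_1 (X0 X1 X2 : M) : g116 X0 X1 X2 * X1 = g146 X0 X1 X2 := rfl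
theorem E_116_2 (X0 X1 X2 : M) : g116 X0 X1 X2 * X2 = g147 X0 X1 X2 := rfl
theorem E_122_0 (X0 X1 X2 : M) : g122 X0 X1 X2 * X0 = g148 X0 X1 X2 := rfl
theorem E_124_1 (X0 X1 X2 : M) : g124 X0 X1 X2 * X1 = g149 X0 X1 X2 := rfl
theorem E_124_2 (X0 X1 X2 : M) : g124 X0 X1 X2 * X2 = g150 X0 X1 X2 := rfl
theorem E_131_1 (X0 X1 X2 : M) : g131 X0 X1 X2 * X1 = g151 X0 X1 X2 := rfl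
theorem E_131_2 (X0 X1 X2 : M) : g131 X0 X1 X2 * X2 = g152 X0 X1 X2 := rfl
theorem E_132_1 (X0 X1 X2 : M) : g132 X0 X1 X2 * X1 = g153 X0 X1 X2 := rfl
theorem E_132_2 (X0 X1 X2 : M) : g132 X0 X1 X2 * X2 = g154 X0 X1 X2 := rfl
theorem E_134_1 (X0 X1 X2 : M) : g134 X0 X1 X2 * X1 = g155 X0 X1 X2 := rfl
theorem E_134_2 (X0 X1 X2 : M) : g134 X0 X1 X2 * X2 = g156 X0 X1 X2 := rfl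
theorem E_140_0 (X0 X1 X2 : M) : g140 X0 X1 X2 * X0 = g157 X0 X1 X2 := rfl
theorem E_142_1 (X0 X1 X2 : M) : g142 X0 X1 X2 * X1 = g158 X0 X1 X2 := rfl
theorem E_142_2 (X0 X1 X2 : M) : g142 X0 X1 X2 * X2 = g159 X0 X1 X2 := rfl
theorem E_151_1 (X0 X1 X2 : M) : g151 X0 X1 X2 * X1 = g160 X0 X1 X2 := rfl
theorem E_151_2 (X0 X1 X2 : M) : g151 X0 X1 X2 * X2 = g161 X0 X1 X2 := rfl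

theorem E_4_0 (X0 X1 X2 : M) (hr0 : X0 * (X0 * (X0 * 1)) = 1) (hr1 : X1 * (X1 * (X1 * 1)) = 1) (hr2 : X2 * (X2 * 1) = 1) (hr3 : X2 * (X1 * (X2 * (X1 * 1))) = 1) (hr4 : X2 * (X0 * (X2⁻¹ * (X0⁻¹ * 1))) = 1) (hr5 : X0 * (X1 * (X0 * (X1⁻¹ * (X0⁻¹ * (X1 * (X0⁻¹ * (X1⁻¹ * 1))))))) = 1) : g4 X0 X1 X2 * X0 = g0 X0 X1 X2 :=
  deduce (path_cons (E_0_0 X0 X1 X2) (path_cons (E_1_0 X0 X1 X2) (path_nil (g4 X0 X1 X2)))) (path_nil (g0 X0 X1 X2)) (rel_0_2 X0 X1 X2 hr0 hr1 hr2 hr3 hr4 hr5)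
theorem E_17_0 (X0 X1 X2 : M) (hr0 : X0 * (X0 * (X0 * 1)) = 1) (hr1 : X1 * (X1 * (X1 * 1)) = 1) (hr2 : X2 * (X2 * 1) = 1) (hr3 : X2 * (X1 * (X2 * (X1 * 1))) = 1) (hr4 : X2 * (X0 * (X2⁻¹ * (X0⁻¹ * 1))) = 1) (hr5 : X0 * (X1 * (X0 * (X1⁻¹ * (X0⁻¹ * (X1 * (X0⁻¹ * (X1⁻¹ * 1))))))) = 1) : g17 X0 X1 X2 * X0 = g2 X0 X1 X2 :=
  deduce (path_cons (E_2_0 X0 X1 X2) (path_cons (E_7_0 X0 X1 X2) (path_nil (g17 X0 X1 X2)))) (path_nil (g2 X0 X1 X2)) (rel_0_2 X0 X1 X2 hr0 hr1 hr2 hr3 hr4 hr5)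
theorem E_26_0 (X0 X1 X2 : M) (hr0 : X0 * (X0 * (X0 * 1)) = 1) (hr1 : X1 * (X1 * (X1 * 1)) = 1) (hr2 : X2 * (X2 * 1) = 1) (hr3 : X2 * (X1 * (X2 * (X1 * 1))) = 1) (hr4 : X2 * (X0 * (X2⁻¹ * (X0⁻¹ * 1))) = 1) (hr5 : X0 * (X1 * (X0 * (X1⁻¹ * (X0⁻¹ * (X1 * (X0⁻¹ * (X1⁻¹ * 1))))))) = 1) : g26 X0 X1 X2 * X0 = g5 X0 X1 X2 :=
  deduce (path_cons (E_5_0 X0 X1 X2) (path_cons (E_13_0 X0 X1 X2) (path_nil (g26 X0 X1 X2)))) (path_nil (g5 X0 X1 X2)) (rel_0_2 X0 X1 X2 hr0 hr1 hr2 hr3 hr4 hr5)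
theorem E_37_0 (X0 X1 X2 : M) (hr0 : X0 * (X0 * (X0 * 1)) = 1) (hr1 : X1 * (X1 * (X1 * 1)) = 1) (hr2 : X2 * (X2 * 1) = 1) (hr3 : X2 * (X1 * (X2 * (X1 * 1))) = 1) (hr4 : X2 * (X0 * (X2⁻¹ * (X0⁻¹ * 1))) = 1) (hr5 : X0 * (X1 * (X0 * (X1⁻¹ * (X0⁻¹ * (X1 * (X0⁻¹ * (X1⁻¹ * 1))))))) = 1) : g37 X0 X1 X2 * X0 = g8 X0 X1 X2 :=
  deduce (path_cons (E_8_0 X0 X1 X2) (path_cons (E_20_0 X0 X1 X2) (path_nil (g37 X0 X1 X2)))) (path_nil (g8 X0 X1 X2)) (rel_0_2 X0 X1 X2 hr0 hr1 hr2 hr3 hr4 hr5)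
theorem E_39_0 (X0 X1 X2 : M) (hr0 : X0 * (X0 * (X0 * 1)) = 1) (hr1 : X1 * (X1 * (X1 * 1)) = 1) (hr2 : X2 * (X2 * 1) = 1) (hr3 : X2 * (X1 * (X2 * (X1 * 1))) = 1) (hr4 : X2 * (X0 * (X2⁻¹ * (X0⁻¹ * 1))) = 1) (hr5 : X0 * (X1 * (X0 * (X1⁻¹ * (X0⁻¹ * (X1 * (X0⁻¹ * (X1⁻¹ * 1))))))) = 1) : g39 X0 X1 X2 * X0 = g10 X0 X1 X2 :=
  deduce (path_cons (E_10_0 X0 X1 X2) (path_cons (E_21_0 X0 X1 X2) (path_nil (g39 X0 X1 X2)))) (path_nil (g10 X0 X1 X2)) (rel_0_2 X0 X1 X2 hr0 hr1 hr2 hr3 hr4 hr5)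
theorem E_41_0 (X0 X1 X2 : M) (hr0 : X0 * (X0 * (X0 * 1)) = 1) (hr1 : X1 * (X1 * (X1 * 1)) = 1) (hr2 : X2 * (X2 * 1) = 1) (hr3 : X2 * (X1 * (X2 * (X1 * 1))) = 1) (hr4 : X2 * (X0 * (X2⁻¹ * (X0⁻¹ * 1))) = 1) (hr5 : X0 * (X1 * (X0 * (X1⁻¹ * (X0⁻¹ * (X1 * (X0⁻¹ * (X1⁻¹ * 1))))))) = 1) : g41 X0 X1 X2 * X0 = g11 X0 X1 X2 :=
  deduce (path_cons (E_11_0 X0 X1 X2) (path_cons (E_22_0 X0 X1 X2) (path_nil (g41 X0 X1 X2)))) (path_nil (g11 X0 X1 X2)) (rel_0_2 X0 X1 X2 hr0 hr1 hr2 hr3 hr4 hr5)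
theorem E_52_0 (X0 X1 X2 : M) (hr0 : X0 * (X0 * (X0 * 1)) = 1) (hr1 : X1 * (X1 * (X1 * 1)) = 1) (hr2 : X2 * (X2 * 1) = 1) (hr3 : X2 * (X1 * (X2 * (X1 * 1))) = 1) (hr4 : X2 * (X0 * (X2⁻¹ * (X0⁻¹ * 1))) = 1) (hr5 : X0 * (X1 * (X0 * (X1⁻¹ * (X0⁻¹ * (X1 * (X0⁻¹ * (X1⁻¹ * 1))))))) = 1) : g52 X0 X1 X2 * X0 = g14 X0 X1 X2 :=
  deduce (path_cons (E_14_0 X0 X1 X2) (path_cons (E_29_0 X0 X1 X2) (path_nil (g52 X0 X1 X2)))) (path_nil (g14 X0 X1 X2)) (rel_0_2 X0 X1 X2 hr0 hr1 hr2 hr3 hr4 hr5)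
theorem E_54_0 (X0 X1 X2 : M) (hr0 : X0 * (X0 * (X0 * 1)) = 1) (hr1 : X1 * (X1 * (X1 * 1)) = 1) (hr2 : X2 * (X2 * 1) = 1) (hr3 : X2 * (X1 * (X2 * (X1 * 1))) = 1) (hr4 : X2 * (X0 * (X2⁻¹ * (X0⁻¹ * 1))) = 1) (hr5 : X0 * (X1 * (X0 * (X1⁻¹ * (X0⁻¹ * (X1 * (X0⁻¹ * (X1⁻¹ * 1))))))) = 1) : g54 X0 X1 X2 * X0 = g16 X0 X1 X2 :=
  deduce (path_cons (E_16_0 X0 X1 X2) (path_cons (E_30_0 X0 X1 X2) (path_nil (g54 X0 X1 X2)))) (path_nil (g16 X0 X1 X2)) (rel_0_2 X0 X1 X2 hr0 hr1 hr2 hr3 hr4 hr5)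
theorem E_60_0 (X0 X1 X2 : M) (hr0 : X0 * (X0 * (X0 * 1)) = 1) (hr1 : X1 * (X1 * (X1 * 1)) = 1) (hr2 : X2 * (X2 * 1) = 1) (hr3 : X2 * (X1 * (X2 * (X1 * 1))) = 1) (hr4 : X2 * (X0 * (X2⁻¹ * (X0⁻¹ * 1))) = 1) (hr5 : X0 * (X1 * (X0 * (X1⁻¹ * (X0⁻¹ * (X1 * (X0⁻¹ * (X1⁻¹ * 1))))))) = 1) : g60 X0 X1 X2 * X0 = g18 X0 X1 X2 :=
  deduce (path_cons (E_18_0 X0 X1 X2) (path_cons (E_33_0 X0 X1 X2) (path_nil (g60 X0 X1 X2)))) (path_nil (g18 X0 X1 X2)) (rel_0_2 X0 X1 X2 hr0 hr1 hr2 hr3 hr4 hr5)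
theorem E_74_0 (X0 X1 X2 : M) (hr0 : X0 * (X0 * (X0 * 1)) = 1) (hr1 : X1 * (X1 * (X1 * 1)) = 1) (hr2 : X2 * (X2 * 1) = 1) (hr3 : X2 * (X1 * (X2 * (X1 * 1))) = 1) (hr4 : X2 * (X0 * (X2⁻¹ * (X0⁻¹ * 1))) = 1) (hr5 : X0 * (X1 * (X0 * (X1⁻¹ * (X0⁻¹ * (X1 * (X0⁻¹ * (X1⁻¹ * 1))))))) = 1) : g74 X0 X1 X2 * X0 = g23 X0 X1 X2 :=
  deduce (path_cons (E_23_0 X0 X1 X2) (path_cons (E_44_0 X0 X1 X2) (path_nil (g74 X0 X1 X2)))) (path_nil (g23 X0 X1 X2)) (rel_0_2 X0 X1 X2 hr0 hr1 hr2 hr3 hr4 hr5)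
theorem E_76_0 (X0 X1 X2 : M) (hr0 : X0 * (X0 * (X0 * 1)) = 1) (hr1 : X1 * (X1 * (X1 * 1)) = 1) (hr2 : X2 * (X2 * 1) = 1) (hr3 : X2 * (X1 * (X2 * (X1 * 1))) = 1) (hr4 : X2 * (X0 * (X2⁻¹ * (X0⁻¹ * 1))) = 1) (hr5 : X0 * (X1 * (X0 * (X1⁻¹ * (X0⁻¹ * (X1 * (X0⁻¹ * (X1⁻¹ * 1))))))) = 1) : g76 X0 X1 X2 * X0 = g25 X0 X1 X2 :=
  deduce (path_cons (E_25_0 X0 X1 X2) (path_cons (E_45_0 X0 X1 X2) (path_nil (g76 X0 X1 X2)))) (path_nil (g25 X0 X1 X2)) (rel_0_2 X0 X1 X2 hr0 hr1 hr2 hr3 hr4 hr5)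
theorem E_82_0 (X0 X1 X2 : M) (hr0 : X0 * (X0 * (X0 * 1)) = 1) (hr1 : X1 * (X1 * (X1 * 1)) = 1) (hr2 : X2 * (X2 * 1) = 1) (hr3 : X2 * (X1 * (X2 * (X1 * 1))) = 1) (hr4 : X2 * (X0 * (X2⁻¹ * (X0⁻¹ * 1))) = 1) (hr5 : X0 * (X1 * (X0 * (X1⁻¹ * (X0⁻¹ * (X1 * (X0⁻¹ * (X1⁻¹ * 1))))))) = 1) : g82 X0 X1 X2 * X0 = g27 X0 X1 X2 :=
  deduce (path_cons (E_27_0 X0 X1 X2) (path_cons (E_48_0 X0 X1 X2) (path_nil (g82 X0 X1 X2)))) (path_nil (g27 X0 X1 X2)) (rel_0_2 X0 X1 X2 hr0 hr1 hr2 hr3 hr4 hr5)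
theorem E_90_0 (X0 X1 X2 : M) (hr0 : X0 * (X0 * (X0 * 1)) = 1) (hr1 : X1 * (X1 * (X1 * 1)) = 1) (hr2 : X2 * (X2 * 1) = 1) (hr3 : X2 * (X1 * (X2 * (X1 * 1))) = 1) (hr4 : X2 * (X0 * (X2⁻¹ * (X0⁻¹ * 1))) = 1) (hr5 : X0 * (X1 * (X0 * (X1⁻¹ * (X0⁻¹ * (X1 * (X0⁻¹ * (X1⁻¹ * 1))))))) = 1) : g90 X0 X1 X2 * X0 = g31 X0 X1 X2 :=
  deduce (path_cons (E_31_0 X0 X1 X2) (path_cons (E_56_0 X0 X1 X2) (path_nil (g90 X0 X1 X2)))) (path_nil (g31 X0 X1 X2)) (rel_0_2 X0 X1 X2 hr0 hr1 hr2 hr3 hr4 hr5)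
theorem E_100_0 (X0 X1 X2 : M) (hr0 : X0 * (X0 * (X0 * 1)) = 1) (hr1 : X1 * (X1 * (X1 * 1)) = 1) (hr2 : X2 * (X2 * 1) = 1) (hr3 : X2 * (X1 * (X2 * (X1 * 1))) = 1) (hr4 : X2 * (X0 * (X2⁻¹ * (X0⁻¹ * 1))) = 1) (hr5 : X0 * (X1 * (X0 * (X1⁻¹ * (X0⁻¹ * (X1 * (X0⁻¹ * (X1⁻¹ * 1))))))) = 1) : g100 X0 X1 X2 * X0 = g40 X0 X1 X2 :=
  deduce (path_cons (E_40_0 X0 X1 X2) (path_cons (E_67_0 X0 X1 X2) (path_nil (g100 X0 X1 X2)))) (path_nil (g40 X0 X1 X2)) (rel_0_2 X0 X1 X2 hr0 hr1 hr2 hr3 hr4 hr5)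
theorem E_105_0 (X0 X1 X2 : M) (hr0 : X0 * (X0 * (X0 * 1)) = 1) (hr1 : X1 * (X1 * (X1 * 1)) = 1) (hr2 : X2 * (X2 * 1) = 1) (hr3 : X2 * (X1 * (X2 * (X1 * 1))) = 1) (hr4 : X2 * (X0 * (X2⁻¹ * (X0⁻¹ * 1))) = 1) (hr5 : X0 * (X1 * (X0 * (X1⁻¹ * (X0⁻¹ * (X1 * (X0⁻¹ * (X1⁻¹ * 1))))))) = 1) : g105 X0 X1 X2 * X0 = g42 X0 X1 X2 :=
  deduce (path_cons (E_42_0 X0 X1 X2) (path_cons (E_70_0 X0 X1 X2) (path_nil (g105 X0 X1 X2)))) (path_nil (g42 X0 X1 X2)) (rel_0_2 X0 X1 X2 hr0 hr1 hr2 hr3 hr4 hr5)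
theorem E_113_0 (X0 X1 X2 : M) (hr0 : X0 * (X0 * (X0 * 1)) = 1) (hr1 : X1 * (X1 * (X1 * 1)) = 1) (hr2 : X2 * (X2 * 1) = 1) (hr3 : X2 * (X1 * (X2 * (X1 * 1))) = 1) (hr4 : X2 * (X0 * (X2⁻¹ * (X0⁻¹ * 1))) = 1) (hr5 : X0 * (X1 * (X0 * (X1⁻¹ * (X0⁻¹ * (X1 * (X0⁻¹ * (X1⁻¹ * 1))))))) = 1) : g113 X0 X1 X2 * X0 = g46 X0 X1 X2 :=
  deduce (path_cons (E_46_0 X0 X1 X2) (path_cons (E_78_0 X0 X1 X2) (path_nil (g113 X0 X1 X2)))) (path_nil (g46 X0 X1 X2)) (rel_0_2 X0 X1 X2 hr0 hr1 hr2 hr3 hr4 hr5)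
theorem E_123_0 (X0 X1 X2 : M) (hr0 : X0 * (X0 * (X0 * 1)) = 1) (hr1 : X1 * (X1 * (X1 * 1)) = 1) (hr2 : X2 * (X2 * 1) = 1) (hr3 : X2 * (X1 * (X2 * (X1 * 1))) = 1) (hr4 : X2 * (X0 * (X2⁻¹ * (X0⁻¹ * 1))) = 1) (hr5 : X0 * (X1 * (X0 * (X1⁻¹ * (X0⁻¹ * (X1 * (X0⁻¹ * (X1⁻¹ * 1))))))) = 1) : g123 X0 X1 X2 * X0 = g55 X0 X1 X2 :=
  deduce (path_cons (E_55_0 X0 X1 X2) (path_cons (E_89_0 X0 X1 X2) (path_nil (g123 X0 X1 X2)))) (path_nil (g55 X0 X1 X2)) (rel_0_2 X0 X1 X2 hr0 hr1 hr2 hr3 hr4 hr5)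
theorem E_130_0 (X0 X1 X2 : M) (hr0 : X0 * (X0 * (X0 * 1)) = 1) (hr1 : X1 * (X1 * (X1 * 1)) = 1) (hr2 : X2 * (X2 * 1) = 1) (hr3 : X2 * (X1 * (X2 * (X1 * 1))) = 1) (hr4 : X2 * (X0 * (X2⁻¹ * (X0⁻¹ * 1))) = 1) (hr5 : X0 * (X1 * (X0 * (X1⁻¹ * (X0⁻¹ * (X1 * (X0⁻¹ * (X1⁻¹ * 1))))))) = 1) : g130 X0 X1 X2 * X0 = g66 X0 X1 X2 :=
  deduce (path_cons (E_66_0 X0 X1 X2) (path_cons (E_99_0 X0 X1 X2) (path_nil (g130 X0 X1 X2)))) (path_nil (g66 X0 X1 X2)) (rel_0_2 X0 X1 X2 hr0 hr1 hr2 hr3 hr4 hr5)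
theorem E_131_0 (X0 X1 X2 : M) (hr0 : X0 * (X0 * (X0 * 1)) = 1) (hr1 : X1 * (X1 * (X1 * 1)) = 1) (hr2 : X2 * (X2 * 1) = 1) (hr3 : X2 * (X1 * (X2 * (X1 * 1))) = 1) (hr4 : X2 * (X0 * (X2⁻¹ * (X0⁻¹ * 1))) = 1) (hr5 : X0 * (X1 * (X0 * (X1⁻¹ * (X0⁻¹ * (X1 * (X0⁻¹ * (X1⁻¹ * 1))))))) = 1) : g131 X0 X1 X2 * X0 = g68 X0 X1 X2 :=
  deduce (path_cons (E_68_0 X0 X1 X2) (path_cons (E_101_0 X0 X1 X2) (path_nil (g131 X0 X1 X2)))) (path_nil (g68 X0 X1 X2)) (rel_0_2 X0 X1 X2 hr0 hr1 hr2 hr3 hr4 hr5)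
theorem E_141_0 (X0 X1 X2 : M) (hr0 : X0 * (X0 * (X0 * 1)) = 1) (hr1 : X1 * (X1 * (X1 * 1)) = 1) (hr2 : X2 * (X2 * 1) = 1) (hr3 : X2 * (X1 * (X2 * (X1 * 1))) = 1) (hr4 : X2 * (X0 * (X2⁻¹ * (X0⁻¹ * 1))) = 1) (hr5 : X0 * (X1 * (X0 * (X1⁻¹ * (X0⁻¹ * (X1 * (X0⁻¹ * (X1⁻¹ * 1))))))) = 1) : g141 X0 X1 X2 * X0 = g77 X0 X1 X2 :=
  deduce (path_cons (E_77_0 X0 X1 X2) (path_cons (E_112_0 X0 X1 X2) (path_nil (g141 X0 X1 X2)))) (path_nil (g77 X0 X1 X2)) (rel_0_2 X0 X1 X2 hr0 hr1 hr2 hr3 hr4 hr5)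
theorem E_148_0 (X0 X1 X2 : M) (hr0 : X0 * (X0 * (X0 * 1)) = 1) (hr1 : X1 * (X1 * (X1 * 1)) = 1) (hr2 : X2 * (X2 * 1) = 1) (hr3 : X2 * (X1 * (X2 * (X1 * 1))) = 1) (hr4 : X2 * (X0 * (X2⁻¹ * (X0⁻¹ * 1))) = 1) (hr5 : X0 * (X1 * (X0 * (X1⁻¹ * (X0⁻¹ * (X1 * (X0⁻¹ * (X1⁻¹ * 1))))))) = 1) : g148 X0 X1 X2 * X0 = g88 X0 X1 X2 :=
  deduce (path_cons (E_88_0 X0 X1 X2) (path_cons (E_122_0 X0 X1 X2) (path_nil (g148 X0 X1 X2)))) (path_nil (g88 X0 X1 X2)) (rel_0_2 X0 X1 X2 hr0 hr1 hr2 hr3 hr4 hr5)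
theorem E_157_0 (X0 X1 X2 : M) (hr0 : X0 * (X0 * (X0 * 1)) = 1) (hr1 : X1 * (X1 * (X1 * 1)) = 1) (hr2 : X2 * (X2 * 1) = 1) (hr3 : X2 * (X1 * (X2 * (X1 * 1))) = 1) (hr4 : X2 * (X0 * (X2⁻¹ * (X0⁻¹ * 1))) = 1) (hr5 : X0 * (X1 * (X0 * (X1⁻¹ * (X0⁻¹ * (X1 * (X0⁻¹ * (X1⁻¹ * 1))))))) = 1) : g157 X0 X1 X2 * X0 = g111 X0 X1 X2 :=
  deduce (path_cons (E_111_0 X0 X1 X2) (path_cons (E_140_0 X0 X1 X2) (path_nil (g157 X0 X1 X2)))) (path_nil (g111 X0 X1 X2)) (rel_0_2 X0 X1 X2 hr0 hr1 hr2 hr3 hr4 hr5)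
theorem E_8_1 (X0 X1 X2 : M) (hr0 : X0 * (X0 * (X0 * 1)) = 1) (hr1 : X1 * (X1 * (X1 * 1)) = 1) (hr2 : X2 * (X2 * 1) = 1) (hr3 : X2 * (X1 * (X2 * (X1 * 1))) = 1) (hr4 : X2 * (X0 * (X2⁻¹ * (X0⁻¹ * 1))) = 1) (hr5 : X0 * (X1 * (X0 * (X1⁻¹ * (X0⁻¹ * (X1 * (X0⁻¹ * (X1⁻¹ * 1))))))) = 1) : g8 X0 X1 X2 * X1 = g0 X0 X1 X2 :=
  deduce (path_cons (E_0_1 X0 X1 X2) (path_cons (E_2_1 X0 X1 X2) (path_nil (g8 X0 X1 X2)))) (path_nil (g0 X0 X1 X2)) (rel_1_2 X0 X1 X2 hr0 hr1 hr2 hr3 hr4 hr5)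
theorem E_14_1 (X0 X1 X2 : M) (hr0 : X0 * (X0 * (X0 * 1)) = 1) (hr1 : X1 * (X1 * (X1 * 1)) = 1) (hr2 : X2 * (X2 * 1) = 1) (hr3 : X2 * (X1 * (X2 * (X1 * 1))) = 1) (hr4 : X2 * (X0 * (X2⁻¹ * (X0⁻¹ * 1))) = 1) (hr5 : X0 * (X1 * (X0 * (X1⁻¹ * (X0⁻¹ * (X1 * (X0⁻¹ * (X1⁻¹ * 1))))))) = 1) : g14 X0 X1 X2 * X1 = g1 X0 X1 X2 :=
  deduce (path_cons (E_1_1 X0 X1 X2) (path_cons (E_5_1 X0 X1 X2) (path_nil (g14 X0 X1 X2)))) (path_nil (g1 X0 X1 X2)) (rel_1_2 X0 X1 X2 hr0 hr1 hr2 hr3 hr4 hr5)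
theorem E_23_1 (X0 X1 X2 : M) (hr0 : X0 * (X0 * (X0 * 1)) = 1) (hr1 : X1 * (X1 * (X1 * 1)) = 1) (hr2 : X2 * (X2 * 1) = 1) (hr3 : X2 * (X1 * (X2 * (X1 * 1))) = 1) (hr4 : X2 * (X0 * (X2⁻¹ * (X0⁻¹ * 1))) = 1) (hr5 : X0 * (X1 * (X0 * (X1⁻¹ * (X0⁻¹ * (X1 * (X0⁻¹ * (X1⁻¹ * 1))))))) = 1) : g23 X0 X1 X2 * X1 = g4 X0 X1 X2 :=
  deduce (path_cons (E_4_1 X0 X1 X2) (path_cons (E_11_1 X0 X1 X2) (path_nil (g23 X0 X1 X2)))) (path_nil (g4 X0 X1 X2)) (rel_1_2 X0 X1 X2 hr0 hr1 hr2 hr3 hr4 hr5)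
theorem E_34_1 (X0 X1 X2 : M) (hr0 : X0 * (X0 * (X0 * 1)) = 1) (hr1 : X1 * (X1 * (X1 * 1)) = 1) (hr2 : X2 * (X2 * 1) = 1) (hr3 : X2 * (X1 * (X2 * (X1 * 1))) = 1) (hr4 : X2 * (X0 * (X2⁻¹ * (X0⁻¹ * 1))) = 1) (hr5 : X0 * (X1 * (X0 * (X1⁻¹ * (X0⁻¹ * (X1 * (X0⁻¹ * (X1⁻¹ * 1))))))) = 1) : g34 X0 X1 X2 * X1 = g7 X0 X1 X2 :=
  deduce (path_cons (E_7_1 X0 X1 X2) (path_cons (E_18_1 X0 X1 X2) (path_nil (g34 X0 X1 X2)))) (path_nil (g7 X0 X1 X2)) (rel_1_2 X0 X1 X2 hr0 hr1 hr2 hr3 hr4 hr5)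
theorem E_49_1 (X0 X1 X2 : M) (hr0 : X0 * (X0 * (X0 * 1)) = 1) (hr1 : X1 * (X1 * (X1 * 1)) = 1) (hr2 : X2 * (X2 * 1) = 1) (hr3 : X2 * (X1 * (X2 * (X1 * 1))) = 1) (hr4 : X2 * (X0 * (X2⁻¹ * (X0⁻¹ * 1))) = 1) (hr5 : X0 * (X1 * (X0 * (X1⁻¹ * (X0⁻¹ * (X1 * (X0⁻¹ * (X1⁻¹ * 1))))))) = 1) : g49 X0 X1 X2 * X1 = g13 X0 X1 X2 :=
  deduce (path_cons (E_13_1 X0 X1 X2) (path_cons (E_27_1 X0 X1 X2) (path_nil (g49 X0 X1 X2)))) (path_nil (g13 X0 X1 X2)) (rel_1_2 X0 X1 X2 hr0 hr1 hr2 hr3 hr4 hr5)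
theorem E_57_1 (X0 X1 X2 : M) (hr0 : X0 * (X0 * (X0 * 1)) = 1) (hr1 : X1 * (X1 * (X1 * 1)) = 1) (hr2 : X2 * (X2 * 1) = 1) (hr3 : X2 * (X1 * (X2 * (X1 * 1))) = 1) (hr4 : X2 * (X0 * (X2⁻¹ * (X0⁻¹ * 1))) = 1) (hr5 : X0 * (X1 * (X0 * (X1⁻¹ * (X0⁻¹ * (X1 * (X0⁻¹ * (X1⁻¹ * 1))))))) = 1) : g57 X0 X1 X2 * X1 = g17 X0 X1 X2 :=
  deduce (path_cons (E_17_1 X0 X1 X2) (path_cons (E_31_1 X0 X1 X2) (path_nil (g57 X0 X1 X2)))) (path_nil (g17 X0 X1 X2)) (rel_1_2 X0 X1 X2 hr0 hr1 hr2 hr3 hr4 hr5)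
theorem E_64_1 (X0 X1 X2 : M) (hr0 : X0 * (X0 * (X0 * 1)) = 1) (hr1 : X1 * (X1 * (X1 * 1)) = 1) (hr2 : X2 * (X2 * 1) = 1) (hr3 : X2 * (X1 * (X2 * (X1 * 1))) = 1) (hr4 : X2 * (X0 * (X2⁻¹ * (X0⁻¹ * 1))) = 1) (hr5 : X0 * (X1 * (X0 * (X1⁻¹ * (X0⁻¹ * (X1 * (X0⁻¹ * (X1⁻¹ * 1))))))) = 1) : g64 X0 X1 X2 * X1 = g20 X0 X1 X2 :=
  deduce (path_cons (E_20_1 X0 X1 X2) (path_cons (E_38_1 X0 X1 X2) (path_nil (g64 X0 X1 X2)))) (path_nil (g20 X0 X1 X2)) (rel_1_2 X0 X1 X2 hr0 hr1 hr2 hr3 hr4 hr5)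
theorem E_71_1 (X0 X1 X2 : M) (hr0 : X0 * (X0 * (X0 * 1)) = 1) (hr1 : X1 * (X1 * (X1 * 1)) = 1) (hr2 : X2 * (X2 * 1) = 1) (hr3 : X2 * (X1 * (X2 * (X1 * 1))) = 1) (hr4 : X2 * (X0 * (X2⁻¹ * (X0⁻¹ * 1))) = 1) (hr5 : X0 * (X1 * (X0 * (X1⁻¹ * (X0⁻¹ * (X1 * (X0⁻¹ * (X1⁻¹ * 1))))))) = 1) : g71 X0 X1 X2 * X1 = g22 X0 X1 X2 :=
  deduce (path_cons (E_22_1 X0 X1 X2) (path_cons (E_42_1 X0 X1 X2) (path_nil (g71 X0 X1 X2)))) (path_nil (g22 X0 X1 X2)) (rel_1_2 X0 X1 X2 hr0 hr1 hr2 hr3 hr4 hr5)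
theorem E_79_1 (X0 X1 X2 : M) (hr0 : X0 * (X0 * (X0 * 1)) = 1) (hr1 : X1 * (X1 * (X1 * 1)) = 1) (hr2 : X2 * (X2 * 1) = 1) (hr3 : X2 * (X1 * (X2 * (X1 * 1))) = 1) (hr4 : X2 * (X0 * (X2⁻¹ * (X0⁻¹ * 1))) = 1) (hr5 : X0 * (X1 * (X0 * (X1⁻¹ * (X0⁻¹ * (X1 * (X0⁻¹ * (X1⁻¹ * 1))))))) = 1) : g79 X0 X1 X2 * X1 = g26 X0 X1 X2 :=
  deduce (path_cons (E_26_1 X0 X1 X2) (path_cons (E_46_1 X0 X1 X2) (path_nil (g79 X0 X1 X2)))) (path_nil (g26 X0 X1 X2)) (rel_1_2 X0 X1 X2 hr0 hr1 hr2 hr3 hr4 hr5)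
theorem E_86_1 (X0 X1 X2 : M) (hr0 : X0 * (X0 * (X0 * 1)) = 1) (hr1 : X1 * (X1 * (X1 * 1)) = 1) (hr2 : X2 * (X2 * 1) = 1) (hr3 : X2 * (X1 * (X2 * (X1 * 1))) = 1) (hr4 : X2 * (X0 * (X2⁻¹ * (X0⁻¹ * 1))) = 1) (hr5 : X0 * (X1 * (X0 * (X1⁻¹ * (X0⁻¹ * (X1 * (X0⁻¹ * (X1⁻¹ * 1))))))) = 1) : g86 X0 X1 X2 * X1 = g29 X0 X1 X2 :=
  deduce (path_cons (E_29_1 X0 X1 X2) (path_cons (E_53_1 X0 X1 X2) (path_nil (g86 X0 X1 X2)))) (path_nil (g29 X0 X1 X2)) (rel_1_2 X0 X1 X2 hr0 hr1 hr2 hr3 hr4 hr5)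
theorem E_95_1 (X0 X1 X2 : M) (hr0 : X0 * (X0 * (X0 * 1)) = 1) (hr1 : X1 * (X1 * (X1 * 1)) = 1) (hr2 : X2 * (X2 * 1) = 1) (hr3 : X2 * (X1 * (X2 * (X1 * 1))) = 1) (hr4 : X2 * (X0 * (X2⁻¹ * (X0⁻¹ * 1))) = 1) (hr5 : X0 * (X1 * (X0 * (X1⁻¹ * (X0⁻¹ * (X1 * (X0⁻¹ * (X1⁻¹ * 1))))))) = 1) : g95 X0 X1 X2 * X1 = g33 X0 X1 X2 :=
  deduce (path_cons (E_33_1 X0 X1 X2) (path_cons (E_61_1 X0 X1 X2) (path_nil (g95 X0 X1 X2)))) (path_nil (g33 X0 X1 X2)) (rel_1_2 X0 X1 X2 hr0 hr1 hr2 hr3 hr4 hr5)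
theorem E_97_1 (X0 X1 X2 : M) (hr0 : X0 * (X0 * (X0 * 1)) = 1) (hr1 : X1 * (X1 * (X1 * 1)) = 1) (hr2 : X2 * (X2 * 1) = 1) (hr3 : X2 * (X1 * (X2 * (X1 * 1))) = 1) (hr4 : X2 * (X0 * (X2⁻¹ * (X0⁻¹ * 1))) = 1) (hr5 : X0 * (X1 * (X0 * (X1⁻¹ * (X0⁻¹ * (X1 * (X0⁻¹ * (X1⁻¹ * 1))))))) = 1) : g97 X0 X1 X2 * X1 = g37 X0 X1 X2 :=
  deduce (path_cons (E_37_1 X0 X1 X2) (path_cons (E_63_1 X0 X1 X2) (path_nil (g97 X0 X1 X2)))) (path_nil (g37 X0 X1 X2)) (rel_1_2 X0 X1 X2 hr0 hr1 hr2 hr3 hr4 hr5)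
theorem E_102_1 (X0 X1 X2 : M) (hr0 : X0 * (X0 * (X0 * 1)) = 1) (hr1 : X1 * (X1 * (X1 * 1)) = 1) (hr2 : X2 * (X2 * 1) = 1) (hr3 : X2 * (X1 * (X2 * (X1 * 1))) = 1) (hr4 : X2 * (X0 * (X2⁻¹ * (X0⁻¹ * 1))) = 1) (hr5 : X0 * (X1 * (X0 * (X1⁻¹ * (X0⁻¹ * (X1 * (X0⁻¹ * (X1⁻¹ * 1))))))) = 1) : g102 X0 X1 X2 * X1 = g41 X0 X1 X2 :=
  deduce (path_cons (E_41_1 X0 X1 X2) (path_cons (E_68_1 X0 X1 X2) (path_nil (g102 X0 X1 X2)))) (path_nil (g41 X0 X1 X2)) (rel_1_2 X0 X1 X2 hr0 hr1 hr2 hr3 hr4 hr5)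
theorem E_109_1 (X0 X1 X2 : M) (hr0 : X0 * (X0 * (X0 * 1)) = 1) (hr1 : X1 * (X1 * (X1 * 1)) = 1) (hr2 : X2 * (X2 * 1) = 1) (hr3 : X2 * (X1 * (X2 * (X1 * 1))) = 1) (hr4 : X2 * (X0 * (X2⁻¹ * (X0⁻¹ * 1))) = 1) (hr5 : X0 * (X1 * (X0 * (X1⁻¹ * (X0⁻¹ * (X1 * (X0⁻¹ * (X1⁻¹ * 1))))))) = 1) : g109 X0 X1 X2 * X1 = g44 X0 X1 X2 :=
  deduce (path_cons (E_44_1 X0 X1 X2) (path_cons (E_75_1 X0 X1 X2) (path_nil (g109 X0 X1 X2)))) (path_nil (g44 X0 X1 X2)) (rel_1_2 X0 X1 X2 hr0 hr1 hr2 hr3 hr4 hr5)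
theorem E_118_1 (X0 X1 X2 : M) (hr0 : X0 * (X0 * (X0 * 1)) = 1) (hr1 : X1 * (X1 * (X1 * 1)) = 1) (hr2 : X2 * (X2 * 1) = 1) (hr3 : X2 * (X1 * (X2 * (X1 * 1))) = 1) (hr4 : X2 * (X0 * (X2⁻¹ * (X0⁻¹ * 1))) = 1) (hr5 : X0 * (X1 * (X0 * (X1⁻¹ * (X0⁻¹ * (X1 * (X0⁻¹ * (X1⁻¹ * 1))))))) = 1) : g118 X0 X1 X2 * X1 = g48 X0 X1 X2 :=
  deduce (path_cons (E_48_1 X0 X1 X2) (path_cons (E_83_1 X0 X1 X2) (path_nil (g118 X0 X1 X2)))) (path_nil (g48 X0 X1 X2)) (rel_1_2 X0 X1 X2 hr0 hr1 hr2 hr3 hr4 hr5)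
theorem E_120_1 (X0 X1 X2 : M) (hr0 : X0 * (X0 * (X0 * 1)) = 1) (hr1 : X1 * (X1 * (X1 * 1)) = 1) (hr2 : X2 * (X2 * 1) = 1) (hr3 : X2 * (X1 * (X2 * (X1 * 1))) = 1) (hr4 : X2 * (X0 * (X2⁻¹ * (X0⁻¹ * 1))) = 1) (hr5 : X0 * (X1 * (X0 * (X1⁻¹ * (X0⁻¹ * (X1 * (X0⁻¹ * (X1⁻¹ * 1))))))) = 1) : g120 X0 X1 X2 * X1 = g52 X0 X1 X2 :=
  deduce (path_cons (E_52_1 X0 X1 X2) (path_cons (E_85_1 X0 X1 X2) (path_nil (g120 X0 X1 X2)))) (path_nil (g52 X0 X1 X2)) (rel_1_2 X0 X1 X2 hr0 hr1 hr2 hr3 hr4 hr5)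
theorem E_126_1 (X0 X1 X2 : M) (hr0 : X0 * (X0 * (X0 * 1)) = 1) (hr1 : X1 * (X1 * (X1 * 1)) = 1) (hr2 : X2 * (X2 * 1) = 1) (hr3 : X2 * (X1 * (X2 * (X1 * 1))) = 1) (hr4 : X2 * (X0 * (X2⁻¹ * (X0⁻¹ * 1))) = 1) (hr5 : X0 * (X1 * (X0 * (X1⁻¹ * (X0⁻¹ * (X1 * (X0⁻¹ * (X1⁻¹ * 1))))))) = 1) : g126 X0 X1 X2 * X1 = g56 X0 X1 X2 :=
  deduce (path_cons (E_56_1 X0 X1 X2) (path_cons (E_91_1 X0 X1 X2) (path_nil (g126 X0 X1 X2)))) (path_nil (g56 X0 X1 X2)) (rel_1_2 X0 X1 X2 hr0 hr1 hr2 hr3 hr4 hr5)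
theorem E_128_1 (X0 X1 X2 : M) (hr0 : X0 * (X0 * (X0 * 1)) = 1) (hr1 : X1 * (X1 * (X1 * 1)) = 1) (hr2 : X2 * (X2 * 1) = 1) (hr3 : X2 * (X1 * (X2 * (X1 * 1))) = 1) (hr4 : X2 * (X0 * (X2⁻¹ * (X0⁻¹ * 1))) = 1) (hr5 : X0 * (X1 * (X0 * (X1⁻¹ * (X0⁻¹ * (X1 * (X0⁻¹ * (X1⁻¹ * 1))))))) = 1) : g128 X0 X1 X2 * X1 = g60 X0 X1 X2 :=
  deduce (path_cons (E_60_1 X0 X1 X2) (path_cons (E_93_1 X0 X1 X2) (path_nil (g128 X0 X1 X2)))) (path_nil (g60 X0 X1 X2)) (rel_1_2 X0 X1 X2 hr0 hr1 hr2 hr3 hr4 hr5)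
theorem E_136_1 (X0 X1 X2 : M) (hr0 : X0 * (X0 * (X0 * 1)) = 1) (hr1 : X1 * (X1 * (X1 * 1)) = 1) (hr2 : X2 * (X2 * 1) = 1) (hr3 : X2 * (X1 * (X2 * (X1 * 1))) = 1) (hr4 : X2 * (X0 * (X2⁻¹ * (X0⁻¹ * 1))) = 1) (hr5 : X0 * (X1 * (X0 * (X1⁻¹ * (X0⁻¹ * (X1 * (X0⁻¹ * (X1⁻¹ * 1))))))) = 1) : g136 X0 X1 X2 * X1 = g70 X0 X1 X2 :=
  deduce (path_cons (E_70_1 X0 X1 X2) (path_cons (E_106_1 X0 X1 X2) (path_nil (g136 X0 X1 X2)))) (path_nil (g70 X0 X1 X2)) (rel_1_2 X0 X1 X2 hr0 hr1 hr2 hr3 hr4 hr5)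
theorem E_138_1 (X0 X1 X2 : M) (hr0 : X0 * (X0 * (X0 * 1)) = 1) (hr1 : X1 * (X1 * (X1 * 1)) = 1) (hr2 : X2 * (X2 * 1) = 1) (hr3 : X2 * (X1 * (X2 * (X1 * 1))) = 1) (hr4 : X2 * (X0 * (X2⁻¹ * (X0⁻¹ * 1))) = 1) (hr5 : X0 * (X1 * (X0 * (X1⁻¹ * (X0⁻¹ * (X1 * (X0⁻¹ * (X1⁻¹ * 1))))))) = 1) : g138 X0 X1 X2 * X1 = g74 X0 X1 X2 :=
  deduce (path_cons (E_74_1 X0 X1 X2) (path_cons (E_108_1 X0 X1 X2) (path_nil (g138 X0 X1 X2)))) (path_nil (g74 X0 X1 X2)) (rel_1_2 X0 X1 X2 hr0 hr1 hr2 hr3 hr4 hr5)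
theorem E_144_1 (X0 X1 X2 : M) (hr0 : X0 * (X0 * (X0 * 1)) = 1) (hr1 : X1 * (X1 * (X1 * 1)) = 1) (hr2 : X2 * (X2 * 1) = 1) (hr3 : X2 * (X1 * (X2 * (X1 * 1))) = 1) (hr4 : X2 * (X0 * (X2⁻¹ * (X0⁻¹ * 1))) = 1) (hr5 : X0 * (X1 * (X0 * (X1⁻¹ * (X0⁻¹ * (X1 * (X0⁻¹ * (X1⁻¹ * 1))))))) = 1) : g144 X0 X1 X2 * X1 = g78 X0 X1 X2 :=
  deduce (path_cons (E_78_1 X0 X1 X2) (path_cons (E_114_1 X0 X1 X2) (path_nil (g144 X0 X1 X2)))) (path_nil (g78 X0 X1 X2)) (rel_1_2 X0 X1 X2 hr0 hr1 hr2 hr3 hr4 hr5)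
theorem E_146_1 (X0 X1 X2 : M) (hr0 : X0 * (X0 * (X0 * 1)) = 1) (hr1 : X1 * (X1 * (X1 * 1)) = 1) (hr2 : X2 * (X2 * 1) = 1) (hr3 : X2 * (X1 * (X2 * (X1 * 1))) = 1) (hr4 : X2 * (X0 * (X2⁻¹ * (X0⁻¹ * 1))) = 1) (hr5 : X0 * (X1 * (X0 * (X1⁻¹ * (X0⁻¹ * (X1 * (X0⁻¹ * (X1⁻¹ * 1))))))) = 1) : g146 X0 X1 X2 * X1 = g82 X0 X1 X2 :=
  deduce (path_cons (E_82_1 X0 X1 X2) (path_cons (E_116_1 X0 X1 X2) (path_nil (g146 X0 X1 X2)))) (path_nil (g82 X0 X1 X2)) (rel_1_2 X0 X1 X2 hr0 hr1 hr2 hr3 hr4 hr5)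
theorem E_149_1 (X0 X1 X2 : M) (hr0 : X0 * (X0 * (X0 * 1)) = 1) (hr1 : X1 * (X1 * (X1 * 1)) = 1) (hr2 : X2 * (X2 * 1) = 1) (hr3 : X2 * (X1 * (X2 * (X1 * 1))) = 1) (hr4 : X2 * (X0 * (X2⁻¹ * (X0⁻¹ * 1))) = 1) (hr5 : X0 * (X1 * (X0 * (X1⁻¹ * (X0⁻¹ * (X1 * (X0⁻¹ * (X1⁻¹ * 1))))))) = 1) : g149 X0 X1 X2 * X1 = g90 X0 X1 X2 :=
  deduce (path_cons (E_90_1 X0 X1 X2) (path_cons (E_124_1 X0 X1 X2) (path_nil (g149 X0 X1 X2)))) (path_nil (g90 X0 X1 X2)) (rel_1_2 X0 X1 X2 hr0 hr1 hr2 hr3 hr4 hr5)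
theorem E_153_1 (X0 X1 X2 : M) (hr0 : X0 * (X0 * (X0 * 1)) = 1) (hr1 : X1 * (X1 * (X1 * 1)) = 1) (hr2 : X2 * (X2 * 1) = 1) (hr3 : X2 * (X1 * (X2 * (X1 * 1))) = 1) (hr4 : X2 * (X0 * (X2⁻¹ * (X0⁻¹ * 1))) = 1) (hr5 : X0 * (X1 * (X0 * (X1⁻¹ * (X0⁻¹ * (X1 * (X0⁻¹ * (X1⁻¹ * 1))))))) = 1) : g153 X0 X1 X2 * X1 = g101 X0 X1 X2 :=
  deduce (path_cons (E_101_1 X0 X1 X2) (path_cons (E_132_1 X0 X1 X2) (path_nil (g153 X0 X1 X2)))) (path_nil (g101 X0 X1 X2)) (rel_1_2 X0 X1 X2 hr0 hr1 hr2 hr3 hr4 hr5)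
theorem E_155_1 (X0 X1 X2 : M) (hr0 : X0 * (X0 * (X0 * 1)) = 1) (hr1 : X1 * (X1 * (X1 * 1)) = 1) (hr2 : X2 * (X2 * 1) = 1) (hr3 : X2 * (X1 * (X2 * (X1 * 1))) = 1) (hr4 : X2 * (X0 * (X2⁻¹ * (X0⁻¹ * 1))) = 1) (hr5 : X0 * (X1 * (X0 * (X1⁻¹ * (X0⁻¹ * (X1 * (X0⁻¹ * (X1⁻¹ * 1))))))) = 1) : g155 X0 X1 X2 * X1 = g105 X0 X1 X2 :=
  deduce (path_cons (E_105_1 X0 X1 X2) (path_cons (E_134_1 X0 X1 X2) (path_nil (g155 X0 X1 X2)))) (path_nil (g105 X0 X1 X2)) (rel_1_2 X0 X1 X2 hr0 hr1 hr2 hr3 hr4 hr5)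
theorem E_158_1 (X0 X1 X2 : M) (hr0 : X0 * (X0 * (X0 * 1)) = 1) (hr1 : X1 * (X1 * (X1 * 1)) = 1) (hr2 : X2 * (X2 * 1) = 1) (hr3 : X2 * (X1 * (X2 * (X1 * 1))) = 1) (hr4 : X2 * (X0 * (X2⁻¹ * (X0⁻¹ * 1))) = 1) (hr5 : X0 * (X1 * (X0 * (X1⁻¹ * (X0⁻¹ * (X1 * (X0⁻¹ * (X1⁻¹ * 1))))))) = 1) : g158 X0 X1 X2 * X1 = g113 X0 X1 X2 :=
  deduce (path_cons (E_113_1 X0 X1 X2) (path_cons (E_142_1 X0 X1 X2) (path_nil (g158 X0 X1 X2)))) (path_nil (g113 X0 X1 X2)) (rel_1_2 X0 X1 X2 hr0 hr1 hr2 hr3 hr4 hr5)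
theorem E_160_1 (X0 X1 X2 : M) (hr0 : X0 * (X0 * (X0 * 1)) = 1) (hr1 : X1 * (X1 * (X1 * 1)) = 1) (hr2 : X2 * (X2 * 1) = 1) (hr3 : X2 * (X1 * (X2 * (X1 * 1))) = 1) (hr4 : X2 * (X0 * (X2⁻¹ * (X0⁻¹ * 1))) = 1) (hr5 : X0 * (X1 * (X0 * (X1⁻¹ * (X0⁻¹ * (X1 * (X0⁻¹ * (X1⁻¹ * 1))))))) = 1) : g160 X0 X1 X2 * X1 = g131 X0 X1 X2 :=
  deduce (path_cons (E_131_1 X0 X1 X2) (path_cons (E_151_1 X0 X1 X2) (path_nil (g160 X0 X1 X2)))) (path_nil (g131 X0 X1 X2)) (rel_1_2 X0 X1 X2 hr0 hr1 hr2 hr3 hr4 hr5)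
theorem E_3_2 (X0 X1 X2 : M) (hr0 : X0 * (X0 * (X0 * 1)) = 1) (hr1 : X1 * (X1 * (X1 * 1)) = 1) (hr2 : X2 * (X2 * 1) = 1) (hr3 : X2 * (X1 * (X2 * (X1 * 1))) = 1) (hr4 : X2 * (X0 * (X2⁻¹ * (X0⁻¹ * 1))) = 1) (hr5 : X0 * (X1 * (X0 * (X1⁻¹ * (X0⁻¹ * (X1 * (X0⁻¹ * (X1⁻¹ * 1))))))) = 1) : g3 X0 X1 X2 * X2 = g0 X0 X1 X2 :=
  deduce (path_cons (E_0_2 X0 X1 X2) (path_nil (g3 X0 X1 X2))) (path_nil (g0 X0 X1 X2)) (rel_2_1 X0 X1 X2 hr0 hr1 hr2 hr3 hr4 hr5)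
theorem E_6_2 (X0 X1 X2 : M) (hr0 : X0 * (X0 * (X0 * 1)) = 1) (hr1 : X1 * (X1 * (X1 * 1)) = 1) (hr2 : X2 * (X2 * 1) = 1) (hr3 : X2 * (X1 * (X2 * (X1 * 1))) = 1) (hr4 : X2 * (X0 * (X2⁻¹ * (X0⁻¹ * 1))) = 1) (hr5 : X0 * (X1 * (X0 * (X1⁻¹ * (X0⁻¹ * (X1 * (X0⁻¹ * (X1⁻¹ * 1))))))) = 1) : g6 X0 X1 X2 * X2 = g1 X0 X1 X2 :=
  deduce (path_cons (E_1_2 X0 X1 X2) (path_nil (g6 X0 X1 X2))) (path_nil (g1 X0 X1 X2)) (rel_2_1 X0 X1 X2 hr0 hr1 hr2 hr3 hr4 hr5)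
theorem E_9_2 (X0 X1 X2 : M) (hr0 : X0 * (X0 * (X0 * 1)) = 1) (hr1 : X1 * (X1 * (X1 * 1)) = 1) (hr2 : X2 * (X2 * 1) = 1) (hr3 : X2 * (X1 * (X2 * (X1 * 1))) = 1) (hr4 : X2 * (X0 * (X2⁻¹ * (X0⁻¹ * 1))) = 1) (hr5 : X0 * (X1 * (X0 * (X1⁻¹ * (X0⁻¹ * (X1 * (X0⁻¹ * (X1⁻¹ * 1))))))) = 1) : g9 X0 X1 X2 * X2 = g2 X0 X1 X2 :=
  deduce (path_cons (E_2_2 X0 X1 X2) (path_nil (g9 X0 X1 X2))) (path_nil (g2 X0 X1 X2)) (rel_2_1 X0 X1 X2 hr0 hr1 hr2 hr3 hr4 hr5)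
theorem E_12_2 (X0 X1 X2 : M) (hr0 : X0 * (X0 * (X0 * 1)) = 1) (hr1 : X1 * (X1 * (X1 * 1)) = 1) (hr2 : X2 * (X2 * 1) = 1) (hr3 : X2 * (X1 * (X2 * (X1 * 1))) = 1) (hr4 : X2 * (X0 * (X2⁻¹ * (X0⁻¹ * 1))) = 1) (hr5 : X0 * (X1 * (X0 * (X1⁻¹ * (X0⁻¹ * (X1 * (X0⁻¹ * (X1⁻¹ * 1))))))) = 1) : g12 X0 X1 X2 * X2 = g4 X0 X1 X2 :=
  deduce (path_cons (E_4_2 X0 X1 X2) (path_nil (g12 X0 X1 X2))) (path_nil (g4 X0 X1 X2)) (rel_2_1 X0 X1 X2 hr0 hr1 hr2 hr3 hr4 hr5)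
theorem E_15_2 (X0 X1 X2 : M) (hr0 : X0 * (X0 * (X0 * 1)) = 1) (hr1 : X1 * (X1 * (X1 * 1)) = 1) (hr2 : X2 * (X2 * 1) = 1) (hr3 : X2 * (X1 * (X2 * (X1 * 1))) = 1) (hr4 : X2 * (X0 * (X2⁻¹ * (X0⁻¹ * 1))) = 1) (hr5 : X0 * (X1 * (X0 * (X1⁻¹ * (X0⁻¹ * (X1 * (X0⁻¹ * (X1⁻¹ * 1))))))) = 1) : g15 X0 X1 X2 * X2 = g5 X0 X1 X2 :=
  deduce (path_cons (E_5_2 X0 X1 X2) (path_nil (g15 X0 X1 X2))) (path_nil (g5 X0 X1 X2)) (rel_2_1 X0 X1 X2 hr0 hr1 hr2 hr3 hr4 hr5)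
theorem E_19_2 (X0 X1 X2 : M) (hr0 : X0 * (X0 * (X0 * 1)) = 1) (hr1 : X1 * (X1 * (X1 * 1)) = 1) (hr2 : X2 * (X2 * 1) = 1) (hr3 : X2 * (X1 * (X2 * (X1 * 1))) = 1) (hr4 : X2 * (X0 * (X2⁻¹ * (X0⁻¹ * 1))) = 1) (hr5 : X0 * (X1 * (X0 * (X1⁻¹ * (X0⁻¹ * (X1 * (X0⁻¹ * (X1⁻¹ * 1))))))) = 1) : g19 X0 X1 X2 * X2 = g7 X0 X1 X2 :=
  deduce (path_cons (E_7_2 X0 X1 X2) (path_nil (g19 X0 X1 X2))) (path_nil (g7 X0 X1 X2)) (rel_2_1 X0 X1 X2 hr0 hr1 hr2 hr3 hr4 hr5)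
theorem E_24_2 (X0 X1 X2 : M) (hr0 : X0 * (X0 * (X0 * 1)) = 1) (hr1 : X1 * (X1 * (X1 * 1)) = 1) (hr2 : X2 * (X2 * 1) = 1) (hr3 : X2 * (X1 * (X2 * (X1 * 1))) = 1) (hr4 : X2 * (X0 * (X2⁻¹ * (X0⁻¹ * 1))) = 1) (hr5 : X0 * (X1 * (X0 * (X1⁻¹ * (X0⁻¹ * (X1 * (X0⁻¹ * (X1⁻¹ * 1))))))) = 1) : g24 X0 X1 X2 * X2 = g11 X0 X1 X2 :=
  deduce (path_cons (E_11_2 X0 X1 X2) (path_nil (g24 X0 X1 X2))) (path_nil (g11 X0 X1 X2)) (rel_2_1 X0 X1 X2 hr0 hr1 hr2 hr3 hr4 hr5)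
theorem E_28_2 (X0 X1 X2 : M) (hr0 : X0 * (X0 * (X0 * 1)) = 1) (hr1 : X1 * (X1 * (X1 * 1)) = 1) (hr2 : X2 * (X2 * 1) = 1) (hr3 : X2 * (X1 * (X2 * (X1 * 1))) = 1) (hr4 : X2 * (X0 * (X2⁻¹ * (X0⁻¹ * 1))) = 1) (hr5 : X0 * (X1 * (X0 * (X1⁻¹ * (X0⁻¹ * (X1 * (X0⁻¹ * (X1⁻¹ * 1))))))) = 1) : g28 X0 X1 X2 * X2 = g13 X0 X1 X2 :=
  deduce (path_cons (E_13_2 X0 X1 X2) (path_nil (g28 X0 X1 X2))) (path_nil (g13 X0 X1 X2)) (rel_2_1 X0 X1 X2 hr0 hr1 hr2 hr3 hr4 hr5)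
theorem E_32_2 (X0 X1 X2 : M) (hr0 : X0 * (X0 * (X0 * 1)) = 1) (hr1 : X1 * (X1 * (X1 * 1)) = 1) (hr2 : X2 * (X2 * 1) = 1) (hr3 : X2 * (X1 * (X2 * (X1 * 1))) = 1) (hr4 : X2 * (X0 * (X2⁻¹ * (X0⁻¹ * 1))) = 1) (hr5 : X0 * (X1 * (X0 * (X1⁻¹ * (X0⁻¹ * (X1 * (X0⁻¹ * (X1⁻¹ * 1))))))) = 1) : g32 X0 X1 X2 * X2 = g17 X0 X1 X2 :=
  deduce (path_cons (E_17_2 X0 X1 X2) (path_nil (g32 X0 X1 X2))) (path_nil (g17 X0 X1 X2)) (rel_2_1 X0 X1 X2 hr0 hr1 hr2 hr3 hr4 hr5)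
theorem E_35_2 (X0 X1 X2 : M) (hr0 : X0 * (X0 * (X0 * 1)) = 1) (hr1 : X1 * (X1 * (X1 * 1)) = 1) (hr2 : X2 * (X2 * 1) = 1) (hr3 : X2 * (X1 * (X2 * (X1 * 1))) = 1) (hr4 : X2 * (X0 * (X2⁻¹ * (X0⁻¹ * 1))) = 1) (hr5 : X0 * (X1 * (X0 * (X1⁻¹ * (X0⁻¹ * (X1 * (X0⁻¹ * (X1⁻¹ * 1))))))) = 1) : g35 X0 X1 X2 * X2 = g18 X0 X1 X2 :=
  deduce (path_cons (E_18_2 X0 X1 X2) (path_nil (g35 X0 X1 X2))) (path_nil (g18 X0 X1 X2)) (rel_2_1 X0 X1 X2 hr0 hr1 hr2 hr3 hr4 hr5)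
theorem E_43_2 (X0 X1 X2 : M) (hr0 : X0 * (X0 * (X0 * 1)) = 1) (hr1 : X1 * (X1 * (X1 * 1)) = 1) (hr2 : X2 * (X2 * 1) = 1) (hr3 : X2 * (X1 * (X2 * (X1 * 1))) = 1) (hr4 : X2 * (X0 * (X2⁻¹ * (X0⁻¹ * 1))) = 1) (hr5 : X0 * (X1 * (X0 * (X1⁻¹ * (X0⁻¹ * (X1 * (X0⁻¹ * (X1⁻¹ * 1))))))) = 1) : g43 X0 X1 X2 * X2 = g22 X0 X1 X2 :=
  deduce (path_cons (E_22_2 X0 X1 X2) (path_nil (g43 X0 X1 X2))) (path_nil (g22 X0 X1 X2)) (rel_2_1 X0 X1 X2 hr0 hr1 hr2 hr3 hr4 hr5)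
theorem E_47_2 (X0 X1 X2 : M) (hr0 : X0 * (X0 * (X0 * 1)) = 1) (hr1 : X1 * (X1 * (X1 * 1)) = 1) (hr2 : X2 * (X2 * 1) = 1) (hr3 : X2 * (X1 * (X2 * (X1 * 1))) = 1) (hr4 : X2 * (X0 * (X2⁻¹ * (X0⁻¹ * 1))) = 1) (hr5 : X0 * (X1 * (X0 * (X1⁻¹ * (X0⁻¹ * (X1 * (X0⁻¹ * (X1⁻¹ * 1))))))) = 1) : g47 X0 X1 X2 * X2 = g26 X0 X1 X2 :=
  deduce (path_cons (E_26_2 X0 X1 X2) (path_nil (g47 X0 X1 X2))) (path_nil (g26 X0 X1 X2)) (rel_2_1 X0 X1 X2 hr0 hr1 hr2 hr3 hr4 hr5)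
theorem E_50_2 (X0 X1 X2 : M) (hr0 : X0 * (X0 * (X0 * 1)) = 1) (hr1 : X1 * (X1 * (X1 * 1)) = 1) (hr2 : X2 * (X2 * 1) = 1) (hr3 : X2 * (X1 * (X2 * (X1 * 1))) = 1) (hr4 : X2 * (X0 * (X2⁻¹ * (X0⁻¹ * 1))) = 1) (hr5 : X0 * (X1 * (X0 * (X1⁻¹ * (X0⁻¹ * (X1 * (X0⁻¹ * (X1⁻¹ * 1))))))) = 1) : g50 X0 X1 X2 * X2 = g27 X0 X1 X2 :=
  deduce (path_cons (E_27_2 X0 X1 X2) (path_nil (g50 X0 X1 X2))) (path_nil (g27 X0 X1 X2)) (rel_2_1 X0 X1 X2 hr0 hr1 hr2 hr3 hr4 hr5)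
theorem E_58_2 (X0 X1 X2 : M) (hr0 : X0 * (X0 * (X0 * 1)) = 1) (hr1 : X1 * (X1 * (X1 * 1)) = 1) (hr2 : X2 * (X2 * 1) = 1) (hr3 : X2 * (X1 * (X2 * (X1 * 1))) = 1) (hr4 : X2 * (X0 * (X2⁻¹ * (X0⁻¹ * 1))) = 1) (hr5 : X0 * (X1 * (X0 * (X1⁻¹ * (X0⁻¹ * (X1 * (X0⁻¹ * (X1⁻¹ * 1))))))) = 1) : g58 X0 X1 X2 * X2 = g31 X0 X1 X2 :=
  deduce (path_cons (E_31_2 X0 X1 X2) (path_nil (g58 X0 X1 X2))) (path_nil (g31 X0 X1 X2)) (rel_2_1 X0 X1 X2 hr0 hr1 hr2 hr3 hr4 hr5)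
theorem E_62_2 (X0 X1 X2 : M) (hr0 : X0 * (X0 * (X0 * 1)) = 1) (hr1 : X1 * (X1 * (X1 * 1)) = 1) (hr2 : X2 * (X2 * 1) = 1) (hr3 : X2 * (X1 * (X2 * (X1 * 1))) = 1) (hr4 : X2 * (X0 * (X2⁻¹ * (X0⁻¹ * 1))) = 1) (hr5 : X0 * (X1 * (X0 * (X1⁻¹ * (X0⁻¹ * (X1 * (X0⁻¹ * (X1⁻¹ * 1))))))) = 1) : g62 X0 X1 X2 * X2 = g33 X0 X1 X2 :=
  deduce (path_cons (E_33_2 X0 X1 X2) (path_nil (g62 X0 X1 X2))) (path_nil (g33 X0 X1 X2)) (rel_2_1 X0 X1 X2 hr0 hr1 hr2 hr3 hr4 hr5)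
theorem E_65_2 (X0 X1 X2 : M) (hr0 : X0 * (X0 * (X0 * 1)) = 1) (hr1 : X1 * (X1 * (X1 * 1)) = 1) (hr2 : X2 * (X2 * 1) = 1) (hr3 : X2 * (X1 * (X2 * (X1 * 1))) = 1) (hr4 : X2 * (X0 * (X2⁻¹ * (X0⁻¹ * 1))) = 1) (hr5 : X0 * (X1 * (X0 * (X1⁻¹ * (X0⁻¹ * (X1 * (X0⁻¹ * (X1⁻¹ * 1))))))) = 1) : g65 X0 X1 X2 * X2 = g38 X0 X1 X2 :=
  deduce (path_cons (E_38_2 X0 X1 X2) (path_nil (g65 X0 X1 X2))) (path_nil (g38 X0 X1 X2)) (rel_2_1 X0 X1 X2 hr0 hr1 hr2 hr3 hr4 hr5)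
theorem E_69_2 (X0 X1 X2 : M) (hr0 : X0 * (X0 * (X0 * 1)) = 1) (hr1 : X1 * (X1 * (X1 * 1)) = 1) (hr2 : X2 * (X2 * 1) = 1) (hr3 : X2 * (X1 * (X2 * (X1 * 1))) = 1) (hr4 : X2 * (X0 * (X2⁻¹ * (X0⁻¹ * 1))) = 1) (hr5 : X0 * (X1 * (X0 * (X1⁻¹ * (X0⁻¹ * (X1 * (X0⁻¹ * (X1⁻¹ * 1))))))) = 1) : g69 X0 X1 X2 * X2 = g41 X0 X1 X2 :=
  deduce (path_cons (E_41_2 X0 X1 X2) (path_nil (g69 X0 X1 X2))) (path_nil (g41 X0 X1 X2)) (rel_2_1 X0 X1 X2 hr0 hr1 hr2 hr3 hr4 hr5)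
theorem E_72_2 (X0 X1 X2 : M) (hr0 : X0 * (X0 * (X0 * 1)) = 1) (hr1 : X1 * (X1 * (X1 * 1)) = 1) (hr2 : X2 * (X2 * 1) = 1) (hr3 : X2 * (X1 * (X2 * (X1 * 1))) = 1) (hr4 : X2 * (X0 * (X2⁻¹ * (X0⁻¹ * 1))) = 1) (hr5 : X0 * (X1 * (X0 * (X1⁻¹ * (X0⁻¹ * (X1 * (X0⁻¹ * (X1⁻¹ * 1))))))) = 1) : g72 X0 X1 X2 * X2 = g42 X0 X1 X2 :=
  deduce (path_cons (E_42_2 X0 X1 X2) (path_nil (g72 X0 X1 X2))) (path_nil (g42 X0 X1 X2)) (rel_2_1 X0 X1 X2 hr0 hr1 hr2 hr3 hr4 hr5)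
theorem E_80_2 (X0 X1 X2 : M) (hr0 : X0 * (X0 * (X0 * 1)) = 1) (hr1 : X1 * (X1 * (X1 * 1)) = 1) (hr2 : X2 * (X2 * 1) = 1) (hr3 : X2 * (X1 * (X2 * (X1 * 1))) = 1) (hr4 : X2 * (X0 * (X2⁻¹ * (X0⁻¹ * 1))) = 1) (hr5 : X0 * (X1 * (X0 * (X1⁻¹ * (X0⁻¹ * (X1 * (X0⁻¹ * (X1⁻¹ * 1))))))) = 1) : g80 X0 X1 X2 * X2 = g46 X0 X1 X2 :=
  deduce (path_cons (E_46_2 X0 X1 X2) (path_nil (g80 X0 X1 X2))) (path_nil (g46 X0 X1 X2)) (rel_2_1 X0 X1 X2 hr0 hr1 hr2 hr3 hr4 hr5)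
theorem E_84_2 (X0 X1 X2 : M) (hr0 : X0 * (X0 * (X0 * 1)) = 1) (hr1 : X1 * (X1 * (X1 * 1)) = 1) (hr2 : X2 * (X2 * 1) = 1) (hr3 : X2 * (X1 * (X2 * (X1 * 1))) = 1) (hr4 : X2 * (X0 * (X2⁻¹ * (X0⁻¹ * 1))) = 1) (hr5 : X0 * (X1 * (X0 * (X1⁻¹ * (X0⁻¹ * (X1 * (X0⁻¹ * (X1⁻¹ * 1))))))) = 1) : g84 X0 X1 X2 * X2 = g48 X0 X1 X2 :=
  deduce (path_cons (E_48_2 X0 X1 X2) (path_nil (g84 X0 X1 X2))) (path_nil (g48 X0 X1 X2)) (rel_2_1 X0 X1 X2 hr0 hr1 hr2 hr3 hr4 hr5)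
theorem E_87_2 (X0 X1 X2 : M) (hr0 : X0 * (X0 * (X0 * 1)) = 1) (hr1 : X1 * (X1 * (X1 * 1)) = 1) (hr2 : X2 * (X2 * 1) = 1) (hr3 : X2 * (X1 * (X2 * (X1 * 1))) = 1) (hr4 : X2 * (X0 * (X2⁻¹ * (X0⁻¹ * 1))) = 1) (hr5 : X0 * (X1 * (X0 * (X1⁻¹ * (X0⁻¹ * (X1 * (X0⁻¹ * (X1⁻¹ * 1))))))) = 1) : g87 X0 X1 X2 * X2 = g53 X0 X1 X2 :=
  deduce (path_cons (E_53_2 X0 X1 X2) (path_nil (g87 X0 X1 X2))) (path_nil (g53 X0 X1 X2)) (rel_2_1 X0 X1 X2 hr0 hr1 hr2 hr3 hr4 hr5)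
theorem E_92_2 (X0 X1 X2 : M) (hr0 : X0 * (X0 * (X0 * 1)) = 1) (hr1 : X1 * (X1 * (X1 * 1)) = 1) (hr2 : X2 * (X2 * 1) = 1) (hr3 : X2 * (X1 * (X2 * (X1 * 1))) = 1) (hr4 : X2 * (X0 * (X2⁻¹ * (X0⁻¹ * 1))) = 1) (hr5 : X0 * (X1 * (X0 * (X1⁻¹ * (X0⁻¹ * (X1 * (X0⁻¹ * (X1⁻¹ * 1))))))) = 1) : g92 X0 X1 X2 * X2 = g56 X0 X1 X2 :=
  deduce (path_cons (E_56_2 X0 X1 X2) (path_nil (g92 X0 X1 X2))) (path_nil (g56 X0 X1 X2)) (rel_2_1 X0 X1 X2 hr0 hr1 hr2 hr3 hr4 hr5)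
theorem E_94_2 (X0 X1 X2 : M) (hr0 : X0 * (X0 * (X0 * 1)) = 1) (hr1 : X1 * (X1 * (X1 * 1)) = 1) (hr2 : X2 * (X2 * 1) = 1) (hr3 : X2 * (X1 * (X2 * (X1 * 1))) = 1) (hr4 : X2 * (X0 * (X2⁻¹ * (X0⁻¹ * 1))) = 1) (hr5 : X0 * (X1 * (X0 * (X1⁻¹ * (X0⁻¹ * (X1 * (X0⁻¹ * (X1⁻¹ * 1))))))) = 1) : g94 X0 X1 X2 * X2 = g60 X0 X1 X2 :=
  deduce (path_cons (E_60_2 X0 X1 X2) (path_nil (g94 X0 X1 X2))) (path_nil (g60 X0 X1 X2)) (rel_2_1 X0 X1 X2 hr0 hr1 hr2 hr3 hr4 hr5)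
theorem E_96_2 (X0 X1 X2 : M) (hr0 : X0 * (X0 * (X0 * 1)) = 1) (hr1 : X1 * (X1 * (X1 * 1)) = 1) (hr2 : X2 * (X2 * 1) = 1) (hr3 : X2 * (X1 * (X2 * (X1 * 1))) = 1) (hr4 : X2 * (X0 * (X2⁻¹ * (X0⁻¹ * 1))) = 1) (hr5 : X0 * (X1 * (X0 * (X1⁻¹ * (X0⁻¹ * (X1 * (X0⁻¹ * (X1⁻¹ * 1))))))) = 1) : g96 X0 X1 X2 * X2 = g61 X0 X1 X2 :=
  deduce (path_cons (E_61_2 X0 X1 X2) (path_nil (g96 X0 X1 X2))) (path_nil (g61 X0 X1 X2)) (rel_2_1 X0 X1 X2 hr0 hr1 hr2 hr3 hr4 hr5)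
theorem E_98_2 (X0 X1 X2 : M) (hr0 : X0 * (X0 * (X0 * 1)) = 1) (hr1 : X1 * (X1 * (X1 * 1)) = 1) (hr2 : X2 * (X2 * 1) = 1) (hr3 : X2 * (X1 * (X2 * (X1 * 1))) = 1) (hr4 : X2 * (X0 * (X2⁻¹ * (X0⁻¹ * 1))) = 1) (hr5 : X0 * (X1 * (X0 * (X1⁻¹ * (X0⁻¹ * (X1 * (X0⁻¹ * (X1⁻¹ * 1))))))) = 1) : g98 X0 X1 X2 * X2 = g63 X0 X1 X2 :=
  deduce (path_cons (E_63_2 X0 X1 X2) (path_nil (g98 X0 X1 X2))) (path_nil (g63 X0 X1 X2)) (rel_2_1 X0 X1 X2 hr0 hr1 hr2 hr3 hr4 hr5)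
theorem E_103_2 (X0 X1 X2 : M) (hr0 : X0 * (X0 * (X0 * 1)) = 1) (hr1 : X1 * (X1 * (X1 * 1)) = 1) (hr2 : X2 * (X2 * 1) = 1) (hr3 : X2 * (X1 * (X2 * (X1 * 1))) = 1) (hr4 : X2 * (X0 * (X2⁻¹ * (X0⁻¹ * 1))) = 1) (hr5 : X0 * (X1 * (X0 * (X1⁻¹ * (X0⁻¹ * (X1 * (X0⁻¹ * (X1⁻¹ * 1))))))) = 1) : g103 X0 X1 X2 * X2 = g68 X0 X1 X2 :=
  deduce (path_cons (E_68_2 X0 X1 X2) (path_nil (g103 X0 X1 X2))) (path_nil (g68 X0 X1 X2)) (rel_2_1 X0 X1 X2 hr0 hr1 hr2 hr3 hr4 hr5)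
theorem E_107_2 (X0 X1 X2 : M) (hr0 : X0 * (X0 * (X0 * 1)) = 1) (hr1 : X1 * (X1 * (X1 * 1)) = 1) (hr2 : X2 * (X2 * 1) = 1) (hr3 : X2 * (X1 * (X2 * (X1 * 1))) = 1) (hr4 : X2 * (X0 * (X2⁻¹ * (X0⁻¹ * 1))) = 1) (hr5 : X0 * (X1 * (X0 * (X1⁻¹ * (X0⁻¹ * (X1 * (X0⁻¹ * (X1⁻¹ * 1))))))) = 1) : g107 X0 X1 X2 * X2 = g70 X0 X1 X2 :=
  deduce (path_cons (E_70_2 X0 X1 X2) (path_nil (g107 X0 X1 X2))) (path_nil (g70 X0 X1 X2)) (rel_2_1 X0 X1 X2 hr0 hr1 hr2 hr3 hr4 hr5)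
theorem E_110_2 (X0 X1 X2 : M) (hr0 : X0 * (X0 * (X0 * 1)) = 1) (hr1 : X1 * (X1 * (X1 * 1)) = 1) (hr2 : X2 * (X2 * 1) = 1) (hr3 : X2 * (X1 * (X2 * (X1 * 1))) = 1) (hr4 : X2 * (X0 * (X2⁻¹ * (X0⁻¹ * 1))) = 1) (hr5 : X0 * (X1 * (X0 * (X1⁻¹ * (X0⁻¹ * (X1 * (X0⁻¹ * (X1⁻¹ * 1))))))) = 1) : g110 X0 X1 X2 * X2 = g75 X0 X1 X2 :=
  deduce (path_cons (E_75_2 X0 X1 X2) (path_nil (g110 X0 X1 X2))) (path_nil (g75 X0 X1 X2)) (rel_2_1 X0 X1 X2 hr0 hr1 hr2 hr3 hr4 hr5)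
theorem E_115_2 (X0 X1 X2 : M) (hr0 : X0 * (X0 * (X0 * 1)) = 1) (hr1 : X1 * (X1 * (X1 * 1)) = 1) (hr2 : X2 * (X2 * 1) = 1) (hr3 : X2 * (X1 * (X2 * (X1 * 1))) = 1) (hr4 : X2 * (X0 * (X2⁻¹ * (X0⁻¹ * 1))) = 1) (hr5 : X0 * (X1 * (X0 * (X1⁻¹ * (X0⁻¹ * (X1 * (X0⁻¹ * (X1⁻¹ * 1))))))) = 1) : g115 X0 X1 X2 * X2 = g78 X0 X1 X2 :=
  deduce (path_cons (E_78_2 X0 X1 X2) (path_nil (g115 X0 X1 X2))) (path_nil (g78 X0 X1 X2)) (rel_2_1 X0 X1 X2 hr0 hr1 hr2 hr3 hr4 hr5)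
theorem E_117_2 (X0 X1 X2 : M) (hr0 : X0 * (X0 * (X0 * 1)) = 1) (hr1 : X1 * (X1 * (X1 * 1)) = 1) (hr2 : X2 * (X2 * 1) = 1) (hr3 : X2 * (X1 * (X2 * (X1 * 1))) = 1) (hr4 : X2 * (X0 * (X2⁻¹ * (X0⁻¹ * 1))) = 1) (hr5 : X0 * (X1 * (X0 * (X1⁻¹ * (X0⁻¹ * (X1 * (X0⁻¹ * (X1⁻¹ * 1))))))) = 1) : g117 X0 X1 X2 * X2 = g82 X0 X1 X2 :=
  deduce (path_cons (E_82_2 X0 X1 X2) (path_nil (g117 X0 X1 X2))) (path_nil (g82 X0 X1 X2)) (rel_2_1 X0 X1 X2 hr0 hr1 hr2 hr3 hr4 hr5)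
theorem E_119_2 (X0 X1 X2 : M) (hr0 : X0 * (X0 * (X0 * 1)) = 1) (hr1 : X1 * (X1 * (X1 * 1)) = 1) (hr2 : X2 * (X2 * 1) = 1) (hr3 : X2 * (X1 * (X2 * (X1 * 1))) = 1) (hr4 : X2 * (X0 * (X2⁻¹ * (X0⁻¹ * 1))) = 1) (hr5 : X0 * (X1 * (X0 * (X1⁻¹ * (X0⁻¹ * (X1 * (X0⁻¹ * (X1⁻¹ * 1))))))) = 1) : g119 X0 X1 X2 * X2 = g83 X0 X1 X2 :=
  deduce (path_cons (E_83_2 X0 X1 X2) (path_nil (g119 X0 X1 X2))) (path_nil (g83 X0 X1 X2)) (rel_2_1 X0 X1 X2 hr0 hr1 hr2 hr3 hr4 hr5)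
theorem E_121_2 (X0 X1 X2 : M) (hr0 : X0 * (X0 * (X0 * 1)) = 1) (hr1 : X1 * (X1 * (X1 * 1)) = 1) (hr2 : X2 * (X2 * 1) = 1) (hr3 : X2 * (X1 * (X2 * (X1 * 1))) = 1) (hr4 : X2 * (X0 * (X2⁻¹ * (X0⁻¹ * 1))) = 1) (hr5 : X0 * (X1 * (X0 * (X1⁻¹ * (X0⁻¹ * (X1 * (X0⁻¹ * (X1⁻¹ * 1))))))) = 1) : g121 X0 X1 X2 * X2 = g85 X0 X1 X2 :=
  deduce (path_cons (E_85_2 X0 X1 X2) (path_nil (g121 X0 X1 X2))) (path_nil (g85 X0 X1 X2)) (rel_2_1 X0 X1 X2 hr0 hr1 hr2 hr3 hr4 hr5)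
theorem E_125_2 (X0 X1 X2 : M) (hr0 : X0 * (X0 * (X0 * 1)) = 1) (hr1 : X1 * (X1 * (X1 * 1)) = 1) (hr2 : X2 * (X2 * 1) = 1) (hr3 : X2 * (X1 * (X2 * (X1 * 1))) = 1) (hr4 : X2 * (X0 * (X2⁻¹ * (X0⁻¹ * 1))) = 1) (hr5 : X0 * (X1 * (X0 * (X1⁻¹ * (X0⁻¹ * (X1 * (X0⁻¹ * (X1⁻¹ * 1))))))) = 1) : g125 X0 X1 X2 * X2 = g90 X0 X1 X2 :=
  deduce (path_cons (E_90_2 X0 X1 X2) (path_nil (g125 X0 X1 X2))) (path_nil (g90 X0 X1 X2)) (rel_2_1 X0 X1 X2 hr0 hr1 hr2 hr3 hr4 hr5)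
theorem E_127_2 (X0 X1 X2 : M) (hr0 : X0 * (X0 * (X0 * 1)) = 1) (hr1 : X1 * (X1 * (X1 * 1)) = 1) (hr2 : X2 * (X2 * 1) = 1) (hr3 : X2 * (X1 * (X2 * (X1 * 1))) = 1) (hr4 : X2 * (X0 * (X2⁻¹ * (X0⁻¹ * 1))) = 1) (hr5 : X0 * (X1 * (X0 * (X1⁻¹ * (X0⁻¹ * (X1 * (X0⁻¹ * (X1⁻¹ * 1))))))) = 1) : g127 X0 X1 X2 * X2 = g91 X0 X1 X2 :=
  deduce (path_cons (E_91_2 X0 X1 X2) (path_nil (g127 X0 X1 X2))) (path_nil (g91 X0 X1 X2)) (rel_2_1 X0 X1 X2 hr0 hr1 hr2 hr3 hr4 hr5)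
theorem E_129_2 (X0 X1 X2 : M) (hr0 : X0 * (X0 * (X0 * 1)) = 1) (hr1 : X1 * (X1 * (X1 * 1)) = 1) (hr2 : X2 * (X2 * 1) = 1) (hr3 : X2 * (X1 * (X2 * (X1 * 1))) = 1) (hr4 : X2 * (X0 * (X2⁻¹ * (X0⁻¹ * 1))) = 1) (hr5 : X0 * (X1 * (X0 * (X1⁻¹ * (X0⁻¹ * (X1 * (X0⁻¹ * (X1⁻¹ * 1))))))) = 1) : g129 X0 X1 X2 * X2 = g93 X0 X1 X2 :=
  deduce (path_cons (E_93_2 X0 X1 X2) (path_nil (g129 X0 X1 X2))) (path_nil (g93 X0 X1 X2)) (rel_2_1 X0 X1 X2 hr0 hr1 hr2 hr3 hr4 hr5)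
theorem E_133_2 (X0 X1 X2 : M) (hr0 : X0 * (X0 * (X0 * 1)) = 1) (hr1 : X1 * (X1 * (X1 * 1)) = 1) (hr2 : X2 * (X2 * 1) = 1) (hr3 : X2 * (X1 * (X2 * (X1 * 1))) = 1) (hr4 : X2 * (X0 * (X2⁻¹ * (X0⁻¹ * 1))) = 1) (hr5 : X0 * (X1 * (X0 * (X1⁻¹ * (X0⁻¹ * (X1 * (X0⁻¹ * (X1⁻¹ * 1))))))) = 1) : g133 X0 X1 X2 * X2 = g101 X0 X1 X2 :=
  deduce (path_cons (E_101_2 X0 X1 X2) (path_nil (g133 X0 X1 X2))) (path_nil (g101 X0 X1 X2)) (rel_2_1 X0 X1 X2 hr0 hr1 hr2 hr3 hr4 hr5)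
theorem E_135_2 (X0 X1 X2 : M) (hr0 : X0 * (X0 * (X0 * 1)) = 1) (hr1 : X1 * (X1 * (X1 * 1)) = 1) (hr2 : X2 * (X2 * 1) = 1) (hr3 : X2 * (X1 * (X2 * (X1 * 1))) = 1) (hr4 : X2 * (X0 * (X2⁻¹ * (X0⁻¹ * 1))) = 1) (hr5 : X0 * (X1 * (X0 * (X1⁻¹ * (X0⁻¹ * (X1 * (X0⁻¹ * (X1⁻¹ * 1))))))) = 1) : g135 X0 X1 X2 * X2 = g105 X0 X1 X2 :=
  deduce (path_cons (E_105_2 X0 X1 X2) (path_nil (g135 X0 X1 X2))) (path_nil (g105 X0 X1 X2)) (rel_2_1 X0 X1 X2 hr0 hr1 hr2 hr3 hr4 hr5)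
theorem E_137_2 (X0 X1 X2 : M) (hr0 : X0 * (X0 * (X0 * 1)) = 1) (hr1 : X1 * (X1 * (X1 * 1)) = 1) (hr2 : X2 * (X2 * 1) = 1) (hr3 : X2 * (X1 * (X2 * (X1 * 1))) = 1) (hr4 : X2 * (X0 * (X2⁻¹ * (X0⁻¹ * 1))) = 1) (hr5 : X0 * (X1 * (X0 * (X1⁻¹ * (X0⁻¹ * (X1 * (X0⁻¹ * (X1⁻¹ * 1))))))) = 1) : g137 X0 X1 X2 * X2 = g106 X0 X1 X2 :=
  deduce (path_cons (E_106_2 X0 X1 X2) (path_nil (g137 X0 X1 X2))) (path_nil (g106 X0 X1 X2)) (rel_2_1 X0 X1 X2 hr0 hr1 hr2 hr3 hr4 hr5)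
theorem E_139_2 (X0 X1 X2 : M) (hr0 : X0 * (X0 * (X0 * 1)) = 1) (hr1 : X1 * (X1 * (X1 * 1)) = 1) (hr2 : X2 * (X2 * 1) = 1) (hr3 : X2 * (X1 * (X2 * (X1 * 1))) = 1) (hr4 : X2 * (X0 * (X2⁻¹ * (X0⁻¹ * 1))) = 1) (hr5 : X0 * (X1 * (X0 * (X1⁻¹ * (X0⁻¹ * (X1 * (X0⁻¹ * (X1⁻¹ * 1))))))) = 1) : g139 X0 X1 X2 * X2 = g108 X0 X1 X2 :=
  deduce (path_cons (E_108_2 X0 X1 X2) (path_nil (g139 X0 X1 X2))) (path_nil (g108 X0 X1 X2)) (rel_2_1 X0 X1 X2 hr0 hr1 hr2 hr3 hr4 hr5)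
theorem E_143_2 (X0 X1 X2 : M) (hr0 : X0 * (X0 * (X0 * 1)) = 1) (hr1 : X1 * (X1 * (X1 * 1)) = 1) (hr2 : X2 * (X2 * 1) = 1) (hr3 : X2 * (X1 * (X2 * (X1 * 1))) = 1) (hr4 : X2 * (X0 * (X2⁻¹ * (X0⁻¹ * 1))) = 1) (hr5 : X0 * (X1 * (X0 * (X1⁻¹ * (X0⁻¹ * (X1 * (X0⁻¹ * (X1⁻¹ * 1))))))) = 1) : g143 X0 X1 X2 * X2 = g113 X0 X1 X2 :=
  deduce (path_cons (E_113_2 X0 X1 X2) (path_nil (g143 X0 X1 X2))) (path_nil (g113 X0 X1 X2)) (rel_2_1 X0 X1 X2 hr0 hr1 hr2 hr3 hr4 hr5)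
theorem E_145_2 (X0 X1 X2 : M) (hr0 : X0 * (X0 * (X0 * 1)) = 1) (hr1 : X1 * (X1 * (X1 * 1)) = 1) (hr2 : X2 * (X2 * 1) = 1) (hr3 : X2 * (X1 * (X2 * (X1 * 1))) = 1) (hr4 : X2 * (X0 * (X2⁻¹ * (X0⁻¹ * 1))) = 1) (hr5 : X0 * (X1 * (X0 * (X1⁻¹ * (X0⁻¹ * (X1 * (X0⁻¹ * (X1⁻¹ * 1))))))) = 1) : g145 X0 X1 X2 * X2 = g114 X0 X1 X2 :=
  deduce (path_cons (E_114_2 X0 X1 X2) (path_nil (g145 X0 X1 X2))) (path_nil (g114 X0 X1 X2)) (rel_2_1 X0 X1 X2 hr0 hr1 hr2 hr3 hr4 hr5)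
theorem E_147_2 (X0 X1 X2 : M) (hr0 : X0 * (X0 * (X0 * 1)) = 1) (hr1 : X1 * (X1 * (X1 * 1)) = 1) (hr2 : X2 * (X2 * 1) = 1) (hr3 : X2 * (X1 * (X2 * (X1 * 1))) = 1) (hr4 : X2 * (X0 * (X2⁻¹ * (X0⁻¹ * 1))) = 1) (hr5 : X0 * (X1 * (X0 * (X1⁻¹ * (X0⁻¹ * (X1 * (X0⁻¹ * (X1⁻¹ * 1))))))) = 1) : g147 X0 X1 X2 * X2 = g116 X0 X1 X2 :=
  deduce (path_cons (E_116_2 X0 X1 X2) (path_nil (g147 X0 X1 X2))) (path_nil (g116 X0 X1 X2)) (rel_2_1 X0 X1 X2 hr0 hr1 hr2 hr3 hr4 hr5)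
theorem E_150_2 (X0 X1 X2 : M) (hr0 : X0 * (X0 * (X0 * 1)) = 1) (hr1 : X1 * (X1 * (X1 * 1)) = 1) (hr2 : X2 * (X2 * 1) = 1) (hr3 : X2 * (X1 * (X2 * (X1 * 1))) = 1) (hr4 : X2 * (X0 * (X2⁻¹ * (X0⁻¹ * 1))) = 1) (hr5 : X0 * (X1 * (X0 * (X1⁻¹ * (X0⁻¹ * (X1 * (X0⁻¹ * (X1⁻¹ * 1))))))) = 1) : g150 X0 X1 X2 * X2 = g124 X0 X1 X2 :=
  deduce (path_cons (E_124_2 X0 X1 X2) (path_nil (g150 X0 X1 X2))) (path_nil (g124 X0 X1 X2)) (rel_2_1 X0 X1 X2 hr0 hr1 hr2 hr3 hr4 hr5)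
theorem E_152_2 (X0 X1 X2 : M) (hr0 : X0 * (X0 * (X0 * 1)) = 1) (hr1 : X1 * (X1 * (X1 * 1)) = 1) (hr2 : X2 * (X2 * 1) = 1) (hr3 : X2 * (X1 * (X2 * (X1 * 1))) = 1) (hr4 : X2 * (X0 * (X2⁻¹ * (X0⁻¹ * 1))) = 1) (hr5 : X0 * (X1 * (X0 * (X1⁻¹ * (X0⁻¹ * (X1 * (X0⁻¹ * (X1⁻¹ * 1))))))) = 1) : g152 X0 X1 X2 * X2 = g131 X0 X1 X2 :=
  deduce (path_cons (E_131_2 X0 X1 X2) (path_nil (g152 X0 X1 X2))) (path_nil (g131 X0 X1 X2)) (rel_2_1 X0 X1 X2 hr0 hr1 hr2 hr3 hr4 hr5)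
theorem E_154_2 (X0 X1 X2 : M) (hr0 : X0 * (X0 * (X0 * 1)) = 1) (hr1 : X1 * (X1 * (X1 * 1)) = 1) (hr2 : X2 * (X2 * 1) = 1) (hr3 : X2 * (X1 * (X2 * (X1 * 1))) = 1) (hr4 : X2 * (X0 * (X2⁻¹ * (X0⁻¹ * 1))) = 1) (hr5 : X0 * (X1 * (X0 * (X1⁻¹ * (X0⁻¹ * (X1 * (X0⁻¹ * (X1⁻¹ * 1))))))) = 1) : g154 X0 X1 X2 * X2 = g132 X0 X1 X2 :=
  deduce (path_cons (E_132_2 X0 X1 X2) (path_nil (g154 X0 X1 X2))) (path_nil (g132 X0 X1 X2)) (rel_2_1 X0 X1 X2 hr0 hr1 hr2 hr3 hr4 hr5)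
theorem E_156_2 (X0 X1 X2 : M) (hr0 : X0 * (X0 * (X0 * 1)) = 1) (hr1 : X1 * (X1 * (X1 * 1)) = 1) (hr2 : X2 * (X2 * 1) = 1) (hr3 : X2 * (X1 * (X2 * (X1 * 1))) = 1) (hr4 : X2 * (X0 * (X2⁻¹ * (X0⁻¹ * 1))) = 1) (hr5 : X0 * (X1 * (X0 * (X1⁻¹ * (X0⁻¹ * (X1 * (X0⁻¹ * (X1⁻¹ * 1))))))) = 1) : g156 X0 X1 X2 * X2 = g134 X0 X1 X2 :=
  deduce (path_cons (E_134_2 X0 X1 X2) (path_nil (g156 X0 X1 X2))) (path_nil (g134 X0 X1 X2)) (rel_2_1 X0 X1 X2 hr0 hr1 hr2 hr3 hr4 hr5)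
theorem E_159_2 (X0 X1 X2 : M) (hr0 : X0 * (X0 * (X0 * 1)) = 1) (hr1 : X1 * (X1 * (X1 * 1)) = 1) (hr2 : X2 * (X2 * 1) = 1) (hr3 : X2 * (X1 * (X2 * (X1 * 1))) = 1) (hr4 : X2 * (X0 * (X2⁻¹ * (X0⁻¹ * 1))) = 1) (hr5 : X0 * (X1 * (X0 * (X1⁻¹ * (X0⁻¹ * (X1 * (X0⁻¹ * (X1⁻¹ * 1))))))) = 1) : g159 X0 X1 X2 * X2 = g142 X0 X1 X2 :=
  deduce (path_cons (E_142_2 X0 X1 X2) (path_nil (g159 X0 X1 X2))) (path_nil (g142 X0 X1 X2)) (rel_2_1 X0 X1 X2 hr0 hr1 hr2 hr3 hr4 hr5)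
theorem E_161_2 (X0 X1 X2 : M) (hr0 : X0 * (X0 * (X0 * 1)) = 1) (hr1 : X1 * (X1 * (X1 * 1)) = 1) (hr2 : X2 * (X2 * 1) = 1) (hr3 : X2 * (X1 * (X2 * (X1 * 1))) = 1) (hr4 : X2 * (X0 * (X2⁻¹ * (X0⁻¹ * 1))) = 1) (hr5 : X0 * (X1 * (X0 * (X1⁻¹ * (X0⁻¹ * (X1 * (X0⁻¹ * (X1⁻¹ * 1))))))) = 1) : g161 X0 X1 X2 * X2 = g151 X0 X1 X2 :=
  deduce (path_cons (E_151_2 X0 X1 X2) (path_nil (g161 X0 X1 X2))) (path_nil (g151 X0 X1 X2)) (rel_2_1 X0 X1 X2 hr0 hr1 hr2 hr3 hr4 hr5)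
theorem E_10_2 (X0 X1 X2 : M) (hr0 : X0 * (X0 * (X0 * 1)) = 1) (hr1 : X1 * (X1 * (X1 * 1)) = 1) (hr2 : X2 * (X2 * 1) = 1) (hr3 : X2 * (X1 * (X2 * (X1 * 1))) = 1) (hr4 : X2 * (X0 * (X2⁻¹ * (X0⁻¹ * 1))) = 1) (hr5 : X0 * (X1 * (X0 * (X1⁻¹ * (X0⁻¹ * (X1 * (X0⁻¹ * (X1⁻¹ * 1))))))) = 1) : g10 X0 X1 X2 * X2 = g8 X0 X1 X2 :=
  deduce (path_cons (E_0_2 X0 X1 X2) (path_cons (E_3_1 X0 X1 X2) (path_nil (g10 X0 X1 X2)))) (path_cons (E_8_1 X0 X1 X2 hr0 hr1 hr2 hr3 hr4 hr5) (path_nil (g0 X0 X1 X2))) (rel_3_2 X0 X1 X2 hr0 hr1 hr2 hr3 hr4 hr5)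
theorem E_16_2 (X0 X1 X2 : M) (hr0 : X0 * (X0 * (X0 * 1)) = 1) (hr1 : X1 * (X1 * (X1 * 1)) = 1) (hr2 : X2 * (X2 * 1) = 1) (hr3 : X2 * (X1 * (X2 * (X1 * 1))) = 1) (hr4 : X2 * (X0 * (X2⁻¹ * (X0⁻¹ * 1))) = 1) (hr5 : X0 * (X1 * (X0 * (X1⁻¹ * (X0⁻¹ * (X1 * (X0⁻¹ * (X1⁻¹ * 1))))))) = 1) : g16 X0 X1 X2 * X2 = g14 X0 X1 X2 :=
  deduce (path_cons (E_1_2 X0 X1 X2) (path_cons (E_6_1 X0 X1 X2) (path_nil (g16 X0 X1 X2)))) (path_cons (E_14_1 X0 X1 X2 hr0 hr1 hr2 hr3 hr4 hr5) (path_nil (g1 X0 X1 X2))) (rel_3_2 X0 X1 X2 hr0 hr1 hr2 hr3 hr4 hr5)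
theorem E_9_1 (X0 X1 X2 : M) (hr0 : X0 * (X0 * (X0 * 1)) = 1) (hr1 : X1 * (X1 * (X1 * 1)) = 1) (hr2 : X2 * (X2 * 1) = 1) (hr3 : X2 * (X1 * (X2 * (X1 * 1))) = 1) (hr4 : X2 * (X0 * (X2⁻¹ * (X0⁻¹ * 1))) = 1) (hr5 : X0 * (X1 * (X0 * (X1⁻¹ * (X0⁻¹ * (X1 * (X0⁻¹ * (X1⁻¹ * 1))))))) = 1) : g9 X0 X1 X2 * X1 = g3 X0 X1 X2 :=
  deduce (path_cons (E_2_2 X0 X1 X2) (path_nil (g9 X0 X1 X2))) (path_cons (E_3_2 X0 X1 X2 hr0 hr1 hr2 hr3 hr4 hr5) (path_cons (E_0_1 X0 X1 X2) (path_nil (g2 X0 X1 X2)))) (rel_3_1 X0 X1 X2 hr0 hr1 hr2 hr3 hr4 hr5)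
theorem E_25_2 (X0 X1 X2 : M) (hr0 : X0 * (X0 * (X0 * 1)) = 1) (hr1 : X1 * (X1 * (X1 * 1)) = 1) (hr2 : X2 * (X2 * 1) = 1) (hr3 : X2 * (X1 * (X2 * (X1 * 1))) = 1) (hr4 : X2 * (X0 * (X2⁻¹ * (X0⁻¹ * 1))) = 1) (hr5 : X0 * (X1 * (X0 * (X1⁻¹ * (X0⁻¹ * (X1 * (X0⁻¹ * (X1⁻¹ * 1))))))) = 1) : g25 X0 X1 X2 * X2 = g23 X0 X1 X2 :=
  deduce (path_cons (E_4_2 X0 X1 X2) (path_cons (E_12_1 X0 X1 X2) (path_nil (g25 X0 X1 X2)))) (path_cons (E_23_1 X0 X1 X2 hr0 hr1 hr2 hr3 hr4 hr5) (path_nil (g4 X0 X1 X2))) (rel_3_2 X0 X1 X2 hr0 hr1 hr2 hr3 hr4 hr5)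
theorem E_15_1 (X0 X1 X2 : M) (hr0 : X0 * (X0 * (X0 * 1)) = 1) (hr1 : X1 * (X1 * (X1 * 1)) = 1) (hr2 : X2 * (X2 * 1) = 1) (hr3 : X2 * (X1 * (X2 * (X1 * 1))) = 1) (hr4 : X2 * (X0 * (X2⁻¹ * (X0⁻¹ * 1))) = 1) (hr5 : X0 * (X1 * (X0 * (X1⁻¹ * (X0⁻¹ * (X1 * (X0⁻¹ * (X1⁻¹ * 1))))))) = 1) : g15 X0 X1 X2 * X1 = g6 X0 X1 X2 :=
  deduce (path_cons (E_5_2 X0 X1 X2) (path_nil (g15 X0 X1 X2))) (path_cons (E_6_2 X0 X1 X2 hr0 hr1 hr2 hr3 hr4 hr5) (path_cons (E_1_1 X0 X1 X2) (path_nil (g5 X0 X1 X2)))) (rel_3_1 X0 X1 X2 hr0 hr1 hr2 hr3 hr4 hr5)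
theorem E_36_2 (X0 X1 X2 : M) (hr0 : X0 * (X0 * (X0 * 1)) = 1) (hr1 : X1 * (X1 * (X1 * 1)) = 1) (hr2 : X2 * (X2 * 1) = 1) (hr3 : X2 * (X1 * (X2 * (X1 * 1))) = 1) (hr4 : X2 * (X0 * (X2⁻¹ * (X0⁻¹ * 1))) = 1) (hr5 : X0 * (X1 * (X0 * (X1⁻¹ * (X0⁻¹ * (X1 * (X0⁻¹ * (X1⁻¹ * 1))))))) = 1) : g36 X0 X1 X2 * X2 = g34 X0 X1 X2 :=
  deduce (path_cons (E_7_2 X0 X1 X2) (path_cons (E_19_1 X0 X1 X2) (path_nil (g36 X0 X1 X2)))) (path_cons (E_34_1 X0 X1 X2 hr0 hr1 hr2 hr3 hr4 hr5) (path_nil (g7 X0 X1 X2))) (rel_3_2 X0 X1 X2 hr0 hr1 hr2 hr3 hr4 hr5)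
theorem E_24_1 (X0 X1 X2 : M) (hr0 : X0 * (X0 * (X0 * 1)) = 1) (hr1 : X1 * (X1 * (X1 * 1)) = 1) (hr2 : X2 * (X2 * 1) = 1) (hr3 : X2 * (X1 * (X2 * (X1 * 1))) = 1) (hr4 : X2 * (X0 * (X2⁻¹ * (X0⁻¹ * 1))) = 1) (hr5 : X0 * (X1 * (X0 * (X1⁻¹ * (X0⁻¹ * (X1 * (X0⁻¹ * (X1⁻¹ * 1))))))) = 1) : g24 X0 X1 X2 * X1 = g12 X0 X1 X2 :=
  deduce (path_cons (E_11_2 X0 X1 X2) (path_nil (g24 X0 X1 X2))) (path_cons (E_12_2 X0 X1 X2 hr0 hr1 hr2 hr3 hr4 hr5) (path_cons (E_4_1 X0 X1 X2) (path_nil (g11 X0 X1 X2)))) (rel_3_1 X0 X1 X2 hr0 hr1 hr2 hr3 hr4 hr5)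
theorem E_51_2 (X0 X1 X2 : M) (hr0 : X0 * (X0 * (X0 * 1)) = 1) (hr1 : X1 * (X1 * (X1 * 1)) = 1) (hr2 : X2 * (X2 * 1) = 1) (hr3 : X2 * (X1 * (X2 * (X1 * 1))) = 1) (hr4 : X2 * (X0 * (X2⁻¹ * (X0⁻¹ * 1))) = 1) (hr5 : X0 * (X1 * (X0 * (X1⁻¹ * (X0⁻¹ * (X1 * (X0⁻¹ * (X1⁻¹ * 1))))))) = 1) : g51 X0 X1 X2 * X2 = g49 X0 X1 X2 :=
  deduce (path_cons (E_13_2 X0 X1 X2) (path_cons (E_28_1 X0 X1 X2) (path_nil (g51 X0 X1 X2)))) (path_cons (E_49_1 X0 X1 X2 hr0 hr1 hr2 hr3 hr4 hr5) (path_nil (g13 X0 X1 X2))) (rel_3_2 X0 X1 X2 hr0 hr1 hr2 hr3 hr4 hr5)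
theorem E_59_2 (X0 X1 X2 : M) (hr0 : X0 * (X0 * (X0 * 1)) = 1) (hr1 : X1 * (X1 * (X1 * 1)) = 1) (hr2 : X2 * (X2 * 1) = 1) (hr3 : X2 * (X1 * (X2 * (X1 * 1))) = 1) (hr4 : X2 * (X0 * (X2⁻¹ * (X0⁻¹ * 1))) = 1) (hr5 : X0 * (X1 * (X0 * (X1⁻¹ * (X0⁻¹ * (X1 * (X0⁻¹ * (X1⁻¹ * 1))))))) = 1) : g59 X0 X1 X2 * X2 = g57 X0 X1 X2 :=
  deduce (path_cons (E_17_2 X0 X1 X2) (path_cons (E_32_1 X0 X1 X2) (path_nil (g59 X0 X1 X2)))) (path_cons (E_57_1 X0 X1 X2 hr0 hr1 hr2 hr3 hr4 hr5) (path_nil (g17 X0 X1 X2))) (rel_3_2 X0 X1 X2 hr0 hr1 hr2 hr3 hr4 hr5)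
theorem E_35_1 (X0 X1 X2 : M) (hr0 : X0 * (X0 * (X0 * 1)) = 1) (hr1 : X1 * (X1 * (X1 * 1)) = 1) (hr2 : X2 * (X2 * 1) = 1) (hr3 : X2 * (X1 * (X2 * (X1 * 1))) = 1) (hr4 : X2 * (X0 * (X2⁻¹ * (X0⁻¹ * 1))) = 1) (hr5 : X0 * (X1 * (X0 * (X1⁻¹ * (X0⁻¹ * (X1 * (X0⁻¹ * (X1⁻¹ * 1))))))) = 1) : g35 X0 X1 X2 * X1 = g19 X0 X1 X2 :=
  deduce (path_cons (E_18_2 X0 X1 X2) (path_nil (g35 X0 X1 X2))) (path_cons (E_19_2 X0 X1 X2 hr0 hr1 hr2 hr3 hr4 hr5) (path_cons (E_7_1 X0 X1 X2) (path_nil (g18 X0 X1 X2)))) (rel_3_1 X0 X1 X2 hr0 hr1 hr2 hr3 hr4 hr5)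
theorem E_73_2 (X0 X1 X2 : M) (hr0 : X0 * (X0 * (X0 * 1)) = 1) (hr1 : X1 * (X1 * (X1 * 1)) = 1) (hr2 : X2 * (X2 * 1) = 1) (hr3 : X2 * (X1 * (X2 * (X1 * 1))) = 1) (hr4 : X2 * (X0 * (X2⁻¹ * (X0⁻¹ * 1))) = 1) (hr5 : X0 * (X1 * (X0 * (X1⁻¹ * (X0⁻¹ * (X1 * (X0⁻¹ * (X1⁻¹ * 1))))))) = 1) : g73 X0 X1 X2 * X2 = g71 X0 X1 X2 :=
  deduce (path_cons (E_22_2 X0 X1 X2) (path_cons (E_43_1 X0 X1 X2) (path_nil (g73 X0 X1 X2)))) (path_cons (E_71_1 X0 X1 X2 hr0 hr1 hr2 hr3 hr4 hr5) (path_nil (g22 X0 X1 X2))) (rel_3_2 X0 X1 X2 hr0 hr1 hr2 hr3 hr4 hr5)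
theorem E_81_2 (X0 X1 X2 : M) (hr0 : X0 * (X0 * (X0 * 1)) = 1) (hr1 : X1 * (X1 * (X1 * 1)) = 1) (hr2 : X2 * (X2 * 1) = 1) (hr3 : X2 * (X1 * (X2 * (X1 * 1))) = 1) (hr4 : X2 * (X0 * (X2⁻¹ * (X0⁻¹ * 1))) = 1) (hr5 : X0 * (X1 * (X0 * (X1⁻¹ * (X0⁻¹ * (X1 * (X0⁻¹ * (X1⁻¹ * 1))))))) = 1) : g81 X0 X1 X2 * X2 = g79 X0 X1 X2 :=
  deduce (path_cons (E_26_2 X0 X1 X2) (path_cons (E_47_1 X0 X1 X2) (path_nil (g81 X0 X1 X2)))) (path_cons (E_79_1 X0 X1 X2 hr0 hr1 hr2 hr3 hr4 hr5) (path_nil (g26 X0 X1 X2))) (rel_3_2 X0 X1 X2 hr0 hr1 hr2 hr3 hr4 hr5)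
theorem E_50_1 (X0 X1 X2 : M) (hr0 : X0 * (X0 * (X0 * 1)) = 1) (hr1 : X1 * (X1 * (X1 * 1)) = 1) (hr2 : X2 * (X2 * 1) = 1) (hr3 : X2 * (X1 * (X2 * (X1 * 1))) = 1) (hr4 : X2 * (X0 * (X2⁻¹ * (X0⁻¹ * 1))) = 1) (hr5 : X0 * (X1 * (X0 * (X1⁻¹ * (X0⁻¹ * (X1 * (X0⁻¹ * (X1⁻¹ * 1))))))) = 1) : g50 X0 X1 X2 * X1 = g28 X0 X1 X2 :=
  deduce (path_cons (E_27_2 X0 X1 X2) (path_nil (g50 X0 X1 X2))) (path_cons (E_28_2 X0 X1 X2 hr0 hr1 hr2 hr3 hr4 hr5) (path_cons (E_13_1 X0 X1 X2) (path_nil (g27 X0 X1 X2)))) (rel_3_1 X0 X1 X2 hr0 hr1 hr2 hr3 hr4 hr5)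
theorem E_58_1 (X0 X1 X2 : M) (hr0 : X0 * (X0 * (X0 * 1)) = 1) (hr1 : X1 * (X1 * (X1 * 1)) = 1) (hr2 : X2 * (X2 * 1) = 1) (hr3 : X2 * (X1 * (X2 * (X1 * 1))) = 1) (hr4 : X2 * (X0 * (X2⁻¹ * (X0⁻¹ * 1))) = 1) (hr5 : X0 * (X1 * (X0 * (X1⁻¹ * (X0⁻¹ * (X1 * (X0⁻¹ * (X1⁻¹ * 1))))))) = 1) : g58 X0 X1 X2 * X1 = g32 X0 X1 X2 :=
  deduce (path_cons (E_31_2 X0 X1 X2) (path_nil (g58 X0 X1 X2))) (path_cons (E_32_2 X0 X1 X2 hr0 hr1 hr2 hr3 hr4 hr5) (path_cons (E_17_1 X0 X1 X2) (path_nil (g31 X0 X1 X2)))) (rel_3_1 X0 X1 X2 hr0 hr1 hr2 hr3 hr4 hr5)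
theorem E_104_2 (X0 X1 X2 : M) (hr0 : X0 * (X0 * (X0 * 1)) = 1) (hr1 : X1 * (X1 * (X1 * 1)) = 1) (hr2 : X2 * (X2 * 1) = 1) (hr3 : X2 * (X1 * (X2 * (X1 * 1))) = 1) (hr4 : X2 * (X0 * (X2⁻¹ * (X0⁻¹ * 1))) = 1) (hr5 : X0 * (X1 * (X0 * (X1⁻¹ * (X0⁻¹ * (X1 * (X0⁻¹ * (X1⁻¹ * 1))))))) = 1) : g104 X0 X1 X2 * X2 = g102 X0 X1 X2 :=
  deduce (path_cons (E_41_2 X0 X1 X2) (path_cons (E_69_1 X0 X1 X2) (path_nil (g104 X0 X1 X2)))) (path_cons (E_102_1 X0 X1 X2 hr0 hr1 hr2 hr3 hr4 hr5) (path_nil (g41 X0 X1 X2))) (rel_3_2 X0 X1 X2 hr0 hr1 hr2 hr3 hr4 hr5)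
theorem E_72_1 (X0 X1 X2 : M) (hr0 : X0 * (X0 * (X0 * 1)) = 1) (hr1 : X1 * (X1 * (X1 * 1)) = 1) (hr2 : X2 * (X2 * 1) = 1) (hr3 : X2 * (X1 * (X2 * (X1 * 1))) = 1) (hr4 : X2 * (X0 * (X2⁻¹ * (X0⁻¹ * 1))) = 1) (hr5 : X0 * (X1 * (X0 * (X1⁻¹ * (X0⁻¹ * (X1 * (X0⁻¹ * (X1⁻¹ * 1))))))) = 1) : g72 X0 X1 X2 * X1 = g43 X0 X1 X2 :=
  deduce (path_cons (E_42_2 X0 X1 X2) (path_nil (g72 X0 X1 X2))) (path_cons (E_43_2 X0 X1 X2 hr0 hr1 hr2 hr3 hr4 hr5) (path_cons (E_22_1 X0 X1 X2) (path_nil (g42 X0 X1 X2)))) (rel_3_1 X0 X1 X2 hr0 hr1 hr2 hr3 hr4 hr5)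
theorem E_80_1 (X0 X1 X2 : M) (hr0 : X0 * (X0 * (X0 * 1)) = 1) (hr1 : X1 * (X1 * (X1 * 1)) = 1) (hr2 : X2 * (X2 * 1) = 1) (hr3 : X2 * (X1 * (X2 * (X1 * 1))) = 1) (hr4 : X2 * (X0 * (X2⁻¹ * (X0⁻¹ * 1))) = 1) (hr5 : X0 * (X1 * (X0 * (X1⁻¹ * (X0⁻¹ * (X1 * (X0⁻¹ * (X1⁻¹ * 1))))))) = 1) : g80 X0 X1 X2 * X1 = g47 X0 X1 X2 :=
  deduce (path_cons (E_46_2 X0 X1 X2) (path_nil (g80 X0 X1 X2))) (path_cons (E_47_2 X0 X1 X2 hr0 hr1 hr2 hr3 hr4 hr5) (path_cons (E_26_1 X0 X1 X2) (path_nil (g46 X0 X1 X2)))) (rel_3_1 X0 X1 X2 hr0 hr1 hr2 hr3 hr4 hr5)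
theorem E_96_1 (X0 X1 X2 : M) (hr0 : X0 * (X0 * (X0 * 1)) = 1) (hr1 : X1 * (X1 * (X1 * 1)) = 1) (hr2 : X2 * (X2 * 1) = 1) (hr3 : X2 * (X1 * (X2 * (X1 * 1))) = 1) (hr4 : X2 * (X0 * (X2⁻¹ * (X0⁻¹ * 1))) = 1) (hr5 : X0 * (X1 * (X0 * (X1⁻¹ * (X0⁻¹ * (X1 * (X0⁻¹ * (X1⁻¹ * 1))))))) = 1) : g96 X0 X1 X2 * X1 = g62 X0 X1 X2 :=
  deduce (path_cons (E_61_2 X0 X1 X2) (path_nil (g96 X0 X1 X2))) (path_cons (E_62_2 X0 X1 X2 hr0 hr1 hr2 hr3 hr4 hr5) (path_cons (E_33_1 X0 X1 X2) (path_nil (g61 X0 X1 X2)))) (rel_3_1 X0 X1 X2 hr0 hr1 hr2 hr3 hr4 hr5)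
theorem E_103_1 (X0 X1 X2 : M) (hr0 : X0 * (X0 * (X0 * 1)) = 1) (hr1 : X1 * (X1 * (X1 * 1)) = 1) (hr2 : X2 * (X2 * 1) = 1) (hr3 : X2 * (X1 * (X2 * (X1 * 1))) = 1) (hr4 : X2 * (X0 * (X2⁻¹ * (X0⁻¹ * 1))) = 1) (hr5 : X0 * (X1 * (X0 * (X1⁻¹ * (X0⁻¹ * (X1 * (X0⁻¹ * (X1⁻¹ * 1))))))) = 1) : g103 X0 X1 X2 * X1 = g69 X0 X1 X2 :=
  deduce (path_cons (E_68_2 X0 X1 X2) (path_nil (g103 X0 X1 X2))) (path_cons (E_69_2 X0 X1 X2 hr0 hr1 hr2 hr3 hr4 hr5) (path_cons (E_41_1 X0 X1 X2) (path_nil (g68 X0 X1 X2)))) (rel_3_1 X0 X1 X2 hr0 hr1 hr2 hr3 hr4 hr5)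
theorem E_119_1 (X0 X1 X2 : M) (hr0 : X0 * (X0 * (X0 * 1)) = 1) (hr1 : X1 * (X1 * (X1 * 1)) = 1) (hr2 : X2 * (X2 * 1) = 1) (hr3 : X2 * (X1 * (X2 * (X1 * 1))) = 1) (hr4 : X2 * (X0 * (X2⁻¹ * (X0⁻¹ * 1))) = 1) (hr5 : X0 * (X1 * (X0 * (X1⁻¹ * (X0⁻¹ * (X1 * (X0⁻¹ * (X1⁻¹ * 1))))))) = 1) : g119 X0 X1 X2 * X1 = g84 X0 X1 X2 :=
  deduce (path_cons (E_83_2 X0 X1 X2) (path_nil (g119 X0 X1 X2))) (path_cons (E_84_2 X0 X1 X2 hr0 hr1 hr2 hr3 hr4 hr5) (path_cons (E_48_1 X0 X1 X2) (path_nil (g83 X0 X1 X2)))) (rel_3_1 X0 X1 X2 hr0 hr1 hr2 hr3 hr4 hr5)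
theorem E_127_1 (X0 X1 X2 : M) (hr0 : X0 * (X0 * (X0 * 1)) = 1) (hr1 : X1 * (X1 * (X1 * 1)) = 1) (hr2 : X2 * (X2 * 1) = 1) (hr3 : X2 * (X1 * (X2 * (X1 * 1))) = 1) (hr4 : X2 * (X0 * (X2⁻¹ * (X0⁻¹ * 1))) = 1) (hr5 : X0 * (X1 * (X0 * (X1⁻¹ * (X0⁻¹ * (X1 * (X0⁻¹ * (X1⁻¹ * 1))))))) = 1) : g127 X0 X1 X2 * X1 = g92 X0 X1 X2 :=
  deduce (path_cons (E_91_2 X0 X1 X2) (path_nil (g127 X0 X1 X2))) (path_cons (E_92_2 X0 X1 X2 hr0 hr1 hr2 hr3 hr4 hr5) (path_cons (E_56_1 X0 X1 X2) (path_nil (g91 X0 X1 X2)))) (rel_3_1 X0 X1 X2 hr0 hr1 hr2 hr3 hr4 hr5)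
theorem E_129_1 (X0 X1 X2 : M) (hr0 : X0 * (X0 * (X0 * 1)) = 1) (hr1 : X1 * (X1 * (X1 * 1)) = 1) (hr2 : X2 * (X2 * 1) = 1) (hr3 : X2 * (X1 * (X2 * (X1 * 1))) = 1) (hr4 : X2 * (X0 * (X2⁻¹ * (X0⁻¹ * 1))) = 1) (hr5 : X0 * (X1 * (X0 * (X1⁻¹ * (X0⁻¹ * (X1 * (X0⁻¹ * (X1⁻¹ * 1))))))) = 1) : g129 X0 X1 X2 * X1 = g94 X0 X1 X2 :=
  deduce (path_cons (E_93_2 X0 X1 X2) (path_nil (g129 X0 X1 X2))) (path_cons (E_94_2 X0 X1 X2 hr0 hr1 hr2 hr3 hr4 hr5) (path_cons (E_60_1 X0 X1 X2) (path_nil (g93 X0 X1 X2)))) (rel_3_1 X0 X1 X2 hr0 hr1 hr2 hr3 hr4 hr5)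
theorem E_137_1 (X0 X1 X2 : M) (hr0 : X0 * (X0 * (X0 * 1)) = 1) (hr1 : X1 * (X1 * (X1 * 1)) = 1) (hr2 : X2 * (X2 * 1) = 1) (hr3 : X2 * (X1 * (X2 * (X1 * 1))) = 1) (hr4 : X2 * (X0 * (X2⁻¹ * (X0⁻¹ * 1))) = 1) (hr5 : X0 * (X1 * (X0 * (X1⁻¹ * (X0⁻¹ * (X1 * (X0⁻¹ * (X1⁻¹ * 1))))))) = 1) : g137 X0 X1 X2 * X1 = g107 X0 X1 X2 :=
  deduce (path_cons (E_106_2 X0 X1 X2) (path_nil (g137 X0 X1 X2))) (path_cons (E_107_2 X0 X1 X2 hr0 hr1 hr2 hr3 hr4 hr5) (path_cons (E_70_1 X0 X1 X2) (path_nil (g106 X0 X1 X2)))) (rel_3_1 X0 X1 X2 hr0 hr1 hr2 hr3 hr4 hr5)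
theorem E_145_1 (X0 X1 X2 : M) (hr0 : X0 * (X0 * (X0 * 1)) = 1) (hr1 : X1 * (X1 * (X1 * 1)) = 1) (hr2 : X2 * (X2 * 1) = 1) (hr3 : X2 * (X1 * (X2 * (X1 * 1))) = 1) (hr4 : X2 * (X0 * (X2⁻¹ * (X0⁻¹ * 1))) = 1) (hr5 : X0 * (X1 * (X0 * (X1⁻¹ * (X0⁻¹ * (X1 * (X0⁻¹ * (X1⁻¹ * 1))))))) = 1) : g145 X0 X1 X2 * X1 = g115 X0 X1 X2 :=
  deduce (path_cons (E_114_2 X0 X1 X2) (path_nil (g145 X0 X1 X2))) (path_cons (E_115_2 X0 X1 X2 hr0 hr1 hr2 hr3 hr4 hr5) (path_cons (E_78_1 X0 X1 X2) (path_nil (g114 X0 X1 X2)))) (rel_3_1 X0 X1 X2 hr0 hr1 hr2 hr3 hr4 hr5)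
theorem E_147_1 (X0 X1 X2 : M) (hr0 : X0 * (X0 * (X0 * 1)) = 1) (hr1 : X1 * (X1 * (X1 * 1)) = 1) (hr2 : X2 * (X2 * 1) = 1) (hr3 : X2 * (X1 * (X2 * (X1 * 1))) = 1) (hr4 : X2 * (X0 * (X2⁻¹ * (X0⁻¹ * 1))) = 1) (hr5 : X0 * (X1 * (X0 * (X1⁻¹ * (X0⁻¹ * (X1 * (X0⁻¹ * (X1⁻¹ * 1))))))) = 1) : g147 X0 X1 X2 * X1 = g117 X0 X1 X2 :=
  deduce (path_cons (E_116_2 X0 X1 X2) (path_nil (g147 X0 X1 X2))) (path_cons (E_117_2 X0 X1 X2 hr0 hr1 hr2 hr3 hr4 hr5) (path_cons (E_82_1 X0 X1 X2) (path_nil (g116 X0 X1 X2)))) (rel_3_1 X0 X1 X2 hr0 hr1 hr2 hr3 hr4 hr5)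
theorem E_150_1 (X0 X1 X2 : M) (hr0 : X0 * (X0 * (X0 * 1)) = 1) (hr1 : X1 * (X1 * (X1 * 1)) = 1) (hr2 : X2 * (X2 * 1) = 1) (hr3 : X2 * (X1 * (X2 * (X1 * 1))) = 1) (hr4 : X2 * (X0 * (X2⁻¹ * (X0⁻¹ * 1))) = 1) (hr5 : X0 * (X1 * (X0 * (X1⁻¹ * (X0⁻¹ * (X1 * (X0⁻¹ * (X1⁻¹ * 1))))))) = 1) : g150 X0 X1 X2 * X1 = g125 X0 X1 X2 :=
  deduce (path_cons (E_124_2 X0 X1 X2) (path_nil (g150 X0 X1 X2))) (path_cons (E_125_2 X0 X1 X2 hr0 hr1 hr2 hr3 hr4 hr5) (path_cons (E_90_1 X0 X1 X2) (path_nil (g124 X0 X1 X2)))) (rel_3_1 X0 X1 X2 hr0 hr1 hr2 hr3 hr4 hr5)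
theorem E_154_1 (X0 X1 X2 : M) (hr0 : X0 * (X0 * (X0 * 1)) = 1) (hr1 : X1 * (X1 * (X1 * 1)) = 1) (hr2 : X2 * (X2 * 1) = 1) (hr3 : X2 * (X1 * (X2 * (X1 * 1))) = 1) (hr4 : X2 * (X0 * (X2⁻¹ * (X0⁻¹ * 1))) = 1) (hr5 : X0 * (X1 * (X0 * (X1⁻¹ * (X0⁻¹ * (X1 * (X0⁻¹ * (X1⁻¹ * 1))))))) = 1) : g154 X0 X1 X2 * X1 = g133 X0 X1 X2 :=
  deduce (path_cons (E_132_2 X0 X1 X2) (path_nil (g154 X0 X1 X2))) (path_cons (E_133_2 X0 X1 X2 hr0 hr1 hr2 hr3 hr4 hr5) (path_cons (E_101_1 X0 X1 X2) (path_nil (g132 X0 X1 X2)))) (rel_3_1 X0 X1 X2 hr0 hr1 hr2 hr3 hr4 hr5)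
theorem E_156_1 (X0 X1 X2 : M) (hr0 : X0 * (X0 * (X0 * 1)) = 1) (hr1 : X1 * (X1 * (X1 * 1)) = 1) (hr2 : X2 * (X2 * 1) = 1) (hr3 : X2 * (X1 * (X2 * (X1 * 1))) = 1) (hr4 : X2 * (X0 * (X2⁻¹ * (X0⁻¹ * 1))) = 1) (hr5 : X0 * (X1 * (X0 * (X1⁻¹ * (X0⁻¹ * (X1 * (X0⁻¹ * (X1⁻¹ * 1))))))) = 1) : g156 X0 X1 X2 * X1 = g135 X0 X1 X2 :=
  deduce (path_cons (E_134_2 X0 X1 X2) (path_nil (g156 X0 X1 X2))) (path_cons (E_135_2 X0 X1 X2 hr0 hr1 hr2 hr3 hr4 hr5) (path_cons (E_105_1 X0 X1 X2) (path_nil (g134 X0 X1 X2)))) (rel_3_1 X0 X1 X2 hr0 hr1 hr2 hr3 hr4 hr5)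
theorem E_159_1 (X0 X1 X2 : M) (hr0 : X0 * (X0 * (X0 * 1)) = 1) (hr1 : X1 * (X1 * (X1 * 1)) = 1) (hr2 : X2 * (X2 * 1) = 1) (hr3 : X2 * (X1 * (X2 * (X1 * 1))) = 1) (hr4 : X2 * (X0 * (X2⁻¹ * (X0⁻¹ * 1))) = 1) (hr5 : X0 * (X1 * (X0 * (X1⁻¹ * (X0⁻¹ * (X1 * (X0⁻¹ * (X1⁻¹ * 1))))))) = 1) : g159 X0 X1 X2 * X1 = g143 X0 X1 X2 :=
  deduce (path_cons (E_142_2 X0 X1 X2) (path_nil (g159 X0 X1 X2))) (path_cons (E_143_2 X0 X1 X2 hr0 hr1 hr2 hr3 hr4 hr5) (path_cons (E_113_1 X0 X1 X2) (path_nil (g142 X0 X1 X2)))) (rel_3_1 X0 X1 X2 hr0 hr1 hr2 hr3 hr4 hr5)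
theorem E_161_1 (X0 X1 X2 : M) (hr0 : X0 * (X0 * (X0 * 1)) = 1) (hr1 : X1 * (X1 * (X1 * 1)) = 1) (hr2 : X2 * (X2 * 1) = 1) (hr3 : X2 * (X1 * (X2 * (X1 * 1))) = 1) (hr4 : X2 * (X0 * (X2⁻¹ * (X0⁻¹ * 1))) = 1) (hr5 : X0 * (X1 * (X0 * (X1⁻¹ * (X0⁻¹ * (X1 * (X0⁻¹ * (X1⁻¹ * 1))))))) = 1) : g161 X0 X1 X2 * X1 = g152 X0 X1 X2 :=
  deduce (path_cons (E_151_2 X0 X1 X2) (path_nil (g161 X0 X1 X2))) (path_cons (E_152_2 X0 X1 X2 hr0 hr1 hr2 hr3 hr4 hr5) (path_cons (E_131_1 X0 X1 X2) (path_nil (g151 X0 X1 X2)))) (rel_3_1 X0 X1 X2 hr0 hr1 hr2 hr3 hr4 hr5)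
theorem E_3_0 (X0 X1 X2 : M) (hr0 : X0 * (X0 * (X0 * 1)) = 1) (hr1 : X1 * (X1 * (X1 * 1)) = 1) (hr2 : X2 * (X2 * 1) = 1) (hr3 : X2 * (X1 * (X2 * (X1 * 1))) = 1) (hr4 : X2 * (X0 * (X2⁻¹ * (X0⁻¹ * 1))) = 1) (hr5 : X0 * (X1 * (X0 * (X1⁻¹ * (X0⁻¹ * (X1 * (X0⁻¹ * (X1⁻¹ * 1))))))) = 1) : g3 X0 X1 X2 * X0 = g6 X0 X1 X2 :=
  deduce (path_cons (E_0_2 X0 X1 X2) (path_nil (g3 X0 X1 X2))) (path_cons (inv_edge (E_1_2 X0 X1 X2)) (path_cons (inv_edge (E_0_0 X0 X1 X2)) (path_nil (g0 X0 X1 X2)))) (rel_4_1 X0 X1 X2 hr0 hr1 hr2 hr3 hr4 hr5)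
theorem E_6_0 (X0 X1 X2 : M) (hr0 : X0 * (X0 * (X0 * 1)) = 1) (hr1 : X1 * (X1 * (X1 * 1)) = 1) (hr2 : X2 * (X2 * 1) = 1) (hr3 : X2 * (X1 * (X2 * (X1 * 1))) = 1) (hr4 : X2 * (X0 * (X2⁻¹ * (X0⁻¹ * 1))) = 1) (hr5 : X0 * (X1 * (X0 * (X1⁻¹ * (X0⁻¹ * (X1 * (X0⁻¹ * (X1⁻¹ * 1))))))) = 1) : g6 X0 X1 X2 * X0 = g12 X0 X1 X2 :=
  deduce (path_cons (E_1_2 X0 X1 X2) (path_nil (g6 X0 X1 X2))) (path_cons (inv_edge (E_4_2 X0 X1 X2)) (path_cons (inv_edge (E_1_0 X0 X1 X2)) (path_nil (g1 X0 X1 X2)))) (rel_4_1 X0 X1 X2 hr0 hr1 hr2 hr3 hr4 hr5)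
theorem E_9_0 (X0 X1 X2 : M) (hr0 : X0 * (X0 * (X0 * 1)) = 1) (hr1 : X1 * (X1 * (X1 * 1)) = 1) (hr2 : X2 * (X2 * 1) = 1) (hr3 : X2 * (X1 * (X2 * (X1 * 1))) = 1) (hr4 : X2 * (X0 * (X2⁻¹ * (X0⁻¹ * 1))) = 1) (hr5 : X0 * (X1 * (X0 * (X1⁻¹ * (X0⁻¹ * (X1 * (X0⁻¹ * (X1⁻¹ * 1))))))) = 1) : g9 X0 X1 X2 * X0 = g19 X0 X1 X2 :=
  deduce (path_cons (E_2_2 X0 X1 X2) (path_nil (g9 X0 X1 X2))) (path_cons (inv_edge (E_7_2 X0 X1 X2)) (path_cons (inv_edge (E_2_0 X0 X1 X2)) (path_nil (g2 X0 X1 X2)))) (rel_4_1 X0 X1 X2 hr0 hr1 hr2 hr3 hr4 hr5)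
theorem E_12_0 (X0 X1 X2 : M) (hr0 : X0 * (X0 * (X0 * 1)) = 1) (hr1 : X1 * (X1 * (X1 * 1)) = 1) (hr2 : X2 * (X2 * 1) = 1) (hr3 : X2 * (X1 * (X2 * (X1 * 1))) = 1) (hr4 : X2 * (X0 * (X2⁻¹ * (X0⁻¹ * 1))) = 1) (hr5 : X0 * (X1 * (X0 * (X1⁻¹ * (X0⁻¹ * (X1 * (X0⁻¹ * (X1⁻¹ * 1))))))) = 1) : g12 X0 X1 X2 * X0 = g3 X0 X1 X2 :=
  deduce (path_cons (E_4_2 X0 X1 X2) (path_nil (g12 X0 X1 X2))) (path_cons (inv_edge (E_0_2 X0 X1 X2)) (path_cons (inv_edge (E_4_0 X0 X1 X2 hr0 hr1 hr2 hr3 hr4 hr5)) (path_nil (g4 X0 X1 X2)))) (rel_4_1 X0 X1 X2 hr0 hr1 hr2 hr3 hr4 hr5)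
theorem E_15_0 (X0 X1 X2 : M) (hr0 : X0 * (X0 * (X0 * 1)) = 1) (hr1 : X1 * (X1 * (X1 * 1)) = 1) (hr2 : X2 * (X2 * 1) = 1) (hr3 : X2 * (X1 * (X2 * (X1 * 1))) = 1) (hr4 : X2 * (X0 * (X2⁻¹ * (X0⁻¹ * 1))) = 1) (hr5 : X0 * (X1 * (X0 * (X1⁻¹ * (X0⁻¹ * (X1 * (X0⁻¹ * (X1⁻¹ * 1))))))) = 1) : g15 X0 X1 X2 * X0 = g28 X0 X1 X2 :=
  deduce (path_cons (E_5_2 X0 X1 X2) (path_nil (g15 X0 X1 X2))) (path_cons (inv_edge (E_13_2 X0 X1 X2)) (path_cons (inv_edge (E_5_0 X0 X1 X2)) (path_nil (g5 X0 X1 X2)))) (rel_4_1 X0 X1 X2 hr0 hr1 hr2 hr3 hr4 hr5)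
theorem E_19_0 (X0 X1 X2 : M) (hr0 : X0 * (X0 * (X0 * 1)) = 1) (hr1 : X1 * (X1 * (X1 * 1)) = 1) (hr2 : X2 * (X2 * 1) = 1) (hr3 : X2 * (X1 * (X2 * (X1 * 1))) = 1) (hr4 : X2 * (X0 * (X2⁻¹ * (X0⁻¹ * 1))) = 1) (hr5 : X0 * (X1 * (X0 * (X1⁻¹ * (X0⁻¹ * (X1 * (X0⁻¹ * (X1⁻¹ * 1))))))) = 1) : g19 X0 X1 X2 * X0 = g32 X0 X1 X2 :=
  deduce (path_cons (E_7_2 X0 X1 X2) (path_nil (g19 X0 X1 X2))) (path_cons (inv_edge (E_17_2 X0 X1 X2)) (path_cons (inv_edge (E_7_0 X0 X1 X2)) (path_nil (g7 X0 X1 X2)))) (rel_4_1 X0 X1 X2 hr0 hr1 hr2 hr3 hr4 hr5)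
theorem E_21_2 (X0 X1 X2 : M) (hr0 : X0 * (X0 * (X0 * 1)) = 1) (hr1 : X1 * (X1 * (X1 * 1)) = 1) (hr2 : X2 * (X2 * 1) = 1) (hr3 : X2 * (X1 * (X2 * (X1 * 1))) = 1) (hr4 : X2 * (X0 * (X2⁻¹ * (X0⁻¹ * 1))) = 1) (hr5 : X0 * (X1 * (X0 * (X1⁻¹ * (X0⁻¹ * (X1 * (X0⁻¹ * (X1⁻¹ * 1))))))) = 1) : g21 X0 X1 X2 * X2 = g20 X0 X1 X2 :=
  edge_of_inv (deduce (path_cons (E_10_2 X0 X1 X2 hr0 hr1 hr2 hr3 hr4 hr5) (path_cons (E_8_0 X0 X1 X2) (path_nil (g20 X0 X1 X2)))) (path_cons (inv_edge (E_10_0 X0 X1 X2)) (path_nil (g10 X0 X1 X2))) (rel_4_2 X0 X1 X2 hr0 hr1 hr2 hr3 hr4 hr5))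
theorem E_24_0 (X0 X1 X2 : M) (hr0 : X0 * (X0 * (X0 * 1)) = 1) (hr1 : X1 * (X1 * (X1 * 1)) = 1) (hr2 : X2 * (X2 * 1) = 1) (hr3 : X2 * (X1 * (X2 * (X1 * 1))) = 1) (hr4 : X2 * (X0 * (X2⁻¹ * (X0⁻¹ * 1))) = 1) (hr5 : X0 * (X1 * (X0 * (X1⁻¹ * (X0⁻¹ * (X1 * (X0⁻¹ * (X1⁻¹ * 1))))))) = 1) : g24 X0 X1 X2 * X0 = g43 X0 X1 X2 :=
  deduce (path_cons (E_11_2 X0 X1 X2) (path_nil (g24 X0 X1 X2))) (path_cons (inv_edge (E_22_2 X0 X1 X2)) (path_cons (inv_edge (E_11_0 X0 X1 X2)) (path_nil (g11 X0 X1 X2)))) (rel_4_1 X0 X1 X2 hr0 hr1 hr2 hr3 hr4 hr5)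
theorem E_28_0 (X0 X1 X2 : M) (hr0 : X0 * (X0 * (X0 * 1)) = 1) (hr1 : X1 * (X1 * (X1 * 1)) = 1) (hr2 : X2 * (X2 * 1) = 1) (hr3 : X2 * (X1 * (X2 * (X1 * 1))) = 1) (hr4 : X2 * (X0 * (X2⁻¹ * (X0⁻¹ * 1))) = 1) (hr5 : X0 * (X1 * (X0 * (X1⁻¹ * (X0⁻¹ * (X1 * (X0⁻¹ * (X1⁻¹ * 1))))))) = 1) : g28 X0 X1 X2 * X0 = g47 X0 X1 X2 :=
  deduce (path_cons (E_13_2 X0 X1 X2) (path_nil (g28 X0 X1 X2))) (path_cons (inv_edge (E_26_2 X0 X1 X2)) (path_cons (inv_edge (E_13_0 X0 X1 X2)) (path_nil (g13 X0 X1 X2)))) (rel_4_1 X0 X1 X2 hr0 hr1 hr2 hr3 hr4 hr5)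
theorem E_30_2 (X0 X1 X2 : M) (hr0 : X0 * (X0 * (X0 * 1)) = 1) (hr1 : X1 * (X1 * (X1 * 1)) = 1) (hr2 : X2 * (X2 * 1) = 1) (hr3 : X2 * (X1 * (X2 * (X1 * 1))) = 1) (hr4 : X2 * (X0 * (X2⁻¹ * (X0⁻¹ * 1))) = 1) (hr5 : X0 * (X1 * (X0 * (X1⁻¹ * (X0⁻¹ * (X1 * (X0⁻¹ * (X1⁻¹ * 1))))))) = 1) : g30 X0 X1 X2 * X2 = g29 X0 X1 X2 :=
  edge_of_inv (deduce (path_cons (E_16_2 X0 X1 X2 hr0 hr1 hr2 hr3 hr4 hr5) (path_cons (E_14_0 X0 X1 X2) (path_nil (g29 X0 X1 X2)))) (path_cons (inv_edge (E_16_0 X0 X1 X2)) (path_nil (g16 X0 X1 X2))) (rel_4_2 X0 X1 X2 hr0 hr1 hr2 hr3 hr4 hr5))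
theorem E_32_0 (X0 X1 X2 : M) (hr0 : X0 * (X0 * (X0 * 1)) = 1) (hr1 : X1 * (X1 * (X1 * 1)) = 1) (hr2 : X2 * (X2 * 1) = 1) (hr3 : X2 * (X1 * (X2 * (X1 * 1))) = 1) (hr4 : X2 * (X0 * (X2⁻¹ * (X0⁻¹ * 1))) = 1) (hr5 : X0 * (X1 * (X0 * (X1⁻¹ * (X0⁻¹ * (X1 * (X0⁻¹ * (X1⁻¹ * 1))))))) = 1) : g32 X0 X1 X2 * X0 = g9 X0 X1 X2 :=
  deduce (path_cons (E_17_2 X0 X1 X2) (path_nil (g32 X0 X1 X2))) (path_cons (inv_edge (E_2_2 X0 X1 X2)) (path_cons (inv_edge (E_17_0 X0 X1 X2 hr0 hr1 hr2 hr3 hr4 hr5)) (path_nil (g17 X0 X1 X2)))) (rel_4_1 X0 X1 X2 hr0 hr1 hr2 hr3 hr4 hr5)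
theorem E_35_0 (X0 X1 X2 : M) (hr0 : X0 * (X0 * (X0 * 1)) = 1) (hr1 : X1 * (X1 * (X1 * 1)) = 1) (hr2 : X2 * (X2 * 1) = 1) (hr3 : X2 * (X1 * (X2 * (X1 * 1))) = 1) (hr4 : X2 * (X0 * (X2⁻¹ * (X0⁻¹ * 1))) = 1) (hr5 : X0 * (X1 * (X0 * (X1⁻¹ * (X0⁻¹ * (X1 * (X0⁻¹ * (X1⁻¹ * 1))))))) = 1) : g35 X0 X1 X2 * X0 = g62 X0 X1 X2 :=
  deduce (path_cons (E_18_2 X0 X1 X2) (path_nil (g35 X0 X1 X2))) (path_cons (inv_edge (E_33_2 X0 X1 X2)) (path_cons (inv_edge (E_18_0 X0 X1 X2)) (path_nil (g18 X0 X1 X2)))) (rel_4_1 X0 X1 X2 hr0 hr1 hr2 hr3 hr4 hr5)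
theorem E_39_2 (X0 X1 X2 : M) (hr0 : X0 * (X0 * (X0 * 1)) = 1) (hr1 : X1 * (X1 * (X1 * 1)) = 1) (hr2 : X2 * (X2 * 1) = 1) (hr3 : X2 * (X1 * (X2 * (X1 * 1))) = 1) (hr4 : X2 * (X0 * (X2⁻¹ * (X0⁻¹ * 1))) = 1) (hr5 : X0 * (X1 * (X0 * (X1⁻¹ * (X0⁻¹ * (X1 * (X0⁻¹ * (X1⁻¹ * 1))))))) = 1) : g39 X0 X1 X2 * X2 = g37 X0 X1 X2 :=
  edge_of_inv (deduce (path_cons (E_21_2 X0 X1 X2 hr0 hr1 hr2 hr3 hr4 hr5) (path_cons (E_20_0 X0 X1 X2) (path_nil (g37 X0 X1 X2)))) (path_cons (inv_edge (E_21_0 X0 X1 X2)) (path_nil (g21 X0 X1 X2))) (rel_4_2 X0 X1 X2 hr0 hr1 hr2 hr3 hr4 hr5))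
theorem E_43_0 (X0 X1 X2 : M) (hr0 : X0 * (X0 * (X0 * 1)) = 1) (hr1 : X1 * (X1 * (X1 * 1)) = 1) (hr2 : X2 * (X2 * 1) = 1) (hr3 : X2 * (X1 * (X2 * (X1 * 1))) = 1) (hr4 : X2 * (X0 * (X2⁻¹ * (X0⁻¹ * 1))) = 1) (hr5 : X0 * (X1 * (X0 * (X1⁻¹ * (X0⁻¹ * (X1 * (X0⁻¹ * (X1⁻¹ * 1))))))) = 1) : g43 X0 X1 X2 * X0 = g69 X0 X1 X2 :=
  deduce (path_cons (E_22_2 X0 X1 X2) (path_nil (g43 X0 X1 X2))) (path_cons (inv_edge (E_41_2 X0 X1 X2)) (path_cons (inv_edge (E_22_0 X0 X1 X2)) (path_nil (g22 X0 X1 X2)))) (rel_4_1 X0 X1 X2 hr0 hr1 hr2 hr3 hr4 hr5)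
theorem E_45_2 (X0 X1 X2 : M) (hr0 : X0 * (X0 * (X0 * 1)) = 1) (hr1 : X1 * (X1 * (X1 * 1)) = 1) (hr2 : X2 * (X2 * 1) = 1) (hr3 : X2 * (X1 * (X2 * (X1 * 1))) = 1) (hr4 : X2 * (X0 * (X2⁻¹ * (X0⁻¹ * 1))) = 1) (hr5 : X0 * (X1 * (X0 * (X1⁻¹ * (X0⁻¹ * (X1 * (X0⁻¹ * (X1⁻¹ * 1))))))) = 1) : g45 X0 X1 X2 * X2 = g44 X0 X1 X2 :=
  edge_of_inv (deduce (path_cons (E_25_2 X0 X1 X2 hr0 hr1 hr2 hr3 hr4 hr5) (path_cons (E_23_0 X0 X1 X2) (path_nil (g44 X0 X1 X2)))) (path_cons (inv_edge (E_25_0 X0 X1 X2)) (path_nil (g25 X0 X1 X2))) (rel_4_2 X0 X1 X2 hr0 hr1 hr2 hr3 hr4 hr5))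
theorem E_47_0 (X0 X1 X2 : M) (hr0 : X0 * (X0 * (X0 * 1)) = 1) (hr1 : X1 * (X1 * (X1 * 1)) = 1) (hr2 : X2 * (X2 * 1) = 1) (hr3 : X2 * (X1 * (X2 * (X1 * 1))) = 1) (hr4 : X2 * (X0 * (X2⁻¹ * (X0⁻¹ * 1))) = 1) (hr5 : X0 * (X1 * (X0 * (X1⁻¹ * (X0⁻¹ * (X1 * (X0⁻¹ * (X1⁻¹ * 1))))))) = 1) : g47 X0 X1 X2 * X0 = g15 X0 X1 X2 :=
  deduce (path_cons (E_26_2 X0 X1 X2) (path_nil (g47 X0 X1 X2))) (path_cons (inv_edge (E_5_2 X0 X1 X2)) (path_cons (inv_edge (E_26_0 X0 X1 X2 hr0 hr1 hr2 hr3 hr4 hr5)) (path_nil (g26 X0 X1 X2)))) (rel_4_1 X0 X1 X2 hr0 hr1 hr2 hr3 hr4 hr5)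
theorem E_50_0 (X0 X1 X2 : M) (hr0 : X0 * (X0 * (X0 * 1)) = 1) (hr1 : X1 * (X1 * (X1 * 1)) = 1) (hr2 : X2 * (X2 * 1) = 1) (hr3 : X2 * (X1 * (X2 * (X1 * 1))) = 1) (hr4 : X2 * (X0 * (X2⁻¹ * (X0⁻¹ * 1))) = 1) (hr5 : X0 * (X1 * (X0 * (X1⁻¹ * (X0⁻¹ * (X1 * (X0⁻¹ * (X1⁻¹ * 1))))))) = 1) : g50 X0 X1 X2 * X0 = g84 X0 X1 X2 :=
  deduce (path_cons (E_27_2 X0 X1 X2) (path_nil (g50 X0 X1 X2))) (path_cons (inv_edge (E_48_2 X0 X1 X2)) (path_cons (inv_edge (E_27_0 X0 X1 X2)) (path_nil (g27 X0 X1 X2)))) (rel_4_1 X0 X1 X2 hr0 hr1 hr2 hr3 hr4 hr5)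
theorem E_54_2 (X0 X1 X2 : M) (hr0 : X0 * (X0 * (X0 * 1)) = 1) (hr1 : X1 * (X1 * (X1 * 1)) = 1) (hr2 : X2 * (X2 * 1) = 1) (hr3 : X2 * (X1 * (X2 * (X1 * 1))) = 1) (hr4 : X2 * (X0 * (X2⁻¹ * (X0⁻¹ * 1))) = 1) (hr5 : X0 * (X1 * (X0 * (X1⁻¹ * (X0⁻¹ * (X1 * (X0⁻¹ * (X1⁻¹ * 1))))))) = 1) : g54 X0 X1 X2 * X2 = g52 X0 X1 X2 :=
  edge_of_inv (deduce (path_cons (E_30_2 X0 X1 X2 hr0 hr1 hr2 hr3 hr4 hr5) (path_cons (E_29_0 X0 X1 X2) (path_nil (g52 X0 X1 X2)))) (path_cons (inv_edge (E_30_0 X0 X1 X2)) (path_nil (g30 X0 X1 X2))) (rel_4_2 X0 X1 X2 hr0 hr1 hr2 hr3 hr4 hr5))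
theorem E_58_0 (X0 X1 X2 : M) (hr0 : X0 * (X0 * (X0 * 1)) = 1) (hr1 : X1 * (X1 * (X1 * 1)) = 1) (hr2 : X2 * (X2 * 1) = 1) (hr3 : X2 * (X1 * (X2 * (X1 * 1))) = 1) (hr4 : X2 * (X0 * (X2⁻¹ * (X0⁻¹ * 1))) = 1) (hr5 : X0 * (X1 * (X0 * (X1⁻¹ * (X0⁻¹ * (X1 * (X0⁻¹ * (X1⁻¹ * 1))))))) = 1) : g58 X0 X1 X2 * X0 = g92 X0 X1 X2 :=
  deduce (path_cons (E_31_2 X0 X1 X2) (path_nil (g58 X0 X1 X2))) (path_cons (inv_edge (E_56_2 X0 X1 X2)) (path_cons (inv_edge (E_31_0 X0 X1 X2)) (path_nil (g31 X0 X1 X2)))) (rel_4_1 X0 X1 X2 hr0 hr1 hr2 hr3 hr4 hr5)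
theorem E_62_0 (X0 X1 X2 : M) (hr0 : X0 * (X0 * (X0 * 1)) = 1) (hr1 : X1 * (X1 * (X1 * 1)) = 1) (hr2 : X2 * (X2 * 1) = 1) (hr3 : X2 * (X1 * (X2 * (X1 * 1))) = 1) (hr4 : X2 * (X0 * (X2⁻¹ * (X0⁻¹ * 1))) = 1) (hr5 : X0 * (X1 * (X0 * (X1⁻¹ * (X0⁻¹ * (X1 * (X0⁻¹ * (X1⁻¹ * 1))))))) = 1) : g62 X0 X1 X2 * X0 = g94 X0 X1 X2 :=
  deduce (path_cons (E_33_2 X0 X1 X2) (path_nil (g62 X0 X1 X2))) (path_cons (inv_edge (E_60_2 X0 X1 X2)) (path_cons (inv_edge (E_33_0 X0 X1 X2)) (path_nil (g33 X0 X1 X2)))) (rel_4_1 X0 X1 X2 hr0 hr1 hr2 hr3 hr4 hr5)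
theorem E_69_0 (X0 X1 X2 : M) (hr0 : X0 * (X0 * (X0 * 1)) = 1) (hr1 : X1 * (X1 * (X1 * 1)) = 1) (hr2 : X2 * (X2 * 1) = 1) (hr3 : X2 * (X1 * (X2 * (X1 * 1))) = 1) (hr4 : X2 * (X0 * (X2⁻¹ * (X0⁻¹ * 1))) = 1) (hr5 : X0 * (X1 * (X0 * (X1⁻¹ * (X0⁻¹ * (X1 * (X0⁻¹ * (X1⁻¹ * 1))))))) = 1) : g69 X0 X1 X2 * X0 = g24 X0 X1 X2 :=
  deduce (path_cons (E_41_2 X0 X1 X2) (path_nil (g69 X0 X1 X2))) (path_cons (inv_edge (E_11_2 X0 X1 X2)) (path_cons (inv_edge (E_41_0 X0 X1 X2 hr0 hr1 hr2 hr3 hr4 hr5)) (path_nil (g41 X0 X1 X2)))) (rel_4_1 X0 X1 X2 hr0 hr1 hr2 hr3 hr4 hr5)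
theorem E_72_0 (X0 X1 X2 : M) (hr0 : X0 * (X0 * (X0 * 1)) = 1) (hr1 : X1 * (X1 * (X1 * 1)) = 1) (hr2 : X2 * (X2 * 1) = 1) (hr3 : X2 * (X1 * (X2 * (X1 * 1))) = 1) (hr4 : X2 * (X0 * (X2⁻¹ * (X0⁻¹ * 1))) = 1) (hr5 : X0 * (X1 * (X0 * (X1⁻¹ * (X0⁻¹ * (X1 * (X0⁻¹ * (X1⁻¹ * 1))))))) = 1) : g72 X0 X1 X2 * X0 = g107 X0 X1 X2 :=
  deduce (path_cons (E_42_2 X0 X1 X2) (path_nil (g72 X0 X1 X2))) (path_cons (inv_edge (E_70_2 X0 X1 X2)) (path_cons (inv_edge (E_42_0 X0 X1 X2)) (path_nil (g42 X0 X1 X2)))) (rel_4_1 X0 X1 X2 hr0 hr1 hr2 hr3 hr4 hr5)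
theorem E_76_2 (X0 X1 X2 : M) (hr0 : X0 * (X0 * (X0 * 1)) = 1) (hr1 : X1 * (X1 * (X1 * 1)) = 1) (hr2 : X2 * (X2 * 1) = 1) (hr3 : X2 * (X1 * (X2 * (X1 * 1))) = 1) (hr4 : X2 * (X0 * (X2⁻¹ * (X0⁻¹ * 1))) = 1) (hr5 : X0 * (X1 * (X0 * (X1⁻¹ * (X0⁻¹ * (X1 * (X0⁻¹ * (X1⁻¹ * 1))))))) = 1) : g76 X0 X1 X2 * X2 = g74 X0 X1 X2 :=
  edge_of_inv (deduce (path_cons (E_45_2 X0 X1 X2 hr0 hr1 hr2 hr3 hr4 hr5) (path_cons (E_44_0 X0 X1 X2) (path_nil (g74 X0 X1 X2)))) (path_cons (inv_edge (E_45_0 X0 X1 X2)) (path_nil (g45 X0 X1 X2))) (rel_4_2 X0 X1 X2 hr0 hr1 hr2 hr3 hr4 hr5))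
theorem E_80_0 (X0 X1 X2 : M) (hr0 : X0 * (X0 * (X0 * 1)) = 1) (hr1 : X1 * (X1 * (X1 * 1)) = 1) (hr2 : X2 * (X2 * 1) = 1) (hr3 : X2 * (X1 * (X2 * (X1 * 1))) = 1) (hr4 : X2 * (X0 * (X2⁻¹ * (X0⁻¹ * 1))) = 1) (hr5 : X0 * (X1 * (X0 * (X1⁻¹ * (X0⁻¹ * (X1 * (X0⁻¹ * (X1⁻¹ * 1))))))) = 1) : g80 X0 X1 X2 * X0 = g115 X0 X1 X2 :=
  deduce (path_cons (E_46_2 X0 X1 X2) (path_nil (g80 X0 X1 X2))) (path_cons (inv_edge (E_78_2 X0 X1 X2)) (path_cons (inv_edge (E_46_0 X0 X1 X2)) (path_nil (g46 X0 X1 X2)))) (rel_4_1 X0 X1 X2 hr0 hr1 hr2 hr3 hr4 hr5)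
theorem E_84_0 (X0 X1 X2 : M) (hr0 : X0 * (X0 * (X0 * 1)) = 1) (hr1 : X1 * (X1 * (X1 * 1)) = 1) (hr2 : X2 * (X2 * 1) = 1) (hr3 : X2 * (X1 * (X2 * (X1 * 1))) = 1) (hr4 : X2 * (X0 * (X2⁻¹ * (X0⁻¹ * 1))) = 1) (hr5 : X0 * (X1 * (X0 * (X1⁻¹ * (X0⁻¹ * (X1 * (X0⁻¹ * (X1⁻¹ * 1))))))) = 1) : g84 X0 X1 X2 * X0 = g117 X0 X1 X2 :=
  deduce (path_cons (E_48_2 X0 X1 X2) (path_nil (g84 X0 X1 X2))) (path_cons (inv_edge (E_82_2 X0 X1 X2)) (path_cons (inv_edge (E_48_0 X0 X1 X2)) (path_nil (g48 X0 X1 X2)))) (rel_4_1 X0 X1 X2 hr0 hr1 hr2 hr3 hr4 hr5)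
theorem E_92_0 (X0 X1 X2 : M) (hr0 : X0 * (X0 * (X0 * 1)) = 1) (hr1 : X1 * (X1 * (X1 * 1)) = 1) (hr2 : X2 * (X2 * 1) = 1) (hr3 : X2 * (X1 * (X2 * (X1 * 1))) = 1) (hr4 : X2 * (X0 * (X2⁻¹ * (X0⁻¹ * 1))) = 1) (hr5 : X0 * (X1 * (X0 * (X1⁻¹ * (X0⁻¹ * (X1 * (X0⁻¹ * (X1⁻¹ * 1))))))) = 1) : g92 X0 X1 X2 * X0 = g125 X0 X1 X2 :=
  deduce (path_cons (E_56_2 X0 X1 X2) (path_nil (g92 X0 X1 X2))) (path_cons (inv_edge (E_90_2 X0 X1 X2)) (path_cons (inv_edge (E_56_0 X0 X1 X2)) (path_nil (g56 X0 X1 X2)))) (rel_4_1 X0 X1 X2 hr0 hr1 hr2 hr3 hr4 hr5)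
theorem E_94_0 (X0 X1 X2 : M) (hr0 : X0 * (X0 * (X0 * 1)) = 1) (hr1 : X1 * (X1 * (X1 * 1)) = 1) (hr2 : X2 * (X2 * 1) = 1) (hr3 : X2 * (X1 * (X2 * (X1 * 1))) = 1) (hr4 : X2 * (X0 * (X2⁻¹ * (X0⁻¹ * 1))) = 1) (hr5 : X0 * (X1 * (X0 * (X1⁻¹ * (X0⁻¹ * (X1 * (X0⁻¹ * (X1⁻¹ * 1))))))) = 1) : g94 X0 X1 X2 * X0 = g35 X0 X1 X2 :=
  deduce (path_cons (E_60_2 X0 X1 X2) (path_nil (g94 X0 X1 X2))) (path_cons (inv_edge (E_18_2 X0 X1 X2)) (path_cons (inv_edge (E_60_0 X0 X1 X2 hr0 hr1 hr2 hr3 hr4 hr5)) (path_nil (g60 X0 X1 X2)))) (rel_4_1 X0 X1 X2 hr0 hr1 hr2 hr3 hr4 hr5)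
theorem E_103_0 (X0 X1 X2 : M) (hr0 : X0 * (X0 * (X0 * 1)) = 1) (hr1 : X1 * (X1 * (X1 * 1)) = 1) (hr2 : X2 * (X2 * 1) = 1) (hr3 : X2 * (X1 * (X2 * (X1 * 1))) = 1) (hr4 : X2 * (X0 * (X2⁻¹ * (X0⁻¹ * 1))) = 1) (hr5 : X0 * (X1 * (X0 * (X1⁻¹ * (X0⁻¹ * (X1 * (X0⁻¹ * (X1⁻¹ * 1))))))) = 1) : g103 X0 X1 X2 * X0 = g133 X0 X1 X2 :=
  deduce (path_cons (E_68_2 X0 X1 X2) (path_nil (g103 X0 X1 X2))) (path_cons (inv_edge (E_101_2 X0 X1 X2)) (path_cons (inv_edge (E_68_0 X0 X1 X2)) (path_nil (g68 X0 X1 X2)))) (rel_4_1 X0 X1 X2 hr0 hr1 hr2 hr3 hr4 hr5)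
theorem E_107_0 (X0 X1 X2 : M) (hr0 : X0 * (X0 * (X0 * 1)) = 1) (hr1 : X1 * (X1 * (X1 * 1)) = 1) (hr2 : X2 * (X2 * 1) = 1) (hr3 : X2 * (X1 * (X2 * (X1 * 1))) = 1) (hr4 : X2 * (X0 * (X2⁻¹ * (X0⁻¹ * 1))) = 1) (hr5 : X0 * (X1 * (X0 * (X1⁻¹ * (X0⁻¹ * (X1 * (X0⁻¹ * (X1⁻¹ * 1))))))) = 1) : g107 X0 X1 X2 * X0 = g135 X0 X1 X2 :=
  deduce (path_cons (E_70_2 X0 X1 X2) (path_nil (g107 X0 X1 X2))) (path_cons (inv_edge (E_105_2 X0 X1 X2)) (path_cons (inv_edge (E_70_0 X0 X1 X2)) (path_nil (g70 X0 X1 X2)))) (rel_4_1 X0 X1 X2 hr0 hr1 hr2 hr3 hr4 hr5)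
theorem E_115_0 (X0 X1 X2 : M) (hr0 : X0 * (X0 * (X0 * 1)) = 1) (hr1 : X1 * (X1 * (X1 * 1)) = 1) (hr2 : X2 * (X2 * 1) = 1) (hr3 : X2 * (X1 * (X2 * (X1 * 1))) = 1) (hr4 : X2 * (X0 * (X2⁻¹ * (X0⁻¹ * 1))) = 1) (hr5 : X0 * (X1 * (X0 * (X1⁻¹ * (X0⁻¹ * (X1 * (X0⁻¹ * (X1⁻¹ * 1))))))) = 1) : g115 X0 X1 X2 * X0 = g143 X0 X1 X2 :=
  deduce (path_cons (E_78_2 X0 X1 X2) (path_nil (g115 X0 X1 X2))) (path_cons (inv_edge (E_113_2 X0 X1 X2)) (path_cons (inv_edge (E_78_0 X0 X1 X2)) (path_nil (g78 X0 X1 X2)))) (rel_4_1 X0 X1 X2 hr0 hr1 hr2 hr3 hr4 hr5)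
theorem E_117_0 (X0 X1 X2 : M) (hr0 : X0 * (X0 * (X0 * 1)) = 1) (hr1 : X1 * (X1 * (X1 * 1)) = 1) (hr2 : X2 * (X2 * 1) = 1) (hr3 : X2 * (X1 * (X2 * (X1 * 1))) = 1) (hr4 : X2 * (X0 * (X2⁻¹ * (X0⁻¹ * 1))) = 1) (hr5 : X0 * (X1 * (X0 * (X1⁻¹ * (X0⁻¹ * (X1 * (X0⁻¹ * (X1⁻¹ * 1))))))) = 1) : g117 X0 X1 X2 * X0 = g50 X0 X1 X2 :=
  deduce (path_cons (E_82_2 X0 X1 X2) (path_nil (g117 X0 X1 X2))) (path_cons (inv_edge (E_27_2 X0 X1 X2)) (path_cons (inv_edge (E_82_0 X0 X1 X2 hr0 hr1 hr2 hr3 hr4 hr5)) (path_nil (g82 X0 X1 X2)))) (rel_4_1 X0 X1 X2 hr0 hr1 hr2 hr3 hr4 hr5)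
theorem E_125_0 (X0 X1 X2 : M) (hr0 : X0 * (X0 * (X0 * 1)) = 1) (hr1 : X1 * (X1 * (X1 * 1)) = 1) (hr2 : X2 * (X2 * 1) = 1) (hr3 : X2 * (X1 * (X2 * (X1 * 1))) = 1) (hr4 : X2 * (X0 * (X2⁻¹ * (X0⁻¹ * 1))) = 1) (hr5 : X0 * (X1 * (X0 * (X1⁻¹ * (X0⁻¹ * (X1 * (X0⁻¹ * (X1⁻¹ * 1))))))) = 1) : g125 X0 X1 X2 * X0 = g58 X0 X1 X2 :=
  deduce (path_cons (E_90_2 X0 X1 X2) (path_nil (g125 X0 X1 X2))) (path_cons (inv_edge (E_31_2 X0 X1 X2)) (path_cons (inv_edge (E_90_0 X0 X1 X2 hr0 hr1 hr2 hr3 hr4 hr5)) (path_nil (g90 X0 X1 X2)))) (rel_4_1 X0 X1 X2 hr0 hr1 hr2 hr3 hr4 hr5)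
theorem E_133_0 (X0 X1 X2 : M) (hr0 : X0 * (X0 * (X0 * 1)) = 1) (hr1 : X1 * (X1 * (X1 * 1)) = 1) (hr2 : X2 * (X2 * 1) = 1) (hr3 : X2 * (X1 * (X2 * (X1 * 1))) = 1) (hr4 : X2 * (X0 * (X2⁻¹ * (X0⁻¹ * 1))) = 1) (hr5 : X0 * (X1 * (X0 * (X1⁻¹ * (X0⁻¹ * (X1 * (X0⁻¹ * (X1⁻¹ * 1))))))) = 1) : g133 X0 X1 X2 * X0 = g152 X0 X1 X2 :=
  deduce (path_cons (E_101_2 X0 X1 X2) (path_nil (g133 X0 X1 X2))) (path_cons (inv_edge (E_131_2 X0 X1 X2)) (path_cons (inv_edge (E_101_0 X0 X1 X2)) (path_nil (g101 X0 X1 X2)))) (rel_4_1 X0 X1 X2 hr0 hr1 hr2 hr3 hr4 hr5)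
theorem E_135_0 (X0 X1 X2 : M) (hr0 : X0 * (X0 * (X0 * 1)) = 1) (hr1 : X1 * (X1 * (X1 * 1)) = 1) (hr2 : X2 * (X2 * 1) = 1) (hr3 : X2 * (X1 * (X2 * (X1 * 1))) = 1) (hr4 : X2 * (X0 * (X2⁻¹ * (X0⁻¹ * 1))) = 1) (hr5 : X0 * (X1 * (X0 * (X1⁻¹ * (X0⁻¹ * (X1 * (X0⁻¹ * (X1⁻¹ * 1))))))) = 1) : g135 X0 X1 X2 * X0 = g72 X0 X1 X2 :=
  deduce (path_cons (E_105_2 X0 X1 X2) (path_nil (g135 X0 X1 X2))) (path_cons (inv_edge (E_42_2 X0 X1 X2)) (path_cons (inv_edge (E_105_0 X0 X1 X2 hr0 hr1 hr2 hr3 hr4 hr5)) (path_nil (g105 X0 X1 X2)))) (rel_4_1 X0 X1 X2 hr0 hr1 hr2 hr3 hr4 hr5)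
theorem E_143_0 (X0 X1 X2 : M) (hr0 : X0 * (X0 * (X0 * 1)) = 1) (hr1 : X1 * (X1 * (X1 * 1)) = 1) (hr2 : X2 * (X2 * 1) = 1) (hr3 : X2 * (X1 * (X2 * (X1 * 1))) = 1) (hr4 : X2 * (X0 * (X2⁻¹ * (X0⁻¹ * 1))) = 1) (hr5 : X0 * (X1 * (X0 * (X1⁻¹ * (X0⁻¹ * (X1 * (X0⁻¹ * (X1⁻¹ * 1))))))) = 1) : g143 X0 X1 X2 * X0 = g80 X0 X1 X2 :=
  deduce (path_cons (E_113_2 X0 X1 X2) (path_nil (g143 X0 X1 X2))) (path_cons (inv_edge (E_46_2 X0 X1 X2)) (path_cons (inv_edge (E_113_0 X0 X1 X2 hr0 hr1 hr2 hr3 hr4 hr5)) (path_nil (g113 X0 X1 X2)))) (rel_4_1 X0 X1 X2 hr0 hr1 hr2 hr3 hr4 hr5)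
theorem E_152_0 (X0 X1 X2 : M) (hr0 : X0 * (X0 * (X0 * 1)) = 1) (hr1 : X1 * (X1 * (X1 * 1)) = 1) (hr2 : X2 * (X2 * 1) = 1) (hr3 : X2 * (X1 * (X2 * (X1 * 1))) = 1) (hr4 : X2 * (X0 * (X2⁻¹ * (X0⁻¹ * 1))) = 1) (hr5 : X0 * (X1 * (X0 * (X1⁻¹ * (X0⁻¹ * (X1 * (X0⁻¹ * (X1⁻¹ * 1))))))) = 1) : g152 X0 X1 X2 * X0 = g103 X0 X1 X2 :=
  deduce (path_cons (E_131_2 X0 X1 X2) (path_nil (g152 X0 X1 X2))) (path_cons (inv_edge (E_68_2 X0 X1 X2)) (path_cons (inv_edge (E_131_0 X0 X1 X2 hr0 hr1 hr2 hr3 hr4 hr5)) (path_nil (g131 X0 X1 X2)))) (rel_4_1 X0 X1 X2 hr0 hr1 hr2 hr3 hr4 hr5)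
theorem E_34_0 (X0 X1 X2 : M) (hr0 : X0 * (X0 * (X0 * 1)) = 1) (hr1 : X1 * (X1 * (X1 * 1)) = 1) (hr2 : X2 * (X2 * 1) = 1) (hr3 : X2 * (X1 * (X2 * (X1 * 1))) = 1) (hr4 : X2 * (X0 * (X2⁻¹ * (X0⁻¹ * 1))) = 1) (hr5 : X0 * (X1 * (X0 * (X1⁻¹ * (X0⁻¹ * (X1 * (X0⁻¹ * (X1⁻¹ * 1))))))) = 1) : g34 X0 X1 X2 * X0 = g49 X0 X1 X2 :=
  edge_of_inv (deduce (path_cons (E_0_0 X0 X1 X2) (path_cons (E_1_1 X0 X1 X2) (path_cons (E_5_0 X0 X1 X2) (path_cons (inv_edge (E_49_1 X0 X1 X2 hr0 hr1 hr2 hr3 hr4 hr5)) (path_nil (g49 X0 X1 X2)))))) (path_cons (E_34_1 X0 X1 X2 hr0 hr1 hr2 hr3 hr4 hr5) (path_cons (inv_edge (E_2_0 X0 X1 X2)) (path_cons (inv_edge (E_0_1 X0 X1 X2)) (path_nil (g0 X0 X1 X2))))) (rel_5_4 X0 X1 X2 hr0 hr1 hr2 hr3 hr4 hr5))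
theorem E_49_0 (X0 X1 X2 : M) (hr0 : X0 * (X0 * (X0 * 1)) = 1) (hr1 : X1 * (X1 * (X1 * 1)) = 1) (hr2 : X2 * (X2 * 1) = 1) (hr3 : X2 * (X1 * (X2 * (X1 * 1))) = 1) (hr4 : X2 * (X0 * (X2⁻¹ * (X0⁻¹ * 1))) = 1) (hr5 : X0 * (X1 * (X0 * (X1⁻¹ * (X0⁻¹ * (X1 * (X0⁻¹ * (X1⁻¹ * 1))))))) = 1) : g49 X0 X1 X2 * X0 = g71 X0 X1 X2 :=
  edge_of_inv (deduce (path_cons (E_1_0 X0 X1 X2) (path_cons (E_4_1 X0 X1 X2) (path_cons (E_11_0 X0 X1 X2) (path_cons (inv_edge (E_71_1 X0 X1 X2 hr0 hr1 hr2 hr3 hr4 hr5)) (path_nil (g71 X0 X1 X2)))))) (path_cons (E_49_1 X0 X1 X2 hr0 hr1 hr2 hr3 hr4 hr5) (path_cons (inv_edge (E_5_0 X0 X1 X2)) (path_cons (inv_edge (E_1_1 X0 X1 X2)) (path_nil (g1 X0 X1 X2))))) (rel_5_4 X0 X1 X2 hr0 hr1 hr2 hr3 hr4 hr5))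
theorem E_64_0 (X0 X1 X2 : M) (hr0 : X0 * (X0 * (X0 * 1)) = 1) (hr1 : X1 * (X1 * (X1 * 1)) = 1) (hr2 : X2 * (X2 * 1) = 1) (hr3 : X2 * (X1 * (X2 * (X1 * 1))) = 1) (hr4 : X2 * (X0 * (X2⁻¹ * (X0⁻¹ * 1))) = 1) (hr5 : X0 * (X1 * (X0 * (X1⁻¹ * (X0⁻¹ * (X1 * (X0⁻¹ * (X1⁻¹ * 1))))))) = 1) : g64 X0 X1 X2 * X0 = g95 X0 X1 X2 :=
  edge_of_inv (deduce (path_cons (E_2_0 X0 X1 X2) (path_cons (E_7_1 X0 X1 X2) (path_cons (E_18_0 X0 X1 X2) (path_cons (inv_edge (E_95_1 X0 X1 X2 hr0 hr1 hr2 hr3 hr4 hr5)) (path_nil (g95 X0 X1 X2)))))) (path_cons (E_64_1 X0 X1 X2 hr0 hr1 hr2 hr3 hr4 hr5) (path_cons (inv_edge (E_8_0 X0 X1 X2)) (path_cons (inv_edge (E_2_1 X0 X1 X2)) (path_nil (g2 X0 X1 X2))))) (rel_5_4 X0 X1 X2 hr0 hr1 hr2 hr3 hr4 hr5))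
theorem E_71_0 (X0 X1 X2 : M) (hr0 : X0 * (X0 * (X0 * 1)) = 1) (hr1 : X1 * (X1 * (X1 * 1)) = 1) (hr2 : X2 * (X2 * 1) = 1) (hr3 : X2 * (X1 * (X2 * (X1 * 1))) = 1) (hr4 : X2 * (X0 * (X2⁻¹ * (X0⁻¹ * 1))) = 1) (hr5 : X0 * (X1 * (X0 * (X1⁻¹ * (X0⁻¹ * (X1 * (X0⁻¹ * (X1⁻¹ * 1))))))) = 1) : g71 X0 X1 X2 * X0 = g34 X0 X1 X2 :=
  edge_of_inv (deduce (path_cons (E_4_0 X0 X1 X2 hr0 hr1 hr2 hr3 hr4 hr5) (path_cons (E_0_1 X0 X1 X2) (path_cons (E_2_0 X0 X1 X2) (path_cons (inv_edge (E_34_1 X0 X1 X2 hr0 hr1 hr2 hr3 hr4 hr5)) (path_nil (g34 X0 X1 X2)))))) (path_cons (E_71_1 X0 X1 X2 hr0 hr1 hr2 hr3 hr4 hr5) (path_cons (inv_edge (E_11_0 X0 X1 X2)) (path_cons (inv_edge (E_4_1 X0 X1 X2)) (path_nil (g4 X0 X1 X2))))) (rel_5_4 X0 X1 X2 hr0 hr1 hr2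 hr3 hr4 hr5))
theorem E_86_0 (X0 X1 X2 : M) (hr0 : X0 * (X0 * (X0 * 1)) = 1) (hr1 : X1 * (X1 * (X1 * 1)) = 1) (hr2 : X2 * (X2 * 1) = 1) (hr3 : X2 * (X1 * (X2 * (X1 * 1))) = 1) (hr4 : X2 * (X0 * (X2⁻¹ * (X0⁻¹ * 1))) = 1) (hr5 : X0 * (X1 * (X0 * (X1⁻¹ * (X0⁻¹ * (X1 * (X0⁻¹ * (X1⁻¹ * 1))))))) = 1) : g86 X0 X1 X2 * X0 = g118 X0 X1 X2 :=
  edge_of_inv (deduce (path_cons (E_5_0 X0 X1 X2) (path_cons (E_13_1 X0 X1 X2) (path_cons (E_27_0 X0 X1 X2) (path_cons (inv_edge (E_118_1 X0 X1 X2 hr0 hr1 hr2 hr3 hr4 hr5)) (path_nil (g118 X0 X1 X2)))))) (path_cons (E_86_1 X0 X1 X2 hr0 hr1 hr2 hr3 hr4 hr5) (path_cons (inv_edge (E_14_0 X0 X1 X2)) (path_cons (inv_edge (E_5_1 X0 X1 X2)) (path_nil (g5 X0 X1 X2))))) (rel_5_4 X0 X1 X2 hr0 hr1 hr2 hr3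 hr4 hr5))
theorem E_95_0 (X0 X1 X2 : M) (hr0 : X0 * (X0 * (X0 * 1)) = 1) (hr1 : X1 * (X1 * (X1 * 1)) = 1) (hr2 : X2 * (X2 * 1) = 1) (hr3 : X2 * (X1 * (X2 * (X1 * 1))) = 1) (hr4 : X2 * (X0 * (X2⁻¹ * (X0⁻¹ * 1))) = 1) (hr5 : X0 * (X1 * (X0 * (X1⁻¹ * (X0⁻¹ * (X1 * (X0⁻¹ * (X1⁻¹ * 1))))))) = 1) : g95 X0 X1 X2 * X0 = g126 X0 X1 X2 :=
  edge_of_inv (deduce (path_cons (E_7_0 X0 X1 X2) (path_cons (E_17_1 X0 X1 X2) (path_cons (E_31_0 X0 X1 X2) (path_cons (inv_edge (E_126_1 X0 X1 X2 hr0 hr1 hr2 hr3 hr4 hr5)) (path_nil (g126 X0 X1 X2)))))) (path_cons (E_95_1 X0 X1 X2 hr0 hr1 hr2 hr3 hr4 hr5) (path_cons (inv_edge (E_18_0 X0 X1 X2)) (path_cons (inv_edge (E_7_1 X0 X1 X2)) (path_nil (g7 X0 X1 X2))))) (rel_5_4 X0 X1 X2 hr0 hr1 hr2 hr3 hr4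 hr5))
theorem E_38_0 (X0 X1 X2 : M) (hr0 : X0 * (X0 * (X0 * 1)) = 1) (hr1 : X1 * (X1 * (X1 * 1)) = 1) (hr2 : X2 * (X2 * 1) = 1) (hr3 : X2 * (X1 * (X2 * (X1 * 1))) = 1) (hr4 : X2 * (X0 * (X2⁻¹ * (X0⁻¹ * 1))) = 1) (hr5 : X0 * (X1 * (X0 * (X1⁻¹ * (X0⁻¹ * (X1 * (X0⁻¹ * (X1⁻¹ * 1))))))) = 1) : g38 X0 X1 X2 * X0 = g53 X0 X1 X2 :=
  deduce (path_cons (E_8_0 X0 X1 X2) (path_cons (E_20_1 X0 X1 X2) (path_nil (g38 X0 X1 X2)))) (path_cons (inv_edge (E_29_1 X0 X1 X2)) (path_cons (inv_edge (E_14_0 X0 X1 X2)) (path_cons (E_14_1 X0 X1 X2 hr0 hr1 hr2 hr3 hr4 hr5) (path_cons (inv_edge (E_0_0 X0 X1 X2)) (path_cons (inv_edge (E_8_1 X0 X1 X2 hr0 hr1 hr2 hr3 hr4 hr5)) (path_nil (g8 X0 X1 X2))))))) (rel_5_2 X0 X1 X2 hr0 hr1 hr2 hr3 hr4 hr5)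
theorem E_36_0 (X0 X1 X2 : M) (hr0 : X0 * (X0 * (X0 * 1)) = 1) (hr1 : X1 * (X1 * (X1 * 1)) = 1) (hr2 : X2 * (X2 * 1) = 1) (hr3 : X2 * (X1 * (X2 * (X1 * 1))) = 1) (hr4 : X2 * (X0 * (X2⁻¹ * (X0⁻¹ * 1))) = 1) (hr5 : X0 * (X1 * (X0 * (X1⁻¹ * (X0⁻¹ * (X1 * (X0⁻¹ * (X1⁻¹ * 1))))))) = 1) : g36 X0 X1 X2 * X0 = g51 X0 X1 X2 :=
  deduce (path_cons (E_9_0 X0 X1 X2 hr0 hr1 hr2 hr3 hr4 hr5) (path_cons (E_19_1 X0 X1 X2) (path_nil (g36 X0 X1 X2)))) (path_cons (inv_edge (E_28_1 X0 X1 X2)) (path_cons (inv_edge (E_15_0 X0 X1 X2 hr0 hr1 hr2 hr3 hr4 hr5)) (path_cons (E_15_1 X0 X1 X2 hr0 hr1 hr2 hr3 hr4 hr5) (path_cons (inv_edge (E_3_0 X0 X1 X2 hr0 hr1 hr2 hr3 hr4 hr5)) (path_cons (inv_edge (E_9_1 X0 X1 X2 hr0 hr1 hr2 hr3 hr4 hr5)) (path_nil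 (g9 X0 X1 X2))))))) (rel_5_2 X0 X1 X2 hr0 hr1 hr2 hr3 hr4 hr5)
theorem E_109_0 (X0 X1 X2 : M) (hr0 : X0 * (X0 * (X0 * 1)) = 1) (hr1 : X1 * (X1 * (X1 * 1)) = 1) (hr2 : X2 * (X2 * 1) = 1) (hr3 : X2 * (X1 * (X2 * (X1 * 1))) = 1) (hr4 : X2 * (X0 * (X2⁻¹ * (X0⁻¹ * 1))) = 1) (hr5 : X0 * (X1 * (X0 * (X1⁻¹ * (X0⁻¹ * (X1 * (X0⁻¹ * (X1⁻¹ * 1))))))) = 1) : g109 X0 X1 X2 * X0 = g136 X0 X1 X2 :=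
  edge_of_inv (deduce (path_cons (E_11_0 X0 X1 X2) (path_cons (E_22_1 X0 X1 X2) (path_cons (E_42_0 X0 X1 X2) (path_cons (inv_edge (E_136_1 X0 X1 X2 hr0 hr1 hr2 hr3 hr4 hr5)) (path_nil (g136 X0 X1 X2)))))) (path_cons (E_109_1 X0 X1 X2 hr0 hr1 hr2 hr3 hr4 hr5) (path_cons (inv_edge (E_23_0 X0 X1 X2)) (path_cons (inv_edge (E_11_1 X0 X1 X2)) (path_nil (g11 X0 X1 X2))))) (rel_5_4 X0 X1 X2 hr0 hr1 hr2 hr3 hr4 hr5))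
theorem E_118_0 (X0 X1 X2 : M) (hr0 : X0 * (X0 * (X0 * 1)) = 1) (hr1 : X1 * (X1 * (X1 * 1)) = 1) (hr2 : X2 * (X2 * 1) = 1) (hr3 : X2 * (X1 * (X2 * (X1 * 1))) = 1) (hr4 : X2 * (X0 * (X2⁻¹ * (X0⁻¹ * 1))) = 1) (hr5 : X0 * (X1 * (X0 * (X1⁻¹ * (X0⁻¹ * (X1 * (X0⁻¹ * (X1⁻¹ * 1))))))) = 1) : g118 X0 X1 X2 * X0 = g144 X0 X1 X2 :=
  edge_of_inv (deduce (path_cons (E_13_0 X0 X1 X2) (path_cons (E_26_1 X0 X1 X2) (path_cons (E_46_0 X0 X1 X2) (path_cons (inv_edge (E_144_1 X0 X1 X2 hr0 hr1 hr2 hr3 hr4 hr5)) (path_nil (g144 X0 X1 X2)))))) (path_cons (E_118_1 X0 X1 X2 hr0 hr1 hr2 hr3 hr4 hr5) (path_cons (inv_edge (E_27_0 X0 X1 X2)) (path_cons (inv_edge (E_13_1 X0 X1 X2)) (path_nil (g13 X0 X1 X2))))) (rel_5_4 X0 X1 X2 hr0 hr1 hr2 hr3 hr4 hr5))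
theorem E_53_0 (X0 X1 X2 : M) (hr0 : X0 * (X0 * (X0 * 1)) = 1) (hr1 : X1 * (X1 * (X1 * 1)) = 1) (hr2 : X2 * (X2 * 1) = 1) (hr3 : X2 * (X1 * (X2 * (X1 * 1))) = 1) (hr4 : X2 * (X0 * (X2⁻¹ * (X0⁻¹ * 1))) = 1) (hr5 : X0 * (X1 * (X0 * (X1⁻¹ * (X0⁻¹ * (X1 * (X0⁻¹ * (X1⁻¹ * 1))))))) = 1) : g53 X0 X1 X2 * X0 = g75 X0 X1 X2 :=
  deduce (path_cons (E_14_0 X0 X1 X2) (path_cons (E_29_1 X0 X1 X2) (path_nil (g53 X0 X1 X2)))) (path_cons (inv_edge (E_44_1 X0 X1 X2)) (path_cons (inv_edge (E_23_0 X0 X1 X2)) (path_cons (E_23_1 X0 X1 X2 hr0 hr1 hr2 hr3 hr4 hr5) (path_cons (inv_edge (E_1_0 X0 X1 X2)) (path_cons (inv_edge (E_14_1 X0 X1 X2 hr0 hr1 hr2 hr3 hr4 hr5)) (path_nil (g14 X0 X1 X2))))))) (rel_5_2 X0 X1 X2 hr0 hr1 hr2 hr3 hr4 hr5)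
theorem E_51_0 (X0 X1 X2 : M) (hr0 : X0 * (X0 * (X0 * 1)) = 1) (hr1 : X1 * (X1 * (X1 * 1)) = 1) (hr2 : X2 * (X2 * 1) = 1) (hr3 : X2 * (X1 * (X2 * (X1 * 1))) = 1) (hr4 : X2 * (X0 * (X2⁻¹ * (X0⁻¹ * 1))) = 1) (hr5 : X0 * (X1 * (X0 * (X1⁻¹ * (X0⁻¹ * (X1 * (X0⁻¹ * (X1⁻¹ * 1))))))) = 1) : g51 X0 X1 X2 * X0 = g73 X0 X1 X2 :=
  deduce (path_cons (E_15_0 X0 X1 X2 hr0 hr1 hr2 hr3 hr4 hr5) (path_cons (E_28_1 X0 X1 X2) (path_nil (g51 X0 X1 X2)))) (path_cons (inv_edge (E_43_1 X0 X1 X2)) (path_cons (inv_edge (E_24_0 X0 X1 X2 hr0 hr1 hr2 hr3 hr4 hr5)) (path_cons (E_24_1 X0 X1 X2 hr0 hr1 hr2 hr3 hr4 hr5) (path_cons (inv_edge (E_6_0 X0 X1 X2 hr0 hr1 hr2 hr3 hr4 hr5)) (path_cons (inv_edge (E_15_1 X0 X1 X2 hr0 hr1 hr2 hr3 hr4 hr5)) (path_nil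 (g15 X0 X1 X2))))))) (rel_5_2 X0 X1 X2 hr0 hr1 hr2 hr3 hr4 hr5)
theorem E_126_0 (X0 X1 X2 : M) (hr0 : X0 * (X0 * (X0 * 1)) = 1) (hr1 : X1 * (X1 * (X1 * 1)) = 1) (hr2 : X2 * (X2 * 1) = 1) (hr3 : X2 * (X1 * (X2 * (X1 * 1))) = 1) (hr4 : X2 * (X0 * (X2⁻¹ * (X0⁻¹ * 1))) = 1) (hr5 : X0 * (X1 * (X0 * (X1⁻¹ * (X0⁻¹ * (X1 * (X0⁻¹ * (X1⁻¹ * 1))))))) = 1) : g126 X0 X1 X2 * X0 = g64 X0 X1 X2 :=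
  edge_of_inv (deduce (path_cons (E_17_0 X0 X1 X2 hr0 hr1 hr2 hr3 hr4 hr5) (path_cons (E_2_1 X0 X1 X2) (path_cons (E_8_0 X0 X1 X2) (path_cons (inv_edge (E_64_1 X0 X1 X2 hr0 hr1 hr2 hr3 hr4 hr5)) (path_nil (g64 X0 X1 X2)))))) (path_cons (E_126_1 X0 X1 X2 hr0 hr1 hr2 hr3 hr4 hr5) (path_cons (inv_edge (E_31_0 X0 X1 X2)) (path_cons (inv_edge (E_17_1 X0 X1 X2)) (path_nil (g17 X0 X1 X2))))) (rel_5_4 X0 X1 X2 hr0 hr1 hr2 hr3 hr4 hr5))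
theorem E_61_0 (X0 X1 X2 : M) (hr0 : X0 * (X0 * (X0 * 1)) = 1) (hr1 : X1 * (X1 * (X1 * 1)) = 1) (hr2 : X2 * (X2 * 1) = 1) (hr3 : X2 * (X1 * (X2 * (X1 * 1))) = 1) (hr4 : X2 * (X0 * (X2⁻¹ * (X0⁻¹ * 1))) = 1) (hr5 : X0 * (X1 * (X0 * (X1⁻¹ * (X0⁻¹ * (X1 * (X0⁻¹ * (X1⁻¹ * 1))))))) = 1) : g61 X0 X1 X2 * X0 = g83 X0 X1 X2 :=
  deduce (path_cons (E_18_0 X0 X1 X2) (path_cons (E_33_1 X0 X1 X2) (path_nil (g61 X0 X1 X2)))) (path_cons (inv_edge (E_48_1 X0 X1 X2)) (path_cons (inv_edge (E_27_0 X0 X1 X2)) (path_cons (E_27_1 X0 X1 X2) (path_cons (inv_edge (E_34_0 X0 X1 X2 hr0 hr1 hr2 hr3 hr4 hr5)) (path_cons (inv_edge (E_18_1 X0 X1 X2)) (path_nil (g18 X0 X1 X2))))))) (rel_5_2 X0 X1 X2 hr0 hr1 hr2 hr3 hr4 hr5)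
theorem E_59_0 (X0 X1 X2 : M) (hr0 : X0 * (X0 * (X0 * 1)) = 1) (hr1 : X1 * (X1 * (X1 * 1)) = 1) (hr2 : X2 * (X2 * 1) = 1) (hr3 : X2 * (X1 * (X2 * (X1 * 1))) = 1) (hr4 : X2 * (X0 * (X2⁻¹ * (X0⁻¹ * 1))) = 1) (hr5 : X0 * (X1 * (X0 * (X1⁻¹ * (X0⁻¹ * (X1 * (X0⁻¹ * (X1⁻¹ * 1))))))) = 1) : g59 X0 X1 X2 * X0 = g81 X0 X1 X2 :=
  deduce (path_cons (E_19_0 X0 X1 X2 hr0 hr1 hr2 hr3 hr4 hr5) (path_cons (E_32_1 X0 X1 X2) (path_nil (g59 X0 X1 X2)))) (path_cons (inv_edge (E_47_1 X0 X1 X2)) (path_cons (inv_edge (E_28_0 X0 X1 X2 hr0 hr1 hr2 hr3 hr4 hr5)) (path_cons (E_28_1 X0 X1 X2) (path_cons (inv_edge (E_36_0 X0 X1 X2 hr0 hr1 hr2 hr3 hr4 hr5)) (path_cons (inv_edge (E_19_1 X0 X1 X2)) (path_nil (g19 X0 X1 X2))))))) (rel_5_2 X0 X1 X2 hr0 hr1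 hr2 hr3 hr4 hr5)
theorem E_63_0 (X0 X1 X2 : M) (hr0 : X0 * (X0 * (X0 * 1)) = 1) (hr1 : X1 * (X1 * (X1 * 1)) = 1) (hr2 : X2 * (X2 * 1) = 1) (hr3 : X2 * (X1 * (X2 * (X1 * 1))) = 1) (hr4 : X2 * (X0 * (X2⁻¹ * (X0⁻¹ * 1))) = 1) (hr5 : X0 * (X1 * (X0 * (X1⁻¹ * (X0⁻¹ * (X1 * (X0⁻¹ * (X1⁻¹ * 1))))))) = 1) : g63 X0 X1 X2 * X0 = g85 X0 X1 X2 :=
  deduce (path_cons (E_20_0 X0 X1 X2) (path_cons (E_37_1 X0 X1 X2) (path_nil (g63 X0 X1 X2)))) (path_cons (inv_edge (E_52_1 X0 X1 X2)) (path_cons (inv_edge (E_29_0 X0 X1 X2)) (path_cons (E_29_1 X0 X1 X2) (path_cons (inv_edge (E_38_0 X0 X1 X2 hr0 hr1 hr2 hr3 hr4 hr5)) (path_cons (inv_edge (E_20_1 X0 X1 X2)) (path_nil (g20 X0 X1 X2))))))) (rel_5_2 X0 X1 X2 hr0 hr1 hr2 hr3 hr4 hr5)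
theorem E_136_0 (X0 X1 X2 : M) (hr0 : X0 * (X0 * (X0 * 1)) = 1) (hr1 : X1 * (X1 * (X1 * 1)) = 1) (hr2 : X2 * (X2 * 1) = 1) (hr3 : X2 * (X1 * (X2 * (X1 * 1))) = 1) (hr4 : X2 * (X0 * (X2⁻¹ * (X0⁻¹ * 1))) = 1) (hr5 : X0 * (X1 * (X0 * (X1⁻¹ * (X0⁻¹ * (X1 * (X0⁻¹ * (X1⁻¹ * 1))))))) = 1) : g136 X0 X1 X2 * X0 = g153 X0 X1 X2 :=
  edge_of_inv (deduce (path_cons (E_22_0 X0 X1 X2) (path_cons (E_41_1 X0 X1 X2) (path_cons (E_68_0 X0 X1 X2) (path_cons (inv_edge (E_153_1 X0 X1 X2 hr0 hr1 hr2 hr3 hr4 hr5)) (path_nil (g153 X0 X1 X2)))))) (path_cons (E_136_1 X0 X1 X2 hr0 hr1 hr2 hr3 hr4 hr5) (path_cons (inv_edge (E_42_0 X0 X1 X2)) (path_cons (inv_edge (E_22_1 X0 X1 X2)) (path_nil (g22 X0 X1 X2))))) (rel_5_4 X0 X1 X2 hr0 hr1 hr2 hr3 hr4 hr5))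
theorem E_75_0 (X0 X1 X2 : M) (hr0 : X0 * (X0 * (X0 * 1)) = 1) (hr1 : X1 * (X1 * (X1 * 1)) = 1) (hr2 : X2 * (X2 * 1) = 1) (hr3 : X2 * (X1 * (X2 * (X1 * 1))) = 1) (hr4 : X2 * (X0 * (X2⁻¹ * (X0⁻¹ * 1))) = 1) (hr5 : X0 * (X1 * (X0 * (X1⁻¹ * (X0⁻¹ * (X1 * (X0⁻¹ * (X1⁻¹ * 1))))))) = 1) : g75 X0 X1 X2 * X0 = g38 X0 X1 X2 :=
  deduce (path_cons (E_23_0 X0 X1 X2) (path_cons (E_44_1 X0 X1 X2) (path_nil (g75 X0 X1 X2)))) (path_cons (inv_edge (E_20_1 X0 X1 X2)) (path_cons (inv_edge (E_8_0 X0 X1 X2)) (path_cons (E_8_1 X0 X1 X2 hr0 hr1 hr2 hr3 hr4 hr5) (path_cons (inv_edge (E_4_0 X0 X1 X2 hr0 hr1 hr2 hr3 hr4 hr5)) (path_cons (inv_edge (E_23_1 X0 X1 X2 hr0 hr1 hr2 hr3 hr4 hr5)) (path_nil (g23 X0 X1 X2))))))) (rel_5_2 X0 X1 X2 hr0 hr1 hr2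 hr3 hr4 hr5)
theorem E_73_0 (X0 X1 X2 : M) (hr0 : X0 * (X0 * (X0 * 1)) = 1) (hr1 : X1 * (X1 * (X1 * 1)) = 1) (hr2 : X2 * (X2 * 1) = 1) (hr3 : X2 * (X1 * (X2 * (X1 * 1))) = 1) (hr4 : X2 * (X0 * (X2⁻¹ * (X0⁻¹ * 1))) = 1) (hr5 : X0 * (X1 * (X0 * (X1⁻¹ * (X0⁻¹ * (X1 * (X0⁻¹ * (X1⁻¹ * 1))))))) = 1) : g73 X0 X1 X2 * X0 = g36 X0 X1 X2 :=
  deduce (path_cons (E_24_0 X0 X1 X2 hr0 hr1 hr2 hr3 hr4 hr5) (path_cons (E_43_1 X0 X1 X2) (path_nil (g73 X0 X1 X2)))) (path_cons (inv_edge (E_19_1 X0 X1 X2)) (path_cons (inv_edge (E_9_0 X0 X1 X2 hr0 hr1 hr2 hr3 hr4 hr5)) (path_cons (E_9_1 X0 X1 X2 hr0 hr1 hr2 hr3 hr4 hr5) (path_cons (inv_edge (E_12_0 X0 X1 X2 hr0 hr1 hr2 hr3 hr4 hr5)) (path_cons (inv_edge (E_24_1 X0 X1 X2 hr0 hr1 hr2 hr3 hr4 hr5))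 (path_nil (g24 X0 X1 X2))))))) (rel_5_2 X0 X1 X2 hr0 hr1 hr2 hr3 hr4 hr5)
theorem E_144_0 (X0 X1 X2 : M) (hr0 : X0 * (X0 * (X0 * 1)) = 1) (hr1 : X1 * (X1 * (X1 * 1)) = 1) (hr2 : X2 * (X2 * 1) = 1) (hr3 : X2 * (X1 * (X2 * (X1 * 1))) = 1) (hr4 : X2 * (X0 * (X2⁻¹ * (X0⁻¹ * 1))) = 1) (hr5 : X0 * (X1 * (X0 * (X1⁻¹ * (X0⁻¹ * (X1 * (X0⁻¹ * (X1⁻¹ * 1))))))) = 1) : g144 X0 X1 X2 * X0 = g86 X0 X1 X2 :=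
  edge_of_inv (deduce (path_cons (E_26_0 X0 X1 X2 hr0 hr1 hr2 hr3 hr4 hr5) (path_cons (E_5_1 X0 X1 X2) (path_cons (E_14_0 X0 X1 X2) (path_cons (inv_edge (E_86_1 X0 X1 X2 hr0 hr1 hr2 hr3 hr4 hr5)) (path_nil (g86 X0 X1 X2)))))) (path_cons (E_144_1 X0 X1 X2 hr0 hr1 hr2 hr3 hr4 hr5) (path_cons (inv_edge (E_46_0 X0 X1 X2)) (path_cons (inv_edge (E_26_1 X0 X1 X2)) (path_nil (g26 X0 X1 X2))))) (rel_5_4 X0 X1 X2 hr0 hr1 hr2 hr3 hr4 hr5))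
theorem E_83_0 (X0 X1 X2 : M) (hr0 : X0 * (X0 * (X0 * 1)) = 1) (hr1 : X1 * (X1 * (X1 * 1)) = 1) (hr2 : X2 * (X2 * 1) = 1) (hr3 : X2 * (X1 * (X2 * (X1 * 1))) = 1) (hr4 : X2 * (X0 * (X2⁻¹ * (X0⁻¹ * 1))) = 1) (hr5 : X0 * (X1 * (X0 * (X1⁻¹ * (X0⁻¹ * (X1 * (X0⁻¹ * (X1⁻¹ * 1))))))) = 1) : g83 X0 X1 X2 * X0 = g106 X0 X1 X2 :=
  deduce (path_cons (E_27_0 X0 X1 X2) (path_cons (E_48_1 X0 X1 X2) (path_nil (g83 X0 X1 X2)))) (path_cons (inv_edge (E_70_1 X0 X1 X2)) (path_cons (inv_edge (E_42_0 X0 X1 X2)) (path_cons (E_42_1 X0 X1 X2) (path_cons (inv_edge (E_49_0 X0 X1 X2 hr0 hr1 hr2 hr3 hr4 hr5)) (path_cons (inv_edge (E_27_1 X0 X1 X2)) (path_nil (g27 X0 X1 X2))))))) (rel_5_2 X0 X1 X2 hr0 hr1 hr2 hr3 hr4 hr5)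
theorem E_81_0 (X0 X1 X2 : M) (hr0 : X0 * (X0 * (X0 * 1)) = 1) (hr1 : X1 * (X1 * (X1 * 1)) = 1) (hr2 : X2 * (X2 * 1) = 1) (hr3 : X2 * (X1 * (X2 * (X1 * 1))) = 1) (hr4 : X2 * (X0 * (X2⁻¹ * (X0⁻¹ * 1))) = 1) (hr5 : X0 * (X1 * (X0 * (X1⁻¹ * (X0⁻¹ * (X1 * (X0⁻¹ * (X1⁻¹ * 1))))))) = 1) : g81 X0 X1 X2 * X0 = g104 X0 X1 X2 :=
  deduce (path_cons (E_28_0 X0 X1 X2 hr0 hr1 hr2 hr3 hr4 hr5) (path_cons (E_47_1 X0 X1 X2) (path_nil (g81 X0 X1 X2)))) (path_cons (inv_edge (E_69_1 X0 X1 X2)) (path_cons (inv_edge (E_43_0 X0 X1 X2 hr0 hr1 hr2 hr3 hr4 hr5)) (path_cons (E_43_1 X0 X1 X2) (path_cons (inv_edge (E_51_0 X0 X1 X2 hr0 hr1 hr2 hr3 hr4 hr5)) (path_cons (inv_edge (E_28_1 X0 X1 X2)) (path_nil (g28 X0 X1 X2))))))) (rel_5_2 X0 X1 X2 hr0 hr1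 hr2 hr3 hr4 hr5)
theorem E_85_0 (X0 X1 X2 : M) (hr0 : X0 * (X0 * (X0 * 1)) = 1) (hr1 : X1 * (X1 * (X1 * 1)) = 1) (hr2 : X2 * (X2 * 1) = 1) (hr3 : X2 * (X1 * (X2 * (X1 * 1))) = 1) (hr4 : X2 * (X0 * (X2⁻¹ * (X0⁻¹ * 1))) = 1) (hr5 : X0 * (X1 * (X0 * (X1⁻¹ * (X0⁻¹ * (X1 * (X0⁻¹ * (X1⁻¹ * 1))))))) = 1) : g85 X0 X1 X2 * X0 = g108 X0 X1 X2 :=
  deduce (path_cons (E_29_0 X0 X1 X2) (path_cons (E_52_1 X0 X1 X2) (path_nil (g85 X0 X1 X2)))) (path_cons (inv_edge (E_74_1 X0 X1 X2)) (path_cons (inv_edge (E_44_0 X0 X1 X2)) (path_cons (E_44_1 X0 X1 X2) (path_cons (inv_edge (E_53_0 X0 X1 X2 hr0 hr1 hr2 hr3 hr4 hr5)) (path_cons (inv_edge (E_29_1 X0 X1 X2)) (path_nil (g29 X0 X1 X2))))))) (rel_5_2 X0 X1 X2 hr0 hr1 hr2 hr3 hr4 hr5)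
theorem E_93_0 (X0 X1 X2 : M) (hr0 : X0 * (X0 * (X0 * 1)) = 1) (hr1 : X1 * (X1 * (X1 * 1)) = 1) (hr2 : X2 * (X2 * 1) = 1) (hr3 : X2 * (X1 * (X2 * (X1 * 1))) = 1) (hr4 : X2 * (X0 * (X2⁻¹ * (X0⁻¹ * 1))) = 1) (hr5 : X0 * (X1 * (X0 * (X1⁻¹ * (X0⁻¹ * (X1 * (X0⁻¹ * (X1⁻¹ * 1))))))) = 1) : g93 X0 X1 X2 * X0 = g116 X0 X1 X2 :=
  deduce (path_cons (E_33_0 X0 X1 X2) (path_cons (E_60_1 X0 X1 X2) (path_nil (g93 X0 X1 X2)))) (path_cons (inv_edge (E_82_1 X0 X1 X2)) (path_cons (inv_edge (E_48_0 X0 X1 X2)) (path_cons (E_48_1 X0 X1 X2) (path_cons (inv_edge (E_61_0 X0 X1 X2 hr0 hr1 hr2 hr3 hr4 hr5)) (path_cons (inv_edge (E_33_1 X0 X1 X2)) (path_nil (g33 X0 X1 X2))))))) (rel_5_2 X0 X1 X2 hr0 hr1 hr2 hr3 hr4 hr5)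
theorem E_57_0 (X0 X1 X2 : M) (hr0 : X0 * (X0 * (X0 * 1)) = 1) (hr1 : X1 * (X1 * (X1 * 1)) = 1) (hr2 : X2 * (X2 * 1) = 1) (hr3 : X2 * (X1 * (X2 * (X1 * 1))) = 1) (hr4 : X2 * (X0 * (X2⁻¹ * (X0⁻¹ * 1))) = 1) (hr5 : X0 * (X1 * (X0 * (X1⁻¹ * (X0⁻¹ * (X1 * (X0⁻¹ * (X1⁻¹ * 1))))))) = 1) : g57 X0 X1 X2 * X0 = g79 X0 X1 X2 :=
  edge_of_inv (deduce (path_cons (E_34_0 X0 X1 X2 hr0 hr1 hr2 hr3 hr4 hr5) (path_cons (E_49_1 X0 X1 X2 hr0 hr1 hr2 hr3 hr4 hr5) (path_cons (E_13_0 X0 X1 X2) (path_cons (inv_edge (E_79_1 X0 X1 X2 hr0 hr1 hr2 hr3 hr4 hr5)) (path_nil (g79 X0 X1 X2)))))) (path_cons (E_57_1 X0 X1 X2 hr0 hr1 hr2 hr3 hr4 hr5) (path_cons (inv_edge (E_7_0 X0 X1 X2)) (path_cons (inv_edge (E_34_1 X0 X1 X2 hr0 hr1 hr2 hr3 hr4 hr5)) (path_nil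 (g34 X0 X1 X2))))) (rel_5_4 X0 X1 X2 hr0 hr1 hr2 hr3 hr4 hr5))
theorem E_153_0 (X0 X1 X2 : M) (hr0 : X0 * (X0 * (X0 * 1)) = 1) (hr1 : X1 * (X1 * (X1 * 1)) = 1) (hr2 : X2 * (X2 * 1) = 1) (hr3 : X2 * (X1 * (X2 * (X1 * 1))) = 1) (hr4 : X2 * (X0 * (X2⁻¹ * (X0⁻¹ * 1))) = 1) (hr5 : X0 * (X1 * (X0 * (X1⁻¹ * (X0⁻¹ * (X1 * (X0⁻¹ * (X1⁻¹ * 1))))))) = 1) : g153 X0 X1 X2 * X0 = g109 X0 X1 X2 :=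
  edge_of_inv (deduce (path_cons (E_41_0 X0 X1 X2 hr0 hr1 hr2 hr3 hr4 hr5) (path_cons (E_11_1 X0 X1 X2) (path_cons (E_23_0 X0 X1 X2) (path_cons (inv_edge (E_109_1 X0 X1 X2 hr0 hr1 hr2 hr3 hr4 hr5)) (path_nil (g109 X0 X1 X2)))))) (path_cons (E_153_1 X0 X1 X2 hr0 hr1 hr2 hr3 hr4 hr5) (path_cons (inv_edge (E_68_0 X0 X1 X2)) (path_cons (inv_edge (E_41_1 X0 X1 X2)) (path_nil (g41 X0 X1 X2))))) (rel_5_4 X0 X1 X2 hr0 hr1 hr2 hr3 hr4 hr5))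
theorem E_106_0 (X0 X1 X2 : M) (hr0 : X0 * (X0 * (X0 * 1)) = 1) (hr1 : X1 * (X1 * (X1 * 1)) = 1) (hr2 : X2 * (X2 * 1) = 1) (hr3 : X2 * (X1 * (X2 * (X1 * 1))) = 1) (hr4 : X2 * (X0 * (X2⁻¹ * (X0⁻¹ * 1))) = 1) (hr5 : X0 * (X1 * (X0 * (X1⁻¹ * (X0⁻¹ * (X1 * (X0⁻¹ * (X1⁻¹ * 1))))))) = 1) : g106 X0 X1 X2 * X0 = g61 X0 X1 X2 :=
  deduce (path_cons (E_42_0 X0 X1 X2) (path_cons (E_70_1 X0 X1 X2) (path_nil (g106 X0 X1 X2)))) (path_cons (inv_edge (E_33_1 X0 X1 X2)) (path_cons (inv_edge (E_18_0 X0 X1 X2)) (path_cons (E_18_1 X0 X1 X2) (path_cons (inv_edge (E_71_0 X0 X1 X2 hr0 hr1 hr2 hr3 hr4 hr5)) (path_cons (inv_edge (E_42_1 X0 X1 X2)) (path_nil (g42 X0 X1 X2))))))) (rel_5_2 X0 X1 X2 hr0 hr1 hr2 hr3 hr4 hr5)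
theorem E_104_0 (X0 X1 X2 : M) (hr0 : X0 * (X0 * (X0 * 1)) = 1) (hr1 : X1 * (X1 * (X1 * 1)) = 1) (hr2 : X2 * (X2 * 1) = 1) (hr3 : X2 * (X1 * (X2 * (X1 * 1))) = 1) (hr4 : X2 * (X0 * (X2⁻¹ * (X0⁻¹ * 1))) = 1) (hr5 : X0 * (X1 * (X0 * (X1⁻¹ * (X0⁻¹ * (X1 * (X0⁻¹ * (X1⁻¹ * 1))))))) = 1) : g104 X0 X1 X2 * X0 = g59 X0 X1 X2 :=
  deduce (path_cons (E_43_0 X0 X1 X2 hr0 hr1 hr2 hr3 hr4 hr5) (path_cons (E_69_1 X0 X1 X2) (path_nil (g104 X0 X1 X2)))) (path_cons (inv_edge (E_32_1 X0 X1 X2)) (path_cons (inv_edge (E_19_0 X0 X1 X2 hr0 hr1 hr2 hr3 hr4 hr5)) (path_cons (E_19_1 X0 X1 X2) (path_cons (inv_edge (E_73_0 X0 X1 X2 hr0 hr1 hr2 hr3 hr4 hr5)) (path_cons (inv_edge (E_43_1 X0 X1 X2)) (path_nil (g43 X0 X1 X2))))))) (rel_5_2 X0 X1 X2 hr0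 hr1 hr2 hr3 hr4 hr5)
theorem E_108_0 (X0 X1 X2 : M) (hr0 : X0 * (X0 * (X0 * 1)) = 1) (hr1 : X1 * (X1 * (X1 * 1)) = 1) (hr2 : X2 * (X2 * 1) = 1) (hr3 : X2 * (X1 * (X2 * (X1 * 1))) = 1) (hr4 : X2 * (X0 * (X2⁻¹ * (X0⁻¹ * 1))) = 1) (hr5 : X0 * (X1 * (X0 * (X1⁻¹ * (X0⁻¹ * (X1 * (X0⁻¹ * (X1⁻¹ * 1))))))) = 1) : g108 X0 X1 X2 * X0 = g63 X0 X1 X2 :=
  deduce (path_cons (E_44_0 X0 X1 X2) (path_cons (E_74_1 X0 X1 X2) (path_nil (g108 X0 X1 X2)))) (path_cons (inv_edge (E_37_1 X0 X1 X2)) (path_cons (inv_edge (E_20_0 X0 X1 X2)) (path_cons (E_20_1 X0 X1 X2) (path_cons (inv_edge (E_75_0 X0 X1 X2 hr0 hr1 hr2 hr3 hr4 hr5)) (path_cons (inv_edge (E_44_1 X0 X1 X2)) (path_nil (g44 X0 X1 X2))))))) (rel_5_2 X0 X1 X2 hr0 hr1 hr2 hr3 hr4 hr5)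
theorem E_116_0 (X0 X1 X2 : M) (hr0 : X0 * (X0 * (X0 * 1)) = 1) (hr1 : X1 * (X1 * (X1 * 1)) = 1) (hr2 : X2 * (X2 * 1) = 1) (hr3 : X2 * (X1 * (X2 * (X1 * 1))) = 1) (hr4 : X2 * (X0 * (X2⁻¹ * (X0⁻¹ * 1))) = 1) (hr5 : X0 * (X1 * (X0 * (X1⁻¹ * (X0⁻¹ * (X1 * (X0⁻¹ * (X1⁻¹ * 1))))))) = 1) : g116 X0 X1 X2 * X0 = g134 X0 X1 X2 :=
  deduce (path_cons (E_48_0 X0 X1 X2) (path_cons (E_82_1 X0 X1 X2) (path_nil (g116 X0 X1 X2)))) (path_cons (inv_edge (E_105_1 X0 X1 X2)) (path_cons (inv_edge (E_70_0 X0 X1 X2)) (path_cons (E_70_1 X0 X1 X2) (path_cons (inv_edge (E_83_0 X0 X1 X2 hr0 hr1 hr2 hr3 hr4 hr5)) (path_cons (inv_edge (E_48_1 X0 X1 X2)) (path_nil (g48 X0 X1 X2))))))) (rel_5_2 X0 X1 X2 hr0 hr1 hr2 hr3 hr4 hr5)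
theorem E_79_0 (X0 X1 X2 : M) (hr0 : X0 * (X0 * (X0 * 1)) = 1) (hr1 : X1 * (X1 * (X1 * 1)) = 1) (hr2 : X2 * (X2 * 1) = 1) (hr3 : X2 * (X1 * (X2 * (X1 * 1))) = 1) (hr4 : X2 * (X0 * (X2⁻¹ * (X0⁻¹ * 1))) = 1) (hr5 : X0 * (X1 * (X0 * (X1⁻¹ * (X0⁻¹ * (X1 * (X0⁻¹ * (X1⁻¹ * 1))))))) = 1) : g79 X0 X1 X2 * X0 = g102 X0 X1 X2 :=
  edge_of_inv (deduce (path_cons (E_49_0 X0 X1 X2 hr0 hr1 hr2 hr3 hr4 hr5) (path_cons (E_71_1 X0 X1 X2 hr0 hr1 hr2 hr3 hr4 hr5) (path_cons (E_22_0 X0 X1 X2) (path_cons (inv_edge (E_102_1 X0 X1 X2 hr0 hr1 hr2 hr3 hr4 hr5)) (path_nil (g102 X0 X1 X2)))))) (path_cons (E_79_1 X0 X1 X2 hr0 hr1 hr2 hr3 hr4 hr5) (path_cons (inv_edge (E_13_0 X0 X1 X2)) (path_cons (inv_edge (E_49_1 X0 X1 X2 hr0 hr1 hr2 hr3 hr4 hr5))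 (path_nil (g49 X0 X1 X2))))) (rel_5_4 X0 X1 X2 hr0 hr1 hr2 hr3 hr4 hr5))
theorem E_91_0 (X0 X1 X2 : M) (hr0 : X0 * (X0 * (X0 * 1)) = 1) (hr1 : X1 * (X1 * (X1 * 1)) = 1) (hr2 : X2 * (X2 * 1) = 1) (hr3 : X2 * (X1 * (X2 * (X1 * 1))) = 1) (hr4 : X2 * (X0 * (X2⁻¹ * (X0⁻¹ * 1))) = 1) (hr5 : X0 * (X1 * (X0 * (X1⁻¹ * (X0⁻¹ * (X1 * (X0⁻¹ * (X1⁻¹ * 1))))))) = 1) : g91 X0 X1 X2 * X0 = g114 X0 X1 X2 :=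
  edge_of_inv (deduce (path_cons (E_61_0 X0 X1 X2 hr0 hr1 hr2 hr3 hr4 hr5) (path_cons (E_83_1 X0 X1 X2) (path_cons (E_118_0 X0 X1 X2 hr0 hr1 hr2 hr3 hr4 hr5) (path_cons (inv_edge (E_114_1 X0 X1 X2)) (path_nil (g114 X0 X1 X2)))))) (path_cons (E_91_1 X0 X1 X2) (path_cons (inv_edge (E_95_0 X0 X1 X2 hr0 hr1 hr2 hr3 hr4 hr5)) (path_cons (inv_edge (E_61_1 X0 X1 X2)) (path_nil (g61 X0 X1 X2))))) (rel_5_4 X0 X1 X2 hr0 hr1 hr2 hr3 hr4 hr5))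
theorem E_97_0 (X0 X1 X2 : M) (hr0 : X0 * (X0 * (X0 * 1)) = 1) (hr1 : X1 * (X1 * (X1 * 1)) = 1) (hr2 : X2 * (X2 * 1) = 1) (hr3 : X2 * (X1 * (X2 * (X1 * 1))) = 1) (hr4 : X2 * (X0 * (X2⁻¹ * (X0⁻¹ * 1))) = 1) (hr5 : X0 * (X1 * (X0 * (X1⁻¹ * (X0⁻¹ * (X1 * (X0⁻¹ * (X1⁻¹ * 1))))))) = 1) : g97 X0 X1 X2 * X0 = g128 X0 X1 X2 :=
  edge_of_inv (deduce (path_cons (E_64_0 X0 X1 X2 hr0 hr1 hr2 hr3 hr4 hr5) (path_cons (E_95_1 X0 X1 X2 hr0 hr1 hr2 hr3 hr4 hr5) (path_cons (E_33_0 X0 X1 X2) (path_cons (inv_edge (E_128_1 X0 X1 X2 hr0 hr1 hr2 hr3 hr4 hr5)) (path_nil (g128 X0 X1 X2)))))) (path_cons (E_97_1 X0 X1 X2 hr0 hr1 hr2 hr3 hr4 hr5) (path_cons (inv_edge (E_20_0 X0 X1 X2)) (path_cons (inv_edge (E_64_1 X0 X1 X2 hr0 hr1 hr2 hr3 hr4 hr5))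 (path_nil (g64 X0 X1 X2))))) (rel_5_4 X0 X1 X2 hr0 hr1 hr2 hr3 hr4 hr5))
theorem E_134_0 (X0 X1 X2 : M) (hr0 : X0 * (X0 * (X0 * 1)) = 1) (hr1 : X1 * (X1 * (X1 * 1)) = 1) (hr2 : X2 * (X2 * 1) = 1) (hr3 : X2 * (X1 * (X2 * (X1 * 1))) = 1) (hr4 : X2 * (X0 * (X2⁻¹ * (X0⁻¹ * 1))) = 1) (hr5 : X0 * (X1 * (X0 * (X1⁻¹ * (X0⁻¹ * (X1 * (X0⁻¹ * (X1⁻¹ * 1))))))) = 1) : g134 X0 X1 X2 * X0 = g93 X0 X1 X2 :=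
  deduce (path_cons (E_70_0 X0 X1 X2) (path_cons (E_105_1 X0 X1 X2) (path_nil (g134 X0 X1 X2)))) (path_cons (inv_edge (E_60_1 X0 X1 X2)) (path_cons (inv_edge (E_33_0 X0 X1 X2)) (path_cons (E_33_1 X0 X1 X2) (path_cons (inv_edge (E_106_0 X0 X1 X2 hr0 hr1 hr2 hr3 hr4 hr5)) (path_cons (inv_edge (E_70_1 X0 X1 X2)) (path_nil (g70 X0 X1 X2))))))) (rel_5_2 X0 X1 X2 hr0 hr1 hr2 hr3 hr4 hr5)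
theorem E_102_0 (X0 X1 X2 : M) (hr0 : X0 * (X0 * (X0 * 1)) = 1) (hr1 : X1 * (X1 * (X1 * 1)) = 1) (hr2 : X2 * (X2 * 1) = 1) (hr3 : X2 * (X1 * (X2 * (X1 * 1))) = 1) (hr4 : X2 * (X0 * (X2⁻¹ * (X0⁻¹ * 1))) = 1) (hr5 : X0 * (X1 * (X0 * (X1⁻¹ * (X0⁻¹ * (X1 * (X0⁻¹ * (X1⁻¹ * 1))))))) = 1) : g102 X0 X1 X2 * X0 = g57 X0 X1 X2 :=
  edge_of_inv (deduce (path_cons (E_71_0 X0 X1 X2 hr0 hr1 hr2 hr3 hr4 hr5) (path_cons (E_34_1 X0 X1 X2 hr0 hr1 hr2 hr3 hr4 hr5) (path_cons (E_7_0 X0 X1 X2) (path_cons (inv_edge (E_57_1 X0 X1 X2 hr0 hr1 hr2 hr3 hr4 hr5)) (path_nil (g57 X0 X1 X2)))))) (path_cons (E_102_1 X0 X1 X2 hr0 hr1 hr2 hr3 hr4 hr5) (path_cons (inv_edge (E_22_0 X0 X1 X2)) (path_cons (inv_edge (E_71_1 X0 X1 X2 hr0 hr1 hr2 hr3 hr4 hr5)) (path_nil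 (g71 X0 X1 X2))))) (rel_5_4 X0 X1 X2 hr0 hr1 hr2 hr3 hr4 hr5))
theorem E_114_0 (X0 X1 X2 : M) (hr0 : X0 * (X0 * (X0 * 1)) = 1) (hr1 : X1 * (X1 * (X1 * 1)) = 1) (hr2 : X2 * (X2 * 1) = 1) (hr3 : X2 * (X1 * (X2 * (X1 * 1))) = 1) (hr4 : X2 * (X0 * (X2⁻¹ * (X0⁻¹ * 1))) = 1) (hr5 : X0 * (X1 * (X0 * (X1⁻¹ * (X0⁻¹ * (X1 * (X0⁻¹ * (X1⁻¹ * 1))))))) = 1) : g114 X0 X1 X2 * X0 = g132 X0 X1 X2 :=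
  edge_of_inv (deduce (path_cons (E_83_0 X0 X1 X2 hr0 hr1 hr2 hr3 hr4 hr5) (path_cons (E_106_1 X0 X1 X2) (path_cons (E_136_0 X0 X1 X2 hr0 hr1 hr2 hr3 hr4 hr5) (path_cons (inv_edge (E_132_1 X0 X1 X2)) (path_nil (g132 X0 X1 X2)))))) (path_cons (E_114_1 X0 X1 X2) (path_cons (inv_edge (E_118_0 X0 X1 X2 hr0 hr1 hr2 hr3 hr4 hr5)) (path_cons (inv_edge (E_83_1 X0 X1 X2)) (path_nil (g83 X0 X1 X2))))) (rel_5_4 X0 X1 X2 hr0 hr1 hr2 hr3 hr4 hr5))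
theorem E_120_0 (X0 X1 X2 : M) (hr0 : X0 * (X0 * (X0 * 1)) = 1) (hr1 : X1 * (X1 * (X1 * 1)) = 1) (hr2 : X2 * (X2 * 1) = 1) (hr3 : X2 * (X1 * (X2 * (X1 * 1))) = 1) (hr4 : X2 * (X0 * (X2⁻¹ * (X0⁻¹ * 1))) = 1) (hr5 : X0 * (X1 * (X0 * (X1⁻¹ * (X0⁻¹ * (X1 * (X0⁻¹ * (X1⁻¹ * 1))))))) = 1) : g120 X0 X1 X2 * X0 = g146 X0 X1 X2 :=
  edge_of_inv (deduce (path_cons (E_86_0 X0 X1 X2 hr0 hr1 hr2 hr3 hr4 hr5) (path_cons (E_118_1 X0 X1 X2 hr0 hr1 hr2 hr3 hr4 hr5) (path_cons (E_48_0 X0 X1 X2) (path_cons (inv_edge (E_146_1 X0 X1 X2 hr0 hr1 hr2 hr3 hr4 hr5)) (path_nil (g146 X0 X1 X2)))))) (path_cons (E_120_1 X0 X1 X2 hr0 hr1 hr2 hr3 hr4 hr5) (path_cons (inv_edge (E_29_0 X0 X1 X2)) (path_cons (inv_edge (E_86_1 X0 X1 X2 hr0 hr1 hr2 hr3 hr4 hr5))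 (path_nil (g86 X0 X1 X2))))) (rel_5_4 X0 X1 X2 hr0 hr1 hr2 hr3 hr4 hr5))
theorem E_124_0 (X0 X1 X2 : M) (hr0 : X0 * (X0 * (X0 * 1)) = 1) (hr1 : X1 * (X1 * (X1 * 1)) = 1) (hr2 : X2 * (X2 * 1) = 1) (hr3 : X2 * (X1 * (X2 * (X1 * 1))) = 1) (hr4 : X2 * (X0 * (X2⁻¹ * (X0⁻¹ * 1))) = 1) (hr5 : X0 * (X1 * (X0 * (X1⁻¹ * (X0⁻¹ * (X1 * (X0⁻¹ * (X1⁻¹ * 1))))))) = 1) : g124 X0 X1 X2 * X0 = g142 X0 X1 X2 :=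
  edge_of_inv (deduce (path_cons (E_90_0 X0 X1 X2 hr0 hr1 hr2 hr3 hr4 hr5) (path_cons (E_31_1 X0 X1 X2) (path_cons (E_57_0 X0 X1 X2 hr0 hr1 hr2 hr3 hr4 hr5) (path_cons (inv_edge (E_46_1 X0 X1 X2)) (path_cons (inv_edge (E_113_0 X0 X1 X2 hr0 hr1 hr2 hr3 hr4 hr5)) (path_cons (E_113_1 X0 X1 X2) (path_nil (g142 X0 X1 X2)))))))) (path_cons (inv_edge (E_90_1 X0 X1 X2)) (path_nil (g90 X0 X1 X2))) (rel_5_6 X0 X1 X2 hr0 hr1 hr2 hr3 hr4 hr5))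
theorem E_128_0 (X0 X1 X2 : M) (hr0 : X0 * (X0 * (X0 * 1)) = 1) (hr1 : X1 * (X1 * (X1 * 1)) = 1) (hr2 : X2 * (X2 * 1) = 1) (hr3 : X2 * (X1 * (X2 * (X1 * 1))) = 1) (hr4 : X2 * (X0 * (X2⁻¹ * (X0⁻¹ * 1))) = 1) (hr5 : X0 * (X1 * (X0 * (X1⁻¹ * (X0⁻¹ * (X1 * (X0⁻¹ * (X1⁻¹ * 1))))))) = 1) : g128 X0 X1 X2 * X0 = g149 X0 X1 X2 :=
  edge_of_inv (deduce (path_cons (E_95_0 X0 X1 X2 hr0 hr1 hr2 hr3 hr4 hr5) (path_cons (E_126_1 X0 X1 X2 hr0 hr1 hr2 hr3 hr4 hr5) (path_cons (E_56_0 X0 X1 X2) (path_cons (inv_edge (E_149_1 X0 X1 X2 hr0 hr1 hr2 hr3 hr4 hr5)) (path_nil (g149 X0 X1 X2)))))) (path_cons (E_128_1 X0 X1 X2 hr0 hr1 hr2 hr3 hr4 hr5) (path_cons (inv_edge (E_33_0 X0 X1 X2)) (path_cons (inv_edge (E_95_1 X0 X1 X2 hr0 hr1 hr2 hr3 hr4 hr5))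 (path_nil (g95 X0 X1 X2))))) (rel_5_4 X0 X1 X2 hr0 hr1 hr2 hr3 hr4 hr5))
theorem E_132_0 (X0 X1 X2 : M) (hr0 : X0 * (X0 * (X0 * 1)) = 1) (hr1 : X1 * (X1 * (X1 * 1)) = 1) (hr2 : X2 * (X2 * 1) = 1) (hr3 : X2 * (X1 * (X2 * (X1 * 1))) = 1) (hr4 : X2 * (X0 * (X2⁻¹ * (X0⁻¹ * 1))) = 1) (hr5 : X0 * (X1 * (X0 * (X1⁻¹ * (X0⁻¹ * (X1 * (X0⁻¹ * (X1⁻¹ * 1))))))) = 1) : g132 X0 X1 X2 * X0 = g91 X0 X1 X2 :=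
  edge_of_inv (deduce (path_cons (E_106_0 X0 X1 X2 hr0 hr1 hr2 hr3 hr4 hr5) (path_cons (E_61_1 X0 X1 X2) (path_cons (E_95_0 X0 X1 X2 hr0 hr1 hr2 hr3 hr4 hr5) (path_cons (inv_edge (E_91_1 X0 X1 X2)) (path_nil (g91 X0 X1 X2)))))) (path_cons (E_132_1 X0 X1 X2) (path_cons (inv_edge (E_136_0 X0 X1 X2 hr0 hr1 hr2 hr3 hr4 hr5)) (path_cons (inv_edge (E_106_1 X0 X1 X2)) (path_nil (g106 X0 X1 X2))))) (rel_5_4 X0 X1 X2 hr0 hr1 hr2 hr3 hr4 hr5))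
theorem E_138_0 (X0 X1 X2 : M) (hr0 : X0 * (X0 * (X0 * 1)) = 1) (hr1 : X1 * (X1 * (X1 * 1)) = 1) (hr2 : X2 * (X2 * 1) = 1) (hr3 : X2 * (X1 * (X2 * (X1 * 1))) = 1) (hr4 : X2 * (X0 * (X2⁻¹ * (X0⁻¹ * 1))) = 1) (hr5 : X0 * (X1 * (X0 * (X1⁻¹ * (X0⁻¹ * (X1 * (X0⁻¹ * (X1⁻¹ * 1))))))) = 1) : g138 X0 X1 X2 * X0 = g155 X0 X1 X2 :=
  edge_of_inv (deduce (path_cons (E_108_0 X0 X1 X2 hr0 hr1 hr2 hr3 hr4 hr5) (path_cons (E_63_1 X0 X1 X2) (path_cons (E_97_0 X0 X1 X2 hr0 hr1 hr2 hr3 hr4 hr5) (path_cons (inv_edge (E_93_1 X0 X1 X2)) (path_cons (inv_edge (E_134_0 X0 X1 X2 hr0 hr1 hr2 hr3 hr4 hr5)) (path_cons (E_134_1 X0 X1 X2) (path_nil (g155 X0 X1 X2)))))))) (path_cons (inv_edge (E_108_1 X0 X1 X2)) (path_nil (g108 X0 X1 X2))) (rel_5_6 X0 X1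 X2 hr0 hr1 hr2 hr3 hr4 hr5))
theorem E_142_0 (X0 X1 X2 : M) (hr0 : X0 * (X0 * (X0 * 1)) = 1) (hr1 : X1 * (X1 * (X1 * 1)) = 1) (hr2 : X2 * (X2 * 1) = 1) (hr3 : X2 * (X1 * (X2 * (X1 * 1))) = 1) (hr4 : X2 * (X0 * (X2⁻¹ * (X0⁻¹ * 1))) = 1) (hr5 : X0 * (X1 * (X0 * (X1⁻¹ * (X0⁻¹ * (X1 * (X0⁻¹ * (X1⁻¹ * 1))))))) = 1) : g142 X0 X1 X2 * X0 = g151 X0 X1 X2 :=
  edge_of_inv (deduce (path_cons (E_113_0 X0 X1 X2 hr0 hr1 hr2 hr3 hr4 hr5) (path_cons (E_46_1 X0 X1 X2) (path_cons (E_79_0 X0 X1 X2 hr0 hr1 hr2 hr3 hr4 hr5) (path_cons (inv_edge (E_68_1 X0 X1 X2)) (path_cons (inv_edge (E_131_0 X0 X1 X2 hr0 hr1 hr2 hr3 hr4 hr5)) (path_cons (E_131_1 X0 X1 X2) (path_nil (g151 X0 X1 X2)))))))) (path_cons (inv_edge (E_113_1 X0 X1 X2)) (path_nil (g113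 X0 X1 X2))) (rel_5_6 X0 X1 X2 hr0 hr1 hr2 hr3 hr4 hr5))
theorem E_146_0 (X0 X1 X2 : M) (hr0 : X0 * (X0 * (X0 * 1)) = 1) (hr1 : X1 * (X1 * (X1 * 1)) = 1) (hr2 : X2 * (X2 * 1) = 1) (hr3 : X2 * (X1 * (X2 * (X1 * 1))) = 1) (hr4 : X2 * (X0 * (X2⁻¹ * (X0⁻¹ * 1))) = 1) (hr5 : X0 * (X1 * (X0 * (X1⁻¹ * (X0⁻¹ * (X1 * (X0⁻¹ * (X1⁻¹ * 1))))))) = 1) : g146 X0 X1 X2 * X0 = g158 X0 X1 X2 :=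
  edge_of_inv (deduce (path_cons (E_118_0 X0 X1 X2 hr0 hr1 hr2 hr3 hr4 hr5) (path_cons (E_144_1 X0 X1 X2 hr0 hr1 hr2 hr3 hr4 hr5) (path_cons (E_78_0 X0 X1 X2) (path_cons (inv_edge (E_158_1 X0 X1 X2 hr0 hr1 hr2 hr3 hr4 hr5)) (path_nil (g158 X0 X1 X2)))))) (path_cons (E_146_1 X0 X1 X2 hr0 hr1 hr2 hr3 hr4 hr5) (path_cons (inv_edge (E_48_0 X0 X1 X2)) (path_cons (inv_edge (E_118_1 X0 X1 X2 hr0 hr1 hr2 hr3 hr4 hr5)) (path_nil (g118 X0 X1 X2))))) (rel_5_4 X0 X1 X2 hr0 hr1 hr2 hr3 hr4 hr5))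
theorem E_149_0 (X0 X1 X2 : M) (hr0 : X0 * (X0 * (X0 * 1)) = 1) (hr1 : X1 * (X1 * (X1 * 1)) = 1) (hr2 : X2 * (X2 * 1) = 1) (hr3 : X2 * (X1 * (X2 * (X1 * 1))) = 1) (hr4 : X2 * (X0 * (X2⁻¹ * (X0⁻¹ * 1))) = 1) (hr5 : X0 * (X1 * (X0 * (X1⁻¹ * (X0⁻¹ * (X1 * (X0⁻¹ * (X1⁻¹ * 1))))))) = 1) : g149 X0 X1 X2 * X0 = g97 X0 X1 X2 :=
  edge_of_inv (deduce (path_cons (E_126_0 X0 X1 X2 hr0 hr1 hr2 hr3 hr4 hr5) (path_cons (E_64_1 X0 X1 X2 hr0 hr1 hr2 hr3 hr4 hr5) (path_cons (E_20_0 X0 X1 X2) (path_cons (inv_edge (E_97_1 X0 X1 X2 hr0 hr1 hr2 hr3 hr4 hr5)) (path_nil (g97 X0 X1 X2)))))) (path_cons (E_149_1 X0 X1 X2 hr0 hr1 hr2 hr3 hr4 hr5) (path_cons (inv_edge (E_56_0 X0 X1 X2)) (path_cons (inv_edge (E_126_1 X0 X1 X2 hr0 hr1 hr2 hr3 hr4 hr5))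 (path_nil (g126 X0 X1 X2))))) (rel_5_4 X0 X1 X2 hr0 hr1 hr2 hr3 hr4 hr5))
theorem E_151_0 (X0 X1 X2 : M) (hr0 : X0 * (X0 * (X0 * 1)) = 1) (hr1 : X1 * (X1 * (X1 * 1)) = 1) (hr2 : X2 * (X2 * 1) = 1) (hr3 : X2 * (X1 * (X2 * (X1 * 1))) = 1) (hr4 : X2 * (X0 * (X2⁻¹ * (X0⁻¹ * 1))) = 1) (hr5 : X0 * (X1 * (X0 * (X1⁻¹ * (X0⁻¹ * (X1 * (X0⁻¹ * (X1⁻¹ * 1))))))) = 1) : g151 X0 X1 X2 * X0 = g124 X0 X1 X2 :=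
  edge_of_inv (deduce (path_cons (E_131_0 X0 X1 X2 hr0 hr1 hr2 hr3 hr4 hr5) (path_cons (E_68_1 X0 X1 X2) (path_cons (E_102_0 X0 X1 X2 hr0 hr1 hr2 hr3 hr4 hr5) (path_cons (inv_edge (E_31_1 X0 X1 X2)) (path_cons (inv_edge (E_90_0 X0 X1 X2 hr0 hr1 hr2 hr3 hr4 hr5)) (path_cons (E_90_1 X0 X1 X2) (path_nil (g124 X0 X1 X2)))))))) (path_cons (inv_edge (E_131_1 X0 X1 X2)) (path_nil (g131 X0 X1 X2))) (rel_5_6 X0 X1 X2 hr0 hr1 hr2 hr3 hr4 hr5))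
theorem E_155_0 (X0 X1 X2 : M) (hr0 : X0 * (X0 * (X0 * 1)) = 1) (hr1 : X1 * (X1 * (X1 * 1)) = 1) (hr2 : X2 * (X2 * 1) = 1) (hr3 : X2 * (X1 * (X2 * (X1 * 1))) = 1) (hr4 : X2 * (X0 * (X2⁻¹ * (X0⁻¹ * 1))) = 1) (hr5 : X0 * (X1 * (X0 * (X1⁻¹ * (X0⁻¹ * (X1 * (X0⁻¹ * (X1⁻¹ * 1))))))) = 1) : g155 X0 X1 X2 * X0 = g160 X0 X1 X2 :=
  edge_of_inv (deduce (path_cons (E_134_0 X0 X1 X2 hr0 hr1 hr2 hr3 hr4 hr5) (path_cons (E_93_1 X0 X1 X2) (path_cons (E_128_0 X0 X1 X2 hr0 hr1 hr2 hr3 hr4 hr5) (path_cons (inv_edge (E_124_1 X0 X1 X2)) (path_cons (inv_edge (E_151_0 X0 X1 X2 hr0 hr1 hr2 hr3 hr4 hr5)) (path_cons (E_151_1 X0 X1 X2) (path_nil (g160 X0 X1 X2)))))))) (path_cons (inv_edge (E_134_1 X0 X1 X2)) (path_nil (g134 X0 X1 X2))) (rel_5_6 X0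 X1 X2 hr0 hr1 hr2 hr3 hr4 hr5))
theorem E_158_0 (X0 X1 X2 : M) (hr0 : X0 * (X0 * (X0 * 1)) = 1) (hr1 : X1 * (X1 * (X1 * 1)) = 1) (hr2 : X2 * (X2 * 1) = 1) (hr3 : X2 * (X1 * (X2 * (X1 * 1))) = 1) (hr4 : X2 * (X0 * (X2⁻¹ * (X0⁻¹ * 1))) = 1) (hr5 : X0 * (X1 * (X0 * (X1⁻¹ * (X0⁻¹ * (X1 * (X0⁻¹ * (X1⁻¹ * 1))))))) = 1) : g158 X0 X1 X2 * X0 = g120 X0 X1 X2 :=
  edge_of_inv (deduce (path_cons (E_144_0 X0 X1 X2 hr0 hr1 hr2 hr3 hr4 hr5) (path_cons (E_86_1 X0 X1 X2 hr0 hr1 hr2 hr3 hr4 hr5) (path_cons (E_29_0 X0 X1 X2) (path_cons (inv_edge (E_120_1 X0 X1 X2 hr0 hr1 hr2 hr3 hr4 hr5)) (path_nil (g120 X0 X1 X2)))))) (path_cons (E_158_1 X0 X1 X2 hr0 hr1 hr2 hr3 hr4 hr5) (path_cons (inv_edge (E_78_0 X0 X1 X2)) (path_cons (inv_edge (E_144_1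 X0 X1 X2 hr0 hr1 hr2 hr3 hr4 hr5)) (path_nil (g144 X0 X1 X2))))) (rel_5_4 X0 X1 X2 hr0 hr1 hr2 hr3 hr4 hr5))
theorem E_160_0 (X0 X1 X2 : M) (hr0 : X0 * (X0 * (X0 * 1)) = 1) (hr1 : X1 * (X1 * (X1 * 1)) = 1) (hr2 : X2 * (X2 * 1) = 1) (hr3 : X2 * (X1 * (X2 * (X1 * 1))) = 1) (hr4 : X2 * (X0 * (X2⁻¹ * (X0⁻¹ * 1))) = 1) (hr5 : X0 * (X1 * (X0 * (X1⁻¹ * (X0⁻¹ * (X1 * (X0⁻¹ * (X1⁻¹ * 1))))))) = 1) : g160 X0 X1 X2 * X0 = g138 X0 X1 X2 :=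
  edge_of_inv (deduce (path_cons (E_151_0 X0 X1 X2 hr0 hr1 hr2 hr3 hr4 hr5) (path_cons (E_124_1 X0 X1 X2) (path_cons (E_149_0 X0 X1 X2 hr0 hr1 hr2 hr3 hr4 hr5) (path_cons (inv_edge (E_63_1 X0 X1 X2)) (path_cons (inv_edge (E_108_0 X0 X1 X2 hr0 hr1 hr2 hr3 hr4 hr5)) (path_cons (E_108_1 X0 X1 X2) (path_nil (g138 X0 X1 X2)))))))) (path_cons (inv_edge (E_151_1 X0 X1 X2)) (path_nil (g151 X0 X1 X2))) (rel_5_6 X0 X1 X2 hr0 hr1 hr2 hr3 hr4 hr5))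
theorem E_10_1 (X0 X1 X2 : M) (hr0 : X0 * (X0 * (X0 * 1)) = 1) (hr1 : X1 * (X1 * (X1 * 1)) = 1) (hr2 : X2 * (X2 * 1) = 1) (hr3 : X2 * (X1 * (X2 * (X1 * 1))) = 1) (hr4 : X2 * (X0 * (X2⁻¹ * (X0⁻¹ * 1))) = 1) (hr5 : X0 * (X1 * (X0 * (X1⁻¹ * (X0⁻¹ * (X1 * (X0⁻¹ * (X1⁻¹ * 1))))))) = 1) : g10 X0 X1 X2 * X1 = g9 X0 X1 X2 :=
  deduce (path_cons (E_3_1 X0 X1 X2) (path_nil (g10 X0 X1 X2))) (path_cons (E_9_1 X0 X1 X2 hr0 hr1 hr2 hr3 hr4 hr5) (path_nil (g3 X0 X1 X2))) (rel_1_1 X0 X1 X2 hr0 hr1 hr2 hr3 hr4 hr5)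
theorem E_16_1 (X0 X1 X2 : M) (hr0 : X0 * (X0 * (X0 * 1)) = 1) (hr1 : X1 * (X1 * (X1 * 1)) = 1) (hr2 : X2 * (X2 * 1) = 1) (hr3 : X2 * (X1 * (X2 * (X1 * 1))) = 1) (hr4 : X2 * (X0 * (X2⁻¹ * (X0⁻¹ * 1))) = 1) (hr5 : X0 * (X1 * (X0 * (X1⁻¹ * (X0⁻¹ * (X1 * (X0⁻¹ * (X1⁻¹ * 1))))))) = 1) : g16 X0 X1 X2 * X1 = g15 X0 X1 X2 :=
  deduce (path_cons (E_6_1 X0 X1 X2) (path_nil (g16 X0 X1 X2))) (path_cons (E_15_1 X0 X1 X2 hr0 hr1 hr2 hr3 hr4 hr5) (path_nil (g6 X0 X1 X2))) (rel_1_1 X0 X1 X2 hr0 hr1 hr2 hr3 hr4 hr5)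
theorem E_25_1 (X0 X1 X2 : M) (hr0 : X0 * (X0 * (X0 * 1)) = 1) (hr1 : X1 * (X1 * (X1 * 1)) = 1) (hr2 : X2 * (X2 * 1) = 1) (hr3 : X2 * (X1 * (X2 * (X1 * 1))) = 1) (hr4 : X2 * (X0 * (X2⁻¹ * (X0⁻¹ * 1))) = 1) (hr5 : X0 * (X1 * (X0 * (X1⁻¹ * (X0⁻¹ * (X1 * (X0⁻¹ * (X1⁻¹ * 1))))))) = 1) : g25 X0 X1 X2 * X1 = g24 X0 X1 X2 :=
  deduce (path_cons (E_12_1 X0 X1 X2) (path_nil (g25 X0 X1 X2))) (path_cons (E_24_1 X0 X1 X2 hr0 hr1 hr2 hr3 hr4 hr5) (path_nil (g12 X0 X1 X2))) (rel_1_1 X0 X1 X2 hr0 hr1 hr2 hr3 hr4 hr5)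
theorem E_36_1 (X0 X1 X2 : M) (hr0 : X0 * (X0 * (X0 * 1)) = 1) (hr1 : X1 * (X1 * (X1 * 1)) = 1) (hr2 : X2 * (X2 * 1) = 1) (hr3 : X2 * (X1 * (X2 * (X1 * 1))) = 1) (hr4 : X2 * (X0 * (X2⁻¹ * (X0⁻¹ * 1))) = 1) (hr5 : X0 * (X1 * (X0 * (X1⁻¹ * (X0⁻¹ * (X1 * (X0⁻¹ * (X1⁻¹ * 1))))))) = 1) : g36 X0 X1 X2 * X1 = g35 X0 X1 X2 :=
  deduce (path_cons (E_19_1 X0 X1 X2) (path_nil (g36 X0 X1 X2))) (path_cons (E_35_1 X0 X1 X2 hr0 hr1 hr2 hr3 hr4 hr5) (path_nil (g19 X0 X1 X2))) (rel_1_1 X0 X1 X2 hr0 hr1 hr2 hr3 hr4 hr5)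
theorem E_51_1 (X0 X1 X2 : M) (hr0 : X0 * (X0 * (X0 * 1)) = 1) (hr1 : X1 * (X1 * (X1 * 1)) = 1) (hr2 : X2 * (X2 * 1) = 1) (hr3 : X2 * (X1 * (X2 * (X1 * 1))) = 1) (hr4 : X2 * (X0 * (X2⁻¹ * (X0⁻¹ * 1))) = 1) (hr5 : X0 * (X1 * (X0 * (X1⁻¹ * (X0⁻¹ * (X1 * (X0⁻¹ * (X1⁻¹ * 1))))))) = 1) : g51 X0 X1 X2 * X1 = g50 X0 X1 X2 :=
  deduce (path_cons (E_28_1 X0 X1 X2) (path_nil (g51 X0 X1 X2))) (path_cons (E_50_1 X0 X1 X2 hr0 hr1 hr2 hr3 hr4 hr5) (path_nil (g28 X0 X1 X2))) (rel_1_1 X0 X1 X2 hr0 hr1 hr2 hr3 hr4 hr5)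
theorem E_59_1 (X0 X1 X2 : M) (hr0 : X0 * (X0 * (X0 * 1)) = 1) (hr1 : X1 * (X1 * (X1 * 1)) = 1) (hr2 : X2 * (X2 * 1) = 1) (hr3 : X2 * (X1 * (X2 * (X1 * 1))) = 1) (hr4 : X2 * (X0 * (X2⁻¹ * (X0⁻¹ * 1))) = 1) (hr5 : X0 * (X1 * (X0 * (X1⁻¹ * (X0⁻¹ * (X1 * (X0⁻¹ * (X1⁻¹ * 1))))))) = 1) : g59 X0 X1 X2 * X1 = g58 X0 X1 X2 :=
  deduce (path_cons (E_32_1 X0 X1 X2) (path_nil (g59 X0 X1 X2))) (path_cons (E_58_1 X0 X1 X2 hr0 hr1 hr2 hr3 hr4 hr5) (path_nil (g32 X0 X1 X2))) (rel_1_1 X0 X1 X2 hr0 hr1 hr2 hr3 hr4 hr5)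
theorem E_73_1 (X0 X1 X2 : M) (hr0 : X0 * (X0 * (X0 * 1)) = 1) (hr1 : X1 * (X1 * (X1 * 1)) = 1) (hr2 : X2 * (X2 * 1) = 1) (hr3 : X2 * (X1 * (X2 * (X1 * 1))) = 1) (hr4 : X2 * (X0 * (X2⁻¹ * (X0⁻¹ * 1))) = 1) (hr5 : X0 * (X1 * (X0 * (X1⁻¹ * (X0⁻¹ * (X1 * (X0⁻¹ * (X1⁻¹ * 1))))))) = 1) : g73 X0 X1 X2 * X1 = g72 X0 X1 X2 :=
  deduce (path_cons (E_43_1 X0 X1 X2) (path_nil (g73 X0 X1 X2))) (path_cons (E_72_1 X0 X1 X2 hr0 hr1 hr2 hr3 hr4 hr5) (path_nil (g43 X0 X1 X2))) (rel_1_1 X0 X1 X2 hr0 hr1 hr2 hr3 hr4 hr5)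
theorem E_81_1 (X0 X1 X2 : M) (hr0 : X0 * (X0 * (X0 * 1)) = 1) (hr1 : X1 * (X1 * (X1 * 1)) = 1) (hr2 : X2 * (X2 * 1) = 1) (hr3 : X2 * (X1 * (X2 * (X1 * 1))) = 1) (hr4 : X2 * (X0 * (X2⁻¹ * (X0⁻¹ * 1))) = 1) (hr5 : X0 * (X1 * (X0 * (X1⁻¹ * (X0⁻¹ * (X1 * (X0⁻¹ * (X1⁻¹ * 1))))))) = 1) : g81 X0 X1 X2 * X1 = g80 X0 X1 X2 :=
  deduce (path_cons (E_47_1 X0 X1 X2) (path_nil (g81 X0 X1 X2))) (path_cons (E_80_1 X0 X1 X2 hr0 hr1 hr2 hr3 hr4 hr5) (path_nil (g47 X0 X1 X2))) (rel_1_1 X0 X1 X2 hr0 hr1 hr2 hr3 hr4 hr5)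
theorem E_104_1 (X0 X1 X2 : M) (hr0 : X0 * (X0 * (X0 * 1)) = 1) (hr1 : X1 * (X1 * (X1 * 1)) = 1) (hr2 : X2 * (X2 * 1) = 1) (hr3 : X2 * (X1 * (X2 * (X1 * 1))) = 1) (hr4 : X2 * (X0 * (X2⁻¹ * (X0⁻¹ * 1))) = 1) (hr5 : X0 * (X1 * (X0 * (X1⁻¹ * (X0⁻¹ * (X1 * (X0⁻¹ * (X1⁻¹ * 1))))))) = 1) : g104 X0 X1 X2 * X1 = g103 X0 X1 X2 :=
  deduce (path_cons (E_69_1 X0 X1 X2) (path_nil (g104 X0 X1 X2))) (path_cons (E_103_1 X0 X1 X2 hr0 hr1 hr2 hr3 hr4 hr5) (path_nil (g69 X0 X1 X2))) (rel_1_1 X0 X1 X2 hr0 hr1 hr2 hr3 hr4 hr5)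
theorem E_8_2 (X0 X1 X2 : M) (hr0 : X0 * (X0 * (X0 * 1)) = 1) (hr1 : X1 * (X1 * (X1 * 1)) = 1) (hr2 : X2 * (X2 * 1) = 1) (hr3 : X2 * (X1 * (X2 * (X1 * 1))) = 1) (hr4 : X2 * (X0 * (X2⁻¹ * (X0⁻¹ * 1))) = 1) (hr5 : X0 * (X1 * (X0 * (X1⁻¹ * (X0⁻¹ * (X1 * (X0⁻¹ * (X1⁻¹ * 1))))))) = 1) : g8 X0 X1 X2 * X2 = g10 X0 X1 X2 :=
  deduce (path_nil (g8 X0 X1 X2)) (path_cons (E_10_2 X0 X1 X2 hr0 hr1 hr2 hr3 hr4 hr5) (path_nil (g8 X0 X1 X2))) (rel_2_0 X0 X1 X2 hr0 hr1 hr2 hr3 hr4 hr5)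
theorem E_14_2 (X0 X1 X2 : M) (hr0 : X0 * (X0 * (X0 * 1)) = 1) (hr1 : X1 * (X1 * (X1 * 1)) = 1) (hr2 : X2 * (X2 * 1) = 1) (hr3 : X2 * (X1 * (X2 * (X1 * 1))) = 1) (hr4 : X2 * (X0 * (X2⁻¹ * (X0⁻¹ * 1))) = 1) (hr5 : X0 * (X1 * (X0 * (X1⁻¹ * (X0⁻¹ * (X1 * (X0⁻¹ * (X1⁻¹ * 1))))))) = 1) : g14 X0 X1 X2 * X2 = g16 X0 X1 X2 :=
  deduce (path_nil (g14 X0 X1 X2)) (path_cons (E_16_2 X0 X1 X2 hr0 hr1 hr2 hr3 hr4 hr5) (path_nil (g14 X0 X1 X2))) (rel_2_0 X0 X1 X2 hr0 hr1 hr2 hr3 hr4 hr5)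
theorem E_20_2 (X0 X1 X2 : M) (hr0 : X0 * (X0 * (X0 * 1)) = 1) (hr1 : X1 * (X1 * (X1 * 1)) = 1) (hr2 : X2 * (X2 * 1) = 1) (hr3 : X2 * (X1 * (X2 * (X1 * 1))) = 1) (hr4 : X2 * (X0 * (X2⁻¹ * (X0⁻¹ * 1))) = 1) (hr5 : X0 * (X1 * (X0 * (X1⁻¹ * (X0⁻¹ * (X1 * (X0⁻¹ * (X1⁻¹ * 1))))))) = 1) : g20 X0 X1 X2 * X2 = g21 X0 X1 X2 :=
  deduce (path_nil (g20 X0 X1 X2)) (path_cons (E_21_2 X0 X1 X2 hr0 hr1 hr2 hr3 hr4 hr5) (path_nil (g20 X0 X1 X2))) (rel_2_0 X0 X1 X2 hr0 hr1 hr2 hr3 hr4 hr5)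
theorem E_23_2 (X0 X1 X2 : M) (hr0 : X0 * (X0 * (X0 * 1)) = 1) (hr1 : X1 * (X1 * (X1 * 1)) = 1) (hr2 : X2 * (X2 * 1) = 1) (hr3 : X2 * (X1 * (X2 * (X1 * 1))) = 1) (hr4 : X2 * (X0 * (X2⁻¹ * (X0⁻¹ * 1))) = 1) (hr5 : X0 * (X1 * (X0 * (X1⁻¹ * (X0⁻¹ * (X1 * (X0⁻¹ * (X1⁻¹ * 1))))))) = 1) : g23 X0 X1 X2 * X2 = g25 X0 X1 X2 :=
  deduce (path_nil (g23 X0 X1 X2)) (path_cons (E_25_2 X0 X1 X2 hr0 hr1 hr2 hr3 hr4 hr5) (path_nil (g23 X0 X1 X2))) (rel_2_0 X0 X1 X2 hr0 hr1 hr2 hr3 hr4 hr5)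
theorem E_29_2 (X0 X1 X2 : M) (hr0 : X0 * (X0 * (X0 * 1)) = 1) (hr1 : X1 * (X1 * (X1 * 1)) = 1) (hr2 : X2 * (X2 * 1) = 1) (hr3 : X2 * (X1 * (X2 * (X1 * 1))) = 1) (hr4 : X2 * (X0 * (X2⁻¹ * (X0⁻¹ * 1))) = 1) (hr5 : X0 * (X1 * (X0 * (X1⁻¹ * (X0⁻¹ * (X1 * (X0⁻¹ * (X1⁻¹ * 1))))))) = 1) : g29 X0 X1 X2 * X2 = g30 X0 X1 X2 :=
  deduce (path_nil (g29 X0 X1 X2)) (path_cons (E_30_2 X0 X1 X2 hr0 hr1 hr2 hr3 hr4 hr5) (path_nil (g29 X0 X1 X2))) (rel_2_0 X0 X1 X2 hr0 hr1 hr2 hr3 hr4 hr5)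
theorem E_34_2 (X0 X1 X2 : M) (hr0 : X0 * (X0 * (X0 * 1)) = 1) (hr1 : X1 * (X1 * (X1 * 1)) = 1) (hr2 : X2 * (X2 * 1) = 1) (hr3 : X2 * (X1 * (X2 * (X1 * 1))) = 1) (hr4 : X2 * (X0 * (X2⁻¹ * (X0⁻¹ * 1))) = 1) (hr5 : X0 * (X1 * (X0 * (X1⁻¹ * (X0⁻¹ * (X1 * (X0⁻¹ * (X1⁻¹ * 1))))))) = 1) : g34 X0 X1 X2 * X2 = g36 X0 X1 X2 :=
  deduce (path_nil (g34 X0 X1 X2)) (path_cons (E_36_2 X0 X1 X2 hr0 hr1 hr2 hr3 hr4 hr5) (path_nil (g34 X0 X1 X2))) (rel_2_0 X0 X1 X2 hr0 hr1 hr2 hr3 hr4 hr5)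
theorem E_37_2 (X0 X1 X2 : M) (hr0 : X0 * (X0 * (X0 * 1)) = 1) (hr1 : X1 * (X1 * (X1 * 1)) = 1) (hr2 : X2 * (X2 * 1) = 1) (hr3 : X2 * (X1 * (X2 * (X1 * 1))) = 1) (hr4 : X2 * (X0 * (X2⁻¹ * (X0⁻¹ * 1))) = 1) (hr5 : X0 * (X1 * (X0 * (X1⁻¹ * (X0⁻¹ * (X1 * (X0⁻¹ * (X1⁻¹ * 1))))))) = 1) : g37 X0 X1 X2 * X2 = g39 X0 X1 X2 :=
  deduce (path_nil (g37 X0 X1 X2)) (path_cons (E_39_2 X0 X1 X2 hr0 hr1 hr2 hr3 hr4 hr5) (path_nil (g37 X0 X1 X2))) (rel_2_0 X0 X1 X2 hr0 hr1 hr2 hr3 hr4 hr5)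
theorem E_44_2 (X0 X1 X2 : M) (hr0 : X0 * (X0 * (X0 * 1)) = 1) (hr1 : X1 * (X1 * (X1 * 1)) = 1) (hr2 : X2 * (X2 * 1) = 1) (hr3 : X2 * (X1 * (X2 * (X1 * 1))) = 1) (hr4 : X2 * (X0 * (X2⁻¹ * (X0⁻¹ * 1))) = 1) (hr5 : X0 * (X1 * (X0 * (X1⁻¹ * (X0⁻¹ * (X1 * (X0⁻¹ * (X1⁻¹ * 1))))))) = 1) : g44 X0 X1 X2 * X2 = g45 X0 X1 X2 :=
  deduce (path_nil (g44 X0 X1 X2)) (path_cons (E_45_2 X0 X1 X2 hr0 hr1 hr2 hr3 hr4 hr5) (path_nil (g44 X0 X1 X2))) (rel_2_0 X0 X1 X2 hr0 hr1 hr2 hr3 hr4 hr5)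
theorem E_49_2 (X0 X1 X2 : M) (hr0 : X0 * (X0 * (X0 * 1)) = 1) (hr1 : X1 * (X1 * (X1 * 1)) = 1) (hr2 : X2 * (X2 * 1) = 1) (hr3 : X2 * (X1 * (X2 * (X1 * 1))) = 1) (hr4 : X2 * (X0 * (X2⁻¹ * (X0⁻¹ * 1))) = 1) (hr5 : X0 * (X1 * (X0 * (X1⁻¹ * (X0⁻¹ * (X1 * (X0⁻¹ * (X1⁻¹ * 1))))))) = 1) : g49 X0 X1 X2 * X2 = g51 X0 X1 X2 :=
  deduce (path_nil (g49 X0 X1 X2)) (path_cons (E_51_2 X0 X1 X2 hr0 hr1 hr2 hr3 hr4 hr5) (path_nil (g49 X0 X1 X2))) (rel_2_0 X0 X1 X2 hr0 hr1 hr2 hr3 hr4 hr5)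
theorem E_52_2 (X0 X1 X2 : M) (hr0 : X0 * (X0 * (X0 * 1)) = 1) (hr1 : X1 * (X1 * (X1 * 1)) = 1) (hr2 : X2 * (X2 * 1) = 1) (hr3 : X2 * (X1 * (X2 * (X1 * 1))) = 1) (hr4 : X2 * (X0 * (X2⁻¹ * (X0⁻¹ * 1))) = 1) (hr5 : X0 * (X1 * (X0 * (X1⁻¹ * (X0⁻¹ * (X1 * (X0⁻¹ * (X1⁻¹ * 1))))))) = 1) : g52 X0 X1 X2 * X2 = g54 X0 X1 X2 :=
  deduce (path_nil (g52 X0 X1 X2)) (path_cons (E_54_2 X0 X1 X2 hr0 hr1 hr2 hr3 hr4 hr5) (path_nil (g52 X0 X1 X2))) (rel_2_0 X0 X1 X2 hr0 hr1 hr2 hr3 hr4 hr5)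
theorem E_57_2 (X0 X1 X2 : M) (hr0 : X0 * (X0 * (X0 * 1)) = 1) (hr1 : X1 * (X1 * (X1 * 1)) = 1) (hr2 : X2 * (X2 * 1) = 1) (hr3 : X2 * (X1 * (X2 * (X1 * 1))) = 1) (hr4 : X2 * (X0 * (X2⁻¹ * (X0⁻¹ * 1))) = 1) (hr5 : X0 * (X1 * (X0 * (X1⁻¹ * (X0⁻¹ * (X1 * (X0⁻¹ * (X1⁻¹ * 1))))))) = 1) : g57 X0 X1 X2 * X2 = g59 X0 X1 X2 :=
  deduce (path_nil (g57 X0 X1 X2)) (path_cons (E_59_2 X0 X1 X2 hr0 hr1 hr2 hr3 hr4 hr5) (path_nil (g57 X0 X1 X2))) (rel_2_0 X0 X1 X2 hr0 hr1 hr2 hr3 hr4 hr5)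
theorem E_71_2 (X0 X1 X2 : M) (hr0 : X0 * (X0 * (X0 * 1)) = 1) (hr1 : X1 * (X1 * (X1 * 1)) = 1) (hr2 : X2 * (X2 * 1) = 1) (hr3 : X2 * (X1 * (X2 * (X1 * 1))) = 1) (hr4 : X2 * (X0 * (X2⁻¹ * (X0⁻¹ * 1))) = 1) (hr5 : X0 * (X1 * (X0 * (X1⁻¹ * (X0⁻¹ * (X1 * (X0⁻¹ * (X1⁻¹ * 1))))))) = 1) : g71 X0 X1 X2 * X2 = g73 X0 X1 X2 :=
  deduce (path_nil (g71 X0 X1 X2)) (path_cons (E_73_2 X0 X1 X2 hr0 hr1 hr2 hr3 hr4 hr5) (path_nil (g71 X0 X1 X2))) (rel_2_0 X0 X1 X2 hr0 hr1 hr2 hr3 hr4 hr5)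
theorem E_74_2 (X0 X1 X2 : M) (hr0 : X0 * (X0 * (X0 * 1)) = 1) (hr1 : X1 * (X1 * (X1 * 1)) = 1) (hr2 : X2 * (X2 * 1) = 1) (hr3 : X2 * (X1 * (X2 * (X1 * 1))) = 1) (hr4 : X2 * (X0 * (X2⁻¹ * (X0⁻¹ * 1))) = 1) (hr5 : X0 * (X1 * (X0 * (X1⁻¹ * (X0⁻¹ * (X1 * (X0⁻¹ * (X1⁻¹ * 1))))))) = 1) : g74 X0 X1 X2 * X2 = g76 X0 X1 X2 :=
  deduce (path_nil (g74 X0 X1 X2)) (path_cons (E_76_2 X0 X1 X2 hr0 hr1 hr2 hr3 hr4 hr5) (path_nil (g74 X0 X1 X2))) (rel_2_0 X0 X1 X2 hr0 hr1 hr2 hr3 hr4 hr5)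
theorem E_79_2 (X0 X1 X2 : M) (hr0 : X0 * (X0 * (X0 * 1)) = 1) (hr1 : X1 * (X1 * (X1 * 1)) = 1) (hr2 : X2 * (X2 * 1) = 1) (hr3 : X2 * (X1 * (X2 * (X1 * 1))) = 1) (hr4 : X2 * (X0 * (X2⁻¹ * (X0⁻¹ * 1))) = 1) (hr5 : X0 * (X1 * (X0 * (X1⁻¹ * (X0⁻¹ * (X1 * (X0⁻¹ * (X1⁻¹ * 1))))))) = 1) : g79 X0 X1 X2 * X2 = g81 X0 X1 X2 :=
  deduce (path_nil (g79 X0 X1 X2)) (path_cons (E_81_2 X0 X1 X2 hr0 hr1 hr2 hr3 hr4 hr5) (path_nil (g79 X0 X1 X2))) (rel_2_0 X0 X1 X2 hr0 hr1 hr2 hr3 hr4 hr5)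
theorem E_102_2 (X0 X1 X2 : M) (hr0 : X0 * (X0 * (X0 * 1)) = 1) (hr1 : X1 * (X1 * (X1 * 1)) = 1) (hr2 : X2 * (X2 * 1) = 1) (hr3 : X2 * (X1 * (X2 * (X1 * 1))) = 1) (hr4 : X2 * (X0 * (X2⁻¹ * (X0⁻¹ * 1))) = 1) (hr5 : X0 * (X1 * (X0 * (X1⁻¹ * (X0⁻¹ * (X1 * (X0⁻¹ * (X1⁻¹ * 1))))))) = 1) : g102 X0 X1 X2 * X2 = g104 X0 X1 X2 :=
  deduce (path_nil (g102 X0 X1 X2)) (path_cons (E_104_2 X0 X1 X2 hr0 hr1 hr2 hr3 hr4 hr5) (path_nil (g102 X0 X1 X2))) (rel_2_0 X0 X1 X2 hr0 hr1 hr2 hr3 hr4 hr5)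
theorem E_40_2 (X0 X1 X2 : M) (hr0 : X0 * (X0 * (X0 * 1)) = 1) (hr1 : X1 * (X1 * (X1 * 1)) = 1) (hr2 : X2 * (X2 * 1) = 1) (hr3 : X2 * (X1 * (X2 * (X1 * 1))) = 1) (hr4 : X2 * (X0 * (X2⁻¹ * (X0⁻¹ * 1))) = 1) (hr5 : X0 * (X1 * (X0 * (X1⁻¹ * (X0⁻¹ * (X1 * (X0⁻¹ * (X1⁻¹ * 1))))))) = 1) : g40 X0 X1 X2 * X2 = g64 X0 X1 X2 :=
  deduce (path_cons (E_20_2 X0 X1 X2 hr0 hr1 hr2 hr3 hr4 hr5) (path_cons (E_21_1 X0 X1 X2) (path_nil (g40 X0 X1 X2)))) (path_cons (E_64_1 X0 X1 X2 hr0 hr1 hr2 hr3 hr4 hr5) (path_nil (g20 X0 X1 X2))) (rel_3_2 X0 X1 X2 hr0 hr1 hr2 hr3 hr4 hr5)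
theorem E_65_1 (X0 X1 X2 : M) (hr0 : X0 * (X0 * (X0 * 1)) = 1) (hr1 : X1 * (X1 * (X1 * 1)) = 1) (hr2 : X2 * (X2 * 1) = 1) (hr3 : X2 * (X1 * (X2 * (X1 * 1))) = 1) (hr4 : X2 * (X0 * (X2⁻¹ * (X0⁻¹ * 1))) = 1) (hr5 : X0 * (X1 * (X0 * (X1⁻¹ * (X0⁻¹ * (X1 * (X0⁻¹ * (X1⁻¹ * 1))))))) = 1) : g65 X0 X1 X2 * X1 = g21 X0 X1 X2 :=
  deduce (path_cons (E_21_2 X0 X1 X2 hr0 hr1 hr2 hr3 hr4 hr5) (path_cons (E_20_1 X0 X1 X2) (path_cons (E_38_2 X0 X1 X2) (path_nil (g65 X0 X1 X2))))) (path_nil (g21 X0 X1 X2)) (rel_3_3 X0 X1 X2 hr0 hr1 hr2 hr3 hr4 hr5)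
theorem E_55_2 (X0 X1 X2 : M) (hr0 : X0 * (X0 * (X0 * 1)) = 1) (hr1 : X1 * (X1 * (X1 * 1)) = 1) (hr2 : X2 * (X2 * 1) = 1) (hr3 : X2 * (X1 * (X2 * (X1 * 1))) = 1) (hr4 : X2 * (X0 * (X2⁻¹ * (X0⁻¹ * 1))) = 1) (hr5 : X0 * (X1 * (X0 * (X1⁻¹ * (X0⁻¹ * (X1 * (X0⁻¹ * (X1⁻¹ * 1))))))) = 1) : g55 X0 X1 X2 * X2 = g86 X0 X1 X2 :=
  deduce (path_cons (E_29_2 X0 X1 X2 hr0 hr1 hr2 hr3 hr4 hr5) (path_cons (E_30_1 X0 X1 X2) (path_nil (g55 X0 X1 X2)))) (path_cons (E_86_1 X0 X1 X2 hr0 hr1 hr2 hr3 hr4 hr5) (path_nil (g29 X0 X1 X2))) (rel_3_2 X0 X1 X2 hr0 hr1 hr2 hr3 hr4 hr5)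
theorem E_87_1 (X0 X1 X2 : M) (hr0 : X0 * (X0 * (X0 * 1)) = 1) (hr1 : X1 * (X1 * (X1 * 1)) = 1) (hr2 : X2 * (X2 * 1) = 1) (hr3 : X2 * (X1 * (X2 * (X1 * 1))) = 1) (hr4 : X2 * (X0 * (X2⁻¹ * (X0⁻¹ * 1))) = 1) (hr5 : X0 * (X1 * (X0 * (X1⁻¹ * (X0⁻¹ * (X1 * (X0⁻¹ * (X1⁻¹ * 1))))))) = 1) : g87 X0 X1 X2 * X1 = g30 X0 X1 X2 :=
  deduce (path_cons (E_30_2 X0 X1 X2 hr0 hr1 hr2 hr3 hr4 hr5) (path_cons (E_29_1 X0 X1 X2) (path_cons (E_53_2 X0 X1 X2) (path_nil (g87 X0 X1 X2))))) (path_nil (g30 X0 X1 X2)) (rel_3_3 X0 X1 X2 hr0 hr1 hr2 hr3 hr4 hr5)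
theorem E_66_2 (X0 X1 X2 : M) (hr0 : X0 * (X0 * (X0 * 1)) = 1) (hr1 : X1 * (X1 * (X1 * 1)) = 1) (hr2 : X2 * (X2 * 1) = 1) (hr3 : X2 * (X1 * (X2 * (X1 * 1))) = 1) (hr4 : X2 * (X0 * (X2⁻¹ * (X0⁻¹ * 1))) = 1) (hr5 : X0 * (X1 * (X0 * (X1⁻¹ * (X0⁻¹ * (X1 * (X0⁻¹ * (X1⁻¹ * 1))))))) = 1) : g66 X0 X1 X2 * X2 = g97 X0 X1 X2 :=
  deduce (path_cons (E_37_2 X0 X1 X2 hr0 hr1 hr2 hr3 hr4 hr5) (path_cons (E_39_1 X0 X1 X2) (path_nil (g66 X0 X1 X2)))) (path_cons (E_97_1 X0 X1 X2 hr0 hr1 hr2 hr3 hr4 hr5) (path_nil (g37 X0 X1 X2))) (rel_3_2 X0 X1 X2 hr0 hr1 hr2 hr3 hr4 hr5)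
theorem E_98_1 (X0 X1 X2 : M) (hr0 : X0 * (X0 * (X0 * 1)) = 1) (hr1 : X1 * (X1 * (X1 * 1)) = 1) (hr2 : X2 * (X2 * 1) = 1) (hr3 : X2 * (X1 * (X2 * (X1 * 1))) = 1) (hr4 : X2 * (X0 * (X2⁻¹ * (X0⁻¹ * 1))) = 1) (hr5 : X0 * (X1 * (X0 * (X1⁻¹ * (X0⁻¹ * (X1 * (X0⁻¹ * (X1⁻¹ * 1))))))) = 1) : g98 X0 X1 X2 * X1 = g39 X0 X1 X2 :=
  deduce (path_cons (E_39_2 X0 X1 X2 hr0 hr1 hr2 hr3 hr4 hr5) (path_cons (E_37_1 X0 X1 X2) (path_cons (E_63_2 X0 X1 X2) (path_nil (g98 X0 X1 X2))))) (path_nil (g39 X0 X1 X2)) (rel_3_3 X0 X1 X2 hr0 hr1 hr2 hr3 hr4 hr5)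
theorem E_77_2 (X0 X1 X2 : M) (hr0 : X0 * (X0 * (X0 * 1)) = 1) (hr1 : X1 * (X1 * (X1 * 1)) = 1) (hr2 : X2 * (X2 * 1) = 1) (hr3 : X2 * (X1 * (X2 * (X1 * 1))) = 1) (hr4 : X2 * (X0 * (X2⁻¹ * (X0⁻¹ * 1))) = 1) (hr5 : X0 * (X1 * (X0 * (X1⁻¹ * (X0⁻¹ * (X1 * (X0⁻¹ * (X1⁻¹ * 1))))))) = 1) : g77 X0 X1 X2 * X2 = g109 X0 X1 X2 :=
  deduce (path_cons (E_44_2 X0 X1 X2 hr0 hr1 hr2 hr3 hr4 hr5) (path_cons (E_45_1 X0 X1 X2) (path_nil (g77 X0 X1 X2)))) (path_cons (E_109_1 X0 X1 X2 hr0 hr1 hr2 hr3 hr4 hr5) (path_nil (g44 X0 X1 X2))) (rel_3_2 X0 X1 X2 hr0 hr1 hr2 hr3 hr4 hr5)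
theorem E_110_1 (X0 X1 X2 : M) (hr0 : X0 * (X0 * (X0 * 1)) = 1) (hr1 : X1 * (X1 * (X1 * 1)) = 1) (hr2 : X2 * (X2 * 1) = 1) (hr3 : X2 * (X1 * (X2 * (X1 * 1))) = 1) (hr4 : X2 * (X0 * (X2⁻¹ * (X0⁻¹ * 1))) = 1) (hr5 : X0 * (X1 * (X0 * (X1⁻¹ * (X0⁻¹ * (X1 * (X0⁻¹ * (X1⁻¹ * 1))))))) = 1) : g110 X0 X1 X2 * X1 = g45 X0 X1 X2 :=
  deduce (path_cons (E_45_2 X0 X1 X2 hr0 hr1 hr2 hr3 hr4 hr5) (path_cons (E_44_1 X0 X1 X2) (path_cons (E_75_2 X0 X1 X2) (path_nil (g110 X0 X1 X2))))) (path_nil (g45 X0 X1 X2)) (rel_3_3 X0 X1 X2 hr0 hr1 hr2 hr3 hr4 hr5)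
theorem E_88_2 (X0 X1 X2 : M) (hr0 : X0 * (X0 * (X0 * 1)) = 1) (hr1 : X1 * (X1 * (X1 * 1)) = 1) (hr2 : X2 * (X2 * 1) = 1) (hr3 : X2 * (X1 * (X2 * (X1 * 1))) = 1) (hr4 : X2 * (X0 * (X2⁻¹ * (X0⁻¹ * 1))) = 1) (hr5 : X0 * (X1 * (X0 * (X1⁻¹ * (X0⁻¹ * (X1 * (X0⁻¹ * (X1⁻¹ * 1))))))) = 1) : g88 X0 X1 X2 * X2 = g120 X0 X1 X2 :=
  deduce (path_cons (E_52_2 X0 X1 X2 hr0 hr1 hr2 hr3 hr4 hr5) (path_cons (E_54_1 X0 X1 X2) (path_nil (g88 X0 X1 X2)))) (path_cons (E_120_1 X0 X1 X2 hr0 hr1 hr2 hr3 hr4 hr5) (path_nil (g52 X0 X1 X2))) (rel_3_2 X0 X1 X2 hr0 hr1 hr2 hr3 hr4 hr5)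
theorem E_121_1 (X0 X1 X2 : M) (hr0 : X0 * (X0 * (X0 * 1)) = 1) (hr1 : X1 * (X1 * (X1 * 1)) = 1) (hr2 : X2 * (X2 * 1) = 1) (hr3 : X2 * (X1 * (X2 * (X1 * 1))) = 1) (hr4 : X2 * (X0 * (X2⁻¹ * (X0⁻¹ * 1))) = 1) (hr5 : X0 * (X1 * (X0 * (X1⁻¹ * (X0⁻¹ * (X1 * (X0⁻¹ * (X1⁻¹ * 1))))))) = 1) : g121 X0 X1 X2 * X1 = g54 X0 X1 X2 :=
  deduce (path_cons (E_54_2 X0 X1 X2 hr0 hr1 hr2 hr3 hr4 hr5) (path_cons (E_52_1 X0 X1 X2) (path_cons (E_85_2 X0 X1 X2) (path_nil (g121 X0 X1 X2))))) (path_nil (g54 X0 X1 X2)) (rel_3_3 X0 X1 X2 hr0 hr1 hr2 hr3 hr4 hr5)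
theorem E_111_2 (X0 X1 X2 : M) (hr0 : X0 * (X0 * (X0 * 1)) = 1) (hr1 : X1 * (X1 * (X1 * 1)) = 1) (hr2 : X2 * (X2 * 1) = 1) (hr3 : X2 * (X1 * (X2 * (X1 * 1))) = 1) (hr4 : X2 * (X0 * (X2⁻¹ * (X0⁻¹ * 1))) = 1) (hr5 : X0 * (X1 * (X0 * (X1⁻¹ * (X0⁻¹ * (X1 * (X0⁻¹ * (X1⁻¹ * 1))))))) = 1) : g111 X0 X1 X2 * X2 = g138 X0 X1 X2 :=
  deduce (path_cons (E_74_2 X0 X1 X2 hr0 hr1 hr2 hr3 hr4 hr5) (path_cons (E_76_1 X0 X1 X2) (path_nil (g111 X0 X1 X2)))) (path_cons (E_138_1 X0 X1 X2 hr0 hr1 hr2 hr3 hr4 hr5) (path_nil (g74 X0 X1 X2))) (rel_3_2 X0 X1 X2 hr0 hr1 hr2 hr3 hr4 hr5)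
theorem E_139_1 (X0 X1 X2 : M) (hr0 : X0 * (X0 * (X0 * 1)) = 1) (hr1 : X1 * (X1 * (X1 * 1)) = 1) (hr2 : X2 * (X2 * 1) = 1) (hr3 : X2 * (X1 * (X2 * (X1 * 1))) = 1) (hr4 : X2 * (X0 * (X2⁻¹ * (X0⁻¹ * 1))) = 1) (hr5 : X0 * (X1 * (X0 * (X1⁻¹ * (X0⁻¹ * (X1 * (X0⁻¹ * (X1⁻¹ * 1))))))) = 1) : g139 X0 X1 X2 * X1 = g76 X0 X1 X2 :=
  deduce (path_cons (E_76_2 X0 X1 X2 hr0 hr1 hr2 hr3 hr4 hr5) (path_cons (E_74_1 X0 X1 X2) (path_cons (E_108_2 X0 X1 X2) (path_nil (g139 X0 X1 X2))))) (path_nil (g76 X0 X1 X2)) (rel_3_3 X0 X1 X2 hr0 hr1 hr2 hr3 hr4 hr5)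
theorem E_65_0 (X0 X1 X2 : M) (hr0 : X0 * (X0 * (X0 * 1)) = 1) (hr1 : X1 * (X1 * (X1 * 1)) = 1) (hr2 : X2 * (X2 * 1) = 1) (hr3 : X2 * (X1 * (X2 * (X1 * 1))) = 1) (hr4 : X2 * (X0 * (X2⁻¹ * (X0⁻¹ * 1))) = 1) (hr5 : X0 * (X1 * (X0 * (X1⁻¹ * (X0⁻¹ * (X1 * (X0⁻¹ * (X1⁻¹ * 1))))))) = 1) : g65 X0 X1 X2 * X0 = g87 X0 X1 X2 :=
  deduce (path_cons (E_38_2 X0 X1 X2) (path_nil (g65 X0 X1 X2))) (path_cons (inv_edge (E_53_2 X0 X1 X2)) (path_cons (inv_edge (E_38_0 X0 X1 X2 hr0 hr1 hr2 hr3 hr4 hr5)) (path_nil (g38 X0 X1 X2)))) (rel_4_1 X0 X1 X2 hr0 hr1 hr2 hr3 hr4 hr5)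
theorem E_67_2 (X0 X1 X2 : M) (hr0 : X0 * (X0 * (X0 * 1)) = 1) (hr1 : X1 * (X1 * (X1 * 1)) = 1) (hr2 : X2 * (X2 * 1) = 1) (hr3 : X2 * (X1 * (X2 * (X1 * 1))) = 1) (hr4 : X2 * (X0 * (X2⁻¹ * (X0⁻¹ * 1))) = 1) (hr5 : X0 * (X1 * (X0 * (X1⁻¹ * (X0⁻¹ * (X1 * (X0⁻¹ * (X1⁻¹ * 1))))))) = 1) : g67 X0 X1 X2 * X2 = g95 X0 X1 X2 :=
  edge_of_inv (deduce (path_cons (E_40_2 X0 X1 X2 hr0 hr1 hr2 hr3 hr4 hr5) (path_cons (E_64_0 X0 X1 X2 hr0 hr1 hr2 hr3 hr4 hr5) (path_nil (g95 X0 X1 X2)))) (path_cons (inv_edge (E_40_0 X0 X1 X2)) (path_nil (g40 X0 X1 X2))) (rel_4_2 X0 X1 X2 hr0 hr1 hr2 hr3 hr4 hr5))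
theorem E_87_0 (X0 X1 X2 : M) (hr0 : X0 * (X0 * (X0 * 1)) = 1) (hr1 : X1 * (X1 * (X1 * 1)) = 1) (hr2 : X2 * (X2 * 1) = 1) (hr3 : X2 * (X1 * (X2 * (X1 * 1))) = 1) (hr4 : X2 * (X0 * (X2⁻¹ * (X0⁻¹ * 1))) = 1) (hr5 : X0 * (X1 * (X0 * (X1⁻¹ * (X0⁻¹ * (X1 * (X0⁻¹ * (X1⁻¹ * 1))))))) = 1) : g87 X0 X1 X2 * X0 = g110 X0 X1 X2 :=
  deduce (path_cons (E_53_2 X0 X1 X2) (path_nil (g87 X0 X1 X2))) (path_cons (inv_edge (E_75_2 X0 X1 X2)) (path_cons (inv_edge (E_53_0 X0 X1 X2 hr0 hr1 hr2 hr3 hr4 hr5)) (path_nil (g53 X0 X1 X2)))) (rel_4_1 X0 X1 X2 hr0 hr1 hr2 hr3 hr4 hr5)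
theorem E_89_2 (X0 X1 X2 : M) (hr0 : X0 * (X0 * (X0 * 1)) = 1) (hr1 : X1 * (X1 * (X1 * 1)) = 1) (hr2 : X2 * (X2 * 1) = 1) (hr3 : X2 * (X1 * (X2 * (X1 * 1))) = 1) (hr4 : X2 * (X0 * (X2⁻¹ * (X0⁻¹ * 1))) = 1) (hr5 : X0 * (X1 * (X0 * (X1⁻¹ * (X0⁻¹ * (X1 * (X0⁻¹ * (X1⁻¹ * 1))))))) = 1) : g89 X0 X1 X2 * X2 = g118 X0 X1 X2 :=
  edge_of_inv (deduce (path_cons (E_55_2 X0 X1 X2 hr0 hr1 hr2 hr3 hr4 hr5) (path_cons (E_86_0 X0 X1 X2 hr0 hr1 hr2 hr3 hr4 hr5) (path_nil (g118 X0 X1 X2)))) (path_cons (inv_edge (E_55_0 X0 X1 X2)) (path_nil (g55 X0 X1 X2))) (rel_4_2 X0 X1 X2 hr0 hr1 hr2 hr3 hr4 hr5))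
theorem E_96_0 (X0 X1 X2 : M) (hr0 : X0 * (X0 * (X0 * 1)) = 1) (hr1 : X1 * (X1 * (X1 * 1)) = 1) (hr2 : X2 * (X2 * 1) = 1) (hr3 : X2 * (X1 * (X2 * (X1 * 1))) = 1) (hr4 : X2 * (X0 * (X2⁻¹ * (X0⁻¹ * 1))) = 1) (hr5 : X0 * (X1 * (X0 * (X1⁻¹ * (X0⁻¹ * (X1 * (X0⁻¹ * (X1⁻¹ * 1))))))) = 1) : g96 X0 X1 X2 * X0 = g119 X0 X1 X2 :=
  deduce (path_cons (E_61_2 X0 X1 X2) (path_nil (g96 X0 X1 X2))) (path_cons (inv_edge (E_83_2 X0 X1 X2)) (path_cons (inv_edge (E_61_0 X0 X1 X2 hr0 hr1 hr2 hr3 hr4 hr5)) (path_nil (g61 X0 X1 X2)))) (rel_4_1 X0 X1 X2 hr0 hr1 hr2 hr3 hr4 hr5)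
theorem E_98_0 (X0 X1 X2 : M) (hr0 : X0 * (X0 * (X0 * 1)) = 1) (hr1 : X1 * (X1 * (X1 * 1)) = 1) (hr2 : X2 * (X2 * 1) = 1) (hr3 : X2 * (X1 * (X2 * (X1 * 1))) = 1) (hr4 : X2 * (X0 * (X2⁻¹ * (X0⁻¹ * 1))) = 1) (hr5 : X0 * (X1 * (X0 * (X1⁻¹ * (X0⁻¹ * (X1 * (X0⁻¹ * (X1⁻¹ * 1))))))) = 1) : g98 X0 X1 X2 * X0 = g121 X0 X1 X2 :=
  deduce (path_cons (E_63_2 X0 X1 X2) (path_nil (g98 X0 X1 X2))) (path_cons (inv_edge (E_85_2 X0 X1 X2)) (path_cons (inv_edge (E_63_0 X0 X1 X2 hr0 hr1 hr2 hr3 hr4 hr5)) (path_nil (g63 X0 X1 X2)))) (rel_4_1 X0 X1 X2 hr0 hr1 hr2 hr3 hr4 hr5)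
theorem E_99_2 (X0 X1 X2 : M) (hr0 : X0 * (X0 * (X0 * 1)) = 1) (hr1 : X1 * (X1 * (X1 * 1)) = 1) (hr2 : X2 * (X2 * 1) = 1) (hr3 : X2 * (X1 * (X2 * (X1 * 1))) = 1) (hr4 : X2 * (X0 * (X2⁻¹ * (X0⁻¹ * 1))) = 1) (hr5 : X0 * (X1 * (X0 * (X1⁻¹ * (X0⁻¹ * (X1 * (X0⁻¹ * (X1⁻¹ * 1))))))) = 1) : g99 X0 X1 X2 * X2 = g128 X0 X1 X2 :=
  edge_of_inv (deduce (path_cons (E_66_2 X0 X1 X2 hr0 hr1 hr2 hr3 hr4 hr5) (path_cons (E_97_0 X0 X1 X2 hr0 hr1 hr2 hr3 hr4 hr5) (path_nil (g128 X0 X1 X2)))) (path_cons (inv_edge (E_66_0 X0 X1 X2)) (path_nil (g66 X0 X1 X2))) (rel_4_2 X0 X1 X2 hr0 hr1 hr2 hr3 hr4 hr5))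
theorem E_100_2 (X0 X1 X2 : M) (hr0 : X0 * (X0 * (X0 * 1)) = 1) (hr1 : X1 * (X1 * (X1 * 1)) = 1) (hr2 : X2 * (X2 * 1) = 1) (hr3 : X2 * (X1 * (X2 * (X1 * 1))) = 1) (hr4 : X2 * (X0 * (X2⁻¹ * (X0⁻¹ * 1))) = 1) (hr5 : X0 * (X1 * (X0 * (X1⁻¹ * (X0⁻¹ * (X1 * (X0⁻¹ * (X1⁻¹ * 1))))))) = 1) : g100 X0 X1 X2 * X2 = g126 X0 X1 X2 :=
  edge_of_inv (deduce (path_cons (E_67_2 X0 X1 X2 hr0 hr1 hr2 hr3 hr4 hr5) (path_cons (E_95_0 X0 X1 X2 hr0 hr1 hr2 hr3 hr4 hr5) (path_nil (g126 X0 X1 X2)))) (path_cons (inv_edge (E_67_0 X0 X1 X2)) (path_nil (g67 X0 X1 X2))) (rel_4_2 X0 X1 X2 hr0 hr1 hr2 hr3 hr4 hr5))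
theorem E_110_0 (X0 X1 X2 : M) (hr0 : X0 * (X0 * (X0 * 1)) = 1) (hr1 : X1 * (X1 * (X1 * 1)) = 1) (hr2 : X2 * (X2 * 1) = 1) (hr3 : X2 * (X1 * (X2 * (X1 * 1))) = 1) (hr4 : X2 * (X0 * (X2⁻¹ * (X0⁻¹ * 1))) = 1) (hr5 : X0 * (X1 * (X0 * (X1⁻¹ * (X0⁻¹ * (X1 * (X0⁻¹ * (X1⁻¹ * 1))))))) = 1) : g110 X0 X1 X2 * X0 = g65 X0 X1 X2 :=
  deduce (path_cons (E_75_2 X0 X1 X2) (path_nil (g110 X0 X1 X2))) (path_cons (inv_edge (E_38_2 X0 X1 X2)) (path_cons (inv_edge (E_75_0 X0 X1 X2 hr0 hr1 hr2 hr3 hr4 hr5)) (path_nil (g75 X0 X1 X2)))) (rel_4_1 X0 X1 X2 hr0 hr1 hr2 hr3 hr4 hr5)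
theorem E_112_2 (X0 X1 X2 : M) (hr0 : X0 * (X0 * (X0 * 1)) = 1) (hr1 : X1 * (X1 * (X1 * 1)) = 1) (hr2 : X2 * (X2 * 1) = 1) (hr3 : X2 * (X1 * (X2 * (X1 * 1))) = 1) (hr4 : X2 * (X0 * (X2⁻¹ * (X0⁻¹ * 1))) = 1) (hr5 : X0 * (X1 * (X0 * (X1⁻¹ * (X0⁻¹ * (X1 * (X0⁻¹ * (X1⁻¹ * 1))))))) = 1) : g112 X0 X1 X2 * X2 = g136 X0 X1 X2 :=
  edge_of_inv (deduce (path_cons (E_77_2 X0 X1 X2 hr0 hr1 hr2 hr3 hr4 hr5) (path_cons (E_109_0 X0 X1 X2 hr0 hr1 hr2 hr3 hr4 hr5) (path_nil (g136 X0 X1 X2)))) (path_cons (inv_edge (E_77_0 X0 X1 X2)) (path_nil (g77 X0 X1 X2))) (rel_4_2 X0 X1 X2 hr0 hr1 hr2 hr3 hr4 hr5))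
theorem E_119_0 (X0 X1 X2 : M) (hr0 : X0 * (X0 * (X0 * 1)) = 1) (hr1 : X1 * (X1 * (X1 * 1)) = 1) (hr2 : X2 * (X2 * 1) = 1) (hr3 : X2 * (X1 * (X2 * (X1 * 1))) = 1) (hr4 : X2 * (X0 * (X2⁻¹ * (X0⁻¹ * 1))) = 1) (hr5 : X0 * (X1 * (X0 * (X1⁻¹ * (X0⁻¹ * (X1 * (X0⁻¹ * (X1⁻¹ * 1))))))) = 1) : g119 X0 X1 X2 * X0 = g137 X0 X1 X2 :=
  deduce (path_cons (E_83_2 X0 X1 X2) (path_nil (g119 X0 X1 X2))) (path_cons (inv_edge (E_106_2 X0 X1 X2)) (path_cons (inv_edge (E_83_0 X0 X1 X2 hr0 hr1 hr2 hr3 hr4 hr5)) (path_nil (g83 X0 X1 X2)))) (rel_4_1 X0 X1 X2 hr0 hr1 hr2 hr3 hr4 hr5)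
theorem E_121_0 (X0 X1 X2 : M) (hr0 : X0 * (X0 * (X0 * 1)) = 1) (hr1 : X1 * (X1 * (X1 * 1)) = 1) (hr2 : X2 * (X2 * 1) = 1) (hr3 : X2 * (X1 * (X2 * (X1 * 1))) = 1) (hr4 : X2 * (X0 * (X2⁻¹ * (X0⁻¹ * 1))) = 1) (hr5 : X0 * (X1 * (X0 * (X1⁻¹ * (X0⁻¹ * (X1 * (X0⁻¹ * (X1⁻¹ * 1))))))) = 1) : g121 X0 X1 X2 * X0 = g139 X0 X1 X2 :=
  deduce (path_cons (E_85_2 X0 X1 X2) (path_nil (g121 X0 X1 X2))) (path_cons (inv_edge (E_108_2 X0 X1 X2)) (path_cons (inv_edge (E_85_0 X0 X1 X2 hr0 hr1 hr2 hr3 hr4 hr5)) (path_nil (g85 X0 X1 X2)))) (rel_4_1 X0 X1 X2 hr0 hr1 hr2 hr3 hr4 hr5)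
theorem E_122_2 (X0 X1 X2 : M) (hr0 : X0 * (X0 * (X0 * 1)) = 1) (hr1 : X1 * (X1 * (X1 * 1)) = 1) (hr2 : X2 * (X2 * 1) = 1) (hr3 : X2 * (X1 * (X2 * (X1 * 1))) = 1) (hr4 : X2 * (X0 * (X2⁻¹ * (X0⁻¹ * 1))) = 1) (hr5 : X0 * (X1 * (X0 * (X1⁻¹ * (X0⁻¹ * (X1 * (X0⁻¹ * (X1⁻¹ * 1))))))) = 1) : g122 X0 X1 X2 * X2 = g146 X0 X1 X2 :=
  edge_of_inv (deduce (path_cons (E_88_2 X0 X1 X2 hr0 hr1 hr2 hr3 hr4 hr5) (path_cons (E_120_0 X0 X1 X2 hr0 hr1 hr2 hr3 hr4 hr5) (path_nil (g146 X0 X1 X2)))) (path_cons (inv_edge (E_88_0 X0 X1 X2)) (path_nil (g88 X0 X1 X2))) (rel_4_2 X0 X1 X2 hr0 hr1 hr2 hr3 hr4 hr5))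
theorem E_123_2 (X0 X1 X2 : M) (hr0 : X0 * (X0 * (X0 * 1)) = 1) (hr1 : X1 * (X1 * (X1 * 1)) = 1) (hr2 : X2 * (X2 * 1) = 1) (hr3 : X2 * (X1 * (X2 * (X1 * 1))) = 1) (hr4 : X2 * (X0 * (X2⁻¹ * (X0⁻¹ * 1))) = 1) (hr5 : X0 * (X1 * (X0 * (X1⁻¹ * (X0⁻¹ * (X1 * (X0⁻¹ * (X1⁻¹ * 1))))))) = 1) : g123 X0 X1 X2 * X2 = g144 X0 X1 X2 :=
  edge_of_inv (deduce (path_cons (E_89_2 X0 X1 X2 hr0 hr1 hr2 hr3 hr4 hr5) (path_cons (E_118_0 X0 X1 X2 hr0 hr1 hr2 hr3 hr4 hr5) (path_nil (g144 X0 X1 X2)))) (path_cons (inv_edge (E_89_0 X0 X1 X2)) (path_nil (g89 X0 X1 X2))) (rel_4_2 X0 X1 X2 hr0 hr1 hr2 hr3 hr4 hr5))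
theorem E_127_0 (X0 X1 X2 : M) (hr0 : X0 * (X0 * (X0 * 1)) = 1) (hr1 : X1 * (X1 * (X1 * 1)) = 1) (hr2 : X2 * (X2 * 1) = 1) (hr3 : X2 * (X1 * (X2 * (X1 * 1))) = 1) (hr4 : X2 * (X0 * (X2⁻¹ * (X0⁻¹ * 1))) = 1) (hr5 : X0 * (X1 * (X0 * (X1⁻¹ * (X0⁻¹ * (X1 * (X0⁻¹ * (X1⁻¹ * 1))))))) = 1) : g127 X0 X1 X2 * X0 = g145 X0 X1 X2 :=
  deduce (path_cons (E_91_2 X0 X1 X2) (path_nil (g127 X0 X1 X2))) (path_cons (inv_edge (E_114_2 X0 X1 X2)) (path_cons (inv_edge (E_91_0 X0 X1 X2 hr0 hr1 hr2 hr3 hr4 hr5)) (path_nil (g91 X0 X1 X2)))) (rel_4_1 X0 X1 X2 hr0 hr1 hr2 hr3 hr4 hr5)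
theorem E_129_0 (X0 X1 X2 : M) (hr0 : X0 * (X0 * (X0 * 1)) = 1) (hr1 : X1 * (X1 * (X1 * 1)) = 1) (hr2 : X2 * (X2 * 1) = 1) (hr3 : X2 * (X1 * (X2 * (X1 * 1))) = 1) (hr4 : X2 * (X0 * (X2⁻¹ * (X0⁻¹ * 1))) = 1) (hr5 : X0 * (X1 * (X0 * (X1⁻¹ * (X0⁻¹ * (X1 * (X0⁻¹ * (X1⁻¹ * 1))))))) = 1) : g129 X0 X1 X2 * X0 = g147 X0 X1 X2 :=
  deduce (path_cons (E_93_2 X0 X1 X2) (path_nil (g129 X0 X1 X2))) (path_cons (inv_edge (E_116_2 X0 X1 X2)) (path_cons (inv_edge (E_93_0 X0 X1 X2 hr0 hr1 hr2 hr3 hr4 hr5)) (path_nil (g93 X0 X1 X2)))) (rel_4_1 X0 X1 X2 hr0 hr1 hr2 hr3 hr4 hr5)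
theorem E_130_2 (X0 X1 X2 : M) (hr0 : X0 * (X0 * (X0 * 1)) = 1) (hr1 : X1 * (X1 * (X1 * 1)) = 1) (hr2 : X2 * (X2 * 1) = 1) (hr3 : X2 * (X1 * (X2 * (X1 * 1))) = 1) (hr4 : X2 * (X0 * (X2⁻¹ * (X0⁻¹ * 1))) = 1) (hr5 : X0 * (X1 * (X0 * (X1⁻¹ * (X0⁻¹ * (X1 * (X0⁻¹ * (X1⁻¹ * 1))))))) = 1) : g130 X0 X1 X2 * X2 = g149 X0 X1 X2 :=
  edge_of_inv (deduce (path_cons (E_99_2 X0 X1 X2 hr0 hr1 hr2 hr3 hr4 hr5) (path_cons (E_128_0 X0 X1 X2 hr0 hr1 hr2 hr3 hr4 hr5) (path_nil (g149 X0 X1 X2)))) (path_cons (inv_edge (E_99_0 X0 X1 X2)) (path_nil (g99 X0 X1 X2))) (rel_4_2 X0 X1 X2 hr0 hr1 hr2 hr3 hr4 hr5))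
theorem E_137_0 (X0 X1 X2 : M) (hr0 : X0 * (X0 * (X0 * 1)) = 1) (hr1 : X1 * (X1 * (X1 * 1)) = 1) (hr2 : X2 * (X2 * 1) = 1) (hr3 : X2 * (X1 * (X2 * (X1 * 1))) = 1) (hr4 : X2 * (X0 * (X2⁻¹ * (X0⁻¹ * 1))) = 1) (hr5 : X0 * (X1 * (X0 * (X1⁻¹ * (X0⁻¹ * (X1 * (X0⁻¹ * (X1⁻¹ * 1))))))) = 1) : g137 X0 X1 X2 * X0 = g96 X0 X1 X2 :=
  deduce (path_cons (E_106_2 X0 X1 X2) (path_nil (g137 X0 X1 X2))) (path_cons (inv_edge (E_61_2 X0 X1 X2)) (path_cons (inv_edge (E_106_0 X0 X1 X2 hr0 hr1 hr2 hr3 hr4 hr5)) (path_nil (g106 X0 X1 X2)))) (rel_4_1 X0 X1 X2 hr0 hr1 hr2 hr3 hr4 hr5)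
theorem E_139_0 (X0 X1 X2 : M) (hr0 : X0 * (X0 * (X0 * 1)) = 1) (hr1 : X1 * (X1 * (X1 * 1)) = 1) (hr2 : X2 * (X2 * 1) = 1) (hr3 : X2 * (X1 * (X2 * (X1 * 1))) = 1) (hr4 : X2 * (X0 * (X2⁻¹ * (X0⁻¹ * 1))) = 1) (hr5 : X0 * (X1 * (X0 * (X1⁻¹ * (X0⁻¹ * (X1 * (X0⁻¹ * (X1⁻¹ * 1))))))) = 1) : g139 X0 X1 X2 * X0 = g98 X0 X1 X2 :=
  deduce (path_cons (E_108_2 X0 X1 X2) (path_nil (g139 X0 X1 X2))) (path_cons (inv_edge (E_63_2 X0 X1 X2)) (path_cons (inv_edge (E_108_0 X0 X1 X2 hr0 hr1 hr2 hr3 hr4 hr5)) (path_nil (g108 X0 X1 X2)))) (rel_4_1 X0 X1 X2 hr0 hr1 hr2 hr3 hr4 hr5)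
theorem E_140_2 (X0 X1 X2 : M) (hr0 : X0 * (X0 * (X0 * 1)) = 1) (hr1 : X1 * (X1 * (X1 * 1)) = 1) (hr2 : X2 * (X2 * 1) = 1) (hr3 : X2 * (X1 * (X2 * (X1 * 1))) = 1) (hr4 : X2 * (X0 * (X2⁻¹ * (X0⁻¹ * 1))) = 1) (hr5 : X0 * (X1 * (X0 * (X1⁻¹ * (X0⁻¹ * (X1 * (X0⁻¹ * (X1⁻¹ * 1))))))) = 1) : g140 X0 X1 X2 * X2 = g155 X0 X1 X2 :=
  edge_of_inv (deduce (path_cons (E_111_2 X0 X1 X2 hr0 hr1 hr2 hr3 hr4 hr5) (path_cons (E_138_0 X0 X1 X2 hr0 hr1 hr2 hr3 hr4 hr5) (path_nil (g155 X0 X1 X2)))) (path_cons (inv_edge (E_111_0 X0 X1 X2)) (path_nil (g111 X0 X1 X2))) (rel_4_2 X0 X1 X2 hr0 hr1 hr2 hr3 hr4 hr5))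
theorem E_141_2 (X0 X1 X2 : M) (hr0 : X0 * (X0 * (X0 * 1)) = 1) (hr1 : X1 * (X1 * (X1 * 1)) = 1) (hr2 : X2 * (X2 * 1) = 1) (hr3 : X2 * (X1 * (X2 * (X1 * 1))) = 1) (hr4 : X2 * (X0 * (X2⁻¹ * (X0⁻¹ * 1))) = 1) (hr5 : X0 * (X1 * (X0 * (X1⁻¹ * (X0⁻¹ * (X1 * (X0⁻¹ * (X1⁻¹ * 1))))))) = 1) : g141 X0 X1 X2 * X2 = g153 X0 X1 X2 :=
  edge_of_inv (deduce (path_cons (E_112_2 X0 X1 X2 hr0 hr1 hr2 hr3 hr4 hr5) (path_cons (E_136_0 X0 X1 X2 hr0 hr1 hr2 hr3 hr4 hr5) (path_nil (g153 X0 X1 X2)))) (path_cons (inv_edge (E_112_0 X0 X1 X2)) (path_nil (g112 X0 X1 X2))) (rel_4_2 X0 X1 X2 hr0 hr1 hr2 hr3 hr4 hr5))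
theorem E_145_0 (X0 X1 X2 : M) (hr0 : X0 * (X0 * (X0 * 1)) = 1) (hr1 : X1 * (X1 * (X1 * 1)) = 1) (hr2 : X2 * (X2 * 1) = 1) (hr3 : X2 * (X1 * (X2 * (X1 * 1))) = 1) (hr4 : X2 * (X0 * (X2⁻¹ * (X0⁻¹ * 1))) = 1) (hr5 : X0 * (X1 * (X0 * (X1⁻¹ * (X0⁻¹ * (X1 * (X0⁻¹ * (X1⁻¹ * 1))))))) = 1) : g145 X0 X1 X2 * X0 = g154 X0 X1 X2 :=
  deduce (path_cons (E_114_2 X0 X1 X2) (path_nil (g145 X0 X1 X2))) (path_cons (inv_edge (E_132_2 X0 X1 X2)) (path_cons (inv_edge (E_114_0 X0 X1 X2 hr0 hr1 hr2 hr3 hr4 hr5)) (path_nil (g114 X0 X1 X2)))) (rel_4_1 X0 X1 X2 hr0 hr1 hr2 hr3 hr4 hr5)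
theorem E_147_0 (X0 X1 X2 : M) (hr0 : X0 * (X0 * (X0 * 1)) = 1) (hr1 : X1 * (X1 * (X1 * 1)) = 1) (hr2 : X2 * (X2 * 1) = 1) (hr3 : X2 * (X1 * (X2 * (X1 * 1))) = 1) (hr4 : X2 * (X0 * (X2⁻¹ * (X0⁻¹ * 1))) = 1) (hr5 : X0 * (X1 * (X0 * (X1⁻¹ * (X0⁻¹ * (X1 * (X0⁻¹ * (X1⁻¹ * 1))))))) = 1) : g147 X0 X1 X2 * X0 = g156 X0 X1 X2 :=
  deduce (path_cons (E_116_2 X0 X1 X2) (path_nil (g147 X0 X1 X2))) (path_cons (inv_edge (E_134_2 X0 X1 X2)) (path_cons (inv_edge (E_116_0 X0 X1 X2 hr0 hr1 hr2 hr3 hr4 hr5)) (path_nil (g116 X0 X1 X2)))) (rel_4_1 X0 X1 X2 hr0 hr1 hr2 hr3 hr4 hr5)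
theorem E_148_2 (X0 X1 X2 : M) (hr0 : X0 * (X0 * (X0 * 1)) = 1) (hr1 : X1 * (X1 * (X1 * 1)) = 1) (hr2 : X2 * (X2 * 1) = 1) (hr3 : X2 * (X1 * (X2 * (X1 * 1))) = 1) (hr4 : X2 * (X0 * (X2⁻¹ * (X0⁻¹ * 1))) = 1) (hr5 : X0 * (X1 * (X0 * (X1⁻¹ * (X0⁻¹ * (X1 * (X0⁻¹ * (X1⁻¹ * 1))))))) = 1) : g148 X0 X1 X2 * X2 = g158 X0 X1 X2 :=
  edge_of_inv (deduce (path_cons (E_122_2 X0 X1 X2 hr0 hr1 hr2 hr3 hr4 hr5) (path_cons (E_146_0 X0 X1 X2 hr0 hr1 hr2 hr3 hr4 hr5) (path_nil (g158 X0 X1 X2)))) (path_cons (inv_edge (E_122_0 X0 X1 X2)) (path_nil (g122 X0 X1 X2))) (rel_4_2 X0 X1 X2 hr0 hr1 hr2 hr3 hr4 hr5))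
theorem E_150_0 (X0 X1 X2 : M) (hr0 : X0 * (X0 * (X0 * 1)) = 1) (hr1 : X1 * (X1 * (X1 * 1)) = 1) (hr2 : X2 * (X2 * 1) = 1) (hr3 : X2 * (X1 * (X2 * (X1 * 1))) = 1) (hr4 : X2 * (X0 * (X2⁻¹ * (X0⁻¹ * 1))) = 1) (hr5 : X0 * (X1 * (X0 * (X1⁻¹ * (X0⁻¹ * (X1 * (X0⁻¹ * (X1⁻¹ * 1))))))) = 1) : g150 X0 X1 X2 * X0 = g159 X0 X1 X2 :=
  deduce (path_cons (E_124_2 X0 X1 X2) (path_nil (g150 X0 X1 X2))) (path_cons (inv_edge (E_142_2 X0 X1 X2)) (path_cons (inv_edge (E_124_0 X0 X1 X2 hr0 hr1 hr2 hr3 hr4 hr5)) (path_nil (g124 X0 X1 X2)))) (rel_4_1 X0 X1 X2 hr0 hr1 hr2 hr3 hr4 hr5)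
theorem E_154_0 (X0 X1 X2 : M) (hr0 : X0 * (X0 * (X0 * 1)) = 1) (hr1 : X1 * (X1 * (X1 * 1)) = 1) (hr2 : X2 * (X2 * 1) = 1) (hr3 : X2 * (X1 * (X2 * (X1 * 1))) = 1) (hr4 : X2 * (X0 * (X2⁻¹ * (X0⁻¹ * 1))) = 1) (hr5 : X0 * (X1 * (X0 * (X1⁻¹ * (X0⁻¹ * (X1 * (X0⁻¹ * (X1⁻¹ * 1))))))) = 1) : g154 X0 X1 X2 * X0 = g127 X0 X1 X2 :=
  deduce (path_cons (E_132_2 X0 X1 X2) (path_nil (g154 X0 X1 X2))) (path_cons (inv_edge (E_91_2 X0 X1 X2)) (path_cons (inv_edge (E_132_0 X0 X1 X2 hr0 hr1 hr2 hr3 hr4 hr5)) (path_nil (g132 X0 X1 X2)))) (rel_4_1 X0 X1 X2 hr0 hr1 hr2 hr3 hr4 hr5)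
theorem E_156_0 (X0 X1 X2 : M) (hr0 : X0 * (X0 * (X0 * 1)) = 1) (hr1 : X1 * (X1 * (X1 * 1)) = 1) (hr2 : X2 * (X2 * 1) = 1) (hr3 : X2 * (X1 * (X2 * (X1 * 1))) = 1) (hr4 : X2 * (X0 * (X2⁻¹ * (X0⁻¹ * 1))) = 1) (hr5 : X0 * (X1 * (X0 * (X1⁻¹ * (X0⁻¹ * (X1 * (X0⁻¹ * (X1⁻¹ * 1))))))) = 1) : g156 X0 X1 X2 * X0 = g129 X0 X1 X2 :=
  deduce (path_cons (E_134_2 X0 X1 X2) (path_nil (g156 X0 X1 X2))) (path_cons (inv_edge (E_93_2 X0 X1 X2)) (path_cons (inv_edge (E_134_0 X0 X1 X2 hr0 hr1 hr2 hr3 hr4 hr5)) (path_nil (g134 X0 X1 X2)))) (rel_4_1 X0 X1 X2 hr0 hr1 hr2 hr3 hr4 hr5)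
theorem E_157_2 (X0 X1 X2 : M) (hr0 : X0 * (X0 * (X0 * 1)) = 1) (hr1 : X1 * (X1 * (X1 * 1)) = 1) (hr2 : X2 * (X2 * 1) = 1) (hr3 : X2 * (X1 * (X2 * (X1 * 1))) = 1) (hr4 : X2 * (X0 * (X2⁻¹ * (X0⁻¹ * 1))) = 1) (hr5 : X0 * (X1 * (X0 * (X1⁻¹ * (X0⁻¹ * (X1 * (X0⁻¹ * (X1⁻¹ * 1))))))) = 1) : g157 X0 X1 X2 * X2 = g160 X0 X1 X2 :=
  edge_of_inv (deduce (path_cons (E_140_2 X0 X1 X2 hr0 hr1 hr2 hr3 hr4 hr5) (path_cons (E_155_0 X0 X1 X2 hr0 hr1 hr2 hr3 hr4 hr5) (path_nil (g160 X0 X1 X2)))) (path_cons (inv_edge (E_140_0 X0 X1 X2)) (path_nil (g140 X0 X1 X2))) (rel_4_2 X0 X1 X2 hr0 hr1 hr2 hr3 hr4 hr5))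
theorem E_159_0 (X0 X1 X2 : M) (hr0 : X0 * (X0 * (X0 * 1)) = 1) (hr1 : X1 * (X1 * (X1 * 1)) = 1) (hr2 : X2 * (X2 * 1) = 1) (hr3 : X2 * (X1 * (X2 * (X1 * 1))) = 1) (hr4 : X2 * (X0 * (X2⁻¹ * (X0⁻¹ * 1))) = 1) (hr5 : X0 * (X1 * (X0 * (X1⁻¹ * (X0⁻¹ * (X1 * (X0⁻¹ * (X1⁻¹ * 1))))))) = 1) : g159 X0 X1 X2 * X0 = g161 X0 X1 X2 :=
  deduce (path_cons (E_142_2 X0 X1 X2) (path_nil (g159 X0 X1 X2))) (path_cons (inv_edge (E_151_2 X0 X1 X2)) (path_cons (inv_edge (E_142_0 X0 X1 X2 hr0 hr1 hr2 hr3 hr4 hr5)) (path_nil (g142 X0 X1 X2)))) (rel_4_1 X0 X1 X2 hr0 hr1 hr2 hr3 hr4 hr5)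
theorem E_161_0 (X0 X1 X2 : M) (hr0 : X0 * (X0 * (X0 * 1)) = 1) (hr1 : X1 * (X1 * (X1 * 1)) = 1) (hr2 : X2 * (X2 * 1) = 1) (hr3 : X2 * (X1 * (X2 * (X1 * 1))) = 1) (hr4 : X2 * (X0 * (X2⁻¹ * (X0⁻¹ * 1))) = 1) (hr5 : X0 * (X1 * (X0 * (X1⁻¹ * (X0⁻¹ * (X1 * (X0⁻¹ * (X1⁻¹ * 1))))))) = 1) : g161 X0 X1 X2 * X0 = g150 X0 X1 X2 :=
  deduce (path_cons (E_151_2 X0 X1 X2) (path_nil (g161 X0 X1 X2))) (path_cons (inv_edge (E_124_2 X0 X1 X2)) (path_cons (inv_edge (E_151_0 X0 X1 X2 hr0 hr1 hr2 hr3 hr4 hr5)) (path_nil (g151 X0 X1 X2)))) (rel_4_1 X0 X1 X2 hr0 hr1 hr2 hr3 hr4 hr5)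
theorem E_62_1 (X0 X1 X2 : M) (hr0 : X0 * (X0 * (X0 * 1)) = 1) (hr1 : X1 * (X1 * (X1 * 1)) = 1) (hr2 : X2 * (X2 * 1) = 1) (hr3 : X2 * (X1 * (X2 * (X1 * 1))) = 1) (hr4 : X2 * (X0 * (X2⁻¹ * (X0⁻¹ * 1))) = 1) (hr5 : X0 * (X1 * (X0 * (X1⁻¹ * (X0⁻¹ * (X1 * (X0⁻¹ * (X1⁻¹ * 1))))))) = 1) : g62 X0 X1 X2 * X1 = g67 X0 X1 X2 :=
  edge_of_inv (deduce (path_cons (E_10_0 X0 X1 X2) (path_cons (E_21_1 X0 X1 X2) (path_cons (E_40_0 X0 X1 X2) (path_nil (g67 X0 X1 X2))))) (path_cons (inv_edge (E_35_0 X0 X1 X2 hr0 hr1 hr2 hr3 hr4 hr5)) (path_cons (E_35_1 X0 X1 X2 hr0 hr1 hr2 hr3 hr4 hr5) (path_cons (inv_edge (E_9_0 X0 X1 X2 hr0 hr1 hr2 hr3 hr4 hr5)) (path_cons (inv_edge (E_10_1 X0 X1 X2 hr0 hr1 hr2 hr3 hr4 hr5)) (path_nil (g10 X0 X1 X2))))))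 (rel_5_3 X0 X1 X2 hr0 hr1 hr2 hr3 hr4 hr5))
theorem E_84_1 (X0 X1 X2 : M) (hr0 : X0 * (X0 * (X0 * 1)) = 1) (hr1 : X1 * (X1 * (X1 * 1)) = 1) (hr2 : X2 * (X2 * 1) = 1) (hr3 : X2 * (X1 * (X2 * (X1 * 1))) = 1) (hr4 : X2 * (X0 * (X2⁻¹ * (X0⁻¹ * 1))) = 1) (hr5 : X0 * (X1 * (X0 * (X1⁻¹ * (X0⁻¹ * (X1 * (X0⁻¹ * (X1⁻¹ * 1))))))) = 1) : g84 X0 X1 X2 * X1 = g89 X0 X1 X2 :=
  edge_of_inv (deduce (path_cons (E_16_0 X0 X1 X2) (path_cons (E_30_1 X0 X1 X2) (path_cons (E_55_0 X0 X1 X2) (path_nil (g89 X0 X1 X2))))) (path_cons (inv_edge (E_50_0 X0 X1 X2 hr0 hr1 hr2 hr3 hr4 hr5)) (path_cons (E_50_1 X0 X1 X2 hr0 hr1 hr2 hr3 hr4 hr5) (path_cons (inv_edge (E_15_0 X0 X1 X2 hr0 hr1 hr2 hr3 hr4 hr5)) (path_cons (inv_edge (E_16_1 X0 X1 X2 hr0 hr1 hr2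 hr3 hr4 hr5)) (path_nil (g16 X0 X1 X2)))))) (rel_5_3 X0 X1 X2 hr0 hr1 hr2 hr3 hr4 hr5))
theorem E_94_1 (X0 X1 X2 : M) (hr0 : X0 * (X0 * (X0 * 1)) = 1) (hr1 : X1 * (X1 * (X1 * 1)) = 1) (hr2 : X2 * (X2 * 1) = 1) (hr3 : X2 * (X1 * (X2 * (X1 * 1))) = 1) (hr4 : X2 * (X0 * (X2⁻¹ * (X0⁻¹ * 1))) = 1) (hr5 : X0 * (X1 * (X0 * (X1⁻¹ * (X0⁻¹ * (X1 * (X0⁻¹ * (X1⁻¹ * 1))))))) = 1) : g94 X0 X1 X2 * X1 = g99 X0 X1 X2 :=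
  edge_of_inv (deduce (path_cons (E_21_0 X0 X1 X2) (path_cons (E_39_1 X0 X1 X2) (path_cons (E_66_0 X0 X1 X2) (path_nil (g99 X0 X1 X2))))) (path_cons (inv_edge (E_62_0 X0 X1 X2 hr0 hr1 hr2 hr3 hr4 hr5)) (path_cons (E_62_1 X0 X1 X2 hr0 hr1 hr2 hr3 hr4 hr5) (path_cons (inv_edge (E_40_0 X0 X1 X2)) (path_cons (inv_edge (E_21_1 X0 X1 X2)) (path_nil (g21 X0 X1 X2)))))) (rel_5_3 X0 X1 X2 hr0 hr1 hr2 hr3 hr4 hr5))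
theorem E_107_1 (X0 X1 X2 : M) (hr0 : X0 * (X0 * (X0 * 1)) = 1) (hr1 : X1 * (X1 * (X1 * 1)) = 1) (hr2 : X2 * (X2 * 1) = 1) (hr3 : X2 * (X1 * (X2 * (X1 * 1))) = 1) (hr4 : X2 * (X0 * (X2⁻¹ * (X0⁻¹ * 1))) = 1) (hr5 : X0 * (X1 * (X0 * (X1⁻¹ * (X0⁻¹ * (X1 * (X0⁻¹ * (X1⁻¹ * 1))))))) = 1) : g107 X0 X1 X2 * X1 = g112 X0 X1 X2 :=
  edge_of_inv (deduce (path_cons (E_25_0 X0 X1 X2) (path_cons (E_45_1 X0 X1 X2) (path_cons (E_77_0 X0 X1 X2) (path_nil (g112 X0 X1 X2))))) (path_cons (inv_edge (E_72_0 X0 X1 X2 hr0 hr1 hr2 hr3 hr4 hr5)) (path_cons (E_72_1 X0 X1 X2 hr0 hr1 hr2 hr3 hr4 hr5) (path_cons (inv_edge (E_24_0 X0 X1 X2 hr0 hr1 hr2 hr3 hr4 hr5)) (path_cons (inv_edge (E_25_1 X0 X1 X2 hr0 hr1 hr2 hr3 hr4 hr5)) (path_nil (g25 X0 X1 X2))))))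 (rel_5_3 X0 X1 X2 hr0 hr1 hr2 hr3 hr4 hr5))
theorem E_117_1 (X0 X1 X2 : M) (hr0 : X0 * (X0 * (X0 * 1)) = 1) (hr1 : X1 * (X1 * (X1 * 1)) = 1) (hr2 : X2 * (X2 * 1) = 1) (hr3 : X2 * (X1 * (X2 * (X1 * 1))) = 1) (hr4 : X2 * (X0 * (X2⁻¹ * (X0⁻¹ * 1))) = 1) (hr5 : X0 * (X1 * (X0 * (X1⁻¹ * (X0⁻¹ * (X1 * (X0⁻¹ * (X1⁻¹ * 1))))))) = 1) : g117 X0 X1 X2 * X1 = g122 X0 X1 X2 :=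
  edge_of_inv (deduce (path_cons (E_30_0 X0 X1 X2) (path_cons (E_54_1 X0 X1 X2) (path_cons (E_88_0 X0 X1 X2) (path_nil (g122 X0 X1 X2))))) (path_cons (inv_edge (E_84_0 X0 X1 X2 hr0 hr1 hr2 hr3 hr4 hr5)) (path_cons (E_84_1 X0 X1 X2 hr0 hr1 hr2 hr3 hr4 hr5) (path_cons (inv_edge (E_55_0 X0 X1 X2)) (path_cons (inv_edge (E_30_1 X0 X1 X2)) (path_nil (g30 X0 X1 X2)))))) (rel_5_3 X0 X1 X2 hr0 hr1 hr2 hr3 hr4 hr5))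
theorem E_92_1 (X0 X1 X2 : M) (hr0 : X0 * (X0 * (X0 * 1)) = 1) (hr1 : X1 * (X1 * (X1 * 1)) = 1) (hr2 : X2 * (X2 * 1) = 1) (hr3 : X2 * (X1 * (X2 * (X1 * 1))) = 1) (hr4 : X2 * (X0 * (X2⁻¹ * (X0⁻¹ * 1))) = 1) (hr5 : X0 * (X1 * (X0 * (X1⁻¹ * (X0⁻¹ * (X1 * (X0⁻¹ * (X1⁻¹ * 1))))))) = 1) : g92 X0 X1 X2 * X1 = g100 X0 X1 X2 :=
  edge_of_inv (deduce (path_cons (E_35_0 X0 X1 X2 hr0 hr1 hr2 hr3 hr4 hr5) (path_cons (E_62_1 X0 X1 X2 hr0 hr1 hr2 hr3 hr4 hr5) (path_cons (E_67_0 X0 X1 X2) (path_nil (g100 X0 X1 X2))))) (path_cons (inv_edge (E_58_0 X0 X1 X2 hr0 hr1 hr2 hr3 hr4 hr5)) (path_cons (E_58_1 X0 X1 X2 hr0 hr1 hr2 hr3 hr4 hr5) (path_cons (inv_edge (E_19_0 X0 X1 X2 hr0 hr1 hr2 hr3 hr4 hr5)) (path_cons (inv_edge (E_35_1 X0 X1 X2 hr0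 hr1 hr2 hr3 hr4 hr5)) (path_nil (g35 X0 X1 X2)))))) (rel_5_3 X0 X1 X2 hr0 hr1 hr2 hr3 hr4 hr5))
theorem E_135_1 (X0 X1 X2 : M) (hr0 : X0 * (X0 * (X0 * 1)) = 1) (hr1 : X1 * (X1 * (X1 * 1)) = 1) (hr2 : X2 * (X2 * 1) = 1) (hr3 : X2 * (X1 * (X2 * (X1 * 1))) = 1) (hr4 : X2 * (X0 * (X2⁻¹ * (X0⁻¹ * 1))) = 1) (hr5 : X0 * (X1 * (X0 * (X1⁻¹ * (X0⁻¹ * (X1 * (X0⁻¹ * (X1⁻¹ * 1))))))) = 1) : g135 X0 X1 X2 * X1 = g140 X0 X1 X2 :=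
  edge_of_inv (deduce (path_cons (E_45_0 X0 X1 X2) (path_cons (E_76_1 X0 X1 X2) (path_cons (E_111_0 X0 X1 X2) (path_nil (g140 X0 X1 X2))))) (path_cons (inv_edge (E_107_0 X0 X1 X2 hr0 hr1 hr2 hr3 hr4 hr5)) (path_cons (E_107_1 X0 X1 X2 hr0 hr1 hr2 hr3 hr4 hr5) (path_cons (inv_edge (E_77_0 X0 X1 X2)) (path_cons (inv_edge (E_45_1 X0 X1 X2)) (path_nil (g45 X0 X1 X2)))))) (rel_5_3 X0 X1 X2 hr0 hr1 hr2 hr3 hr4 hr5))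
theorem E_115_1 (X0 X1 X2 : M) (hr0 : X0 * (X0 * (X0 * 1)) = 1) (hr1 : X1 * (X1 * (X1 * 1)) = 1) (hr2 : X2 * (X2 * 1) = 1) (hr3 : X2 * (X1 * (X2 * (X1 * 1))) = 1) (hr4 : X2 * (X0 * (X2⁻¹ * (X0⁻¹ * 1))) = 1) (hr5 : X0 * (X1 * (X0 * (X1⁻¹ * (X0⁻¹ * (X1 * (X0⁻¹ * (X1⁻¹ * 1))))))) = 1) : g115 X0 X1 X2 * X1 = g123 X0 X1 X2 :=
  edge_of_inv (deduce (path_cons (E_50_0 X0 X1 X2 hr0 hr1 hr2 hr3 hr4 hr5) (path_cons (E_84_1 X0 X1 X2 hr0 hr1 hr2 hr3 hr4 hr5) (path_cons (E_89_0 X0 X1 X2) (path_nil (g123 X0 X1 X2))))) (path_cons (inv_edge (E_80_0 X0 X1 X2 hr0 hr1 hr2 hr3 hr4 hr5)) (path_cons (E_80_1 X0 X1 X2 hr0 hr1 hr2 hr3 hr4 hr5) (path_cons (inv_edge (E_28_0 X0 X1 X2 hr0 hr1 hr2 hr3 hr4 hr5)) (path_cons (inv_edge (E_50_1 X0 X1 X2 hr0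 hr1 hr2 hr3 hr4 hr5)) (path_nil (g50 X0 X1 X2)))))) (rel_5_3 X0 X1 X2 hr0 hr1 hr2 hr3 hr4 hr5))
theorem E_125_1 (X0 X1 X2 : M) (hr0 : X0 * (X0 * (X0 * 1)) = 1) (hr1 : X1 * (X1 * (X1 * 1)) = 1) (hr2 : X2 * (X2 * 1) = 1) (hr3 : X2 * (X1 * (X2 * (X1 * 1))) = 1) (hr4 : X2 * (X0 * (X2⁻¹ * (X0⁻¹ * 1))) = 1) (hr5 : X0 * (X1 * (X0 * (X1⁻¹ * (X0⁻¹ * (X1 * (X0⁻¹ * (X1⁻¹ * 1))))))) = 1) : g125 X0 X1 X2 * X1 = g130 X0 X1 X2 :=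
  edge_of_inv (deduce (path_cons (E_62_0 X0 X1 X2 hr0 hr1 hr2 hr3 hr4 hr5) (path_cons (E_94_1 X0 X1 X2 hr0 hr1 hr2 hr3 hr4 hr5) (path_cons (E_99_0 X0 X1 X2) (path_nil (g130 X0 X1 X2))))) (path_cons (inv_edge (E_92_0 X0 X1 X2 hr0 hr1 hr2 hr3 hr4 hr5)) (path_cons (E_92_1 X0 X1 X2 hr0 hr1 hr2 hr3 hr4 hr5) (path_cons (inv_edge (E_67_0 X0 X1 X2)) (path_cons (inv_edge (E_62_1 X0 X1 X2 hr0 hr1 hr2 hr3 hr4 hr5)) (path_nil (g62 X0 X1 X2)))))) (rel_5_3 X0 X1 X2 hr0 hr1 hr2 hr3 hr4 hr5))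
theorem E_133_1 (X0 X1 X2 : M) (hr0 : X0 * (X0 * (X0 * 1)) = 1) (hr1 : X1 * (X1 * (X1 * 1)) = 1) (hr2 : X2 * (X2 * 1) = 1) (hr3 : X2 * (X1 * (X2 * (X1 * 1))) = 1) (hr4 : X2 * (X0 * (X2⁻¹ * (X0⁻¹ * 1))) = 1) (hr5 : X0 * (X1 * (X0 * (X1⁻¹ * (X0⁻¹ * (X1 * (X0⁻¹ * (X1⁻¹ * 1))))))) = 1) : g133 X0 X1 X2 * X1 = g141 X0 X1 X2 :=
  edge_of_inv (deduce (path_cons (E_72_0 X0 X1 X2 hr0 hr1 hr2 hr3 hr4 hr5) (path_cons (E_107_1 X0 X1 X2 hr0 hr1 hr2 hr3 hr4 hr5) (path_cons (E_112_0 X0 X1 X2) (path_nil (g141 X0 X1 X2))))) (path_cons (inv_edge (E_103_0 X0 X1 X2 hr0 hr1 hr2 hr3 hr4 hr5)) (path_cons (E_103_1 X0 X1 X2 hr0 hr1 hr2 hr3 hr4 hr5) (path_cons (inv_edge (E_43_0 X0 X1 X2 hr0 hr1 hr2 hr3 hr4 hr5)) (path_cons (inv_edge (E_72_1 X0 X1 X2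 hr0 hr1 hr2 hr3 hr4 hr5)) (path_nil (g72 X0 X1 X2)))))) (rel_5_3 X0 X1 X2 hr0 hr1 hr2 hr3 hr4 hr5))
theorem E_143_1 (X0 X1 X2 : M) (hr0 : X0 * (X0 * (X0 * 1)) = 1) (hr1 : X1 * (X1 * (X1 * 1)) = 1) (hr2 : X2 * (X2 * 1) = 1) (hr3 : X2 * (X1 * (X2 * (X1 * 1))) = 1) (hr4 : X2 * (X0 * (X2⁻¹ * (X0⁻¹ * 1))) = 1) (hr5 : X0 * (X1 * (X0 * (X1⁻¹ * (X0⁻¹ * (X1 * (X0⁻¹ * (X1⁻¹ * 1))))))) = 1) : g143 X0 X1 X2 * X1 = g148 X0 X1 X2 :=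
  edge_of_inv (deduce (path_cons (E_84_0 X0 X1 X2 hr0 hr1 hr2 hr3 hr4 hr5) (path_cons (E_117_1 X0 X1 X2 hr0 hr1 hr2 hr3 hr4 hr5) (path_cons (E_122_0 X0 X1 X2) (path_nil (g148 X0 X1 X2))))) (path_cons (inv_edge (E_115_0 X0 X1 X2 hr0 hr1 hr2 hr3 hr4 hr5)) (path_cons (E_115_1 X0 X1 X2 hr0 hr1 hr2 hr3 hr4 hr5) (path_cons (inv_edge (E_89_0 X0 X1 X2)) (path_cons (inv_edge (E_84_1 X0 X1 X2 hr0 hr1 hr2 hr3 hr4 hr5)) (path_nil (g84 X0 X1 X2)))))) (rel_5_3 X0 X1 X2 hr0 hr1 hr2 hr3 hr4 hr5))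
theorem E_152_1 (X0 X1 X2 : M) (hr0 : X0 * (X0 * (X0 * 1)) = 1) (hr1 : X1 * (X1 * (X1 * 1)) = 1) (hr2 : X2 * (X2 * 1) = 1) (hr3 : X2 * (X1 * (X2 * (X1 * 1))) = 1) (hr4 : X2 * (X0 * (X2⁻¹ * (X0⁻¹ * 1))) = 1) (hr5 : X0 * (X1 * (X0 * (X1⁻¹ * (X0⁻¹ * (X1 * (X0⁻¹ * (X1⁻¹ * 1))))))) = 1) : g152 X0 X1 X2 * X1 = g157 X0 X1 X2 :=
  edge_of_inv (deduce (path_cons (E_107_0 X0 X1 X2 hr0 hr1 hr2 hr3 hr4 hr5) (path_cons (E_135_1 X0 X1 X2 hr0 hr1 hr2 hr3 hr4 hr5) (path_cons (E_140_0 X0 X1 X2) (path_nil (g157 X0 X1 X2))))) (path_cons (inv_edge (E_133_0 X0 X1 X2 hr0 hr1 hr2 hr3 hr4 hr5)) (path_cons (E_133_1 X0 X1 X2 hr0 hr1 hr2 hr3 hr4 hr5) (path_cons (inv_edge (E_112_0 X0 X1 X2)) (path_cons (inv_edge (E_107_1 X0 X1 X2 hr0 hr1 hr2 hr3 hr4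 hr5)) (path_nil (g107 X0 X1 X2)))))) (rel_5_3 X0 X1 X2 hr0 hr1 hr2 hr3 hr4 hr5))
theorem E_40_1 (X0 X1 X2 : M) (hr0 : X0 * (X0 * (X0 * 1)) = 1) (hr1 : X1 * (X1 * (X1 * 1)) = 1) (hr2 : X2 * (X2 * 1) = 1) (hr3 : X2 * (X1 * (X2 * (X1 * 1))) = 1) (hr4 : X2 * (X0 * (X2⁻¹ * (X0⁻¹ * 1))) = 1) (hr5 : X0 * (X1 * (X0 * (X1⁻¹ * (X0⁻¹ * (X1 * (X0⁻¹ * (X1⁻¹ * 1))))))) = 1) : g40 X0 X1 X2 * X1 = g65 X0 X1 X2 :=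
  deduce (path_cons (E_21_1 X0 X1 X2) (path_nil (g40 X0 X1 X2))) (path_cons (E_65_1 X0 X1 X2 hr0 hr1 hr2 hr3 hr4 hr5) (path_nil (g21 X0 X1 X2))) (rel_1_1 X0 X1 X2 hr0 hr1 hr2 hr3 hr4 hr5)
theorem E_55_1 (X0 X1 X2 : M) (hr0 : X0 * (X0 * (X0 * 1)) = 1) (hr1 : X1 * (X1 * (X1 * 1)) = 1) (hr2 : X2 * (X2 * 1) = 1) (hr3 : X2 * (X1 * (X2 * (X1 * 1))) = 1) (hr4 : X2 * (X0 * (X2⁻¹ * (X0⁻¹ * 1))) = 1) (hr5 : X0 * (X1 * (X0 * (X1⁻¹ * (X0⁻¹ * (X1 * (X0⁻¹ * (X1⁻¹ * 1))))))) = 1) : g55 X0 X1 X2 * X1 = g87 X0 X1 X2 :=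
  deduce (path_cons (E_30_1 X0 X1 X2) (path_nil (g55 X0 X1 X2))) (path_cons (E_87_1 X0 X1 X2 hr0 hr1 hr2 hr3 hr4 hr5) (path_nil (g30 X0 X1 X2))) (rel_1_1 X0 X1 X2 hr0 hr1 hr2 hr3 hr4 hr5)
theorem E_66_1 (X0 X1 X2 : M) (hr0 : X0 * (X0 * (X0 * 1)) = 1) (hr1 : X1 * (X1 * (X1 * 1)) = 1) (hr2 : X2 * (X2 * 1) = 1) (hr3 : X2 * (X1 * (X2 * (X1 * 1))) = 1) (hr4 : X2 * (X0 * (X2⁻¹ * (X0⁻¹ * 1))) = 1) (hr5 : X0 * (X1 * (X0 * (X1⁻¹ * (X0⁻¹ * (X1 * (X0⁻¹ * (X1⁻¹ * 1))))))) = 1) : g66 X0 X1 X2 * X1 = g98 X0 X1 X2 :=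
  deduce (path_cons (E_39_1 X0 X1 X2) (path_nil (g66 X0 X1 X2))) (path_cons (E_98_1 X0 X1 X2 hr0 hr1 hr2 hr3 hr4 hr5) (path_nil (g39 X0 X1 X2))) (rel_1_1 X0 X1 X2 hr0 hr1 hr2 hr3 hr4 hr5)
theorem E_77_1 (X0 X1 X2 : M) (hr0 : X0 * (X0 * (X0 * 1)) = 1) (hr1 : X1 * (X1 * (X1 * 1)) = 1) (hr2 : X2 * (X2 * 1) = 1) (hr3 : X2 * (X1 * (X2 * (X1 * 1))) = 1) (hr4 : X2 * (X0 * (X2⁻¹ * (X0⁻¹ * 1))) = 1) (hr5 : X0 * (X1 * (X0 * (X1⁻¹ * (X0⁻¹ * (X1 * (X0⁻¹ * (X1⁻¹ * 1))))))) = 1) : g77 X0 X1 X2 * X1 = g110 X0 X1 X2 :=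
  deduce (path_cons (E_45_1 X0 X1 X2) (path_nil (g77 X0 X1 X2))) (path_cons (E_110_1 X0 X1 X2 hr0 hr1 hr2 hr3 hr4 hr5) (path_nil (g45 X0 X1 X2))) (rel_1_1 X0 X1 X2 hr0 hr1 hr2 hr3 hr4 hr5)
theorem E_88_1 (X0 X1 X2 : M) (hr0 : X0 * (X0 * (X0 * 1)) = 1) (hr1 : X1 * (X1 * (X1 * 1)) = 1) (hr2 : X2 * (X2 * 1) = 1) (hr3 : X2 * (X1 * (X2 * (X1 * 1))) = 1) (hr4 : X2 * (X0 * (X2⁻¹ * (X0⁻¹ * 1))) = 1) (hr5 : X0 * (X1 * (X0 * (X1⁻¹ * (X0⁻¹ * (X1 * (X0⁻¹ * (X1⁻¹ * 1))))))) = 1) : g88 X0 X1 X2 * X1 = g121 X0 X1 X2 :=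
  deduce (path_cons (E_54_1 X0 X1 X2) (path_nil (g88 X0 X1 X2))) (path_cons (E_121_1 X0 X1 X2 hr0 hr1 hr2 hr3 hr4 hr5) (path_nil (g54 X0 X1 X2))) (rel_1_1 X0 X1 X2 hr0 hr1 hr2 hr3 hr4 hr5)
theorem E_67_1 (X0 X1 X2 : M) (hr0 : X0 * (X0 * (X0 * 1)) = 1) (hr1 : X1 * (X1 * (X1 * 1)) = 1) (hr2 : X2 * (X2 * 1) = 1) (hr3 : X2 * (X1 * (X2 * (X1 * 1))) = 1) (hr4 : X2 * (X0 * (X2⁻¹ * (X0⁻¹ * 1))) = 1) (hr5 : X0 * (X1 * (X0 * (X1⁻¹ * (X0⁻¹ * (X1 * (X0⁻¹ * (X1⁻¹ * 1))))))) = 1) : g67 X0 X1 X2 * X1 = g96 X0 X1 X2 :=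
  deduce (path_cons (E_62_1 X0 X1 X2 hr0 hr1 hr2 hr3 hr4 hr5) (path_nil (g67 X0 X1 X2))) (path_cons (E_96_1 X0 X1 X2 hr0 hr1 hr2 hr3 hr4 hr5) (path_nil (g62 X0 X1 X2))) (rel_1_1 X0 X1 X2 hr0 hr1 hr2 hr3 hr4 hr5)
theorem E_111_1 (X0 X1 X2 : M) (hr0 : X0 * (X0 * (X0 * 1)) = 1) (hr1 : X1 * (X1 * (X1 * 1)) = 1) (hr2 : X2 * (X2 * 1) = 1) (hr3 : X2 * (X1 * (X2 * (X1 * 1))) = 1) (hr4 : X2 * (X0 * (X2⁻¹ * (X0⁻¹ * 1))) = 1) (hr5 : X0 * (X1 * (X0 * (X1⁻¹ * (X0⁻¹ * (X1 * (X0⁻¹ * (X1⁻¹ * 1))))))) = 1) : g111 X0 X1 X2 * X1 = g139 X0 X1 X2 :=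
  deduce (path_cons (E_76_1 X0 X1 X2) (path_nil (g111 X0 X1 X2))) (path_cons (E_139_1 X0 X1 X2 hr0 hr1 hr2 hr3 hr4 hr5) (path_nil (g76 X0 X1 X2))) (rel_1_1 X0 X1 X2 hr0 hr1 hr2 hr3 hr4 hr5)
theorem E_89_1 (X0 X1 X2 : M) (hr0 : X0 * (X0 * (X0 * 1)) = 1) (hr1 : X1 * (X1 * (X1 * 1)) = 1) (hr2 : X2 * (X2 * 1) = 1) (hr3 : X2 * (X1 * (X2 * (X1 * 1))) = 1) (hr4 : X2 * (X0 * (X2⁻¹ * (X0⁻¹ * 1))) = 1) (hr5 : X0 * (X1 * (X0 * (X1⁻¹ * (X0⁻¹ * (X1 * (X0⁻¹ * (X1⁻¹ * 1))))))) = 1) : g89 X0 X1 X2 * X1 = g119 X0 X1 X2 :=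
  deduce (path_cons (E_84_1 X0 X1 X2 hr0 hr1 hr2 hr3 hr4 hr5) (path_nil (g89 X0 X1 X2))) (path_cons (E_119_1 X0 X1 X2 hr0 hr1 hr2 hr3 hr4 hr5) (path_nil (g84 X0 X1 X2))) (rel_1_1 X0 X1 X2 hr0 hr1 hr2 hr3 hr4 hr5)
theorem E_100_1 (X0 X1 X2 : M) (hr0 : X0 * (X0 * (X0 * 1)) = 1) (hr1 : X1 * (X1 * (X1 * 1)) = 1) (hr2 : X2 * (X2 * 1) = 1) (hr3 : X2 * (X1 * (X2 * (X1 * 1))) = 1) (hr4 : X2 * (X0 * (X2⁻¹ * (X0⁻¹ * 1))) = 1) (hr5 : X0 * (X1 * (X0 * (X1⁻¹ * (X0⁻¹ * (X1 * (X0⁻¹ * (X1⁻¹ * 1))))))) = 1) : g100 X0 X1 X2 * X1 = g127 X0 X1 X2 :=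
  deduce (path_cons (E_92_1 X0 X1 X2 hr0 hr1 hr2 hr3 hr4 hr5) (path_nil (g100 X0 X1 X2))) (path_cons (E_127_1 X0 X1 X2 hr0 hr1 hr2 hr3 hr4 hr5) (path_nil (g92 X0 X1 X2))) (rel_1_1 X0 X1 X2 hr0 hr1 hr2 hr3 hr4 hr5)
theorem E_99_1 (X0 X1 X2 : M) (hr0 : X0 * (X0 * (X0 * 1)) = 1) (hr1 : X1 * (X1 * (X1 * 1)) = 1) (hr2 : X2 * (X2 * 1) = 1) (hr3 : X2 * (X1 * (X2 * (X1 * 1))) = 1) (hr4 : X2 * (X0 * (X2⁻¹ * (X0⁻¹ * 1))) = 1) (hr5 : X0 * (X1 * (X0 * (X1⁻¹ * (X0⁻¹ * (X1 * (X0⁻¹ * (X1⁻¹ * 1))))))) = 1) : g99 X0 X1 X2 * X1 = g129 X0 X1 X2 :=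
  deduce (path_cons (E_94_1 X0 X1 X2 hr0 hr1 hr2 hr3 hr4 hr5) (path_nil (g99 X0 X1 X2))) (path_cons (E_129_1 X0 X1 X2 hr0 hr1 hr2 hr3 hr4 hr5) (path_nil (g94 X0 X1 X2))) (rel_1_1 X0 X1 X2 hr0 hr1 hr2 hr3 hr4 hr5)
theorem E_112_1 (X0 X1 X2 : M) (hr0 : X0 * (X0 * (X0 * 1)) = 1) (hr1 : X1 * (X1 * (X1 * 1)) = 1) (hr2 : X2 * (X2 * 1) = 1) (hr3 : X2 * (X1 * (X2 * (X1 * 1))) = 1) (hr4 : X2 * (X0 * (X2⁻¹ * (X0⁻¹ * 1))) = 1) (hr5 : X0 * (X1 * (X0 * (X1⁻¹ * (X0⁻¹ * (X1 * (X0⁻¹ * (X1⁻¹ * 1))))))) = 1) : g112 X0 X1 X2 * X1 = g137 X0 X1 X2 :=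
  deduce (path_cons (E_107_1 X0 X1 X2 hr0 hr1 hr2 hr3 hr4 hr5) (path_nil (g112 X0 X1 X2))) (path_cons (E_137_1 X0 X1 X2 hr0 hr1 hr2 hr3 hr4 hr5) (path_nil (g107 X0 X1 X2))) (rel_1_1 X0 X1 X2 hr0 hr1 hr2 hr3 hr4 hr5)
theorem E_123_1 (X0 X1 X2 : M) (hr0 : X0 * (X0 * (X0 * 1)) = 1) (hr1 : X1 * (X1 * (X1 * 1)) = 1) (hr2 : X2 * (X2 * 1) = 1) (hr3 : X2 * (X1 * (X2 * (X1 * 1))) = 1) (hr4 : X2 * (X0 * (X2⁻¹ * (X0⁻¹ * 1))) = 1) (hr5 : X0 * (X1 * (X0 * (X1⁻¹ * (X0⁻¹ * (X1 * (X0⁻¹ * (X1⁻¹ * 1))))))) = 1) : g123 X0 X1 X2 * X1 = g145 X0 X1 X2 :=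
  deduce (path_cons (E_115_1 X0 X1 X2 hr0 hr1 hr2 hr3 hr4 hr5) (path_nil (g123 X0 X1 X2))) (path_cons (E_145_1 X0 X1 X2 hr0 hr1 hr2 hr3 hr4 hr5) (path_nil (g115 X0 X1 X2))) (rel_1_1 X0 X1 X2 hr0 hr1 hr2 hr3 hr4 hr5)
theorem E_122_1 (X0 X1 X2 : M) (hr0 : X0 * (X0 * (X0 * 1)) = 1) (hr1 : X1 * (X1 * (X1 * 1)) = 1) (hr2 : X2 * (X2 * 1) = 1) (hr3 : X2 * (X1 * (X2 * (X1 * 1))) = 1) (hr4 : X2 * (X0 * (X2⁻¹ * (X0⁻¹ * 1))) = 1) (hr5 : X0 * (X1 * (X0 * (X1⁻¹ * (X0⁻¹ * (X1 * (X0⁻¹ * (X1⁻¹ * 1))))))) = 1) : g122 X0 X1 X2 * X1 = g147 X0 X1 X2 :=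
  deduce (path_cons (E_117_1 X0 X1 X2 hr0 hr1 hr2 hr3 hr4 hr5) (path_nil (g122 X0 X1 X2))) (path_cons (E_147_1 X0 X1 X2 hr0 hr1 hr2 hr3 hr4 hr5) (path_nil (g117 X0 X1 X2))) (rel_1_1 X0 X1 X2 hr0 hr1 hr2 hr3 hr4 hr5)
theorem E_130_1 (X0 X1 X2 : M) (hr0 : X0 * (X0 * (X0 * 1)) = 1) (hr1 : X1 * (X1 * (X1 * 1)) = 1) (hr2 : X2 * (X2 * 1) = 1) (hr3 : X2 * (X1 * (X2 * (X1 * 1))) = 1) (hr4 : X2 * (X0 * (X2⁻¹ * (X0⁻¹ * 1))) = 1) (hr5 : X0 * (X1 * (X0 * (X1⁻¹ * (X0⁻¹ * (X1 * (X0⁻¹ * (X1⁻¹ * 1))))))) = 1) : g130 X0 X1 X2 * X1 = g150 X0 X1 X2 :=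
  deduce (path_cons (E_125_1 X0 X1 X2 hr0 hr1 hr2 hr3 hr4 hr5) (path_nil (g130 X0 X1 X2))) (path_cons (E_150_1 X0 X1 X2 hr0 hr1 hr2 hr3 hr4 hr5) (path_nil (g125 X0 X1 X2))) (rel_1_1 X0 X1 X2 hr0 hr1 hr2 hr3 hr4 hr5)
theorem E_141_1 (X0 X1 X2 : M) (hr0 : X0 * (X0 * (X0 * 1)) = 1) (hr1 : X1 * (X1 * (X1 * 1)) = 1) (hr2 : X2 * (X2 * 1) = 1) (hr3 : X2 * (X1 * (X2 * (X1 * 1))) = 1) (hr4 : X2 * (X0 * (X2⁻¹ * (X0⁻¹ * 1))) = 1) (hr5 : X0 * (X1 * (X0 * (X1⁻¹ * (X0⁻¹ * (X1 * (X0⁻¹ * (X1⁻¹ * 1))))))) = 1) : g141 X0 X1 X2 * X1 = g154 X0 X1 X2 :=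
  deduce (path_cons (E_133_1 X0 X1 X2 hr0 hr1 hr2 hr3 hr4 hr5) (path_nil (g141 X0 X1 X2))) (path_cons (E_154_1 X0 X1 X2 hr0 hr1 hr2 hr3 hr4 hr5) (path_nil (g133 X0 X1 X2))) (rel_1_1 X0 X1 X2 hr0 hr1 hr2 hr3 hr4 hr5)
theorem E_140_1 (X0 X1 X2 : M) (hr0 : X0 * (X0 * (X0 * 1)) = 1) (hr1 : X1 * (X1 * (X1 * 1)) = 1) (hr2 : X2 * (X2 * 1) = 1) (hr3 : X2 * (X1 * (X2 * (X1 * 1))) = 1) (hr4 : X2 * (X0 * (X2⁻¹ * (X0⁻¹ * 1))) = 1) (hr5 : X0 * (X1 * (X0 * (X1⁻¹ * (X0⁻¹ * (X1 * (X0⁻¹ * (X1⁻¹ * 1))))))) = 1) : g140 X0 X1 X2 * X1 = g156 X0 X1 X2 :=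
  deduce (path_cons (E_135_1 X0 X1 X2 hr0 hr1 hr2 hr3 hr4 hr5) (path_nil (g140 X0 X1 X2))) (path_cons (E_156_1 X0 X1 X2 hr0 hr1 hr2 hr3 hr4 hr5) (path_nil (g135 X0 X1 X2))) (rel_1_1 X0 X1 X2 hr0 hr1 hr2 hr3 hr4 hr5)
theorem E_148_1 (X0 X1 X2 : M) (hr0 : X0 * (X0 * (X0 * 1)) = 1) (hr1 : X1 * (X1 * (X1 * 1)) = 1) (hr2 : X2 * (X2 * 1) = 1) (hr3 : X2 * (X1 * (X2 * (X1 * 1))) = 1) (hr4 : X2 * (X0 * (X2⁻¹ * (X0⁻¹ * 1))) = 1) (hr5 : X0 * (X1 * (X0 * (X1⁻¹ * (X0⁻¹ * (X1 * (X0⁻¹ * (X1⁻¹ * 1))))))) = 1) : g148 X0 X1 X2 * X1 = g159 X0 X1 X2 :=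
  deduce (path_cons (E_143_1 X0 X1 X2 hr0 hr1 hr2 hr3 hr4 hr5) (path_nil (g148 X0 X1 X2))) (path_cons (E_159_1 X0 X1 X2 hr0 hr1 hr2 hr3 hr4 hr5) (path_nil (g143 X0 X1 X2))) (rel_1_1 X0 X1 X2 hr0 hr1 hr2 hr3 hr4 hr5)
theorem E_157_1 (X0 X1 X2 : M) (hr0 : X0 * (X0 * (X0 * 1)) = 1) (hr1 : X1 * (X1 * (X1 * 1)) = 1) (hr2 : X2 * (X2 * 1) = 1) (hr3 : X2 * (X1 * (X2 * (X1 * 1))) = 1) (hr4 : X2 * (X0 * (X2⁻¹ * (X0⁻¹ * 1))) = 1) (hr5 : X0 * (X1 * (X0 * (X1⁻¹ * (X0⁻¹ * (X1 * (X0⁻¹ * (X1⁻¹ * 1))))))) = 1) : g157 X0 X1 X2 * X1 = g161 X0 X1 X2 :=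
  deduce (path_cons (E_152_1 X0 X1 X2 hr0 hr1 hr2 hr3 hr4 hr5) (path_nil (g157 X0 X1 X2))) (path_cons (E_161_1 X0 X1 X2 hr0 hr1 hr2 hr3 hr4 hr5) (path_nil (g152 X0 X1 X2))) (rel_1_1 X0 X1 X2 hr0 hr1 hr2 hr3 hr4 hr5)
theorem E_64_2 (X0 X1 X2 : M) (hr0 : X0 * (X0 * (X0 * 1)) = 1) (hr1 : X1 * (X1 * (X1 * 1)) = 1) (hr2 : X2 * (X2 * 1) = 1) (hr3 : X2 * (X1 * (X2 * (X1 * 1))) = 1) (hr4 : X2 * (X0 * (X2⁻¹ * (X0⁻¹ * 1))) = 1) (hr5 : X0 * (X1 * (X0 * (X1⁻¹ * (X0⁻¹ * (X1 * (X0⁻¹ * (X1⁻¹ * 1))))))) = 1) : g64 X0 X1 X2 * X2 = g40 X0 X1 X2 :=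
  deduce (path_cons (E_40_2 X0 X1 X2 hr0 hr1 hr2 hr3 hr4 hr5) (path_nil (g64 X0 X1 X2))) (path_nil (g40 X0 X1 X2)) (rel_2_1 X0 X1 X2 hr0 hr1 hr2 hr3 hr4 hr5)
theorem E_86_2 (X0 X1 X2 : M) (hr0 : X0 * (X0 * (X0 * 1)) = 1) (hr1 : X1 * (X1 * (X1 * 1)) = 1) (hr2 : X2 * (X2 * 1) = 1) (hr3 : X2 * (X1 * (X2 * (X1 * 1))) = 1) (hr4 : X2 * (X0 * (X2⁻¹ * (X0⁻¹ * 1))) = 1) (hr5 : X0 * (X1 * (X0 * (X1⁻¹ * (X0⁻¹ * (X1 * (X0⁻¹ * (X1⁻¹ * 1))))))) = 1) : g86 X0 X1 X2 * X2 = g55 X0 X1 X2 :=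
  deduce (path_cons (E_55_2 X0 X1 X2 hr0 hr1 hr2 hr3 hr4 hr5) (path_nil (g86 X0 X1 X2))) (path_nil (g55 X0 X1 X2)) (rel_2_1 X0 X1 X2 hr0 hr1 hr2 hr3 hr4 hr5)
theorem E_97_2 (X0 X1 X2 : M) (hr0 : X0 * (X0 * (X0 * 1)) = 1) (hr1 : X1 * (X1 * (X1 * 1)) = 1) (hr2 : X2 * (X2 * 1) = 1) (hr3 : X2 * (X1 * (X2 * (X1 * 1))) = 1) (hr4 : X2 * (X0 * (X2⁻¹ * (X0⁻¹ * 1))) = 1) (hr5 : X0 * (X1 * (X0 * (X1⁻¹ * (X0⁻¹ * (X1 * (X0⁻¹ * (X1⁻¹ * 1))))))) = 1) : g97 X0 X1 X2 * X2 = g66 X0 X1 X2 :=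
  deduce (path_cons (E_66_2 X0 X1 X2 hr0 hr1 hr2 hr3 hr4 hr5) (path_nil (g97 X0 X1 X2))) (path_nil (g66 X0 X1 X2)) (rel_2_1 X0 X1 X2 hr0 hr1 hr2 hr3 hr4 hr5)
theorem E_95_2 (X0 X1 X2 : M) (hr0 : X0 * (X0 * (X0 * 1)) = 1) (hr1 : X1 * (X1 * (X1 * 1)) = 1) (hr2 : X2 * (X2 * 1) = 1) (hr3 : X2 * (X1 * (X2 * (X1 * 1))) = 1) (hr4 : X2 * (X0 * (X2⁻¹ * (X0⁻¹ * 1))) = 1) (hr5 : X0 * (X1 * (X0 * (X1⁻¹ * (X0⁻¹ * (X1 * (X0⁻¹ * (X1⁻¹ * 1))))))) = 1) : g95 X0 X1 X2 * X2 = g67 X0 X1 X2 :=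
  deduce (path_cons (E_67_2 X0 X1 X2 hr0 hr1 hr2 hr3 hr4 hr5) (path_nil (g95 X0 X1 X2))) (path_nil (g67 X0 X1 X2)) (rel_2_1 X0 X1 X2 hr0 hr1 hr2 hr3 hr4 hr5)
theorem E_109_2 (X0 X1 X2 : M) (hr0 : X0 * (X0 * (X0 * 1)) = 1) (hr1 : X1 * (X1 * (X1 * 1)) = 1) (hr2 : X2 * (X2 * 1) = 1) (hr3 : X2 * (X1 * (X2 * (X1 * 1))) = 1) (hr4 : X2 * (X0 * (X2⁻¹ * (X0⁻¹ * 1))) = 1) (hr5 : X0 * (X1 * (X0 * (X1⁻¹ * (X0⁻¹ * (X1 * (X0⁻¹ * (X1⁻¹ * 1))))))) = 1) : g109 X0 X1 X2 * X2 = g77 X0 X1 X2 :=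
  deduce (path_cons (E_77_2 X0 X1 X2 hr0 hr1 hr2 hr3 hr4 hr5) (path_nil (g109 X0 X1 X2))) (path_nil (g77 X0 X1 X2)) (rel_2_1 X0 X1 X2 hr0 hr1 hr2 hr3 hr4 hr5)
theorem E_120_2 (X0 X1 X2 : M) (hr0 : X0 * (X0 * (X0 * 1)) = 1) (hr1 : X1 * (X1 * (X1 * 1)) = 1) (hr2 : X2 * (X2 * 1) = 1) (hr3 : X2 * (X1 * (X2 * (X1 * 1))) = 1) (hr4 : X2 * (X0 * (X2⁻¹ * (X0⁻¹ * 1))) = 1) (hr5 : X0 * (X1 * (X0 * (X1⁻¹ * (X0⁻¹ * (X1 * (X0⁻¹ * (X1⁻¹ * 1))))))) = 1) : g120 X0 X1 X2 * X2 = g88 X0 X1 X2 :=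
  deduce (path_cons (E_88_2 X0 X1 X2 hr0 hr1 hr2 hr3 hr4 hr5) (path_nil (g120 X0 X1 X2))) (path_nil (g88 X0 X1 X2)) (rel_2_1 X0 X1 X2 hr0 hr1 hr2 hr3 hr4 hr5)
theorem E_118_2 (X0 X1 X2 : M) (hr0 : X0 * (X0 * (X0 * 1)) = 1) (hr1 : X1 * (X1 * (X1 * 1)) = 1) (hr2 : X2 * (X2 * 1) = 1) (hr3 : X2 * (X1 * (X2 * (X1 * 1))) = 1) (hr4 : X2 * (X0 * (X2⁻¹ * (X0⁻¹ * 1))) = 1) (hr5 : X0 * (X1 * (X0 * (X1⁻¹ * (X0⁻¹ * (X1 * (X0⁻¹ * (X1⁻¹ * 1))))))) = 1) : g118 X0 X1 X2 * X2 = g89 X0 X1 X2 :=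
  deduce (path_cons (E_89_2 X0 X1 X2 hr0 hr1 hr2 hr3 hr4 hr5) (path_nil (g118 X0 X1 X2))) (path_nil (g89 X0 X1 X2)) (rel_2_1 X0 X1 X2 hr0 hr1 hr2 hr3 hr4 hr5)
theorem E_128_2 (X0 X1 X2 : M) (hr0 : X0 * (X0 * (X0 * 1)) = 1) (hr1 : X1 * (X1 * (X1 * 1)) = 1) (hr2 : X2 * (X2 * 1) = 1) (hr3 : X2 * (X1 * (X2 * (X1 * 1))) = 1) (hr4 : X2 * (X0 * (X2⁻¹ * (X0⁻¹ * 1))) = 1) (hr5 : X0 * (X1 * (X0 * (X1⁻¹ * (X0⁻¹ * (X1 * (X0⁻¹ * (X1⁻¹ * 1))))))) = 1) : g128 X0 X1 X2 * X2 = g99 X0 X1 X2 :=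
  deduce (path_cons (E_99_2 X0 X1 X2 hr0 hr1 hr2 hr3 hr4 hr5) (path_nil (g128 X0 X1 X2))) (path_nil (g99 X0 X1 X2)) (rel_2_1 X0 X1 X2 hr0 hr1 hr2 hr3 hr4 hr5)
theorem E_126_2 (X0 X1 X2 : M) (hr0 : X0 * (X0 * (X0 * 1)) = 1) (hr1 : X1 * (X1 * (X1 * 1)) = 1) (hr2 : X2 * (X2 * 1) = 1) (hr3 : X2 * (X1 * (X2 * (X1 * 1))) = 1) (hr4 : X2 * (X0 * (X2⁻¹ * (X0⁻¹ * 1))) = 1) (hr5 : X0 * (X1 * (X0 * (X1⁻¹ * (X0⁻¹ * (X1 * (X0⁻¹ * (X1⁻¹ * 1))))))) = 1) : g126 X0 X1 X2 * X2 = g100 X0 X1 X2 :=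
  deduce (path_cons (E_100_2 X0 X1 X2 hr0 hr1 hr2 hr3 hr4 hr5) (path_nil (g126 X0 X1 X2))) (path_nil (g100 X0 X1 X2)) (rel_2_1 X0 X1 X2 hr0 hr1 hr2 hr3 hr4 hr5)
theorem E_138_2 (X0 X1 X2 : M) (hr0 : X0 * (X0 * (X0 * 1)) = 1) (hr1 : X1 * (X1 * (X1 * 1)) = 1) (hr2 : X2 * (X2 * 1) = 1) (hr3 : X2 * (X1 * (X2 * (X1 * 1))) = 1) (hr4 : X2 * (X0 * (X2⁻¹ * (X0⁻¹ * 1))) = 1) (hr5 : X0 * (X1 * (X0 * (X1⁻¹ * (X0⁻¹ * (X1 * (X0⁻¹ * (X1⁻¹ * 1))))))) = 1) : g138 X0 X1 X2 * X2 = g111 X0 X1 X2 :=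
  deduce (path_cons (E_111_2 X0 X1 X2 hr0 hr1 hr2 hr3 hr4 hr5) (path_nil (g138 X0 X1 X2))) (path_nil (g111 X0 X1 X2)) (rel_2_1 X0 X1 X2 hr0 hr1 hr2 hr3 hr4 hr5)
theorem E_136_2 (X0 X1 X2 : M) (hr0 : X0 * (X0 * (X0 * 1)) = 1) (hr1 : X1 * (X1 * (X1 * 1)) = 1) (hr2 : X2 * (X2 * 1) = 1) (hr3 : X2 * (X1 * (X2 * (X1 * 1))) = 1) (hr4 : X2 * (X0 * (X2⁻¹ * (X0⁻¹ * 1))) = 1) (hr5 : X0 * (X1 * (X0 * (X1⁻¹ * (X0⁻¹ * (X1 * (X0⁻¹ * (X1⁻¹ * 1))))))) = 1) : g136 X0 X1 X2 * X2 = g112 X0 X1 X2 :=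
  deduce (path_cons (E_112_2 X0 X1 X2 hr0 hr1 hr2 hr3 hr4 hr5) (path_nil (g136 X0 X1 X2))) (path_nil (g112 X0 X1 X2)) (rel_2_1 X0 X1 X2 hr0 hr1 hr2 hr3 hr4 hr5)
theorem E_146_2 (X0 X1 X2 : M) (hr0 : X0 * (X0 * (X0 * 1)) = 1) (hr1 : X1 * (X1 * (X1 * 1)) = 1) (hr2 : X2 * (X2 * 1) = 1) (hr3 : X2 * (X1 * (X2 * (X1 * 1))) = 1) (hr4 : X2 * (X0 * (X2⁻¹ * (X0⁻¹ * 1))) = 1) (hr5 : X0 * (X1 * (X0 * (X1⁻¹ * (X0⁻¹ * (X1 * (X0⁻¹ * (X1⁻¹ * 1))))))) = 1) : g146 X0 X1 X2 * X2 = g122 X0 X1 X2 :=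
  deduce (path_cons (E_122_2 X0 X1 X2 hr0 hr1 hr2 hr3 hr4 hr5) (path_nil (g146 X0 X1 X2))) (path_nil (g122 X0 X1 X2)) (rel_2_1 X0 X1 X2 hr0 hr1 hr2 hr3 hr4 hr5)
theorem E_144_2 (X0 X1 X2 : M) (hr0 : X0 * (X0 * (X0 * 1)) = 1) (hr1 : X1 * (X1 * (X1 * 1)) = 1) (hr2 : X2 * (X2 * 1) = 1) (hr3 : X2 * (X1 * (X2 * (X1 * 1))) = 1) (hr4 : X2 * (X0 * (X2⁻¹ * (X0⁻¹ * 1))) = 1) (hr5 : X0 * (X1 * (X0 * (X1⁻¹ * (X0⁻¹ * (X1 * (X0⁻¹ * (X1⁻¹ * 1))))))) = 1) : g144 X0 X1 X2 * X2 = g123 X0 X1 X2 :=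
  deduce (path_cons (E_123_2 X0 X1 X2 hr0 hr1 hr2 hr3 hr4 hr5) (path_nil (g144 X0 X1 X2))) (path_nil (g123 X0 X1 X2)) (rel_2_1 X0 X1 X2 hr0 hr1 hr2 hr3 hr4 hr5)
theorem E_149_2 (X0 X1 X2 : M) (hr0 : X0 * (X0 * (X0 * 1)) = 1) (hr1 : X1 * (X1 * (X1 * 1)) = 1) (hr2 : X2 * (X2 * 1) = 1) (hr3 : X2 * (X1 * (X2 * (X1 * 1))) = 1) (hr4 : X2 * (X0 * (X2⁻¹ * (X0⁻¹ * 1))) = 1) (hr5 : X0 * (X1 * (X0 * (X1⁻¹ * (X0⁻¹ * (X1 * (X0⁻¹ * (X1⁻¹ * 1))))))) = 1) : g149 X0 X1 X2 * X2 = g130 X0 X1 X2 :=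
  deduce (path_cons (E_130_2 X0 X1 X2 hr0 hr1 hr2 hr3 hr4 hr5) (path_nil (g149 X0 X1 X2))) (path_nil (g130 X0 X1 X2)) (rel_2_1 X0 X1 X2 hr0 hr1 hr2 hr3 hr4 hr5)
theorem E_155_2 (X0 X1 X2 : M) (hr0 : X0 * (X0 * (X0 * 1)) = 1) (hr1 : X1 * (X1 * (X1 * 1)) = 1) (hr2 : X2 * (X2 * 1) = 1) (hr3 : X2 * (X1 * (X2 * (X1 * 1))) = 1) (hr4 : X2 * (X0 * (X2⁻¹ * (X0⁻¹ * 1))) = 1) (hr5 : X0 * (X1 * (X0 * (X1⁻¹ * (X0⁻¹ * (X1 * (X0⁻¹ * (X1⁻¹ * 1))))))) = 1) : g155 X0 X1 X2 * X2 = g140 X0 X1 X2 :=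
  deduce (path_cons (E_140_2 X0 X1 X2 hr0 hr1 hr2 hr3 hr4 hr5) (path_nil (g155 X0 X1 X2))) (path_nil (g140 X0 X1 X2)) (rel_2_1 X0 X1 X2 hr0 hr1 hr2 hr3 hr4 hr5)
theorem E_153_2 (X0 X1 X2 : M) (hr0 : X0 * (X0 * (X0 * 1)) = 1) (hr1 : X1 * (X1 * (X1 * 1)) = 1) (hr2 : X2 * (X2 * 1) = 1) (hr3 : X2 * (X1 * (X2 * (X1 * 1))) = 1) (hr4 : X2 * (X0 * (X2⁻¹ * (X0⁻¹ * 1))) = 1) (hr5 : X0 * (X1 * (X0 * (X1⁻¹ * (X0⁻¹ * (X1 * (X0⁻¹ * (X1⁻¹ * 1))))))) = 1) : g153 X0 X1 X2 * X2 = g141 X0 X1 X2 :=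
  deduce (path_cons (E_141_2 X0 X1 X2 hr0 hr1 hr2 hr3 hr4 hr5) (path_nil (g153 X0 X1 X2))) (path_nil (g141 X0 X1 X2)) (rel_2_1 X0 X1 X2 hr0 hr1 hr2 hr3 hr4 hr5)
theorem E_158_2 (X0 X1 X2 : M) (hr0 : X0 * (X0 * (X0 * 1)) = 1) (hr1 : X1 * (X1 * (X1 * 1)) = 1) (hr2 : X2 * (X2 * 1) = 1) (hr3 : X2 * (X1 * (X2 * (X1 * 1))) = 1) (hr4 : X2 * (X0 * (X2⁻¹ * (X0⁻¹ * 1))) = 1) (hr5 : X0 * (X1 * (X0 * (X1⁻¹ * (X0⁻¹ * (X1 * (X0⁻¹ * (X1⁻¹ * 1))))))) = 1) : g158 X0 X1 X2 * X2 = g148 X0 X1 X2 :=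
  deduce (path_cons (E_148_2 X0 X1 X2 hr0 hr1 hr2 hr3 hr4 hr5) (path_nil (g158 X0 X1 X2))) (path_nil (g148 X0 X1 X2)) (rel_2_1 X0 X1 X2 hr0 hr1 hr2 hr3 hr4 hr5)
theorem E_160_2 (X0 X1 X2 : M) (hr0 : X0 * (X0 * (X0 * 1)) = 1) (hr1 : X1 * (X1 * (X1 * 1)) = 1) (hr2 : X2 * (X2 * 1) = 1) (hr3 : X2 * (X1 * (X2 * (X1 * 1))) = 1) (hr4 : X2 * (X0 * (X2⁻¹ * (X0⁻¹ * 1))) = 1) (hr5 : X0 * (X1 * (X0 * (X1⁻¹ * (X0⁻¹ * (X1 * (X0⁻¹ * (X1⁻¹ * 1))))))) = 1) : g160 X0 X1 X2 * X2 = g157 X0 X1 X2 :=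
  deduce (path_cons (E_157_2 X0 X1 X2 hr0 hr1 hr2 hr3 hr4 hr5) (path_nil (g160 X0 X1 X2))) (path_nil (g157 X0 X1 X2)) (rel_2_1 X0 X1 X2 hr0 hr1 hr2 hr3 hr4 hr5)

def gAll (X0 X1 X2 : M) : Fin 162 → M := ![g0 X0 X1 X2, g1 X0 X1 X2, g2 X0 X1 X2, g3 X0 X1 X2, g4 X0 X1 X2, g5 X0 X1 X2, g6 X0 X1 X2, g7 X0 X1 X2, g8 X0 X1 X2, g9 X0 X1 X2, g10 X0 X1 X2, g11 X0 X1 X2, g12 X0 X1 X2, g13 X0 X1 X2, g14 X0 X1 X2, g15 X0 X1 X2, g16 X0 X1 X2, g17 X0 X1 X2, g18 X0 X1 X2, g19 X0 X1 X2, g20 X0 X1 X2, g21 X0 X1 X2, g22 X0 X1 X2, g23 X0 X1 X2, g24 X0 X1 X2, g25 X0 X1 X2, g26 X0 X1 X2, g27 X0 X1 X2, g28 X0 X1 X2, g29 X0 X1 X2, g30 X0 X1 X2, g31 X0 X1 X2, g32 X0 X1 X2, g33 X0 X1 X2, g34 X0 X1 X2, g35 X0 X1 X2, g36 X0 X1 X2, g37 X0 X1 X2, g38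 X0 X1 X2, g39 X0 X1 X2, g40 X0 X1 X2, g41 X0 X1 X2, g42 X0 X1 X2, g43 X0 X1 X2, g44 X0 X1 X2, g45 X0 X1 X2, g46 X0 X1 X2, g47 X0 X1 X2, g48 X0 X1 X2, g49 X0 X1 X2, g50 X0 X1 X2, g51 X0 X1 X2, g52 X0 X1 X2, g53 X0 X1 X2, g54 X0 X1 X2, g55 X0 X1 X2, g56 X0 X1 X2, g57 X0 X1 X2, g58 X0 X1 X2, g59 X0 X1 X2, g60 X0 X1 X2, g61 X0 X1 X2, g62 X0 X1 X2, g63 X0 X1 X2, g64 X0 X1 X2, g65 X0 X1 X2, g66 X0 X1 X2, g67 X0 X1 X2, g68 X0 X1 X2, g69 X0 X1 X2, g70 X0 X1 X2, g71 X0 X1 X2, g72 X0 X1 X2, g73 X0 X1 X2, g74 X0 X1 X2, g75 X0 X1 X2, g76 X0 X1 X2, g77 X0 X1 X2, g78 X0 X1 X2, g79 X0 X1 X2, g80 X0 X1 X2, g81 X0 X1 X2, g82 X0 X1 X2, g83 X0 X1 X2, g84 X0 X1 X2, g85 X0 X1 X2, g86 X0 X1 X2, g87 X0 X1 X2, g88 X0 X1 X2, g89 X0 X1 X2, g90 X0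 X1 X2, g91 X0 X1 X2, g92 X0 X1 X2, g93 X0 X1 X2, g94 X0 X1 X2, g95 X0 X1 X2, g96 X0 X1 X2, g97 X0 X1 X2, g98 X0 X1 X2, g99 X0 X1 X2, g100 X0 X1 X2, g101 X0 X1 X2, g102 X0 X1 X2, g103 X0 X1 X2, g104 X0 X1 X2, g105 X0 X1 X2, g106 X0 X1 X2, g107 X0 X1 X2, g108 X0 X1 X2, g109 X0 X1 X2, g110 X0 X1 X2, g111 X0 X1 X2, g112 X0 X1 X2, g113 X0 X1 X2, g114 X0 X1 X2, g115 X0 X1 X2, g116 X0 X1 X2, g117 X0 X1 X2, g118 X0 X1 X2, g119 X0 X1 X2, g120 X0 X1 X2, g121 X0 X1 X2, g122 X0 X1 X2, g123 X0 X1 X2, g124 X0 X1 X2, g125 X0 X1 X2, g126 X0 X1 X2, g127 X0 X1 X2, g128 X0 X1 X2, g129 X0 X1 X2, g130 X0 X1 X2, g131 X0 X1 X2, g132 X0 X1 X2, g133 X0 X1 X2, g134 X0 X1 X2, g135 X0 X1 X2, g136 X0 X1 X2, g137 X0 X1 X2, g138 X0 X1 X2, g139 X0 X1 X2,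 g140 X0 X1 X2, g141 X0 X1 X2, g142 X0 X1 X2, g143 X0 X1 X2, g144 X0 X1 X2, g145 X0 X1 X2, g146 X0 X1 X2, g147 X0 X1 X2, g148 X0 X1 X2, g149 X0 X1 X2, g150 X0 X1 X2, g151 X0 X1 X2, g152 X0 X1 X2, g153 X0 X1 X2, g154 X0 X1 X2, g155 X0 X1 X2, g156 X0 X1 X2, g157 X0 X1 X2, g158 X0 X1 X2, g159 X0 X1 X2, g160 X0 X1 X2, g161 X0 X1 X2]
def nx0 : Fin 162 → Fin 162 := ![1, 4, 7, 6, 0, 13, 12, 17, 20, 19, 21, 22, 3, 26, 29, 28, 30, 2, 33, 32, 37, 39, 41, 44, 43, 45, 5, 48, 47, 52, 54, 56, 9, 60, 49, 62, 51, 8, 53, 10, 67, 11, 70, 69, 74, 76, 78, 15, 82, 71, 84, 73, 14, 75, 16, 89, 90, 79, 92, 81, 18, 83, 94, 85, 95, 87, 99, 100, 101, 24, 105, 34, 107, 36, 23, 38, 25, 112, 113, 102, 115, 104, 27, 106, 117, 108, 118, 110, 122, 123, 31,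 114, 125, 116, 35, 126, 119, 128, 121, 130, 40, 131, 57, 133, 59, 42, 61, 135, 63, 136, 65, 140, 141, 46, 132, 143, 134, 50, 144, 137, 146, 139, 148, 55, 142, 58, 64, 145, 149, 147, 66, 68, 91, 152, 93, 72, 153, 96, 155, 98, 157, 77, 151, 80, 86, 154, 158, 156, 88, 97, 159, 124, 103, 109, 127, 160, 129, 111, 120, 161, 138, 150]
def pv0 : Fin 162 → Fin 162 := ![4, 0, 17, 12, 1, 26, 3, 2, 37, 32, 39, 41, 6, 5, 52, 47, 54, 7, 60, 9, 8, 10, 11, 74, 69, 76, 13, 82, 15, 14, 16, 90, 19, 18, 71, 94, 73, 20, 75, 21, 100, 22, 105, 24, 23, 25, 113, 28, 27, 34, 117, 36, 29, 38, 30, 123, 31, 102, 125, 104, 33, 106, 35, 108, 126, 110, 130, 40, 131, 43, 42, 49, 135, 51, 44, 53, 45, 141, 46, 57, 143, 59, 48, 61, 50, 63, 144, 65, 148, 55,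 56, 132, 58, 134, 62, 64, 137, 149, 139, 66, 67, 68, 79, 152, 81, 70, 83, 72, 85, 153, 87, 157, 77, 78, 91, 80, 93, 84, 86, 96, 158, 98, 88, 89, 151, 92, 95, 154, 97, 156, 99, 101, 114, 103, 116, 107, 109, 119, 160, 121, 111, 112, 124, 115, 118, 127, 120, 129, 122, 128, 161, 142, 133, 136, 145, 138, 147, 140, 146, 150, 155, 159]
def nx1 : Fin 162 → Fin 162 := ![2, 5, 8, 10, 11, 14, 16, 18, 0, 3, 9, 23, 25, 27, 1, 6, 15, 31, 34, 36, 38, 40, 42, 4, 12, 24, 46, 49, 51, 53, 55, 57, 59, 61, 7, 19, 35, 63, 64, 66, 65, 68, 71, 73, 75, 77, 79, 81, 83, 13, 28, 50, 85, 86, 88, 87, 91, 17, 32, 58, 93, 95, 67, 97, 20, 21, 98, 96, 102, 104, 106, 22, 43, 72, 108, 109, 111, 110, 114, 26, 47, 80, 116, 118, 89, 120, 29, 30, 121, 119, 124,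 126, 100, 128, 99, 33, 62, 37, 39, 129, 127, 132, 41, 69, 103, 134, 136, 112, 138, 44, 45, 139, 137, 142, 144, 123, 146, 122, 48, 84, 52, 54, 147, 145, 149, 130, 56, 92, 60, 94, 150, 151, 153, 141, 155, 140, 70, 107, 74, 76, 156, 154, 158, 148, 78, 115, 82, 117, 159, 90, 125, 160, 157, 101, 133, 105, 135, 161, 113, 143, 131, 152]
def pv1 : Fin 162 → Fin 162 := ![8, 14, 0, 9, 23, 1, 15, 34, 2, 10, 3, 4, 24, 49, 5, 16, 6, 57, 7, 35, 64, 65, 71, 11, 25, 12, 79, 13, 50, 86, 87, 17, 58, 95, 18, 36, 19, 97, 20, 98, 21, 102, 22, 72, 109, 110, 26, 80, 118, 27, 51, 28, 120, 29, 121, 30, 126, 31, 59, 32, 128, 33, 96, 37, 38, 40, 39, 62, 41, 103, 136, 42, 73, 43, 138, 44, 139, 45, 144, 46, 81, 47, 146, 48, 119, 52, 53, 55, 54, 84, 149,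 56, 127, 60, 129, 61, 67, 63, 66, 94, 92, 153, 68, 104, 69, 155, 70, 137, 74, 75, 77, 76, 107, 158, 78, 145, 82, 147, 83, 89, 85, 88, 117, 115, 90, 150, 91, 100, 93, 99, 125, 160, 101, 154, 105, 156, 106, 112, 108, 111, 135, 133, 113, 159, 114, 123, 116, 122, 143, 124, 130, 131, 161, 132, 141, 134, 140, 152, 142, 148, 151, 157]
def nx2 : Fin 162 → Fin 162 := ![3, 6, 9, 0, 12, 15, 1, 19, 10, 2, 8, 24, 4, 28, 16, 5, 14, 32, 35, 7, 21, 20, 43, 25, 11, 23, 47, 50, 13, 30, 29, 58, 17, 62, 36, 18, 34, 39, 65, 37, 64, 69, 72, 22, 45, 44, 80, 26, 84, 51, 27, 49, 54, 87, 52, 86, 92, 59, 31, 57, 94, 96, 33, 98, 40, 38, 97, 95, 103, 41, 107, 73, 42, 71, 76, 110, 74, 109, 115, 81, 46, 79, 117, 119, 48, 121, 55, 53, 120, 118, 125, 127,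 56, 129, 60, 67, 61, 66, 63, 128, 126, 133, 104, 68, 102, 135, 137, 70, 139, 77, 75, 138, 136, 143, 145, 78, 147, 82, 89, 83, 88, 85, 146, 144, 150, 90, 100, 91, 99, 93, 149, 152, 154, 101, 156, 105, 112, 106, 111, 108, 155, 153, 159, 113, 123, 114, 122, 116, 158, 130, 124, 161, 131, 141, 132, 140, 134, 160, 148, 142, 157, 151]
def pv2 : Fin 162 → Fin 162 := ![3, 6, 9, 0, 12, 15, 1, 19, 10, 2, 8, 24, 4, 28, 16, 5, 14, 32, 35, 7, 21, 20, 43, 25, 11, 23, 47, 50, 13, 30, 29, 58, 17, 62, 36, 18, 34, 39, 65, 37, 64, 69, 72, 22, 45, 44, 80, 26, 84, 51, 27, 49, 54, 87, 52, 86, 92, 59, 31, 57, 94, 96, 33, 98, 40, 38, 97, 95, 103, 41, 107, 73, 42, 71, 76, 110, 74, 109, 115, 81, 46, 79, 117, 119, 48, 121, 55, 53, 120, 118, 125, 127,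 56, 129, 60, 67, 61, 66, 63, 128, 126, 133, 104, 68, 102, 135, 137, 70, 139, 77, 75, 138, 136, 143, 145, 78, 147, 82, 89, 83, 88, 85, 146, 144, 150, 90, 100, 91, 99, 93, 149, 152, 154, 101, 156, 105, 112, 106, 111, 108, 155, 153, 159, 113, 123, 114, 122, 116, 158, 130, 124, 161, 131, 141, 132, 140, 134, 160, 148, 142, 157, 151]

set_option maxRecDepth 100000 in
theorem stepAll0 (X0 X1 X2 : M) (hr0 : X0 * (X0 * (X0 * 1)) = 1) (hr1 : X1 * (X1 * (X1 * 1)) = 1) (hr2 : X2 * (X2 * 1) = 1) (hr3 : X2 * (X1 * (X2 * (X1 * 1))) = 1) (hr4 : X2 * (X0 * (X2⁻¹ * (X0⁻¹ * 1))) = 1) (hr5 : X0 * (X1 * (X0 * (X1⁻¹ * (X0⁻¹ * (X1 * (X0⁻¹ * (X1⁻¹ * 1))))))) = 1) : ∀ i : Fin 162, gAll X0 X1 X2 i * X0 = gAll X0 X1 X2 (nx0 i) := by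
  intro i; fin_cases i
  · exact (E_0_0 X0 X1 X2)
  · exact (E_1_0 X0 X1 X2)
  · exact (E_2_0 X0 X1 X2)
  · exact (E_3_0 X0 X1 X2 hr0 hr1 hr2 hr3 hr4 hr5)
  · exact (E_4_0 X0 X1 X2 hr0 hr1 hr2 hr3 hr4 hr5)
  · exact (E_5_0 X0 X1 X2)
  · exact (E_6_0 X0 X1 X2 hr0 hr1 hr2 hr3 hr4 hr5)
  · exact (E_7_0 X0 X1 X2)
  · exact (E_8_0 X0 X1 X2)
  · exact (E_9_0 X0 X1 X2 hr0 hr1 hr2 hr3 hr4 hr5)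
  · exact (E_10_0 X0 X1 X2)
  · exact (E_11_0 X0 X1 X2)
  · exact (E_12_0 X0 X1 X2 hr0 hr1 hr2 hr3 hr4 hr5)
  · exact (E_13_0 X0 X1 X2)
  · exact (E_14_0 X0 X1 X2)
  · exact (E_15_0 X0 X1 X2 hr0 hr1 hr2 hr3 hr4 hr5)
  · exact (E_16_0 X0 X1 X2)
  · exact (E_17_0 X0 X1 X2 hr0 hr1 hr2 hr3 hr4 hr5)
  · exact (E_18_0 X0 X1 X2)
  · exact (E_19_0 X0 X1 X2 hr0 hr1 hr2 hr3 hr4 hr5)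
  · exact (E_20_0 X0 X1 X2)
  · exact (E_21_0 X0 X1 X2)
  · exact (E_22_0 X0 X1 X2)
  · exact (E_23_0 X0 X1 X2)
  · exact (E_24_0 X0 X1 X2 hr0 hr1 hr2 hr3 hr4 hr5)
  · exact (E_25_0 X0 X1 X2)
  · exact (E_26_0 X0 X1 X2 hr0 hr1 hr2 hr3 hr4 hr5)
  · exact (E_27_0 X0 X1 X2)
  · exact (E_28_0 X0 X1 X2 hr0 hr1 hr2 hr3 hr4 hr5)
  · exact (E_29_0 X0 X1 X2)
  · exact (E_30_0 X0 X1 X2)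
  · exact (E_31_0 X0 X1 X2)
  · exact (E_32_0 X0 X1 X2 hr0 hr1 hr2 hr3 hr4 hr5)
  · exact (E_33_0 X0 X1 X2)
  · exact (E_34_0 X0 X1 X2 hr0 hr1 hr2 hr3 hr4 hr5)
  · exact (E_35_0 X0 X1 X2 hr0 hr1 hr2 hr3 hr4 hr5)
  · exact (E_36_0 X0 X1 X2 hr0 hr1 hr2 hr3 hr4 hr5)
  · exact (E_37_0 X0 X1 X2 hr0 hr1 hr2 hr3 hr4 hr5)
  · exact (E_38_0 X0 X1 X2 hr0 hr1 hr2 hr3 hr4 hr5)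
  · exact (E_39_0 X0 X1 X2 hr0 hr1 hr2 hr3 hr4 hr5)
  · exact (E_40_0 X0 X1 X2)
  · exact (E_41_0 X0 X1 X2 hr0 hr1 hr2 hr3 hr4 hr5)
  · exact (E_42_0 X0 X1 X2)
  · exact (E_43_0 X0 X1 X2 hr0 hr1 hr2 hr3 hr4 hr5)
  · exact (E_44_0 X0 X1 X2)
  · exact (E_45_0 X0 X1 X2)
  · exact (E_46_0 X0 X1 X2)
  · exact (E_47_0 X0 X1 X2 hr0 hr1 hr2 hr3 hr4 hr5)
  · exact (E_48_0 X0 X1 X2)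
  · exact (E_49_0 X0 X1 X2 hr0 hr1 hr2 hr3 hr4 hr5)
  · exact (E_50_0 X0 X1 X2 hr0 hr1 hr2 hr3 hr4 hr5)
  · exact (E_51_0 X0 X1 X2 hr0 hr1 hr2 hr3 hr4 hr5)
  · exact (E_52_0 X0 X1 X2 hr0 hr1 hr2 hr3 hr4 hr5)
  · exact (E_53_0 X0 X1 X2 hr0 hr1 hr2 hr3 hr4 hr5)
  · exact (E_54_0 X0 X1 X2 hr0 hr1 hr2 hr3 hr4 hr5)
  · exact (E_55_0 X0 X1 X2)
  · exact (E_56_0 X0 X1 X2)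
  · exact (E_57_0 X0 X1 X2 hr0 hr1 hr2 hr3 hr4 hr5)
  · exact (E_58_0 X0 X1 X2 hr0 hr1 hr2 hr3 hr4 hr5)
  · exact (E_59_0 X0 X1 X2 hr0 hr1 hr2 hr3 hr4 hr5)
  · exact (E_60_0 X0 X1 X2 hr0 hr1 hr2 hr3 hr4 hr5)
  · exact (E_61_0 X0 X1 X2 hr0 hr1 hr2 hr3 hr4 hr5)
  · exact (E_62_0 X0 X1 X2 hr0 hr1 hr2 hr3 hr4 hr5)
  · exact (E_63_0 X0 X1 X2 hr0 hr1 hr2 hr3 hr4 hr5)
  · exact (E_64_0 X0 X1 X2 hr0 hr1 hr2 hr3 hr4 hr5)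
  · exact (E_65_0 X0 X1 X2 hr0 hr1 hr2 hr3 hr4 hr5)
  · exact (E_66_0 X0 X1 X2)
  · exact (E_67_0 X0 X1 X2)
  · exact (E_68_0 X0 X1 X2)
  · exact (E_69_0 X0 X1 X2 hr0 hr1 hr2 hr3 hr4 hr5)
  · exact (E_70_0 X0 X1 X2)
  · exact (E_71_0 X0 X1 X2 hr0 hr1 hr2 hr3 hr4 hr5)
  · exact (E_72_0 X0 X1 X2 hr0 hr1 hr2 hr3 hr4 hr5)
  · exact (E_73_0 X0 X1 X2 hr0 hr1 hr2 hr3 hr4 hr5)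
  · exact (E_74_0 X0 X1 X2 hr0 hr1 hr2 hr3 hr4 hr5)
  · exact (E_75_0 X0 X1 X2 hr0 hr1 hr2 hr3 hr4 hr5)
  · exact (E_76_0 X0 X1 X2 hr0 hr1 hr2 hr3 hr4 hr5)
  · exact (E_77_0 X0 X1 X2)
  · exact (E_78_0 X0 X1 X2)
  · exact (E_79_0 X0 X1 X2 hr0 hr1 hr2 hr3 hr4 hr5)
  · exact (E_80_0 X0 X1 X2 hr0 hr1 hr2 hr3 hr4 hr5)
  · exact (E_81_0 X0 X1 X2 hr0 hr1 hr2 hr3 hr4 hr5)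
  · exact (E_82_0 X0 X1 X2 hr0 hr1 hr2 hr3 hr4 hr5)
  · exact (E_83_0 X0 X1 X2 hr0 hr1 hr2 hr3 hr4 hr5)
  · exact (E_84_0 X0 X1 X2 hr0 hr1 hr2 hr3 hr4 hr5)
  · exact (E_85_0 X0 X1 X2 hr0 hr1 hr2 hr3 hr4 hr5)
  · exact (E_86_0 X0 X1 X2 hr0 hr1 hr2 hr3 hr4 hr5)
  · exact (E_87_0 X0 X1 X2 hr0 hr1 hr2 hr3 hr4 hr5)
  · exact (E_88_0 X0 X1 X2)
  · exact (E_89_0 X0 X1 X2)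
  · exact (E_90_0 X0 X1 X2 hr0 hr1 hr2 hr3 hr4 hr5)
  · exact (E_91_0 X0 X1 X2 hr0 hr1 hr2 hr3 hr4 hr5)
  · exact (E_92_0 X0 X1 X2 hr0 hr1 hr2 hr3 hr4 hr5)
  · exact (E_93_0 X0 X1 X2 hr0 hr1 hr2 hr3 hr4 hr5)
  · exact (E_94_0 X0 X1 X2 hr0 hr1 hr2 hr3 hr4 hr5)
  · exact (E_95_0 X0 X1 X2 hr0 hr1 hr2 hr3 hr4 hr5)
  · exact (E_96_0 X0 X1 X2 hr0 hr1 hr2 hr3 hr4 hr5)
  · exact (E_97_0 X0 X1 X2 hr0 hr1 hr2 hr3 hr4 hr5)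
  · exact (E_98_0 X0 X1 X2 hr0 hr1 hr2 hr3 hr4 hr5)
  · exact (E_99_0 X0 X1 X2)
  · exact (E_100_0 X0 X1 X2 hr0 hr1 hr2 hr3 hr4 hr5)
  · exact (E_101_0 X0 X1 X2)
  · exact (E_102_0 X0 X1 X2 hr0 hr1 hr2 hr3 hr4 hr5)
  · exact (E_103_0 X0 X1 X2 hr0 hr1 hr2 hr3 hr4 hr5)
  · exact (E_104_0 X0 X1 X2 hr0 hr1 hr2 hr3 hr4 hr5)
  · exact (E_105_0 X0 X1 X2 hr0 hr1 hr2 hr3 hr4 hr5)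
  · exact (E_106_0 X0 X1 X2 hr0 hr1 hr2 hr3 hr4 hr5)
  · exact (E_107_0 X0 X1 X2 hr0 hr1 hr2 hr3 hr4 hr5)
  · exact (E_108_0 X0 X1 X2 hr0 hr1 hr2 hr3 hr4 hr5)
  · exact (E_109_0 X0 X1 X2 hr0 hr1 hr2 hr3 hr4 hr5)
  · exact (E_110_0 X0 X1 X2 hr0 hr1 hr2 hr3 hr4 hr5)
  · exact (E_111_0 X0 X1 X2)
  · exact (E_112_0 X0 X1 X2)
  · exact (E_113_0 X0 X1 X2 hr0 hr1 hr2 hr3 hr4 hr5)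
  · exact (E_114_0 X0 X1 X2 hr0 hr1 hr2 hr3 hr4 hr5)
  · exact (E_115_0 X0 X1 X2 hr0 hr1 hr2 hr3 hr4 hr5)
  · exact (E_116_0 X0 X1 X2 hr0 hr1 hr2 hr3 hr4 hr5)
  · exact (E_117_0 X0 X1 X2 hr0 hr1 hr2 hr3 hr4 hr5)
  · exact (E_118_0 X0 X1 X2 hr0 hr1 hr2 hr3 hr4 hr5)
  · exact (E_119_0 X0 X1 X2 hr0 hr1 hr2 hr3 hr4 hr5)
  · exact (E_120_0 X0 X1 X2 hr0 hr1 hr2 hr3 hr4 hr5)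
  · exact (E_121_0 X0 X1 X2 hr0 hr1 hr2 hr3 hr4 hr5)
  · exact (E_122_0 X0 X1 X2)
  · exact (E_123_0 X0 X1 X2 hr0 hr1 hr2 hr3 hr4 hr5)
  · exact (E_124_0 X0 X1 X2 hr0 hr1 hr2 hr3 hr4 hr5)
  · exact (E_125_0 X0 X1 X2 hr0 hr1 hr2 hr3 hr4 hr5)
  · exact (E_126_0 X0 X1 X2 hr0 hr1 hr2 hr3 hr4 hr5)
  · exact (E_127_0 X0 X1 X2 hr0 hr1 hr2 hr3 hr4 hr5)
  · exact (E_128_0 X0 X1 X2 hr0 hr1 hr2 hr3 hr4 hr5)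
  · exact (E_129_0 X0 X1 X2 hr0 hr1 hr2 hr3 hr4 hr5)
  · exact (E_130_0 X0 X1 X2 hr0 hr1 hr2 hr3 hr4 hr5)
  · exact (E_131_0 X0 X1 X2 hr0 hr1 hr2 hr3 hr4 hr5)
  · exact (E_132_0 X0 X1 X2 hr0 hr1 hr2 hr3 hr4 hr5)
  · exact (E_133_0 X0 X1 X2 hr0 hr1 hr2 hr3 hr4 hr5)
  · exact (E_134_0 X0 X1 X2 hr0 hr1 hr2 hr3 hr4 hr5)
  · exact (E_135_0 X0 X1 X2 hr0 hr1 hr2 hr3 hr4 hr5)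
  · exact (E_136_0 X0 X1 X2 hr0 hr1 hr2 hr3 hr4 hr5)
  · exact (E_137_0 X0 X1 X2 hr0 hr1 hr2 hr3 hr4 hr5)
  · exact (E_138_0 X0 X1 X2 hr0 hr1 hr2 hr3 hr4 hr5)
  · exact (E_139_0 X0 X1 X2 hr0 hr1 hr2 hr3 hr4 hr5)
  · exact (E_140_0 X0 X1 X2)
  · exact (E_141_0 X0 X1 X2 hr0 hr1 hr2 hr3 hr4 hr5)
  · exact (E_142_0 X0 X1 X2 hr0 hr1 hr2 hr3 hr4 hr5)
  · exact (E_143_0 X0 X1 X2 hr0 hr1 hr2 hr3 hr4 hr5)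
  · exact (E_144_0 X0 X1 X2 hr0 hr1 hr2 hr3 hr4 hr5)
  · exact (E_145_0 X0 X1 X2 hr0 hr1 hr2 hr3 hr4 hr5)
  · exact (E_146_0 X0 X1 X2 hr0 hr1 hr2 hr3 hr4 hr5)
  · exact (E_147_0 X0 X1 X2 hr0 hr1 hr2 hr3 hr4 hr5)
  · exact (E_148_0 X0 X1 X2 hr0 hr1 hr2 hr3 hr4 hr5)
  · exact (E_149_0 X0 X1 X2 hr0 hr1 hr2 hr3 hr4 hr5)
  · exact (E_150_0 X0 X1 X2 hr0 hr1 hr2 hr3 hr4 hr5)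
  · exact (E_151_0 X0 X1 X2 hr0 hr1 hr2 hr3 hr4 hr5)
  · exact (E_152_0 X0 X1 X2 hr0 hr1 hr2 hr3 hr4 hr5)
  · exact (E_153_0 X0 X1 X2 hr0 hr1 hr2 hr3 hr4 hr5)
  · exact (E_154_0 X0 X1 X2 hr0 hr1 hr2 hr3 hr4 hr5)
  · exact (E_155_0 X0 X1 X2 hr0 hr1 hr2 hr3 hr4 hr5)
  · exact (E_156_0 X0 X1 X2 hr0 hr1 hr2 hr3 hr4 hr5)
  · exact (E_157_0 X0 X1 X2 hr0 hr1 hr2 hr3 hr4 hr5)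
  · exact (E_158_0 X0 X1 X2 hr0 hr1 hr2 hr3 hr4 hr5)
  · exact (E_159_0 X0 X1 X2 hr0 hr1 hr2 hr3 hr4 hr5)
  · exact (E_160_0 X0 X1 X2 hr0 hr1 hr2 hr3 hr4 hr5)
  · exact (E_161_0 X0 X1 X2 hr0 hr1 hr2 hr3 hr4 hr5)
set_option maxRecDepth 100000 in
theorem stepInv0 (X0 X1 X2 : M) (hr0 : X0 * (X0 * (X0 * 1)) = 1) (hr1 : X1 * (X1 * (X1 * 1)) = 1) (hr2 : X2 * (X2 * 1) = 1) (hr3 : X2 * (X1 * (X2 * (X1 * 1))) = 1) (hr4 : X2 * (X0 * (X2⁻¹ * (X0⁻¹ * 1))) = 1) (hr5 : X0 * (X1 * (X0 * (X1⁻¹ * (X0⁻¹ * (X1 * (X0⁻¹ * (X1⁻¹ * 1))))))) = 1) : ∀ i : Fin 162, gAll X0 X1 X2 i * X0⁻¹ = gAll X0 X1 X2 (pv0 i) := by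
  intro i; fin_cases i
  · exact inv_edge (E_4_0 X0 X1 X2 hr0 hr1 hr2 hr3 hr4 hr5)
  · exact inv_edge (E_0_0 X0 X1 X2)
  · exact inv_edge (E_17_0 X0 X1 X2 hr0 hr1 hr2 hr3 hr4 hr5)
  · exact inv_edge (E_12_0 X0 X1 X2 hr0 hr1 hr2 hr3 hr4 hr5)
  · exact inv_edge (E_1_0 X0 X1 X2)
  · exact inv_edge (E_26_0 X0 X1 X2 hr0 hr1 hr2 hr3 hr4 hr5)
  · exact inv_edge (E_3_0 X0 X1 X2 hr0 hr1 hr2 hr3 hr4 hr5)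
  · exact inv_edge (E_2_0 X0 X1 X2)
  · exact inv_edge (E_37_0 X0 X1 X2 hr0 hr1 hr2 hr3 hr4 hr5)
  · exact inv_edge (E_32_0 X0 X1 X2 hr0 hr1 hr2 hr3 hr4 hr5)
  · exact inv_edge (E_39_0 X0 X1 X2 hr0 hr1 hr2 hr3 hr4 hr5)
  · exact inv_edge (E_41_0 X0 X1 X2 hr0 hr1 hr2 hr3 hr4 hr5)
  · exact inv_edge (E_6_0 X0 X1 X2 hr0 hr1 hr2 hr3 hr4 hr5)
  · exact inv_edge (E_5_0 X0 X1 X2)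
  · exact inv_edge (E_52_0 X0 X1 X2 hr0 hr1 hr2 hr3 hr4 hr5)
  · exact inv_edge (E_47_0 X0 X1 X2 hr0 hr1 hr2 hr3 hr4 hr5)
  · exact inv_edge (E_54_0 X0 X1 X2 hr0 hr1 hr2 hr3 hr4 hr5)
  · exact inv_edge (E_7_0 X0 X1 X2)
  · exact inv_edge (E_60_0 X0 X1 X2 hr0 hr1 hr2 hr3 hr4 hr5)
  · exact inv_edge (E_9_0 X0 X1 X2 hr0 hr1 hr2 hr3 hr4 hr5)
  · exact inv_edge (E_8_0 X0 X1 X2)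
  · exact inv_edge (E_10_0 X0 X1 X2)
  · exact inv_edge (E_11_0 X0 X1 X2)
  · exact inv_edge (E_74_0 X0 X1 X2 hr0 hr1 hr2 hr3 hr4 hr5)
  · exact inv_edge (E_69_0 X0 X1 X2 hr0 hr1 hr2 hr3 hr4 hr5)
  · exact inv_edge (E_76_0 X0 X1 X2 hr0 hr1 hr2 hr3 hr4 hr5)
  · exact inv_edge (E_13_0 X0 X1 X2)
  · exact inv_edge (E_82_0 X0 X1 X2 hr0 hr1 hr2 hr3 hr4 hr5)
  · exact inv_edge (E_15_0 X0 X1 X2 hr0 hr1 hr2 hr3 hr4 hr5)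
  · exact inv_edge (E_14_0 X0 X1 X2)
  · exact inv_edge (E_16_0 X0 X1 X2)
  · exact inv_edge (E_90_0 X0 X1 X2 hr0 hr1 hr2 hr3 hr4 hr5)
  · exact inv_edge (E_19_0 X0 X1 X2 hr0 hr1 hr2 hr3 hr4 hr5)
  · exact inv_edge (E_18_0 X0 X1 X2)
  · exact inv_edge (E_71_0 X0 X1 X2 hr0 hr1 hr2 hr3 hr4 hr5)
  · exact inv_edge (E_94_0 X0 X1 X2 hr0 hr1 hr2 hr3 hr4 hr5)
  · exact inv_edge (E_73_0 X0 X1 X2 hr0 hr1 hr2 hr3 hr4 hr5)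
  · exact inv_edge (E_20_0 X0 X1 X2)
  · exact inv_edge (E_75_0 X0 X1 X2 hr0 hr1 hr2 hr3 hr4 hr5)
  · exact inv_edge (E_21_0 X0 X1 X2)
  · exact inv_edge (E_100_0 X0 X1 X2 hr0 hr1 hr2 hr3 hr4 hr5)
  · exact inv_edge (E_22_0 X0 X1 X2)
  · exact inv_edge (E_105_0 X0 X1 X2 hr0 hr1 hr2 hr3 hr4 hr5)
  · exact inv_edge (E_24_0 X0 X1 X2 hr0 hr1 hr2 hr3 hr4 hr5)
  · exact inv_edge (E_23_0 X0 X1 X2)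
  · exact inv_edge (E_25_0 X0 X1 X2)
  · exact inv_edge (E_113_0 X0 X1 X2 hr0 hr1 hr2 hr3 hr4 hr5)
  · exact inv_edge (E_28_0 X0 X1 X2 hr0 hr1 hr2 hr3 hr4 hr5)
  · exact inv_edge (E_27_0 X0 X1 X2)
  · exact inv_edge (E_34_0 X0 X1 X2 hr0 hr1 hr2 hr3 hr4 hr5)
  · exact inv_edge (E_117_0 X0 X1 X2 hr0 hr1 hr2 hr3 hr4 hr5)
  · exact inv_edge (E_36_0 X0 X1 X2 hr0 hr1 hr2 hr3 hr4 hr5)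
  · exact inv_edge (E_29_0 X0 X1 X2)
  · exact inv_edge (E_38_0 X0 X1 X2 hr0 hr1 hr2 hr3 hr4 hr5)
  · exact inv_edge (E_30_0 X0 X1 X2)
  · exact inv_edge (E_123_0 X0 X1 X2 hr0 hr1 hr2 hr3 hr4 hr5)
  · exact inv_edge (E_31_0 X0 X1 X2)
  · exact inv_edge (E_102_0 X0 X1 X2 hr0 hr1 hr2 hr3 hr4 hr5)
  · exact inv_edge (E_125_0 X0 X1 X2 hr0 hr1 hr2 hr3 hr4 hr5)
  · exact inv_edge (E_104_0 X0 X1 X2 hr0 hr1 hr2 hr3 hr4 hr5)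
  · exact inv_edge (E_33_0 X0 X1 X2)
  · exact inv_edge (E_106_0 X0 X1 X2 hr0 hr1 hr2 hr3 hr4 hr5)
  · exact inv_edge (E_35_0 X0 X1 X2 hr0 hr1 hr2 hr3 hr4 hr5)
  · exact inv_edge (E_108_0 X0 X1 X2 hr0 hr1 hr2 hr3 hr4 hr5)
  · exact inv_edge (E_126_0 X0 X1 X2 hr0 hr1 hr2 hr3 hr4 hr5)
  · exact inv_edge (E_110_0 X0 X1 X2 hr0 hr1 hr2 hr3 hr4 hr5)
  · exact inv_edge (E_130_0 X0 X1 X2 hr0 hr1 hr2 hr3 hr4 hr5)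
  · exact inv_edge (E_40_0 X0 X1 X2)
  · exact inv_edge (E_131_0 X0 X1 X2 hr0 hr1 hr2 hr3 hr4 hr5)
  · exact inv_edge (E_43_0 X0 X1 X2 hr0 hr1 hr2 hr3 hr4 hr5)
  · exact inv_edge (E_42_0 X0 X1 X2)
  · exact inv_edge (E_49_0 X0 X1 X2 hr0 hr1 hr2 hr3 hr4 hr5)
  · exact inv_edge (E_135_0 X0 X1 X2 hr0 hr1 hr2 hr3 hr4 hr5)
  · exact inv_edge (E_51_0 X0 X1 X2 hr0 hr1 hr2 hr3 hr4 hr5)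
  · exact inv_edge (E_44_0 X0 X1 X2)
  · exact inv_edge (E_53_0 X0 X1 X2 hr0 hr1 hr2 hr3 hr4 hr5)
  · exact inv_edge (E_45_0 X0 X1 X2)
  · exact inv_edge (E_141_0 X0 X1 X2 hr0 hr1 hr2 hr3 hr4 hr5)
  · exact inv_edge (E_46_0 X0 X1 X2)
  · exact inv_edge (E_57_0 X0 X1 X2 hr0 hr1 hr2 hr3 hr4 hr5)
  · exact inv_edge (E_143_0 X0 X1 X2 hr0 hr1 hr2 hr3 hr4 hr5)
  · exact inv_edge (E_59_0 X0 X1 X2 hr0 hr1 hr2 hr3 hr4 hr5)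
  · exact inv_edge (E_48_0 X0 X1 X2)
  · exact inv_edge (E_61_0 X0 X1 X2 hr0 hr1 hr2 hr3 hr4 hr5)
  · exact inv_edge (E_50_0 X0 X1 X2 hr0 hr1 hr2 hr3 hr4 hr5)
  · exact inv_edge (E_63_0 X0 X1 X2 hr0 hr1 hr2 hr3 hr4 hr5)
  · exact inv_edge (E_144_0 X0 X1 X2 hr0 hr1 hr2 hr3 hr4 hr5)
  · exact inv_edge (E_65_0 X0 X1 X2 hr0 hr1 hr2 hr3 hr4 hr5)
  · exact inv_edge (E_148_0 X0 X1 X2 hr0 hr1 hr2 hr3 hr4 hr5)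
  · exact inv_edge (E_55_0 X0 X1 X2)
  · exact inv_edge (E_56_0 X0 X1 X2)
  · exact inv_edge (E_132_0 X0 X1 X2 hr0 hr1 hr2 hr3 hr4 hr5)
  · exact inv_edge (E_58_0 X0 X1 X2 hr0 hr1 hr2 hr3 hr4 hr5)
  · exact inv_edge (E_134_0 X0 X1 X2 hr0 hr1 hr2 hr3 hr4 hr5)
  · exact inv_edge (E_62_0 X0 X1 X2 hr0 hr1 hr2 hr3 hr4 hr5)
  · exact inv_edge (E_64_0 X0 X1 X2 hr0 hr1 hr2 hr3 hr4 hr5)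
  · exact inv_edge (E_137_0 X0 X1 X2 hr0 hr1 hr2 hr3 hr4 hr5)
  · exact inv_edge (E_149_0 X0 X1 X2 hr0 hr1 hr2 hr3 hr4 hr5)
  · exact inv_edge (E_139_0 X0 X1 X2 hr0 hr1 hr2 hr3 hr4 hr5)
  · exact inv_edge (E_66_0 X0 X1 X2)
  · exact inv_edge (E_67_0 X0 X1 X2)
  · exact inv_edge (E_68_0 X0 X1 X2)
  · exact inv_edge (E_79_0 X0 X1 X2 hr0 hr1 hr2 hr3 hr4 hr5)
  · exact inv_edge (E_152_0 X0 X1 X2 hr0 hr1 hr2 hr3 hr4 hr5)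
  · exact inv_edge (E_81_0 X0 X1 X2 hr0 hr1 hr2 hr3 hr4 hr5)
  · exact inv_edge (E_70_0 X0 X1 X2)
  · exact inv_edge (E_83_0 X0 X1 X2 hr0 hr1 hr2 hr3 hr4 hr5)
  · exact inv_edge (E_72_0 X0 X1 X2 hr0 hr1 hr2 hr3 hr4 hr5)
  · exact inv_edge (E_85_0 X0 X1 X2 hr0 hr1 hr2 hr3 hr4 hr5)
  · exact inv_edge (E_153_0 X0 X1 X2 hr0 hr1 hr2 hr3 hr4 hr5)
  · exact inv_edge (E_87_0 X0 X1 X2 hr0 hr1 hr2 hr3 hr4 hr5)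
  · exact inv_edge (E_157_0 X0 X1 X2 hr0 hr1 hr2 hr3 hr4 hr5)
  · exact inv_edge (E_77_0 X0 X1 X2)
  · exact inv_edge (E_78_0 X0 X1 X2)
  · exact inv_edge (E_91_0 X0 X1 X2 hr0 hr1 hr2 hr3 hr4 hr5)
  · exact inv_edge (E_80_0 X0 X1 X2 hr0 hr1 hr2 hr3 hr4 hr5)
  · exact inv_edge (E_93_0 X0 X1 X2 hr0 hr1 hr2 hr3 hr4 hr5)
  · exact inv_edge (E_84_0 X0 X1 X2 hr0 hr1 hr2 hr3 hr4 hr5)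
  · exact inv_edge (E_86_0 X0 X1 X2 hr0 hr1 hr2 hr3 hr4 hr5)
  · exact inv_edge (E_96_0 X0 X1 X2 hr0 hr1 hr2 hr3 hr4 hr5)
  · exact inv_edge (E_158_0 X0 X1 X2 hr0 hr1 hr2 hr3 hr4 hr5)
  · exact inv_edge (E_98_0 X0 X1 X2 hr0 hr1 hr2 hr3 hr4 hr5)
  · exact inv_edge (E_88_0 X0 X1 X2)
  · exact inv_edge (E_89_0 X0 X1 X2)
  · exact inv_edge (E_151_0 X0 X1 X2 hr0 hr1 hr2 hr3 hr4 hr5)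
  · exact inv_edge (E_92_0 X0 X1 X2 hr0 hr1 hr2 hr3 hr4 hr5)
  · exact inv_edge (E_95_0 X0 X1 X2 hr0 hr1 hr2 hr3 hr4 hr5)
  · exact inv_edge (E_154_0 X0 X1 X2 hr0 hr1 hr2 hr3 hr4 hr5)
  · exact inv_edge (E_97_0 X0 X1 X2 hr0 hr1 hr2 hr3 hr4 hr5)
  · exact inv_edge (E_156_0 X0 X1 X2 hr0 hr1 hr2 hr3 hr4 hr5)
  · exact inv_edge (E_99_0 X0 X1 X2)
  · exact inv_edge (E_101_0 X0 X1 X2)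
  · exact inv_edge (E_114_0 X0 X1 X2 hr0 hr1 hr2 hr3 hr4 hr5)
  · exact inv_edge (E_103_0 X0 X1 X2 hr0 hr1 hr2 hr3 hr4 hr5)
  · exact inv_edge (E_116_0 X0 X1 X2 hr0 hr1 hr2 hr3 hr4 hr5)
  · exact inv_edge (E_107_0 X0 X1 X2 hr0 hr1 hr2 hr3 hr4 hr5)
  · exact inv_edge (E_109_0 X0 X1 X2 hr0 hr1 hr2 hr3 hr4 hr5)
  · exact inv_edge (E_119_0 X0 X1 X2 hr0 hr1 hr2 hr3 hr4 hr5)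
  · exact inv_edge (E_160_0 X0 X1 X2 hr0 hr1 hr2 hr3 hr4 hr5)
  · exact inv_edge (E_121_0 X0 X1 X2 hr0 hr1 hr2 hr3 hr4 hr5)
  · exact inv_edge (E_111_0 X0 X1 X2)
  · exact inv_edge (E_112_0 X0 X1 X2)
  · exact inv_edge (E_124_0 X0 X1 X2 hr0 hr1 hr2 hr3 hr4 hr5)
  · exact inv_edge (E_115_0 X0 X1 X2 hr0 hr1 hr2 hr3 hr4 hr5)
  · exact inv_edge (E_118_0 X0 X1 X2 hr0 hr1 hr2 hr3 hr4 hr5)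
  · exact inv_edge (E_127_0 X0 X1 X2 hr0 hr1 hr2 hr3 hr4 hr5)
  · exact inv_edge (E_120_0 X0 X1 X2 hr0 hr1 hr2 hr3 hr4 hr5)
  · exact inv_edge (E_129_0 X0 X1 X2 hr0 hr1 hr2 hr3 hr4 hr5)
  · exact inv_edge (E_122_0 X0 X1 X2)
  · exact inv_edge (E_128_0 X0 X1 X2 hr0 hr1 hr2 hr3 hr4 hr5)
  · exact inv_edge (E_161_0 X0 X1 X2 hr0 hr1 hr2 hr3 hr4 hr5)
  · exact inv_edge (E_142_0 X0 X1 X2 hr0 hr1 hr2 hr3 hr4 hr5)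
  · exact inv_edge (E_133_0 X0 X1 X2 hr0 hr1 hr2 hr3 hr4 hr5)
  · exact inv_edge (E_136_0 X0 X1 X2 hr0 hr1 hr2 hr3 hr4 hr5)
  · exact inv_edge (E_145_0 X0 X1 X2 hr0 hr1 hr2 hr3 hr4 hr5)
  · exact inv_edge (E_138_0 X0 X1 X2 hr0 hr1 hr2 hr3 hr4 hr5)
  · exact inv_edge (E_147_0 X0 X1 X2 hr0 hr1 hr2 hr3 hr4 hr5)
  · exact inv_edge (E_140_0 X0 X1 X2)
  · exact inv_edge (E_146_0 X0 X1 X2 hr0 hr1 hr2 hr3 hr4 hr5)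
  · exact inv_edge (E_150_0 X0 X1 X2 hr0 hr1 hr2 hr3 hr4 hr5)
  · exact inv_edge (E_155_0 X0 X1 X2 hr0 hr1 hr2 hr3 hr4 hr5)
  · exact inv_edge (E_159_0 X0 X1 X2 hr0 hr1 hr2 hr3 hr4 hr5)
set_option maxRecDepth 100000 in
theorem stepAll1 (X0 X1 X2 : M) (hr0 : X0 * (X0 * (X0 * 1)) = 1) (hr1 : X1 * (X1 * (X1 * 1)) = 1) (hr2 : X2 * (X2 * 1) = 1) (hr3 : X2 * (X1 * (X2 * (X1 * 1))) = 1) (hr4 : X2 * (X0 * (X2⁻¹ * (X0⁻¹ * 1))) = 1) (hr5 : X0 * (X1 * (X0 * (X1⁻¹ * (X0⁻¹ * (X1 * (X0⁻¹ * (X1⁻¹ * 1))))))) = 1) : ∀ i : Fin 162, gAll X0 X1 X2 i * X1 = gAll X0 X1 X2 (nx1 i) := by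
  intro i; fin_cases i
  · exact (E_0_1 X0 X1 X2)
  · exact (E_1_1 X0 X1 X2)
  · exact (E_2_1 X0 X1 X2)
  · exact (E_3_1 X0 X1 X2)
  · exact (E_4_1 X0 X1 X2)
  · exact (E_5_1 X0 X1 X2)
  · exact (E_6_1 X0 X1 X2)
  · exact (E_7_1 X0 X1 X2)
  · exact (E_8_1 X0 X1 X2 hr0 hr1 hr2 hr3 hr4 hr5)
  · exact (E_9_1 X0 X1 X2 hr0 hr1 hr2 hr3 hr4 hr5)
  · exact (E_10_1 X0 X1 X2 hr0 hr1 hr2 hr3 hr4 hr5)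
  · exact (E_11_1 X0 X1 X2)
  · exact (E_12_1 X0 X1 X2)
  · exact (E_13_1 X0 X1 X2)
  · exact (E_14_1 X0 X1 X2 hr0 hr1 hr2 hr3 hr4 hr5)
  · exact (E_15_1 X0 X1 X2 hr0 hr1 hr2 hr3 hr4 hr5)
  · exact (E_16_1 X0 X1 X2 hr0 hr1 hr2 hr3 hr4 hr5)
  · exact (E_17_1 X0 X1 X2)
  · exact (E_18_1 X0 X1 X2)
  · exact (E_19_1 X0 X1 X2)
  · exact (E_20_1 X0 X1 X2)
  · exact (E_21_1 X0 X1 X2)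
  · exact (E_22_1 X0 X1 X2)
  · exact (E_23_1 X0 X1 X2 hr0 hr1 hr2 hr3 hr4 hr5)
  · exact (E_24_1 X0 X1 X2 hr0 hr1 hr2 hr3 hr4 hr5)
  · exact (E_25_1 X0 X1 X2 hr0 hr1 hr2 hr3 hr4 hr5)
  · exact (E_26_1 X0 X1 X2)
  · exact (E_27_1 X0 X1 X2)
  · exact (E_28_1 X0 X1 X2)
  · exact (E_29_1 X0 X1 X2)
  · exact (E_30_1 X0 X1 X2)
  · exact (E_31_1 X0 X1 X2)
  · exact (E_32_1 X0 X1 X2)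
  · exact (E_33_1 X0 X1 X2)
  · exact (E_34_1 X0 X1 X2 hr0 hr1 hr2 hr3 hr4 hr5)
  · exact (E_35_1 X0 X1 X2 hr0 hr1 hr2 hr3 hr4 hr5)
  · exact (E_36_1 X0 X1 X2 hr0 hr1 hr2 hr3 hr4 hr5)
  · exact (E_37_1 X0 X1 X2)
  · exact (E_38_1 X0 X1 X2)
  · exact (E_39_1 X0 X1 X2)
  · exact (E_40_1 X0 X1 X2 hr0 hr1 hr2 hr3 hr4 hr5)
  · exact (E_41_1 X0 X1 X2)
  · exact (E_42_1 X0 X1 X2)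
  · exact (E_43_1 X0 X1 X2)
  · exact (E_44_1 X0 X1 X2)
  · exact (E_45_1 X0 X1 X2)
  · exact (E_46_1 X0 X1 X2)
  · exact (E_47_1 X0 X1 X2)
  · exact (E_48_1 X0 X1 X2)
  · exact (E_49_1 X0 X1 X2 hr0 hr1 hr2 hr3 hr4 hr5)
  · exact (E_50_1 X0 X1 X2 hr0 hr1 hr2 hr3 hr4 hr5)
  · exact (E_51_1 X0 X1 X2 hr0 hr1 hr2 hr3 hr4 hr5)
  · exact (E_52_1 X0 X1 X2)
  · exact (E_53_1 X0 X1 X2)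
  · exact (E_54_1 X0 X1 X2)
  · exact (E_55_1 X0 X1 X2 hr0 hr1 hr2 hr3 hr4 hr5)
  · exact (E_56_1 X0 X1 X2)
  · exact (E_57_1 X0 X1 X2 hr0 hr1 hr2 hr3 hr4 hr5)
  · exact (E_58_1 X0 X1 X2 hr0 hr1 hr2 hr3 hr4 hr5)
  · exact (E_59_1 X0 X1 X2 hr0 hr1 hr2 hr3 hr4 hr5)
  · exact (E_60_1 X0 X1 X2)
  · exact (E_61_1 X0 X1 X2)
  · exact (E_62_1 X0 X1 X2 hr0 hr1 hr2 hr3 hr4 hr5)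
  · exact (E_63_1 X0 X1 X2)
  · exact (E_64_1 X0 X1 X2 hr0 hr1 hr2 hr3 hr4 hr5)
  · exact (E_65_1 X0 X1 X2 hr0 hr1 hr2 hr3 hr4 hr5)
  · exact (E_66_1 X0 X1 X2 hr0 hr1 hr2 hr3 hr4 hr5)
  · exact (E_67_1 X0 X1 X2 hr0 hr1 hr2 hr3 hr4 hr5)
  · exact (E_68_1 X0 X1 X2)
  · exact (E_69_1 X0 X1 X2)
  · exact (E_70_1 X0 X1 X2)
  · exact (E_71_1 X0 X1 X2 hr0 hr1 hr2 hr3 hr4 hr5)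
  · exact (E_72_1 X0 X1 X2 hr0 hr1 hr2 hr3 hr4 hr5)
  · exact (E_73_1 X0 X1 X2 hr0 hr1 hr2 hr3 hr4 hr5)
  · exact (E_74_1 X0 X1 X2)
  · exact (E_75_1 X0 X1 X2)
  · exact (E_76_1 X0 X1 X2)
  · exact (E_77_1 X0 X1 X2 hr0 hr1 hr2 hr3 hr4 hr5)
  · exact (E_78_1 X0 X1 X2)
  · exact (E_79_1 X0 X1 X2 hr0 hr1 hr2 hr3 hr4 hr5)
  · exact (E_80_1 X0 X1 X2 hr0 hr1 hr2 hr3 hr4 hr5)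
  · exact (E_81_1 X0 X1 X2 hr0 hr1 hr2 hr3 hr4 hr5)
  · exact (E_82_1 X0 X1 X2)
  · exact (E_83_1 X0 X1 X2)
  · exact (E_84_1 X0 X1 X2 hr0 hr1 hr2 hr3 hr4 hr5)
  · exact (E_85_1 X0 X1 X2)
  · exact (E_86_1 X0 X1 X2 hr0 hr1 hr2 hr3 hr4 hr5)
  · exact (E_87_1 X0 X1 X2 hr0 hr1 hr2 hr3 hr4 hr5)
  · exact (E_88_1 X0 X1 X2 hr0 hr1 hr2 hr3 hr4 hr5)
  · exact (E_89_1 X0 X1 X2 hr0 hr1 hr2 hr3 hr4 hr5)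
  · exact (E_90_1 X0 X1 X2)
  · exact (E_91_1 X0 X1 X2)
  · exact (E_92_1 X0 X1 X2 hr0 hr1 hr2 hr3 hr4 hr5)
  · exact (E_93_1 X0 X1 X2)
  · exact (E_94_1 X0 X1 X2 hr0 hr1 hr2 hr3 hr4 hr5)
  · exact (E_95_1 X0 X1 X2 hr0 hr1 hr2 hr3 hr4 hr5)
  · exact (E_96_1 X0 X1 X2 hr0 hr1 hr2 hr3 hr4 hr5)
  · exact (E_97_1 X0 X1 X2 hr0 hr1 hr2 hr3 hr4 hr5)
  · exact (E_98_1 X0 X1 X2 hr0 hr1 hr2 hr3 hr4 hr5)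
  · exact (E_99_1 X0 X1 X2 hr0 hr1 hr2 hr3 hr4 hr5)
  · exact (E_100_1 X0 X1 X2 hr0 hr1 hr2 hr3 hr4 hr5)
  · exact (E_101_1 X0 X1 X2)
  · exact (E_102_1 X0 X1 X2 hr0 hr1 hr2 hr3 hr4 hr5)
  · exact (E_103_1 X0 X1 X2 hr0 hr1 hr2 hr3 hr4 hr5)
  · exact (E_104_1 X0 X1 X2 hr0 hr1 hr2 hr3 hr4 hr5)
  · exact (E_105_1 X0 X1 X2)
  · exact (E_106_1 X0 X1 X2)
  · exact (E_107_1 X0 X1 X2 hr0 hr1 hr2 hr3 hr4 hr5)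
  · exact (E_108_1 X0 X1 X2)
  · exact (E_109_1 X0 X1 X2 hr0 hr1 hr2 hr3 hr4 hr5)
  · exact (E_110_1 X0 X1 X2 hr0 hr1 hr2 hr3 hr4 hr5)
  · exact (E_111_1 X0 X1 X2 hr0 hr1 hr2 hr3 hr4 hr5)
  · exact (E_112_1 X0 X1 X2 hr0 hr1 hr2 hr3 hr4 hr5)
  · exact (E_113_1 X0 X1 X2)
  · exact (E_114_1 X0 X1 X2)
  · exact (E_115_1 X0 X1 X2 hr0 hr1 hr2 hr3 hr4 hr5)
  · exact (E_116_1 X0 X1 X2)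
  · exact (E_117_1 X0 X1 X2 hr0 hr1 hr2 hr3 hr4 hr5)
  · exact (E_118_1 X0 X1 X2 hr0 hr1 hr2 hr3 hr4 hr5)
  · exact (E_119_1 X0 X1 X2 hr0 hr1 hr2 hr3 hr4 hr5)
  · exact (E_120_1 X0 X1 X2 hr0 hr1 hr2 hr3 hr4 hr5)
  · exact (E_121_1 X0 X1 X2 hr0 hr1 hr2 hr3 hr4 hr5)
  · exact (E_122_1 X0 X1 X2 hr0 hr1 hr2 hr3 hr4 hr5)
  · exact (E_123_1 X0 X1 X2 hr0 hr1 hr2 hr3 hr4 hr5)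
  · exact (E_124_1 X0 X1 X2)
  · exact (E_125_1 X0 X1 X2 hr0 hr1 hr2 hr3 hr4 hr5)
  · exact (E_126_1 X0 X1 X2 hr0 hr1 hr2 hr3 hr4 hr5)
  · exact (E_127_1 X0 X1 X2 hr0 hr1 hr2 hr3 hr4 hr5)
  · exact (E_128_1 X0 X1 X2 hr0 hr1 hr2 hr3 hr4 hr5)
  · exact (E_129_1 X0 X1 X2 hr0 hr1 hr2 hr3 hr4 hr5)
  · exact (E_130_1 X0 X1 X2 hr0 hr1 hr2 hr3 hr4 hr5)
  · exact (E_131_1 X0 X1 X2)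
  · exact (E_132_1 X0 X1 X2)
  · exact (E_133_1 X0 X1 X2 hr0 hr1 hr2 hr3 hr4 hr5)
  · exact (E_134_1 X0 X1 X2)
  · exact (E_135_1 X0 X1 X2 hr0 hr1 hr2 hr3 hr4 hr5)
  · exact (E_136_1 X0 X1 X2 hr0 hr1 hr2 hr3 hr4 hr5)
  · exact (E_137_1 X0 X1 X2 hr0 hr1 hr2 hr3 hr4 hr5)
  · exact (E_138_1 X0 X1 X2 hr0 hr1 hr2 hr3 hr4 hr5)
  · exact (E_139_1 X0 X1 X2 hr0 hr1 hr2 hr3 hr4 hr5)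
  · exact (E_140_1 X0 X1 X2 hr0 hr1 hr2 hr3 hr4 hr5)
  · exact (E_141_1 X0 X1 X2 hr0 hr1 hr2 hr3 hr4 hr5)
  · exact (E_142_1 X0 X1 X2)
  · exact (E_143_1 X0 X1 X2 hr0 hr1 hr2 hr3 hr4 hr5)
  · exact (E_144_1 X0 X1 X2 hr0 hr1 hr2 hr3 hr4 hr5)
  · exact (E_145_1 X0 X1 X2 hr0 hr1 hr2 hr3 hr4 hr5)
  · exact (E_146_1 X0 X1 X2 hr0 hr1 hr2 hr3 hr4 hr5)
  · exact (E_147_1 X0 X1 X2 hr0 hr1 hr2 hr3 hr4 hr5)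
  · exact (E_148_1 X0 X1 X2 hr0 hr1 hr2 hr3 hr4 hr5)
  · exact (E_149_1 X0 X1 X2 hr0 hr1 hr2 hr3 hr4 hr5)
  · exact (E_150_1 X0 X1 X2 hr0 hr1 hr2 hr3 hr4 hr5)
  · exact (E_151_1 X0 X1 X2)
  · exact (E_152_1 X0 X1 X2 hr0 hr1 hr2 hr3 hr4 hr5)
  · exact (E_153_1 X0 X1 X2 hr0 hr1 hr2 hr3 hr4 hr5)
  · exact (E_154_1 X0 X1 X2 hr0 hr1 hr2 hr3 hr4 hr5)
  · exact (E_155_1 X0 X1 X2 hr0 hr1 hr2 hr3 hr4 hr5)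
  · exact (E_156_1 X0 X1 X2 hr0 hr1 hr2 hr3 hr4 hr5)
  · exact (E_157_1 X0 X1 X2 hr0 hr1 hr2 hr3 hr4 hr5)
  · exact (E_158_1 X0 X1 X2 hr0 hr1 hr2 hr3 hr4 hr5)
  · exact (E_159_1 X0 X1 X2 hr0 hr1 hr2 hr3 hr4 hr5)
  · exact (E_160_1 X0 X1 X2 hr0 hr1 hr2 hr3 hr4 hr5)
  · exact (E_161_1 X0 X1 X2 hr0 hr1 hr2 hr3 hr4 hr5)
set_option maxRecDepth 100000 in
theorem stepInv1 (X0 X1 X2 : M) (hr0 : X0 * (X0 * (X0 * 1)) = 1) (hr1 : X1 * (X1 * (X1 * 1)) = 1) (hr2 : X2 * (X2 * 1) = 1) (hr3 : X2 * (X1 * (X2 * (X1 * 1))) = 1) (hr4 : X2 * (X0 * (X2⁻¹ * (X0⁻¹ * 1))) = 1) (hr5 : X0 * (X1 * (X0 * (X1⁻¹ * (X0⁻¹ * (X1 * (X0⁻¹ * (X1⁻¹ * 1))))))) = 1) : ∀ i : Fin 162, gAll X0 X1 X2 i * X1⁻¹ = gAll X0 X1 X2 (pv1 i) := by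
  intro i; fin_cases i
  · exact inv_edge (E_8_1 X0 X1 X2 hr0 hr1 hr2 hr3 hr4 hr5)
  · exact inv_edge (E_14_1 X0 X1 X2 hr0 hr1 hr2 hr3 hr4 hr5)
  · exact inv_edge (E_0_1 X0 X1 X2)
  · exact inv_edge (E_9_1 X0 X1 X2 hr0 hr1 hr2 hr3 hr4 hr5)
  · exact inv_edge (E_23_1 X0 X1 X2 hr0 hr1 hr2 hr3 hr4 hr5)
  · exact inv_edge (E_1_1 X0 X1 X2)
  · exact inv_edge (E_15_1 X0 X1 X2 hr0 hr1 hr2 hr3 hr4 hr5)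
  · exact inv_edge (E_34_1 X0 X1 X2 hr0 hr1 hr2 hr3 hr4 hr5)
  · exact inv_edge (E_2_1 X0 X1 X2)
  · exact inv_edge (E_10_1 X0 X1 X2 hr0 hr1 hr2 hr3 hr4 hr5)
  · exact inv_edge (E_3_1 X0 X1 X2)
  · exact inv_edge (E_4_1 X0 X1 X2)
  · exact inv_edge (E_24_1 X0 X1 X2 hr0 hr1 hr2 hr3 hr4 hr5)
  · exact inv_edge (E_49_1 X0 X1 X2 hr0 hr1 hr2 hr3 hr4 hr5)
  · exact inv_edge (E_5_1 X0 X1 X2)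
  · exact inv_edge (E_16_1 X0 X1 X2 hr0 hr1 hr2 hr3 hr4 hr5)
  · exact inv_edge (E_6_1 X0 X1 X2)
  · exact inv_edge (E_57_1 X0 X1 X2 hr0 hr1 hr2 hr3 hr4 hr5)
  · exact inv_edge (E_7_1 X0 X1 X2)
  · exact inv_edge (E_35_1 X0 X1 X2 hr0 hr1 hr2 hr3 hr4 hr5)
  · exact inv_edge (E_64_1 X0 X1 X2 hr0 hr1 hr2 hr3 hr4 hr5)
  · exact inv_edge (E_65_1 X0 X1 X2 hr0 hr1 hr2 hr3 hr4 hr5)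
  · exact inv_edge (E_71_1 X0 X1 X2 hr0 hr1 hr2 hr3 hr4 hr5)
  · exact inv_edge (E_11_1 X0 X1 X2)
  · exact inv_edge (E_25_1 X0 X1 X2 hr0 hr1 hr2 hr3 hr4 hr5)
  · exact inv_edge (E_12_1 X0 X1 X2)
  · exact inv_edge (E_79_1 X0 X1 X2 hr0 hr1 hr2 hr3 hr4 hr5)
  · exact inv_edge (E_13_1 X0 X1 X2)
  · exact inv_edge (E_50_1 X0 X1 X2 hr0 hr1 hr2 hr3 hr4 hr5)
  · exact inv_edge (E_86_1 X0 X1 X2 hr0 hr1 hr2 hr3 hr4 hr5)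
  · exact inv_edge (E_87_1 X0 X1 X2 hr0 hr1 hr2 hr3 hr4 hr5)
  · exact inv_edge (E_17_1 X0 X1 X2)
  · exact inv_edge (E_58_1 X0 X1 X2 hr0 hr1 hr2 hr3 hr4 hr5)
  · exact inv_edge (E_95_1 X0 X1 X2 hr0 hr1 hr2 hr3 hr4 hr5)
  · exact inv_edge (E_18_1 X0 X1 X2)
  · exact inv_edge (E_36_1 X0 X1 X2 hr0 hr1 hr2 hr3 hr4 hr5)
  · exact inv_edge (E_19_1 X0 X1 X2)
  · exact inv_edge (E_97_1 X0 X1 X2 hr0 hr1 hr2 hr3 hr4 hr5)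
  · exact inv_edge (E_20_1 X0 X1 X2)
  · exact inv_edge (E_98_1 X0 X1 X2 hr0 hr1 hr2 hr3 hr4 hr5)
  · exact inv_edge (E_21_1 X0 X1 X2)
  · exact inv_edge (E_102_1 X0 X1 X2 hr0 hr1 hr2 hr3 hr4 hr5)
  · exact inv_edge (E_22_1 X0 X1 X2)
  · exact inv_edge (E_72_1 X0 X1 X2 hr0 hr1 hr2 hr3 hr4 hr5)
  · exact inv_edge (E_109_1 X0 X1 X2 hr0 hr1 hr2 hr3 hr4 hr5)
  · exact inv_edge (E_110_1 X0 X1 X2 hr0 hr1 hr2 hr3 hr4 hr5)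
  · exact inv_edge (E_26_1 X0 X1 X2)
  · exact inv_edge (E_80_1 X0 X1 X2 hr0 hr1 hr2 hr3 hr4 hr5)
  · exact inv_edge (E_118_1 X0 X1 X2 hr0 hr1 hr2 hr3 hr4 hr5)
  · exact inv_edge (E_27_1 X0 X1 X2)
  · exact inv_edge (E_51_1 X0 X1 X2 hr0 hr1 hr2 hr3 hr4 hr5)
  · exact inv_edge (E_28_1 X0 X1 X2)
  · exact inv_edge (E_120_1 X0 X1 X2 hr0 hr1 hr2 hr3 hr4 hr5)
  · exact inv_edge (E_29_1 X0 X1 X2)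
  · exact inv_edge (E_121_1 X0 X1 X2 hr0 hr1 hr2 hr3 hr4 hr5)
  · exact inv_edge (E_30_1 X0 X1 X2)
  · exact inv_edge (E_126_1 X0 X1 X2 hr0 hr1 hr2 hr3 hr4 hr5)
  · exact inv_edge (E_31_1 X0 X1 X2)
  · exact inv_edge (E_59_1 X0 X1 X2 hr0 hr1 hr2 hr3 hr4 hr5)
  · exact inv_edge (E_32_1 X0 X1 X2)
  · exact inv_edge (E_128_1 X0 X1 X2 hr0 hr1 hr2 hr3 hr4 hr5)
  · exact inv_edge (E_33_1 X0 X1 X2)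
  · exact inv_edge (E_96_1 X0 X1 X2 hr0 hr1 hr2 hr3 hr4 hr5)
  · exact inv_edge (E_37_1 X0 X1 X2)
  · exact inv_edge (E_38_1 X0 X1 X2)
  · exact inv_edge (E_40_1 X0 X1 X2 hr0 hr1 hr2 hr3 hr4 hr5)
  · exact inv_edge (E_39_1 X0 X1 X2)
  · exact inv_edge (E_62_1 X0 X1 X2 hr0 hr1 hr2 hr3 hr4 hr5)
  · exact inv_edge (E_41_1 X0 X1 X2)
  · exact inv_edge (E_103_1 X0 X1 X2 hr0 hr1 hr2 hr3 hr4 hr5)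
  · exact inv_edge (E_136_1 X0 X1 X2 hr0 hr1 hr2 hr3 hr4 hr5)
  · exact inv_edge (E_42_1 X0 X1 X2)
  · exact inv_edge (E_73_1 X0 X1 X2 hr0 hr1 hr2 hr3 hr4 hr5)
  · exact inv_edge (E_43_1 X0 X1 X2)
  · exact inv_edge (E_138_1 X0 X1 X2 hr0 hr1 hr2 hr3 hr4 hr5)
  · exact inv_edge (E_44_1 X0 X1 X2)
  · exact inv_edge (E_139_1 X0 X1 X2 hr0 hr1 hr2 hr3 hr4 hr5)
  · exact inv_edge (E_45_1 X0 X1 X2)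
  · exact inv_edge (E_144_1 X0 X1 X2 hr0 hr1 hr2 hr3 hr4 hr5)
  · exact inv_edge (E_46_1 X0 X1 X2)
  · exact inv_edge (E_81_1 X0 X1 X2 hr0 hr1 hr2 hr3 hr4 hr5)
  · exact inv_edge (E_47_1 X0 X1 X2)
  · exact inv_edge (E_146_1 X0 X1 X2 hr0 hr1 hr2 hr3 hr4 hr5)
  · exact inv_edge (E_48_1 X0 X1 X2)
  · exact inv_edge (E_119_1 X0 X1 X2 hr0 hr1 hr2 hr3 hr4 hr5)
  · exact inv_edge (E_52_1 X0 X1 X2)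
  · exact inv_edge (E_53_1 X0 X1 X2)
  · exact inv_edge (E_55_1 X0 X1 X2 hr0 hr1 hr2 hr3 hr4 hr5)
  · exact inv_edge (E_54_1 X0 X1 X2)
  · exact inv_edge (E_84_1 X0 X1 X2 hr0 hr1 hr2 hr3 hr4 hr5)
  · exact inv_edge (E_149_1 X0 X1 X2 hr0 hr1 hr2 hr3 hr4 hr5)
  · exact inv_edge (E_56_1 X0 X1 X2)
  · exact inv_edge (E_127_1 X0 X1 X2 hr0 hr1 hr2 hr3 hr4 hr5)
  · exact inv_edge (E_60_1 X0 X1 X2)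
  · exact inv_edge (E_129_1 X0 X1 X2 hr0 hr1 hr2 hr3 hr4 hr5)
  · exact inv_edge (E_61_1 X0 X1 X2)
  · exact inv_edge (E_67_1 X0 X1 X2 hr0 hr1 hr2 hr3 hr4 hr5)
  · exact inv_edge (E_63_1 X0 X1 X2)
  · exact inv_edge (E_66_1 X0 X1 X2 hr0 hr1 hr2 hr3 hr4 hr5)
  · exact inv_edge (E_94_1 X0 X1 X2 hr0 hr1 hr2 hr3 hr4 hr5)
  · exact inv_edge (E_92_1 X0 X1 X2 hr0 hr1 hr2 hr3 hr4 hr5)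
  · exact inv_edge (E_153_1 X0 X1 X2 hr0 hr1 hr2 hr3 hr4 hr5)
  · exact inv_edge (E_68_1 X0 X1 X2)
  · exact inv_edge (E_104_1 X0 X1 X2 hr0 hr1 hr2 hr3 hr4 hr5)
  · exact inv_edge (E_69_1 X0 X1 X2)
  · exact inv_edge (E_155_1 X0 X1 X2 hr0 hr1 hr2 hr3 hr4 hr5)
  · exact inv_edge (E_70_1 X0 X1 X2)
  · exact inv_edge (E_137_1 X0 X1 X2 hr0 hr1 hr2 hr3 hr4 hr5)
  · exact inv_edge (E_74_1 X0 X1 X2)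
  · exact inv_edge (E_75_1 X0 X1 X2)
  · exact inv_edge (E_77_1 X0 X1 X2 hr0 hr1 hr2 hr3 hr4 hr5)
  · exact inv_edge (E_76_1 X0 X1 X2)
  · exact inv_edge (E_107_1 X0 X1 X2 hr0 hr1 hr2 hr3 hr4 hr5)
  · exact inv_edge (E_158_1 X0 X1 X2 hr0 hr1 hr2 hr3 hr4 hr5)
  · exact inv_edge (E_78_1 X0 X1 X2)
  · exact inv_edge (E_145_1 X0 X1 X2 hr0 hr1 hr2 hr3 hr4 hr5)
  · exact inv_edge (E_82_1 X0 X1 X2)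
  · exact inv_edge (E_147_1 X0 X1 X2 hr0 hr1 hr2 hr3 hr4 hr5)
  · exact inv_edge (E_83_1 X0 X1 X2)
  · exact inv_edge (E_89_1 X0 X1 X2 hr0 hr1 hr2 hr3 hr4 hr5)
  · exact inv_edge (E_85_1 X0 X1 X2)
  · exact inv_edge (E_88_1 X0 X1 X2 hr0 hr1 hr2 hr3 hr4 hr5)
  · exact inv_edge (E_117_1 X0 X1 X2 hr0 hr1 hr2 hr3 hr4 hr5)
  · exact inv_edge (E_115_1 X0 X1 X2 hr0 hr1 hr2 hr3 hr4 hr5)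
  · exact inv_edge (E_90_1 X0 X1 X2)
  · exact inv_edge (E_150_1 X0 X1 X2 hr0 hr1 hr2 hr3 hr4 hr5)
  · exact inv_edge (E_91_1 X0 X1 X2)
  · exact inv_edge (E_100_1 X0 X1 X2 hr0 hr1 hr2 hr3 hr4 hr5)
  · exact inv_edge (E_93_1 X0 X1 X2)
  · exact inv_edge (E_99_1 X0 X1 X2 hr0 hr1 hr2 hr3 hr4 hr5)
  · exact inv_edge (E_125_1 X0 X1 X2 hr0 hr1 hr2 hr3 hr4 hr5)
  · exact inv_edge (E_160_1 X0 X1 X2 hr0 hr1 hr2 hr3 hr4 hr5)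
  · exact inv_edge (E_101_1 X0 X1 X2)
  · exact inv_edge (E_154_1 X0 X1 X2 hr0 hr1 hr2 hr3 hr4 hr5)
  · exact inv_edge (E_105_1 X0 X1 X2)
  · exact inv_edge (E_156_1 X0 X1 X2 hr0 hr1 hr2 hr3 hr4 hr5)
  · exact inv_edge (E_106_1 X0 X1 X2)
  · exact inv_edge (E_112_1 X0 X1 X2 hr0 hr1 hr2 hr3 hr4 hr5)
  · exact inv_edge (E_108_1 X0 X1 X2)
  · exact inv_edge (E_111_1 X0 X1 X2 hr0 hr1 hr2 hr3 hr4 hr5)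
  · exact inv_edge (E_135_1 X0 X1 X2 hr0 hr1 hr2 hr3 hr4 hr5)
  · exact inv_edge (E_133_1 X0 X1 X2 hr0 hr1 hr2 hr3 hr4 hr5)
  · exact inv_edge (E_113_1 X0 X1 X2)
  · exact inv_edge (E_159_1 X0 X1 X2 hr0 hr1 hr2 hr3 hr4 hr5)
  · exact inv_edge (E_114_1 X0 X1 X2)
  · exact inv_edge (E_123_1 X0 X1 X2 hr0 hr1 hr2 hr3 hr4 hr5)
  · exact inv_edge (E_116_1 X0 X1 X2)
  · exact inv_edge (E_122_1 X0 X1 X2 hr0 hr1 hr2 hr3 hr4 hr5)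
  · exact inv_edge (E_143_1 X0 X1 X2 hr0 hr1 hr2 hr3 hr4 hr5)
  · exact inv_edge (E_124_1 X0 X1 X2)
  · exact inv_edge (E_130_1 X0 X1 X2 hr0 hr1 hr2 hr3 hr4 hr5)
  · exact inv_edge (E_131_1 X0 X1 X2)
  · exact inv_edge (E_161_1 X0 X1 X2 hr0 hr1 hr2 hr3 hr4 hr5)
  · exact inv_edge (E_132_1 X0 X1 X2)
  · exact inv_edge (E_141_1 X0 X1 X2 hr0 hr1 hr2 hr3 hr4 hr5)
  · exact inv_edge (E_134_1 X0 X1 X2)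
  · exact inv_edge (E_140_1 X0 X1 X2 hr0 hr1 hr2 hr3 hr4 hr5)
  · exact inv_edge (E_152_1 X0 X1 X2 hr0 hr1 hr2 hr3 hr4 hr5)
  · exact inv_edge (E_142_1 X0 X1 X2)
  · exact inv_edge (E_148_1 X0 X1 X2 hr0 hr1 hr2 hr3 hr4 hr5)
  · exact inv_edge (E_151_1 X0 X1 X2)
  · exact inv_edge (E_157_1 X0 X1 X2 hr0 hr1 hr2 hr3 hr4 hr5)
set_option maxRecDepth 100000 in
theorem stepAll2 (X0 X1 X2 : M) (hr0 : X0 * (X0 * (X0 * 1)) = 1) (hr1 : X1 * (X1 * (X1 * 1)) = 1) (hr2 : X2 * (X2 * 1) = 1) (hr3 : X2 * (X1 * (X2 * (X1 * 1))) = 1) (hr4 : X2 * (X0 * (X2⁻¹ * (X0⁻¹ * 1))) = 1) (hr5 : X0 * (X1 * (X0 * (X1⁻¹ * (X0⁻¹ * (X1 * (X0⁻¹ * (X1⁻¹ * 1))))))) = 1) : ∀ i : Fin 162, gAll X0 X1 X2 i * X2 = gAll X0 X1 X2 (nx2 i) := by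
  intro i; fin_cases i
  · exact (E_0_2 X0 X1 X2)
  · exact (E_1_2 X0 X1 X2)
  · exact (E_2_2 X0 X1 X2)
  · exact (E_3_2 X0 X1 X2 hr0 hr1 hr2 hr3 hr4 hr5)
  · exact (E_4_2 X0 X1 X2)
  · exact (E_5_2 X0 X1 X2)
  · exact (E_6_2 X0 X1 X2 hr0 hr1 hr2 hr3 hr4 hr5)
  · exact (E_7_2 X0 X1 X2)
  · exact (E_8_2 X0 X1 X2 hr0 hr1 hr2 hr3 hr4 hr5)
  · exact (E_9_2 X0 X1 X2 hr0 hr1 hr2 hr3 hr4 hr5)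
  · exact (E_10_2 X0 X1 X2 hr0 hr1 hr2 hr3 hr4 hr5)
  · exact (E_11_2 X0 X1 X2)
  · exact (E_12_2 X0 X1 X2 hr0 hr1 hr2 hr3 hr4 hr5)
  · exact (E_13_2 X0 X1 X2)
  · exact (E_14_2 X0 X1 X2 hr0 hr1 hr2 hr3 hr4 hr5)
  · exact (E_15_2 X0 X1 X2 hr0 hr1 hr2 hr3 hr4 hr5)
  · exact (E_16_2 X0 X1 X2 hr0 hr1 hr2 hr3 hr4 hr5)
  · exact (E_17_2 X0 X1 X2)
  · exact (E_18_2 X0 X1 X2)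
  · exact (E_19_2 X0 X1 X2 hr0 hr1 hr2 hr3 hr4 hr5)
  · exact (E_20_2 X0 X1 X2 hr0 hr1 hr2 hr3 hr4 hr5)
  · exact (E_21_2 X0 X1 X2 hr0 hr1 hr2 hr3 hr4 hr5)
  · exact (E_22_2 X0 X1 X2)
  · exact (E_23_2 X0 X1 X2 hr0 hr1 hr2 hr3 hr4 hr5)
  · exact (E_24_2 X0 X1 X2 hr0 hr1 hr2 hr3 hr4 hr5)
  · exact (E_25_2 X0 X1 X2 hr0 hr1 hr2 hr3 hr4 hr5)
  · exact (E_26_2 X0 X1 X2)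
  · exact (E_27_2 X0 X1 X2)
  · exact (E_28_2 X0 X1 X2 hr0 hr1 hr2 hr3 hr4 hr5)
  · exact (E_29_2 X0 X1 X2 hr0 hr1 hr2 hr3 hr4 hr5)
  · exact (E_30_2 X0 X1 X2 hr0 hr1 hr2 hr3 hr4 hr5)
  · exact (E_31_2 X0 X1 X2)
  · exact (E_32_2 X0 X1 X2 hr0 hr1 hr2 hr3 hr4 hr5)
  · exact (E_33_2 X0 X1 X2)
  · exact (E_34_2 X0 X1 X2 hr0 hr1 hr2 hr3 hr4 hr5)
  · exact (E_35_2 X0 X1 X2 hr0 hr1 hr2 hr3 hr4 hr5)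
  · exact (E_36_2 X0 X1 X2 hr0 hr1 hr2 hr3 hr4 hr5)
  · exact (E_37_2 X0 X1 X2 hr0 hr1 hr2 hr3 hr4 hr5)
  · exact (E_38_2 X0 X1 X2)
  · exact (E_39_2 X0 X1 X2 hr0 hr1 hr2 hr3 hr4 hr5)
  · exact (E_40_2 X0 X1 X2 hr0 hr1 hr2 hr3 hr4 hr5)
  · exact (E_41_2 X0 X1 X2)
  · exact (E_42_2 X0 X1 X2)
  · exact (E_43_2 X0 X1 X2 hr0 hr1 hr2 hr3 hr4 hr5)
  · exact (E_44_2 X0 X1 X2 hr0 hr1 hr2 hr3 hr4 hr5)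
  · exact (E_45_2 X0 X1 X2 hr0 hr1 hr2 hr3 hr4 hr5)
  · exact (E_46_2 X0 X1 X2)
  · exact (E_47_2 X0 X1 X2 hr0 hr1 hr2 hr3 hr4 hr5)
  · exact (E_48_2 X0 X1 X2)
  · exact (E_49_2 X0 X1 X2 hr0 hr1 hr2 hr3 hr4 hr5)
  · exact (E_50_2 X0 X1 X2 hr0 hr1 hr2 hr3 hr4 hr5)
  · exact (E_51_2 X0 X1 X2 hr0 hr1 hr2 hr3 hr4 hr5)
  · exact (E_52_2 X0 X1 X2 hr0 hr1 hr2 hr3 hr4 hr5)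
  · exact (E_53_2 X0 X1 X2)
  · exact (E_54_2 X0 X1 X2 hr0 hr1 hr2 hr3 hr4 hr5)
  · exact (E_55_2 X0 X1 X2 hr0 hr1 hr2 hr3 hr4 hr5)
  · exact (E_56_2 X0 X1 X2)
  · exact (E_57_2 X0 X1 X2 hr0 hr1 hr2 hr3 hr4 hr5)
  · exact (E_58_2 X0 X1 X2 hr0 hr1 hr2 hr3 hr4 hr5)
  · exact (E_59_2 X0 X1 X2 hr0 hr1 hr2 hr3 hr4 hr5)
  · exact (E_60_2 X0 X1 X2)
  · exact (E_61_2 X0 X1 X2)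
  · exact (E_62_2 X0 X1 X2 hr0 hr1 hr2 hr3 hr4 hr5)
  · exact (E_63_2 X0 X1 X2)
  · exact (E_64_2 X0 X1 X2 hr0 hr1 hr2 hr3 hr4 hr5)
  · exact (E_65_2 X0 X1 X2 hr0 hr1 hr2 hr3 hr4 hr5)
  · exact (E_66_2 X0 X1 X2 hr0 hr1 hr2 hr3 hr4 hr5)
  · exact (E_67_2 X0 X1 X2 hr0 hr1 hr2 hr3 hr4 hr5)
  · exact (E_68_2 X0 X1 X2)
  · exact (E_69_2 X0 X1 X2 hr0 hr1 hr2 hr3 hr4 hr5)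
  · exact (E_70_2 X0 X1 X2)
  · exact (E_71_2 X0 X1 X2 hr0 hr1 hr2 hr3 hr4 hr5)
  · exact (E_72_2 X0 X1 X2 hr0 hr1 hr2 hr3 hr4 hr5)
  · exact (E_73_2 X0 X1 X2 hr0 hr1 hr2 hr3 hr4 hr5)
  · exact (E_74_2 X0 X1 X2 hr0 hr1 hr2 hr3 hr4 hr5)
  · exact (E_75_2 X0 X1 X2)
  · exact (E_76_2 X0 X1 X2 hr0 hr1 hr2 hr3 hr4 hr5)
  · exact (E_77_2 X0 X1 X2 hr0 hr1 hr2 hr3 hr4 hr5)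
  · exact (E_78_2 X0 X1 X2)
  · exact (E_79_2 X0 X1 X2 hr0 hr1 hr2 hr3 hr4 hr5)
  · exact (E_80_2 X0 X1 X2 hr0 hr1 hr2 hr3 hr4 hr5)
  · exact (E_81_2 X0 X1 X2 hr0 hr1 hr2 hr3 hr4 hr5)
  · exact (E_82_2 X0 X1 X2)
  · exact (E_83_2 X0 X1 X2)
  · exact (E_84_2 X0 X1 X2 hr0 hr1 hr2 hr3 hr4 hr5)
  · exact (E_85_2 X0 X1 X2)
  · exact (E_86_2 X0 X1 X2 hr0 hr1 hr2 hr3 hr4 hr5)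
  · exact (E_87_2 X0 X1 X2 hr0 hr1 hr2 hr3 hr4 hr5)
  · exact (E_88_2 X0 X1 X2 hr0 hr1 hr2 hr3 hr4 hr5)
  · exact (E_89_2 X0 X1 X2 hr0 hr1 hr2 hr3 hr4 hr5)
  · exact (E_90_2 X0 X1 X2)
  · exact (E_91_2 X0 X1 X2)
  · exact (E_92_2 X0 X1 X2 hr0 hr1 hr2 hr3 hr4 hr5)
  · exact (E_93_2 X0 X1 X2)
  · exact (E_94_2 X0 X1 X2 hr0 hr1 hr2 hr3 hr4 hr5)
  · exact (E_95_2 X0 X1 X2 hr0 hr1 hr2 hr3 hr4 hr5)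
  · exact (E_96_2 X0 X1 X2 hr0 hr1 hr2 hr3 hr4 hr5)
  · exact (E_97_2 X0 X1 X2 hr0 hr1 hr2 hr3 hr4 hr5)
  · exact (E_98_2 X0 X1 X2 hr0 hr1 hr2 hr3 hr4 hr5)
  · exact (E_99_2 X0 X1 X2 hr0 hr1 hr2 hr3 hr4 hr5)
  · exact (E_100_2 X0 X1 X2 hr0 hr1 hr2 hr3 hr4 hr5)
  · exact (E_101_2 X0 X1 X2)
  · exact (E_102_2 X0 X1 X2 hr0 hr1 hr2 hr3 hr4 hr5)
  · exact (E_103_2 X0 X1 X2 hr0 hr1 hr2 hr3 hr4 hr5)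
  · exact (E_104_2 X0 X1 X2 hr0 hr1 hr2 hr3 hr4 hr5)
  · exact (E_105_2 X0 X1 X2)
  · exact (E_106_2 X0 X1 X2)
  · exact (E_107_2 X0 X1 X2 hr0 hr1 hr2 hr3 hr4 hr5)
  · exact (E_108_2 X0 X1 X2)
  · exact (E_109_2 X0 X1 X2 hr0 hr1 hr2 hr3 hr4 hr5)
  · exact (E_110_2 X0 X1 X2 hr0 hr1 hr2 hr3 hr4 hr5)
  · exact (E_111_2 X0 X1 X2 hr0 hr1 hr2 hr3 hr4 hr5)
  · exact (E_112_2 X0 X1 X2 hr0 hr1 hr2 hr3 hr4 hr5)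
  · exact (E_113_2 X0 X1 X2)
  · exact (E_114_2 X0 X1 X2)
  · exact (E_115_2 X0 X1 X2 hr0 hr1 hr2 hr3 hr4 hr5)
  · exact (E_116_2 X0 X1 X2)
  · exact (E_117_2 X0 X1 X2 hr0 hr1 hr2 hr3 hr4 hr5)
  · exact (E_118_2 X0 X1 X2 hr0 hr1 hr2 hr3 hr4 hr5)
  · exact (E_119_2 X0 X1 X2 hr0 hr1 hr2 hr3 hr4 hr5)
  · exact (E_120_2 X0 X1 X2 hr0 hr1 hr2 hr3 hr4 hr5)
  · exact (E_121_2 X0 X1 X2 hr0 hr1 hr2 hr3 hr4 hr5)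
  · exact (E_122_2 X0 X1 X2 hr0 hr1 hr2 hr3 hr4 hr5)
  · exact (E_123_2 X0 X1 X2 hr0 hr1 hr2 hr3 hr4 hr5)
  · exact (E_124_2 X0 X1 X2)
  · exact (E_125_2 X0 X1 X2 hr0 hr1 hr2 hr3 hr4 hr5)
  · exact (E_126_2 X0 X1 X2 hr0 hr1 hr2 hr3 hr4 hr5)
  · exact (E_127_2 X0 X1 X2 hr0 hr1 hr2 hr3 hr4 hr5)
  · exact (E_128_2 X0 X1 X2 hr0 hr1 hr2 hr3 hr4 hr5)
  · exact (E_129_2 X0 X1 X2 hr0 hr1 hr2 hr3 hr4 hr5)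
  · exact (E_130_2 X0 X1 X2 hr0 hr1 hr2 hr3 hr4 hr5)
  · exact (E_131_2 X0 X1 X2)
  · exact (E_132_2 X0 X1 X2)
  · exact (E_133_2 X0 X1 X2 hr0 hr1 hr2 hr3 hr4 hr5)
  · exact (E_134_2 X0 X1 X2)
  · exact (E_135_2 X0 X1 X2 hr0 hr1 hr2 hr3 hr4 hr5)
  · exact (E_136_2 X0 X1 X2 hr0 hr1 hr2 hr3 hr4 hr5)
  · exact (E_137_2 X0 X1 X2 hr0 hr1 hr2 hr3 hr4 hr5)
  · exact (E_138_2 X0 X1 X2 hr0 hr1 hr2 hr3 hr4 hr5)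
  · exact (E_139_2 X0 X1 X2 hr0 hr1 hr2 hr3 hr4 hr5)
  · exact (E_140_2 X0 X1 X2 hr0 hr1 hr2 hr3 hr4 hr5)
  · exact (E_141_2 X0 X1 X2 hr0 hr1 hr2 hr3 hr4 hr5)
  · exact (E_142_2 X0 X1 X2)
  · exact (E_143_2 X0 X1 X2 hr0 hr1 hr2 hr3 hr4 hr5)
  · exact (E_144_2 X0 X1 X2 hr0 hr1 hr2 hr3 hr4 hr5)
  · exact (E_145_2 X0 X1 X2 hr0 hr1 hr2 hr3 hr4 hr5)
  · exact (E_146_2 X0 X1 X2 hr0 hr1 hr2 hr3 hr4 hr5)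
  · exact (E_147_2 X0 X1 X2 hr0 hr1 hr2 hr3 hr4 hr5)
  · exact (E_148_2 X0 X1 X2 hr0 hr1 hr2 hr3 hr4 hr5)
  · exact (E_149_2 X0 X1 X2 hr0 hr1 hr2 hr3 hr4 hr5)
  · exact (E_150_2 X0 X1 X2 hr0 hr1 hr2 hr3 hr4 hr5)
  · exact (E_151_2 X0 X1 X2)
  · exact (E_152_2 X0 X1 X2 hr0 hr1 hr2 hr3 hr4 hr5)
  · exact (E_153_2 X0 X1 X2 hr0 hr1 hr2 hr3 hr4 hr5)
  · exact (E_154_2 X0 X1 X2 hr0 hr1 hr2 hr3 hr4 hr5)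
  · exact (E_155_2 X0 X1 X2 hr0 hr1 hr2 hr3 hr4 hr5)
  · exact (E_156_2 X0 X1 X2 hr0 hr1 hr2 hr3 hr4 hr5)
  · exact (E_157_2 X0 X1 X2 hr0 hr1 hr2 hr3 hr4 hr5)
  · exact (E_158_2 X0 X1 X2 hr0 hr1 hr2 hr3 hr4 hr5)
  · exact (E_159_2 X0 X1 X2 hr0 hr1 hr2 hr3 hr4 hr5)
  · exact (E_160_2 X0 X1 X2 hr0 hr1 hr2 hr3 hr4 hr5)
  · exact (E_161_2 X0 X1 X2 hr0 hr1 hr2 hr3 hr4 hr5)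
set_option maxRecDepth 100000 in
theorem stepInv2 (X0 X1 X2 : M) (hr0 : X0 * (X0 * (X0 * 1)) = 1) (hr1 : X1 * (X1 * (X1 * 1)) = 1) (hr2 : X2 * (X2 * 1) = 1) (hr3 : X2 * (X1 * (X2 * (X1 * 1))) = 1) (hr4 : X2 * (X0 * (X2⁻¹ * (X0⁻¹ * 1))) = 1) (hr5 : X0 * (X1 * (X0 * (X1⁻¹ * (X0⁻¹ * (X1 * (X0⁻¹ * (X1⁻¹ * 1))))))) = 1) : ∀ i : Fin 162, gAll X0 X1 X2 i * X2⁻¹ = gAll X0 X1 X2 (pv2 i) := by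
  intro i; fin_cases i
  · exact inv_edge (E_3_2 X0 X1 X2 hr0 hr1 hr2 hr3 hr4 hr5)
  · exact inv_edge (E_6_2 X0 X1 X2 hr0 hr1 hr2 hr3 hr4 hr5)
  · exact inv_edge (E_9_2 X0 X1 X2 hr0 hr1 hr2 hr3 hr4 hr5)
  · exact inv_edge (E_0_2 X0 X1 X2)
  · exact inv_edge (E_12_2 X0 X1 X2 hr0 hr1 hr2 hr3 hr4 hr5)
  · exact inv_edge (E_15_2 X0 X1 X2 hr0 hr1 hr2 hr3 hr4 hr5)
  · exact inv_edge (E_1_2 X0 X1 X2)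
  · exact inv_edge (E_19_2 X0 X1 X2 hr0 hr1 hr2 hr3 hr4 hr5)
  · exact inv_edge (E_10_2 X0 X1 X2 hr0 hr1 hr2 hr3 hr4 hr5)
  · exact inv_edge (E_2_2 X0 X1 X2)
  · exact inv_edge (E_8_2 X0 X1 X2 hr0 hr1 hr2 hr3 hr4 hr5)
  · exact inv_edge (E_24_2 X0 X1 X2 hr0 hr1 hr2 hr3 hr4 hr5)
  · exact inv_edge (E_4_2 X0 X1 X2)
  · exact inv_edge (E_28_2 X0 X1 X2 hr0 hr1 hr2 hr3 hr4 hr5)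
  · exact inv_edge (E_16_2 X0 X1 X2 hr0 hr1 hr2 hr3 hr4 hr5)
  · exact inv_edge (E_5_2 X0 X1 X2)
  · exact inv_edge (E_14_2 X0 X1 X2 hr0 hr1 hr2 hr3 hr4 hr5)
  · exact inv_edge (E_32_2 X0 X1 X2 hr0 hr1 hr2 hr3 hr4 hr5)
  · exact inv_edge (E_35_2 X0 X1 X2 hr0 hr1 hr2 hr3 hr4 hr5)
  · exact inv_edge (E_7_2 X0 X1 X2)
  · exact inv_edge (E_21_2 X0 X1 X2 hr0 hr1 hr2 hr3 hr4 hr5)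
  · exact inv_edge (E_20_2 X0 X1 X2 hr0 hr1 hr2 hr3 hr4 hr5)
  · exact inv_edge (E_43_2 X0 X1 X2 hr0 hr1 hr2 hr3 hr4 hr5)
  · exact inv_edge (E_25_2 X0 X1 X2 hr0 hr1 hr2 hr3 hr4 hr5)
  · exact inv_edge (E_11_2 X0 X1 X2)
  · exact inv_edge (E_23_2 X0 X1 X2 hr0 hr1 hr2 hr3 hr4 hr5)
  · exact inv_edge (E_47_2 X0 X1 X2 hr0 hr1 hr2 hr3 hr4 hr5)
  · exact inv_edge (E_50_2 X0 X1 X2 hr0 hr1 hr2 hr3 hr4 hr5)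
  · exact inv_edge (E_13_2 X0 X1 X2)
  · exact inv_edge (E_30_2 X0 X1 X2 hr0 hr1 hr2 hr3 hr4 hr5)
  · exact inv_edge (E_29_2 X0 X1 X2 hr0 hr1 hr2 hr3 hr4 hr5)
  · exact inv_edge (E_58_2 X0 X1 X2 hr0 hr1 hr2 hr3 hr4 hr5)
  · exact inv_edge (E_17_2 X0 X1 X2)
  · exact inv_edge (E_62_2 X0 X1 X2 hr0 hr1 hr2 hr3 hr4 hr5)
  · exact inv_edge (E_36_2 X0 X1 X2 hr0 hr1 hr2 hr3 hr4 hr5)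
  · exact inv_edge (E_18_2 X0 X1 X2)
  · exact inv_edge (E_34_2 X0 X1 X2 hr0 hr1 hr2 hr3 hr4 hr5)
  · exact inv_edge (E_39_2 X0 X1 X2 hr0 hr1 hr2 hr3 hr4 hr5)
  · exact inv_edge (E_65_2 X0 X1 X2 hr0 hr1 hr2 hr3 hr4 hr5)
  · exact inv_edge (E_37_2 X0 X1 X2 hr0 hr1 hr2 hr3 hr4 hr5)
  · exact inv_edge (E_64_2 X0 X1 X2 hr0 hr1 hr2 hr3 hr4 hr5)
  · exact inv_edge (E_69_2 X0 X1 X2 hr0 hr1 hr2 hr3 hr4 hr5)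
  · exact inv_edge (E_72_2 X0 X1 X2 hr0 hr1 hr2 hr3 hr4 hr5)
  · exact inv_edge (E_22_2 X0 X1 X2)
  · exact inv_edge (E_45_2 X0 X1 X2 hr0 hr1 hr2 hr3 hr4 hr5)
  · exact inv_edge (E_44_2 X0 X1 X2 hr0 hr1 hr2 hr3 hr4 hr5)
  · exact inv_edge (E_80_2 X0 X1 X2 hr0 hr1 hr2 hr3 hr4 hr5)
  · exact inv_edge (E_26_2 X0 X1 X2)
  · exact inv_edge (E_84_2 X0 X1 X2 hr0 hr1 hr2 hr3 hr4 hr5)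
  · exact inv_edge (E_51_2 X0 X1 X2 hr0 hr1 hr2 hr3 hr4 hr5)
  · exact inv_edge (E_27_2 X0 X1 X2)
  · exact inv_edge (E_49_2 X0 X1 X2 hr0 hr1 hr2 hr3 hr4 hr5)
  · exact inv_edge (E_54_2 X0 X1 X2 hr0 hr1 hr2 hr3 hr4 hr5)
  · exact inv_edge (E_87_2 X0 X1 X2 hr0 hr1 hr2 hr3 hr4 hr5)
  · exact inv_edge (E_52_2 X0 X1 X2 hr0 hr1 hr2 hr3 hr4 hr5)
  · exact inv_edge (E_86_2 X0 X1 X2 hr0 hr1 hr2 hr3 hr4 hr5)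
  · exact inv_edge (E_92_2 X0 X1 X2 hr0 hr1 hr2 hr3 hr4 hr5)
  · exact inv_edge (E_59_2 X0 X1 X2 hr0 hr1 hr2 hr3 hr4 hr5)
  · exact inv_edge (E_31_2 X0 X1 X2)
  · exact inv_edge (E_57_2 X0 X1 X2 hr0 hr1 hr2 hr3 hr4 hr5)
  · exact inv_edge (E_94_2 X0 X1 X2 hr0 hr1 hr2 hr3 hr4 hr5)
  · exact inv_edge (E_96_2 X0 X1 X2 hr0 hr1 hr2 hr3 hr4 hr5)
  · exact inv_edge (E_33_2 X0 X1 X2)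
  · exact inv_edge (E_98_2 X0 X1 X2 hr0 hr1 hr2 hr3 hr4 hr5)
  · exact inv_edge (E_40_2 X0 X1 X2 hr0 hr1 hr2 hr3 hr4 hr5)
  · exact inv_edge (E_38_2 X0 X1 X2)
  · exact inv_edge (E_97_2 X0 X1 X2 hr0 hr1 hr2 hr3 hr4 hr5)
  · exact inv_edge (E_95_2 X0 X1 X2 hr0 hr1 hr2 hr3 hr4 hr5)
  · exact inv_edge (E_103_2 X0 X1 X2 hr0 hr1 hr2 hr3 hr4 hr5)
  · exact inv_edge (E_41_2 X0 X1 X2)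
  · exact inv_edge (E_107_2 X0 X1 X2 hr0 hr1 hr2 hr3 hr4 hr5)
  · exact inv_edge (E_73_2 X0 X1 X2 hr0 hr1 hr2 hr3 hr4 hr5)
  · exact inv_edge (E_42_2 X0 X1 X2)
  · exact inv_edge (E_71_2 X0 X1 X2 hr0 hr1 hr2 hr3 hr4 hr5)
  · exact inv_edge (E_76_2 X0 X1 X2 hr0 hr1 hr2 hr3 hr4 hr5)
  · exact inv_edge (E_110_2 X0 X1 X2 hr0 hr1 hr2 hr3 hr4 hr5)
  · exact inv_edge (E_74_2 X0 X1 X2 hr0 hr1 hr2 hr3 hr4 hr5)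
  · exact inv_edge (E_109_2 X0 X1 X2 hr0 hr1 hr2 hr3 hr4 hr5)
  · exact inv_edge (E_115_2 X0 X1 X2 hr0 hr1 hr2 hr3 hr4 hr5)
  · exact inv_edge (E_81_2 X0 X1 X2 hr0 hr1 hr2 hr3 hr4 hr5)
  · exact inv_edge (E_46_2 X0 X1 X2)
  · exact inv_edge (E_79_2 X0 X1 X2 hr0 hr1 hr2 hr3 hr4 hr5)
  · exact inv_edge (E_117_2 X0 X1 X2 hr0 hr1 hr2 hr3 hr4 hr5)
  · exact inv_edge (E_119_2 X0 X1 X2 hr0 hr1 hr2 hr3 hr4 hr5)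
  · exact inv_edge (E_48_2 X0 X1 X2)
  · exact inv_edge (E_121_2 X0 X1 X2 hr0 hr1 hr2 hr3 hr4 hr5)
  · exact inv_edge (E_55_2 X0 X1 X2 hr0 hr1 hr2 hr3 hr4 hr5)
  · exact inv_edge (E_53_2 X0 X1 X2)
  · exact inv_edge (E_120_2 X0 X1 X2 hr0 hr1 hr2 hr3 hr4 hr5)
  · exact inv_edge (E_118_2 X0 X1 X2 hr0 hr1 hr2 hr3 hr4 hr5)
  · exact inv_edge (E_125_2 X0 X1 X2 hr0 hr1 hr2 hr3 hr4 hr5)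
  · exact inv_edge (E_127_2 X0 X1 X2 hr0 hr1 hr2 hr3 hr4 hr5)
  · exact inv_edge (E_56_2 X0 X1 X2)
  · exact inv_edge (E_129_2 X0 X1 X2 hr0 hr1 hr2 hr3 hr4 hr5)
  · exact inv_edge (E_60_2 X0 X1 X2)
  · exact inv_edge (E_67_2 X0 X1 X2 hr0 hr1 hr2 hr3 hr4 hr5)
  · exact inv_edge (E_61_2 X0 X1 X2)
  · exact inv_edge (E_66_2 X0 X1 X2 hr0 hr1 hr2 hr3 hr4 hr5)
  · exact inv_edge (E_63_2 X0 X1 X2)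
  · exact inv_edge (E_128_2 X0 X1 X2 hr0 hr1 hr2 hr3 hr4 hr5)
  · exact inv_edge (E_126_2 X0 X1 X2 hr0 hr1 hr2 hr3 hr4 hr5)
  · exact inv_edge (E_133_2 X0 X1 X2 hr0 hr1 hr2 hr3 hr4 hr5)
  · exact inv_edge (E_104_2 X0 X1 X2 hr0 hr1 hr2 hr3 hr4 hr5)
  · exact inv_edge (E_68_2 X0 X1 X2)
  · exact inv_edge (E_102_2 X0 X1 X2 hr0 hr1 hr2 hr3 hr4 hr5)
  · exact inv_edge (E_135_2 X0 X1 X2 hr0 hr1 hr2 hr3 hr4 hr5)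
  · exact inv_edge (E_137_2 X0 X1 X2 hr0 hr1 hr2 hr3 hr4 hr5)
  · exact inv_edge (E_70_2 X0 X1 X2)
  · exact inv_edge (E_139_2 X0 X1 X2 hr0 hr1 hr2 hr3 hr4 hr5)
  · exact inv_edge (E_77_2 X0 X1 X2 hr0 hr1 hr2 hr3 hr4 hr5)
  · exact inv_edge (E_75_2 X0 X1 X2)
  · exact inv_edge (E_138_2 X0 X1 X2 hr0 hr1 hr2 hr3 hr4 hr5)
  · exact inv_edge (E_136_2 X0 X1 X2 hr0 hr1 hr2 hr3 hr4 hr5)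
  · exact inv_edge (E_143_2 X0 X1 X2 hr0 hr1 hr2 hr3 hr4 hr5)
  · exact inv_edge (E_145_2 X0 X1 X2 hr0 hr1 hr2 hr3 hr4 hr5)
  · exact inv_edge (E_78_2 X0 X1 X2)
  · exact inv_edge (E_147_2 X0 X1 X2 hr0 hr1 hr2 hr3 hr4 hr5)
  · exact inv_edge (E_82_2 X0 X1 X2)
  · exact inv_edge (E_89_2 X0 X1 X2 hr0 hr1 hr2 hr3 hr4 hr5)
  · exact inv_edge (E_83_2 X0 X1 X2)
  · exact inv_edge (E_88_2 X0 X1 X2 hr0 hr1 hr2 hr3 hr4 hr5)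
  · exact inv_edge (E_85_2 X0 X1 X2)
  · exact inv_edge (E_146_2 X0 X1 X2 hr0 hr1 hr2 hr3 hr4 hr5)
  · exact inv_edge (E_144_2 X0 X1 X2 hr0 hr1 hr2 hr3 hr4 hr5)
  · exact inv_edge (E_150_2 X0 X1 X2 hr0 hr1 hr2 hr3 hr4 hr5)
  · exact inv_edge (E_90_2 X0 X1 X2)
  · exact inv_edge (E_100_2 X0 X1 X2 hr0 hr1 hr2 hr3 hr4 hr5)
  · exact inv_edge (E_91_2 X0 X1 X2)
  · exact inv_edge (E_99_2 X0 X1 X2 hr0 hr1 hr2 hr3 hr4 hr5)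
  · exact inv_edge (E_93_2 X0 X1 X2)
  · exact inv_edge (E_149_2 X0 X1 X2 hr0 hr1 hr2 hr3 hr4 hr5)
  · exact inv_edge (E_152_2 X0 X1 X2 hr0 hr1 hr2 hr3 hr4 hr5)
  · exact inv_edge (E_154_2 X0 X1 X2 hr0 hr1 hr2 hr3 hr4 hr5)
  · exact inv_edge (E_101_2 X0 X1 X2)
  · exact inv_edge (E_156_2 X0 X1 X2 hr0 hr1 hr2 hr3 hr4 hr5)
  · exact inv_edge (E_105_2 X0 X1 X2)
  · exact inv_edge (E_112_2 X0 X1 X2 hr0 hr1 hr2 hr3 hr4 hr5)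
  · exact inv_edge (E_106_2 X0 X1 X2)
  · exact inv_edge (E_111_2 X0 X1 X2 hr0 hr1 hr2 hr3 hr4 hr5)
  · exact inv_edge (E_108_2 X0 X1 X2)
  · exact inv_edge (E_155_2 X0 X1 X2 hr0 hr1 hr2 hr3 hr4 hr5)
  · exact inv_edge (E_153_2 X0 X1 X2 hr0 hr1 hr2 hr3 hr4 hr5)
  · exact inv_edge (E_159_2 X0 X1 X2 hr0 hr1 hr2 hr3 hr4 hr5)
  · exact inv_edge (E_113_2 X0 X1 X2)
  · exact inv_edge (E_123_2 X0 X1 X2 hr0 hr1 hr2 hr3 hr4 hr5)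
  · exact inv_edge (E_114_2 X0 X1 X2)
  · exact inv_edge (E_122_2 X0 X1 X2 hr0 hr1 hr2 hr3 hr4 hr5)
  · exact inv_edge (E_116_2 X0 X1 X2)
  · exact inv_edge (E_158_2 X0 X1 X2 hr0 hr1 hr2 hr3 hr4 hr5)
  · exact inv_edge (E_130_2 X0 X1 X2 hr0 hr1 hr2 hr3 hr4 hr5)
  · exact inv_edge (E_124_2 X0 X1 X2)
  · exact inv_edge (E_161_2 X0 X1 X2 hr0 hr1 hr2 hr3 hr4 hr5)
  · exact inv_edge (E_131_2 X0 X1 X2)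
  · exact inv_edge (E_141_2 X0 X1 X2 hr0 hr1 hr2 hr3 hr4 hr5)
  · exact inv_edge (E_132_2 X0 X1 X2)
  · exact inv_edge (E_140_2 X0 X1 X2 hr0 hr1 hr2 hr3 hr4 hr5)
  · exact inv_edge (E_134_2 X0 X1 X2)
  · exact inv_edge (E_160_2 X0 X1 X2 hr0 hr1 hr2 hr3 hr4 hr5)
  · exact inv_edge (E_148_2 X0 X1 X2 hr0 hr1 hr2 hr3 hr4 hr5)
  · exact inv_edge (E_142_2 X0 X1 X2)
  · exact inv_edge (E_157_2 X0 X1 X2 hr0 hr1 hr2 hr3 hr4 hr5)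
  · exact inv_edge (E_151_2 X0 X1 X2)

theorem gAll_surjective (X0 X1 X2 : M) (hr0 : X0 * (X0 * (X0 * 1)) = 1) (hr1 : X1 * (X1 * (X1 * 1)) = 1) (hr2 : X2 * (X2 * 1) = 1) (hr3 : X2 * (X1 * (X2 * (X1 * 1))) = 1) (hr4 : X2 * (X0 * (X2⁻¹ * (X0⁻¹ * 1))) = 1) (hr5 : X0 * (X1 * (X0 * (X1⁻¹ * (X0⁻¹ * (X1 * (X0⁻¹ * (X1⁻¹ * 1))))))) = 1) (hgen : Subgroup.closure ({X0, X1, X2} : Set M) = ⊤) :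
    Function.Surjective (gAll X0 X1 X2) := by
  have key : ∀ m ∈ Submonoid.closure (({X0, X1, X2} : Set M) ∪ ({X0, X1, X2} : Set M)⁻¹),
      ∀ i : Fin 162, ∃ j : Fin 162, gAll X0 X1 X2 i * m = gAll X0 X1 X2 j := by
    intro m hm
    induction hm using Submonoid.closure_induction with
    | mem x hx =>
      intro i
      rcases hx with hx | hx
      · simp only [Set.mem_insert_iff, Set.mem_singleton_iff] at hx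
        rcases hx with hx | hx | hx
        · refine ⟨nx0 i, ?_⟩
          rw [hx]
          exact stepAll0 X0 X1 X2 hr0 hr1 hr2 hr3 hr4 hr5 i
        · refine ⟨nx1 i, ?_⟩
          rw [hx]
          exact stepAll1 X0 X1 X2 hr0 hr1 hr2 hr3 hr4 hr5 i
        · refine ⟨nx2 i, ?_⟩
          rw [hx]
          exact stepAll2 X0 X1 X2 hr0 hr1 hr2 hr3 hr4 hr5 i
      · simp only [Set.mem_inv, Set.mem_insert_iff, Set.mem_singleton_iff] at hx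
        rcases hx with hx | hx | hx
        · refine ⟨pv0 i, ?_⟩
          rw [← inv_inv x, hx]
          exact stepInv0 X0 X1 X2 hr0 hr1 hr2 hr3 hr4 hr5 i
        · refine ⟨pv1 i, ?_⟩
          rw [← inv_inv x, hx]
          exact stepInv1 X0 X1 X2 hr0 hr1 hr2 hr3 hr4 hr5 i
        · refine ⟨pv2 i, ?_⟩
          rw [← inv_inv x, hx]
          exact stepInv2 X0 X1 X2 hr0 hr1 hr2 hr3 hr4 hr5 i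
    | one => intro i; exact ⟨i, mul_one _⟩
    | mul x y _ _ hx hy =>
      intro i
      obtain ⟨j, hj⟩ := hx i
      obtain ⟨l, hl⟩ := hy j
      exact ⟨l, by rw [← mul_assoc, hj, hl]⟩
  intro m
  have hm : m ∈ Subgroup.closure ({X0, X1, X2} : Set M) := by rw [hgen]; trivial
  rw [← Subgroup.mem_toSubmonoid, Subgroup.closure_toSubmonoid] at hm
  obtain ⟨j, hj⟩ := key m hm 0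
  refine ⟨j, ?_⟩
  rw [← hj]
  exact one_mul m

theorem g0_mem (X0 X1 X2 : M) (H : Subgroup M) (h0 : X0 ∈ H) (h1 : X1 ∈ H) (h2 : X2 ∈ H) : g0 X0 X1 X2 ∈ H := H.one_mem
theorem g1_mem (X0 X1 X2 : M) (H : Subgroup M) (h0 : X0 ∈ H) (h1 : X1 ∈ H) (h2 : X2 ∈ H) : g1 X0 X1 X2 ∈ H := H.mul_mem (g0_mem X0 X1 X2 H h0 h1 h2) h0
theorem g2_mem (X0 X1 X2 : M) (H : Subgroup M) (h0 : X0 ∈ H) (h1 : X1 ∈ H) (h2 : X2 ∈ H) : g2 X0 X1 X2 ∈ H := H.mul_mem (g0_mem X0 X1 X2 H h0 h1 h2) h1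
theorem g3_mem (X0 X1 X2 : M) (H : Subgroup M) (h0 : X0 ∈ H) (h1 : X1 ∈ H) (h2 : X2 ∈ H) : g3 X0 X1 X2 ∈ H := H.mul_mem (g0_mem X0 X1 X2 H h0 h1 h2) h2
theorem g4_mem (X0 X1 X2 : M) (H : Subgroup M) (h0 : X0 ∈ H) (h1 : X1 ∈ H) (h2 : X2 ∈ H) : g4 X0 X1 X2 ∈ H := H.mul_mem (g1_mem X0 X1 X2 H h0 h1 h2) h0
theorem g5_mem (X0 X1 X2 : M) (H : Subgroup M) (h0 : X0 ∈ H) (h1 : X1 ∈ H) (h2 : X2 ∈ H) : g5 X0 X1 X2 ∈ H := H.mul_mem (g1_mem X0 X1 X2 H h0 h1 h2) h1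
theorem g6_mem (X0 X1 X2 : M) (H : Subgroup M) (h0 : X0 ∈ H) (h1 : X1 ∈ H) (h2 : X2 ∈ H) : g6 X0 X1 X2 ∈ H := H.mul_mem (g1_mem X0 X1 X2 H h0 h1 h2) h2
theorem g7_mem (X0 X1 X2 : M) (H : Subgroup M) (h0 : X0 ∈ H) (h1 : X1 ∈ H) (h2 : X2 ∈ H) : g7 X0 X1 X2 ∈ H := H.mul_mem (g2_mem X0 X1 X2 H h0 h1 h2) h0
theorem g8_mem (X0 X1 X2 : M) (H : Subgroup M) (h0 : X0 ∈ H) (h1 : X1 ∈ H) (h2 : X2 ∈ H) : g8 X0 X1 X2 ∈ H := H.mul_mem (g2_mem X0 X1 X2 H h0 h1 h2) h1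
theorem g9_mem (X0 X1 X2 : M) (H : Subgroup M) (h0 : X0 ∈ H) (h1 : X1 ∈ H) (h2 : X2 ∈ H) : g9 X0 X1 X2 ∈ H := H.mul_mem (g2_mem X0 X1 X2 H h0 h1 h2) h2
theorem g10_mem (X0 X1 X2 : M) (H : Subgroup M) (h0 : X0 ∈ H) (h1 : X1 ∈ H) (h2 : X2 ∈ H) : g10 X0 X1 X2 ∈ H := H.mul_mem (g3_mem X0 X1 X2 H h0 h1 h2) h1
theorem g11_mem (X0 X1 X2 : M) (H : Subgroup M) (h0 : X0 ∈ H) (h1 : X1 ∈ H) (h2 : X2 ∈ H) : g11 X0 X1 X2 ∈ H := H.mul_mem (g4_mem X0 X1 X2 H h0 h1 h2) h1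
theorem g12_mem (X0 X1 X2 : M) (H : Subgroup M) (h0 : X0 ∈ H) (h1 : X1 ∈ H) (h2 : X2 ∈ H) : g12 X0 X1 X2 ∈ H := H.mul_mem (g4_mem X0 X1 X2 H h0 h1 h2) h2
theorem g13_mem (X0 X1 X2 : M) (H : Subgroup M) (h0 : X0 ∈ H) (h1 : X1 ∈ H) (h2 : X2 ∈ H) : g13 X0 X1 X2 ∈ H := H.mul_mem (g5_mem X0 X1 X2 H h0 h1 h2) h0
theorem g14_mem (X0 X1 X2 : M) (H : Subgroup M) (h0 : X0 ∈ H) (h1 : X1 ∈ H) (h2 : X2 ∈ H) : g14 X0 X1 X2 ∈ H := H.mul_mem (g5_mem X0 X1 X2 H h0 h1 h2) h1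
theorem g15_mem (X0 X1 X2 : M) (H : Subgroup M) (h0 : X0 ∈ H) (h1 : X1 ∈ H) (h2 : X2 ∈ H) : g15 X0 X1 X2 ∈ H := H.mul_mem (g5_mem X0 X1 X2 H h0 h1 h2) h2
theorem g16_mem (X0 X1 X2 : M) (H : Subgroup M) (h0 : X0 ∈ H) (h1 : X1 ∈ H) (h2 : X2 ∈ H) : g16 X0 X1 X2 ∈ H := H.mul_mem (g6_mem X0 X1 X2 H h0 h1 h2) h1
theorem g17_mem (X0 X1 X2 : M) (H : Subgroup M) (h0 : X0 ∈ H) (h1 : X1 ∈ H) (h2 : X2 ∈ H) : g17 X0 X1 X2 ∈ H := H.mul_mem (g7_mem X0 X1 X2 H h0 h1 h2) h0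
theorem g18_mem (X0 X1 X2 : M) (H : Subgroup M) (h0 : X0 ∈ H) (h1 : X1 ∈ H) (h2 : X2 ∈ H) : g18 X0 X1 X2 ∈ H := H.mul_mem (g7_mem X0 X1 X2 H h0 h1 h2) h1
theorem g19_mem (X0 X1 X2 : M) (H : Subgroup M) (h0 : X0 ∈ H) (h1 : X1 ∈ H) (h2 : X2 ∈ H) : g19 X0 X1 X2 ∈ H := H.mul_mem (g7_mem X0 X1 X2 H h0 h1 h2) h2
theorem g20_mem (X0 X1 X2 : M) (H : Subgroup M) (h0 : X0 ∈ H) (h1 : X1 ∈ H) (h2 : X2 ∈ H) : g20 X0 X1 X2 ∈ H := H.mul_mem (g8_mem X0 X1 X2 H h0 h1 h2) h0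
theorem g21_mem (X0 X1 X2 : M) (H : Subgroup M) (h0 : X0 ∈ H) (h1 : X1 ∈ H) (h2 : X2 ∈ H) : g21 X0 X1 X2 ∈ H := H.mul_mem (g10_mem X0 X1 X2 H h0 h1 h2) h0
theorem g22_mem (X0 X1 X2 : M) (H : Subgroup M) (h0 : X0 ∈ H) (h1 : X1 ∈ H) (h2 : X2 ∈ H) : g22 X0 X1 X2 ∈ H := H.mul_mem (g11_mem X0 X1 X2 H h0 h1 h2) h0
theorem g23_mem (X0 X1 X2 : M) (H : Subgroup M) (h0 : X0 ∈ H) (h1 : X1 ∈ H) (h2 : X2 ∈ H) : g23 X0 X1 X2 ∈ H := H.mul_mem (g11_mem X0 X1 X2 H h0 h1 h2) h1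
theorem g24_mem (X0 X1 X2 : M) (H : Subgroup M) (h0 : X0 ∈ H) (h1 : X1 ∈ H) (h2 : X2 ∈ H) : g24 X0 X1 X2 ∈ H := H.mul_mem (g11_mem X0 X1 X2 H h0 h1 h2) h2
theorem g25_mem (X0 X1 X2 : M) (H : Subgroup M) (h0 : X0 ∈ H) (h1 : X1 ∈ H) (h2 : X2 ∈ H) : g25 X0 X1 X2 ∈ H := H.mul_mem (g12_mem X0 X1 X2 H h0 h1 h2) h1
theorem g26_mem (X0 X1 X2 : M) (H : Subgroup M) (h0 : X0 ∈ H) (h1 : X1 ∈ H) (h2 : X2 ∈ H) : g26 X0 X1 X2 ∈ H := H.mul_mem (g13_mem X0 X1 X2 H h0 h1 h2) h0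
theorem g27_mem (X0 X1 X2 : M) (H : Subgroup M) (h0 : X0 ∈ H) (h1 : X1 ∈ H) (h2 : X2 ∈ H) : g27 X0 X1 X2 ∈ H := H.mul_mem (g13_mem X0 X1 X2 H h0 h1 h2) h1
theorem g28_mem (X0 X1 X2 : M) (H : Subgroup M) (h0 : X0 ∈ H) (h1 : X1 ∈ H) (h2 : X2 ∈ H) : g28 X0 X1 X2 ∈ H := H.mul_mem (g13_mem X0 X1 X2 H h0 h1 h2) h2
theorem g29_mem (X0 X1 X2 : M) (H : Subgroup M) (h0 : X0 ∈ H) (h1 : X1 ∈ H) (h2 : X2 ∈ H) : g29 X0 X1 X2 ∈ H := H.mul_mem (g14_mem X0 X1 X2 H h0 h1 h2) h0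
theorem g30_mem (X0 X1 X2 : M) (H : Subgroup M) (h0 : X0 ∈ H) (h1 : X1 ∈ H) (h2 : X2 ∈ H) : g30 X0 X1 X2 ∈ H := H.mul_mem (g16_mem X0 X1 X2 H h0 h1 h2) h0
theorem g31_mem (X0 X1 X2 : M) (H : Subgroup M) (h0 : X0 ∈ H) (h1 : X1 ∈ H) (h2 : X2 ∈ H) : g31 X0 X1 X2 ∈ H := H.mul_mem (g17_mem X0 X1 X2 H h0 h1 h2) h1
theorem g32_mem (X0 X1 X2 : M) (H : Subgroup M) (h0 : X0 ∈ H) (h1 : X1 ∈ H) (h2 : X2 ∈ H) : g32 X0 X1 X2 ∈ H := H.mul_mem (g17_mem X0 X1 X2 H h0 h1 h2) h2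
theorem g33_mem (X0 X1 X2 : M) (H : Subgroup M) (h0 : X0 ∈ H) (h1 : X1 ∈ H) (h2 : X2 ∈ H) : g33 X0 X1 X2 ∈ H := H.mul_mem (g18_mem X0 X1 X2 H h0 h1 h2) h0
theorem g34_mem (X0 X1 X2 : M) (H : Subgroup M) (h0 : X0 ∈ H) (h1 : X1 ∈ H) (h2 : X2 ∈ H) : g34 X0 X1 X2 ∈ H := H.mul_mem (g18_mem X0 X1 X2 H h0 h1 h2) h1
theorem g35_mem (X0 X1 X2 : M) (H : Subgroup M) (h0 : X0 ∈ H) (h1 : X1 ∈ H) (h2 : X2 ∈ H) : g35 X0 X1 X2 ∈ H := H.mul_mem (g18_mem X0 X1 X2 H h0 h1 h2) h2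
theorem g36_mem (X0 X1 X2 : M) (H : Subgroup M) (h0 : X0 ∈ H) (h1 : X1 ∈ H) (h2 : X2 ∈ H) : g36 X0 X1 X2 ∈ H := H.mul_mem (g19_mem X0 X1 X2 H h0 h1 h2) h1
theorem g37_mem (X0 X1 X2 : M) (H : Subgroup M) (h0 : X0 ∈ H) (h1 : X1 ∈ H) (h2 : X2 ∈ H) : g37 X0 X1 X2 ∈ H := H.mul_mem (g20_mem X0 X1 X2 H h0 h1 h2) h0
theorem g38_mem (X0 X1 X2 : M) (H : Subgroup M) (h0 : X0 ∈ H) (h1 : X1 ∈ H) (h2 : X2 ∈ H) : g38 X0 X1 X2 ∈ H := H.mul_mem (g20_mem X0 X1 X2 H h0 h1 h2) h1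
theorem g39_mem (X0 X1 X2 : M) (H : Subgroup M) (h0 : X0 ∈ H) (h1 : X1 ∈ H) (h2 : X2 ∈ H) : g39 X0 X1 X2 ∈ H := H.mul_mem (g21_mem X0 X1 X2 H h0 h1 h2) h0
theorem g40_mem (X0 X1 X2 : M) (H : Subgroup M) (h0 : X0 ∈ H) (h1 : X1 ∈ H) (h2 : X2 ∈ H) : g40 X0 X1 X2 ∈ H := H.mul_mem (g21_mem X0 X1 X2 H h0 h1 h2) h1
theorem g41_mem (X0 X1 X2 : M) (H : Subgroup M) (h0 : X0 ∈ H) (h1 : X1 ∈ H) (h2 : X2 ∈ H) : g41 X0 X1 X2 ∈ H := H.mul_mem (g22_mem X0 X1 X2 H h0 h1 h2) h0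
theorem g42_mem (X0 X1 X2 : M) (H : Subgroup M) (h0 : X0 ∈ H) (h1 : X1 ∈ H) (h2 : X2 ∈ H) : g42 X0 X1 X2 ∈ H := H.mul_mem (g22_mem X0 X1 X2 H h0 h1 h2) h1
theorem g43_mem (X0 X1 X2 : M) (H : Subgroup M) (h0 : X0 ∈ H) (h1 : X1 ∈ H) (h2 : X2 ∈ H) : g43 X0 X1 X2 ∈ H := H.mul_mem (g22_mem X0 X1 X2 H h0 h1 h2) h2
theorem g44_mem (X0 X1 X2 : M) (H : Subgroup M) (h0 : X0 ∈ H) (h1 : X1 ∈ H) (h2 : X2 ∈ H) : g44 X0 X1 X2 ∈ H := H.mul_mem (g23_mem X0 X1 X2 H h0 h1 h2) h0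
theorem g45_mem (X0 X1 X2 : M) (H : Subgroup M) (h0 : X0 ∈ H) (h1 : X1 ∈ H) (h2 : X2 ∈ H) : g45 X0 X1 X2 ∈ H := H.mul_mem (g25_mem X0 X1 X2 H h0 h1 h2) h0
theorem g46_mem (X0 X1 X2 : M) (H : Subgroup M) (h0 : X0 ∈ H) (h1 : X1 ∈ H) (h2 : X2 ∈ H) : g46 X0 X1 X2 ∈ H := H.mul_mem (g26_mem X0 X1 X2 H h0 h1 h2) h1
theorem g47_mem (X0 X1 X2 : M) (H : Subgroup M) (h0 : X0 ∈ H) (h1 : X1 ∈ H) (h2 : X2 ∈ H) : g47 X0 X1 X2 ∈ H := H.mul_mem (g26_mem X0 X1 X2 H h0 h1 h2) h2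
theorem g48_mem (X0 X1 X2 : M) (H : Subgroup M) (h0 : X0 ∈ H) (h1 : X1 ∈ H) (h2 : X2 ∈ H) : g48 X0 X1 X2 ∈ H := H.mul_mem (g27_mem X0 X1 X2 H h0 h1 h2) h0
theorem g49_mem (X0 X1 X2 : M) (H : Subgroup M) (h0 : X0 ∈ H) (h1 : X1 ∈ H) (h2 : X2 ∈ H) : g49 X0 X1 X2 ∈ H := H.mul_mem (g27_mem X0 X1 X2 H h0 h1 h2) h1
theorem g50_mem (X0 X1 X2 : M) (H : Subgroup M) (h0 : X0 ∈ H) (h1 : X1 ∈ H) (h2 : X2 ∈ H) : g50 X0 X1 X2 ∈ H := H.mul_mem (g27_mem X0 X1 X2 H h0 h1 h2) h2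
theorem g51_mem (X0 X1 X2 : M) (H : Subgroup M) (h0 : X0 ∈ H) (h1 : X1 ∈ H) (h2 : X2 ∈ H) : g51 X0 X1 X2 ∈ H := H.mul_mem (g28_mem X0 X1 X2 H h0 h1 h2) h1
theorem g52_mem (X0 X1 X2 : M) (H : Subgroup M) (h0 : X0 ∈ H) (h1 : X1 ∈ H) (h2 : X2 ∈ H) : g52 X0 X1 X2 ∈ H := H.mul_mem (g29_mem X0 X1 X2 H h0 h1 h2) h0
theorem g53_mem (X0 X1 X2 : M) (H : Subgroup M) (h0 : X0 ∈ H) (h1 : X1 ∈ H) (h2 : X2 ∈ H) : g53 X0 X1 X2 ∈ H := H.mul_mem (g29_mem X0 X1 X2 H h0 h1 h2) h1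
theorem g54_mem (X0 X1 X2 : M) (H : Subgroup M) (h0 : X0 ∈ H) (h1 : X1 ∈ H) (h2 : X2 ∈ H) : g54 X0 X1 X2 ∈ H := H.mul_mem (g30_mem X0 X1 X2 H h0 h1 h2) h0
theorem g55_mem (X0 X1 X2 : M) (H : Subgroup M) (h0 : X0 ∈ H) (h1 : X1 ∈ H) (h2 : X2 ∈ H) : g55 X0 X1 X2 ∈ H := H.mul_mem (g30_mem X0 X1 X2 H h0 h1 h2) h1
theorem g56_mem (X0 X1 X2 : M) (H : Subgroup M) (h0 : X0 ∈ H) (h1 : X1 ∈ H) (h2 : X2 ∈ H) : g56 X0 X1 X2 ∈ H := H.mul_mem (g31_mem X0 X1 X2 H h0 h1 h2) h0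
theorem g57_mem (X0 X1 X2 : M) (H : Subgroup M) (h0 : X0 ∈ H) (h1 : X1 ∈ H) (h2 : X2 ∈ H) : g57 X0 X1 X2 ∈ H := H.mul_mem (g31_mem X0 X1 X2 H h0 h1 h2) h1
theorem g58_mem (X0 X1 X2 : M) (H : Subgroup M) (h0 : X0 ∈ H) (h1 : X1 ∈ H) (h2 : X2 ∈ H) : g58 X0 X1 X2 ∈ H := H.mul_mem (g31_mem X0 X1 X2 H h0 h1 h2) h2
theorem g59_mem (X0 X1 X2 : M) (H : Subgroup M) (h0 : X0 ∈ H) (h1 : X1 ∈ H) (h2 : X2 ∈ H) : g59 X0 X1 X2 ∈ H := H.mul_mem (g32_mem X0 X1 X2 H h0 h1 h2) h1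
theorem g60_mem (X0 X1 X2 : M) (H : Subgroup M) (h0 : X0 ∈ H) (h1 : X1 ∈ H) (h2 : X2 ∈ H) : g60 X0 X1 X2 ∈ H := H.mul_mem (g33_mem X0 X1 X2 H h0 h1 h2) h0
theorem g61_mem (X0 X1 X2 : M) (H : Subgroup M) (h0 : X0 ∈ H) (h1 : X1 ∈ H) (h2 : X2 ∈ H) : g61 X0 X1 X2 ∈ H := H.mul_mem (g33_mem X0 X1 X2 H h0 h1 h2) h1
theorem g62_mem (X0 X1 X2 : M) (H : Subgroup M) (h0 : X0 ∈ H) (h1 : X1 ∈ H) (h2 : X2 ∈ H) : g62 X0 X1 X2 ∈ H := H.mul_mem (g33_mem X0 X1 X2 H h0 h1 h2) h2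
theorem g63_mem (X0 X1 X2 : M) (H : Subgroup M) (h0 : X0 ∈ H) (h1 : X1 ∈ H) (h2 : X2 ∈ H) : g63 X0 X1 X2 ∈ H := H.mul_mem (g37_mem X0 X1 X2 H h0 h1 h2) h1
theorem g64_mem (X0 X1 X2 : M) (H : Subgroup M) (h0 : X0 ∈ H) (h1 : X1 ∈ H) (h2 : X2 ∈ H) : g64 X0 X1 X2 ∈ H := H.mul_mem (g38_mem X0 X1 X2 H h0 h1 h2) h1
theorem g65_mem (X0 X1 X2 : M) (H : Subgroup M) (h0 : X0 ∈ H) (h1 : X1 ∈ H) (h2 : X2 ∈ H) : g65 X0 X1 X2 ∈ H := H.mul_mem (g38_mem X0 X1 X2 H h0 h1 h2) h2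
theorem g66_mem (X0 X1 X2 : M) (H : Subgroup M) (h0 : X0 ∈ H) (h1 : X1 ∈ H) (h2 : X2 ∈ H) : g66 X0 X1 X2 ∈ H := H.mul_mem (g39_mem X0 X1 X2 H h0 h1 h2) h1
theorem g67_mem (X0 X1 X2 : M) (H : Subgroup M) (h0 : X0 ∈ H) (h1 : X1 ∈ H) (h2 : X2 ∈ H) : g67 X0 X1 X2 ∈ H := H.mul_mem (g40_mem X0 X1 X2 H h0 h1 h2) h0
theorem g68_mem (X0 X1 X2 : M) (H : Subgroup M) (h0 : X0 ∈ H) (h1 : X1 ∈ H) (h2 : X2 ∈ H) : g68 X0 X1 X2 ∈ H := H.mul_mem (g41_mem X0 X1 X2 H h0 h1 h2) h1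
theorem g69_mem (X0 X1 X2 : M) (H : Subgroup M) (h0 : X0 ∈ H) (h1 : X1 ∈ H) (h2 : X2 ∈ H) : g69 X0 X1 X2 ∈ H := H.mul_mem (g41_mem X0 X1 X2 H h0 h1 h2) h2
theorem g70_mem (X0 X1 X2 : M) (H : Subgroup M) (h0 : X0 ∈ H) (h1 : X1 ∈ H) (h2 : X2 ∈ H) : g70 X0 X1 X2 ∈ H := H.mul_mem (g42_mem X0 X1 X2 H h0 h1 h2) h0
theorem g71_mem (X0 X1 X2 : M) (H : Subgroup M) (h0 : X0 ∈ H) (h1 : X1 ∈ H) (h2 : X2 ∈ H) : g71 X0 X1 X2 ∈ H := H.mul_mem (g42_mem X0 X1 X2 H h0 h1 h2) h1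
theorem g72_mem (X0 X1 X2 : M) (H : Subgroup M) (h0 : X0 ∈ H) (h1 : X1 ∈ H) (h2 : X2 ∈ H) : g72 X0 X1 X2 ∈ H := H.mul_mem (g42_mem X0 X1 X2 H h0 h1 h2) h2
theorem g73_mem (X0 X1 X2 : M) (H : Subgroup M) (h0 : X0 ∈ H) (h1 : X1 ∈ H) (h2 : X2 ∈ H) : g73 X0 X1 X2 ∈ H := H.mul_mem (g43_mem X0 X1 X2 H h0 h1 h2) h1
theorem g74_mem (X0 X1 X2 : M) (H : Subgroup M) (h0 : X0 ∈ H) (h1 : X1 ∈ H) (h2 : X2 ∈ H) : g74 X0 X1 X2 ∈ H := H.mul_mem (g44_mem X0 X1 X2 H h0 h1 h2) h0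
theorem g75_mem (X0 X1 X2 : M) (H : Subgroup M) (h0 : X0 ∈ H) (h1 : X1 ∈ H) (h2 : X2 ∈ H) : g75 X0 X1 X2 ∈ H := H.mul_mem (g44_mem X0 X1 X2 H h0 h1 h2) h1
theorem g76_mem (X0 X1 X2 : M) (H : Subgroup M) (h0 : X0 ∈ H) (h1 : X1 ∈ H) (h2 : X2 ∈ H) : g76 X0 X1 X2 ∈ H := H.mul_mem (g45_mem X0 X1 X2 H h0 h1 h2) h0
theorem g77_mem (X0 X1 X2 : M) (H : Subgroup M) (h0 : X0 ∈ H) (h1 : X1 ∈ H) (h2 : X2 ∈ H) : g77 X0 X1 X2 ∈ H := H.mul_mem (g45_mem X0 X1 X2 H h0 h1 h2) h1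
theorem g78_mem (X0 X1 X2 : M) (H : Subgroup M) (h0 : X0 ∈ H) (h1 : X1 ∈ H) (h2 : X2 ∈ H) : g78 X0 X1 X2 ∈ H := H.mul_mem (g46_mem X0 X1 X2 H h0 h1 h2) h0
theorem g79_mem (X0 X1 X2 : M) (H : Subgroup M) (h0 : X0 ∈ H) (h1 : X1 ∈ H) (h2 : X2 ∈ H) : g79 X0 X1 X2 ∈ H := H.mul_mem (g46_mem X0 X1 X2 H h0 h1 h2) h1
theorem g80_mem (X0 X1 X2 : M) (H : Subgroup M) (h0 : X0 ∈ H) (h1 : X1 ∈ H) (h2 : X2 ∈ H) : g80 X0 X1 X2 ∈ H := H.mul_mem (g46_mem X0 X1 X2 H h0 h1 h2) h2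
theorem g81_mem (X0 X1 X2 : M) (H : Subgroup M) (h0 : X0 ∈ H) (h1 : X1 ∈ H) (h2 : X2 ∈ H) : g81 X0 X1 X2 ∈ H := H.mul_mem (g47_mem X0 X1 X2 H h0 h1 h2) h1
theorem g82_mem (X0 X1 X2 : M) (H : Subgroup M) (h0 : X0 ∈ H) (h1 : X1 ∈ H) (h2 : X2 ∈ H) : g82 X0 X1 X2 ∈ H := H.mul_mem (g48_mem X0 X1 X2 H h0 h1 h2) h0
theorem g83_mem (X0 X1 X2 : M) (H : Subgroup M) (h0 : X0 ∈ H) (h1 : X1 ∈ H) (h2 : X2 ∈ H) : g83 X0 X1 X2 ∈ H := H.mul_mem (g48_mem X0 X1 X2 H h0 h1 h2) h1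
theorem g84_mem (X0 X1 X2 : M) (H : Subgroup M) (h0 : X0 ∈ H) (h1 : X1 ∈ H) (h2 : X2 ∈ H) : g84 X0 X1 X2 ∈ H := H.mul_mem (g48_mem X0 X1 X2 H h0 h1 h2) h2
theorem g85_mem (X0 X1 X2 : M) (H : Subgroup M) (h0 : X0 ∈ H) (h1 : X1 ∈ H) (h2 : X2 ∈ H) : g85 X0 X1 X2 ∈ H := H.mul_mem (g52_mem X0 X1 X2 H h0 h1 h2) h1
theorem g86_mem (X0 X1 X2 : M) (H : Subgroup M) (h0 : X0 ∈ H) (h1 : X1 ∈ H) (h2 : X2 ∈ H) : g86 X0 X1 X2 ∈ H := H.mul_mem (g53_mem X0 X1 X2 H h0 h1 h2) h1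
theorem g87_mem (X0 X1 X2 : M) (H : Subgroup M) (h0 : X0 ∈ H) (h1 : X1 ∈ H) (h2 : X2 ∈ H) : g87 X0 X1 X2 ∈ H := H.mul_mem (g53_mem X0 X1 X2 H h0 h1 h2) h2
theorem g88_mem (X0 X1 X2 : M) (H : Subgroup M) (h0 : X0 ∈ H) (h1 : X1 ∈ H) (h2 : X2 ∈ H) : g88 X0 X1 X2 ∈ H := H.mul_mem (g54_mem X0 X1 X2 H h0 h1 h2) h1
theorem g89_mem (X0 X1 X2 : M) (H : Subgroup M) (h0 : X0 ∈ H) (h1 : X1 ∈ H) (h2 : X2 ∈ H) : g89 X0 X1 X2 ∈ H := H.mul_mem (g55_mem X0 X1 X2 H h0 h1 h2) h0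
theorem g90_mem (X0 X1 X2 : M) (H : Subgroup M) (h0 : X0 ∈ H) (h1 : X1 ∈ H) (h2 : X2 ∈ H) : g90 X0 X1 X2 ∈ H := H.mul_mem (g56_mem X0 X1 X2 H h0 h1 h2) h0
theorem g91_mem (X0 X1 X2 : M) (H : Subgroup M) (h0 : X0 ∈ H) (h1 : X1 ∈ H) (h2 : X2 ∈ H) : g91 X0 X1 X2 ∈ H := H.mul_mem (g56_mem X0 X1 X2 H h0 h1 h2) h1
theorem g92_mem (X0 X1 X2 : M) (H : Subgroup M) (h0 : X0 ∈ H) (h1 : X1 ∈ H) (h2 : X2 ∈ H) : g92 X0 X1 X2 ∈ H := H.mul_mem (g56_mem X0 X1 X2 H h0 h1 h2) h2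
theorem g93_mem (X0 X1 X2 : M) (H : Subgroup M) (h0 : X0 ∈ H) (h1 : X1 ∈ H) (h2 : X2 ∈ H) : g93 X0 X1 X2 ∈ H := H.mul_mem (g60_mem X0 X1 X2 H h0 h1 h2) h1
theorem g94_mem (X0 X1 X2 : M) (H : Subgroup M) (h0 : X0 ∈ H) (h1 : X1 ∈ H) (h2 : X2 ∈ H) : g94 X0 X1 X2 ∈ H := H.mul_mem (g60_mem X0 X1 X2 H h0 h1 h2) h2
theorem g95_mem (X0 X1 X2 : M) (H : Subgroup M) (h0 : X0 ∈ H) (h1 : X1 ∈ H) (h2 : X2 ∈ H) : g95 X0 X1 X2 ∈ H := H.mul_mem (g61_mem X0 X1 X2 H h0 h1 h2) h1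
theorem g96_mem (X0 X1 X2 : M) (H : Subgroup M) (h0 : X0 ∈ H) (h1 : X1 ∈ H) (h2 : X2 ∈ H) : g96 X0 X1 X2 ∈ H := H.mul_mem (g61_mem X0 X1 X2 H h0 h1 h2) h2
theorem g97_mem (X0 X1 X2 : M) (H : Subgroup M) (h0 : X0 ∈ H) (h1 : X1 ∈ H) (h2 : X2 ∈ H) : g97 X0 X1 X2 ∈ H := H.mul_mem (g63_mem X0 X1 X2 H h0 h1 h2) h1
theorem g98_mem (X0 X1 X2 : M) (H : Subgroup M) (h0 : X0 ∈ H) (h1 : X1 ∈ H) (h2 : X2 ∈ H) : g98 X0 X1 X2 ∈ H := H.mul_mem (g63_mem X0 X1 X2 H h0 h1 h2) h2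
theorem g99_mem (X0 X1 X2 : M) (H : Subgroup M) (h0 : X0 ∈ H) (h1 : X1 ∈ H) (h2 : X2 ∈ H) : g99 X0 X1 X2 ∈ H := H.mul_mem (g66_mem X0 X1 X2 H h0 h1 h2) h0
theorem g100_mem (X0 X1 X2 : M) (H : Subgroup M) (h0 : X0 ∈ H) (h1 : X1 ∈ H) (h2 : X2 ∈ H) : g100 X0 X1 X2 ∈ H := H.mul_mem (g67_mem X0 X1 X2 H h0 h1 h2) h0
theorem g101_mem (X0 X1 X2 : M) (H : Subgroup M) (h0 : X0 ∈ H) (h1 : X1 ∈ H) (h2 : X2 ∈ H) : g101 X0 X1 X2 ∈ H := H.mul_mem (g68_mem X0 X1 X2 H h0 h1 h2) h0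
theorem g102_mem (X0 X1 X2 : M) (H : Subgroup M) (h0 : X0 ∈ H) (h1 : X1 ∈ H) (h2 : X2 ∈ H) : g102 X0 X1 X2 ∈ H := H.mul_mem (g68_mem X0 X1 X2 H h0 h1 h2) h1
theorem g103_mem (X0 X1 X2 : M) (H : Subgroup M) (h0 : X0 ∈ H) (h1 : X1 ∈ H) (h2 : X2 ∈ H) : g103 X0 X1 X2 ∈ H := H.mul_mem (g68_mem X0 X1 X2 H h0 h1 h2) h2
theorem g104_mem (X0 X1 X2 : M) (H : Subgroup M) (h0 : X0 ∈ H) (h1 : X1 ∈ H) (h2 : X2 ∈ H) : g104 X0 X1 X2 ∈ H := H.mul_mem (g69_mem X0 X1 X2 H h0 h1 h2) h1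
theorem g105_mem (X0 X1 X2 : M) (H : Subgroup M) (h0 : X0 ∈ H) (h1 : X1 ∈ H) (h2 : X2 ∈ H) : g105 X0 X1 X2 ∈ H := H.mul_mem (g70_mem X0 X1 X2 H h0 h1 h2) h0
theorem g106_mem (X0 X1 X2 : M) (H : Subgroup M) (h0 : X0 ∈ H) (h1 : X1 ∈ H) (h2 : X2 ∈ H) : g106 X0 X1 X2 ∈ H := H.mul_mem (g70_mem X0 X1 X2 H h0 h1 h2) h1
theorem g107_mem (X0 X1 X2 : M) (H : Subgroup M) (h0 : X0 ∈ H) (h1 : X1 ∈ H) (h2 : X2 ∈ H) : g107 X0 X1 X2 ∈ H := H.mul_mem (g70_mem X0 X1 X2 H h0 h1 h2) h2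
theorem g108_mem (X0 X1 X2 : M) (H : Subgroup M) (h0 : X0 ∈ H) (h1 : X1 ∈ H) (h2 : X2 ∈ H) : g108 X0 X1 X2 ∈ H := H.mul_mem (g74_mem X0 X1 X2 H h0 h1 h2) h1
theorem g109_mem (X0 X1 X2 : M) (H : Subgroup M) (h0 : X0 ∈ H) (h1 : X1 ∈ H) (h2 : X2 ∈ H) : g109 X0 X1 X2 ∈ H := H.mul_mem (g75_mem X0 X1 X2 H h0 h1 h2) h1
theorem g110_mem (X0 X1 X2 : M) (H : Subgroup M) (h0 : X0 ∈ H) (h1 : X1 ∈ H) (h2 : X2 ∈ H) : g110 X0 X1 X2 ∈ H := H.mul_mem (g75_mem X0 X1 X2 H h0 h1 h2) h2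
theorem g111_mem (X0 X1 X2 : M) (H : Subgroup M) (h0 : X0 ∈ H) (h1 : X1 ∈ H) (h2 : X2 ∈ H) : g111 X0 X1 X2 ∈ H := H.mul_mem (g76_mem X0 X1 X2 H h0 h1 h2) h1
theorem g112_mem (X0 X1 X2 : M) (H : Subgroup M) (h0 : X0 ∈ H) (h1 : X1 ∈ H) (h2 : X2 ∈ H) : g112 X0 X1 X2 ∈ H := H.mul_mem (g77_mem X0 X1 X2 H h0 h1 h2) h0
theorem g113_mem (X0 X1 X2 : M) (H : Subgroup M) (h0 : X0 ∈ H) (h1 : X1 ∈ H) (h2 : X2 ∈ H) : g113 X0 X1 X2 ∈ H := H.mul_mem (g78_mem X0 X1 X2 H h0 h1 h2) h0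
theorem g114_mem (X0 X1 X2 : M) (H : Subgroup M) (h0 : X0 ∈ H) (h1 : X1 ∈ H) (h2 : X2 ∈ H) : g114 X0 X1 X2 ∈ H := H.mul_mem (g78_mem X0 X1 X2 H h0 h1 h2) h1
theorem g115_mem (X0 X1 X2 : M) (H : Subgroup M) (h0 : X0 ∈ H) (h1 : X1 ∈ H) (h2 : X2 ∈ H) : g115 X0 X1 X2 ∈ H := H.mul_mem (g78_mem X0 X1 X2 H h0 h1 h2) h2
theorem g116_mem (X0 X1 X2 : M) (H : Subgroup M) (h0 : X0 ∈ H) (h1 : X1 ∈ H) (h2 : X2 ∈ H) : g116 X0 X1 X2 ∈ H := H.mul_mem (g82_mem X0 X1 X2 H h0 h1 h2) h1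
theorem g117_mem (X0 X1 X2 : M) (H : Subgroup M) (h0 : X0 ∈ H) (h1 : X1 ∈ H) (h2 : X2 ∈ H) : g117 X0 X1 X2 ∈ H := H.mul_mem (g82_mem X0 X1 X2 H h0 h1 h2) h2
theorem g118_mem (X0 X1 X2 : M) (H : Subgroup M) (h0 : X0 ∈ H) (h1 : X1 ∈ H) (h2 : X2 ∈ H) : g118 X0 X1 X2 ∈ H := H.mul_mem (g83_mem X0 X1 X2 H h0 h1 h2) h1
theorem g119_mem (X0 X1 X2 : M) (H : Subgroup M) (h0 : X0 ∈ H) (h1 : X1 ∈ H) (h2 : X2 ∈ H) : g119 X0 X1 X2 ∈ H := H.mul_mem (g83_mem X0 X1 X2 H h0 h1 h2) h2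
theorem g120_mem (X0 X1 X2 : M) (H : Subgroup M) (h0 : X0 ∈ H) (h1 : X1 ∈ H) (h2 : X2 ∈ H) : g120 X0 X1 X2 ∈ H := H.mul_mem (g85_mem X0 X1 X2 H h0 h1 h2) h1
theorem g121_mem (X0 X1 X2 : M) (H : Subgroup M) (h0 : X0 ∈ H) (h1 : X1 ∈ H) (h2 : X2 ∈ H) : g121 X0 X1 X2 ∈ H := H.mul_mem (g85_mem X0 X1 X2 H h0 h1 h2) h2
theorem g122_mem (X0 X1 X2 : M) (H : Subgroup M) (h0 : X0 ∈ H) (h1 : X1 ∈ H) (h2 : X2 ∈ H) : g122 X0 X1 X2 ∈ H := H.mul_mem (g88_mem X0 X1 X2 H h0 h1 h2) h0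
theorem g123_mem (X0 X1 X2 : M) (H : Subgroup M) (h0 : X0 ∈ H) (h1 : X1 ∈ H) (h2 : X2 ∈ H) : g123 X0 X1 X2 ∈ H := H.mul_mem (g89_mem X0 X1 X2 H h0 h1 h2) h0
theorem g124_mem (X0 X1 X2 : M) (H : Subgroup M) (h0 : X0 ∈ H) (h1 : X1 ∈ H) (h2 : X2 ∈ H) : g124 X0 X1 X2 ∈ H := H.mul_mem (g90_mem X0 X1 X2 H h0 h1 h2) h1
theorem g125_mem (X0 X1 X2 : M) (H : Subgroup M) (h0 : X0 ∈ H) (h1 : X1 ∈ H) (h2 : X2 ∈ H) : g125 X0 X1 X2 ∈ H := H.mul_mem (g90_mem X0 X1 X2 H h0 h1 h2) h2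
theorem g126_mem (X0 X1 X2 : M) (H : Subgroup M) (h0 : X0 ∈ H) (h1 : X1 ∈ H) (h2 : X2 ∈ H) : g126 X0 X1 X2 ∈ H := H.mul_mem (g91_mem X0 X1 X2 H h0 h1 h2) h1
theorem g127_mem (X0 X1 X2 : M) (H : Subgroup M) (h0 : X0 ∈ H) (h1 : X1 ∈ H) (h2 : X2 ∈ H) : g127 X0 X1 X2 ∈ H := H.mul_mem (g91_mem X0 X1 X2 H h0 h1 h2) h2
theorem g128_mem (X0 X1 X2 : M) (H : Subgroup M) (h0 : X0 ∈ H) (h1 : X1 ∈ H) (h2 : X2 ∈ H) : g128 X0 X1 X2 ∈ H := H.mul_mem (g93_mem X0 X1 X2 H h0 h1 h2) h1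
theorem g129_mem (X0 X1 X2 : M) (H : Subgroup M) (h0 : X0 ∈ H) (h1 : X1 ∈ H) (h2 : X2 ∈ H) : g129 X0 X1 X2 ∈ H := H.mul_mem (g93_mem X0 X1 X2 H h0 h1 h2) h2
theorem g130_mem (X0 X1 X2 : M) (H : Subgroup M) (h0 : X0 ∈ H) (h1 : X1 ∈ H) (h2 : X2 ∈ H) : g130 X0 X1 X2 ∈ H := H.mul_mem (g99_mem X0 X1 X2 H h0 h1 h2) h0
theorem g131_mem (X0 X1 X2 : M) (H : Subgroup M) (h0 : X0 ∈ H) (h1 : X1 ∈ H) (h2 : X2 ∈ H) : g131 X0 X1 X2 ∈ H := H.mul_mem (g101_mem X0 X1 X2 H h0 h1 h2) h0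
theorem g132_mem (X0 X1 X2 : M) (H : Subgroup M) (h0 : X0 ∈ H) (h1 : X1 ∈ H) (h2 : X2 ∈ H) : g132 X0 X1 X2 ∈ H := H.mul_mem (g101_mem X0 X1 X2 H h0 h1 h2) h1
theorem g133_mem (X0 X1 X2 : M) (H : Subgroup M) (h0 : X0 ∈ H) (h1 : X1 ∈ H) (h2 : X2 ∈ H) : g133 X0 X1 X2 ∈ H := H.mul_mem (g101_mem X0 X1 X2 H h0 h1 h2) h2
theorem g134_mem (X0 X1 X2 : M) (H : Subgroup M) (h0 : X0 ∈ H) (h1 : X1 ∈ H) (h2 : X2 ∈ H) : g134 X0 X1 X2 ∈ H := H.mul_mem (g105_mem X0 X1 X2 H h0 h1 h2) h1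
theorem g135_mem (X0 X1 X2 : M) (H : Subgroup M) (h0 : X0 ∈ H) (h1 : X1 ∈ H) (h2 : X2 ∈ H) : g135 X0 X1 X2 ∈ H := H.mul_mem (g105_mem X0 X1 X2 H h0 h1 h2) h2
theorem g136_mem (X0 X1 X2 : M) (H : Subgroup M) (h0 : X0 ∈ H) (h1 : X1 ∈ H) (h2 : X2 ∈ H) : g136 X0 X1 X2 ∈ H := H.mul_mem (g106_mem X0 X1 X2 H h0 h1 h2) h1
theorem g137_mem (X0 X1 X2 : M) (H : Subgroup M) (h0 : X0 ∈ H) (h1 : X1 ∈ H) (h2 : X2 ∈ H) : g137 X0 X1 X2 ∈ H := H.mul_mem (g106_mem X0 X1 X2 H h0 h1 h2) h2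
theorem g138_mem (X0 X1 X2 : M) (H : Subgroup M) (h0 : X0 ∈ H) (h1 : X1 ∈ H) (h2 : X2 ∈ H) : g138 X0 X1 X2 ∈ H := H.mul_mem (g108_mem X0 X1 X2 H h0 h1 h2) h1
theorem g139_mem (X0 X1 X2 : M) (H : Subgroup M) (h0 : X0 ∈ H) (h1 : X1 ∈ H) (h2 : X2 ∈ H) : g139 X0 X1 X2 ∈ H := H.mul_mem (g108_mem X0 X1 X2 H h0 h1 h2) h2
theorem g140_mem (X0 X1 X2 : M) (H : Subgroup M) (h0 : X0 ∈ H) (h1 : X1 ∈ H) (h2 : X2 ∈ H) : g140 X0 X1 X2 ∈ H := H.mul_mem (g111_mem X0 X1 X2 H h0 h1 h2) h0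
theorem g141_mem (X0 X1 X2 : M) (H : Subgroup M) (h0 : X0 ∈ H) (h1 : X1 ∈ H) (h2 : X2 ∈ H) : g141 X0 X1 X2 ∈ H := H.mul_mem (g112_mem X0 X1 X2 H h0 h1 h2) h0
theorem g142_mem (X0 X1 X2 : M) (H : Subgroup M) (h0 : X0 ∈ H) (h1 : X1 ∈ H) (h2 : X2 ∈ H) : g142 X0 X1 X2 ∈ H := H.mul_mem (g113_mem X0 X1 X2 H h0 h1 h2) h1
theorem g143_mem (X0 X1 X2 : M) (H : Subgroup M) (h0 : X0 ∈ H) (h1 : X1 ∈ H) (h2 : X2 ∈ H) : g143 X0 X1 X2 ∈ H := H.mul_mem (g113_mem X0 X1 X2 H h0 h1 h2) h2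
theorem g144_mem (X0 X1 X2 : M) (H : Subgroup M) (h0 : X0 ∈ H) (h1 : X1 ∈ H) (h2 : X2 ∈ H) : g144 X0 X1 X2 ∈ H := H.mul_mem (g114_mem X0 X1 X2 H h0 h1 h2) h1
theorem g145_mem (X0 X1 X2 : M) (H : Subgroup M) (h0 : X0 ∈ H) (h1 : X1 ∈ H) (h2 : X2 ∈ H) : g145 X0 X1 X2 ∈ H := H.mul_mem (g114_mem X0 X1 X2 H h0 h1 h2) h2
theorem g146_mem (X0 X1 X2 : M) (H : Subgroup M) (h0 : X0 ∈ H) (h1 : X1 ∈ H) (h2 : X2 ∈ H) : g146 X0 X1 X2 ∈ H := H.mul_mem (g116_mem X0 X1 X2 H h0 h1 h2) h1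
theorem g147_mem (X0 X1 X2 : M) (H : Subgroup M) (h0 : X0 ∈ H) (h1 : X1 ∈ H) (h2 : X2 ∈ H) : g147 X0 X1 X2 ∈ H := H.mul_mem (g116_mem X0 X1 X2 H h0 h1 h2) h2
theorem g148_mem (X0 X1 X2 : M) (H : Subgroup M) (h0 : X0 ∈ H) (h1 : X1 ∈ H) (h2 : X2 ∈ H) : g148 X0 X1 X2 ∈ H := H.mul_mem (g122_mem X0 X1 X2 H h0 h1 h2) h0
theorem g149_mem (X0 X1 X2 : M) (H : Subgroup M) (h0 : X0 ∈ H) (h1 : X1 ∈ H) (h2 : X2 ∈ H) : g149 X0 X1 X2 ∈ H := H.mul_mem (g124_mem X0 X1 X2 H h0 h1 h2) h1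
theorem g150_mem (X0 X1 X2 : M) (H : Subgroup M) (h0 : X0 ∈ H) (h1 : X1 ∈ H) (h2 : X2 ∈ H) : g150 X0 X1 X2 ∈ H := H.mul_mem (g124_mem X0 X1 X2 H h0 h1 h2) h2
theorem g151_mem (X0 X1 X2 : M) (H : Subgroup M) (h0 : X0 ∈ H) (h1 : X1 ∈ H) (h2 : X2 ∈ H) : g151 X0 X1 X2 ∈ H := H.mul_mem (g131_mem X0 X1 X2 H h0 h1 h2) h1
theorem g152_mem (X0 X1 X2 : M) (H : Subgroup M) (h0 : X0 ∈ H) (h1 : X1 ∈ H) (h2 : X2 ∈ H) : g152 X0 X1 X2 ∈ H := H.mul_mem (g131_mem X0 X1 X2 H h0 h1 h2) h2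
theorem g153_mem (X0 X1 X2 : M) (H : Subgroup M) (h0 : X0 ∈ H) (h1 : X1 ∈ H) (h2 : X2 ∈ H) : g153 X0 X1 X2 ∈ H := H.mul_mem (g132_mem X0 X1 X2 H h0 h1 h2) h1
theorem g154_mem (X0 X1 X2 : M) (H : Subgroup M) (h0 : X0 ∈ H) (h1 : X1 ∈ H) (h2 : X2 ∈ H) : g154 X0 X1 X2 ∈ H := H.mul_mem (g132_mem X0 X1 X2 H h0 h1 h2) h2
theorem g155_mem (X0 X1 X2 : M) (H : Subgroup M) (h0 : X0 ∈ H) (h1 : X1 ∈ H) (h2 : X2 ∈ H) : g155 X0 X1 X2 ∈ H := H.mul_mem (g134_mem X0 X1 X2 H h0 h1 h2) h1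
theorem g156_mem (X0 X1 X2 : M) (H : Subgroup M) (h0 : X0 ∈ H) (h1 : X1 ∈ H) (h2 : X2 ∈ H) : g156 X0 X1 X2 ∈ H := H.mul_mem (g134_mem X0 X1 X2 H h0 h1 h2) h2
theorem g157_mem (X0 X1 X2 : M) (H : Subgroup M) (h0 : X0 ∈ H) (h1 : X1 ∈ H) (h2 : X2 ∈ H) : g157 X0 X1 X2 ∈ H := H.mul_mem (g140_mem X0 X1 X2 H h0 h1 h2) h0
theorem g158_mem (X0 X1 X2 : M) (H : Subgroup M) (h0 : X0 ∈ H) (h1 : X1 ∈ H) (h2 : X2 ∈ H) : g158 X0 X1 X2 ∈ H := H.mul_mem (g142_mem X0 X1 X2 H h0 h1 h2) h1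
theorem g159_mem (X0 X1 X2 : M) (H : Subgroup M) (h0 : X0 ∈ H) (h1 : X1 ∈ H) (h2 : X2 ∈ H) : g159 X0 X1 X2 ∈ H := H.mul_mem (g142_mem X0 X1 X2 H h0 h1 h2) h2
theorem g160_mem (X0 X1 X2 : M) (H : Subgroup M) (h0 : X0 ∈ H) (h1 : X1 ∈ H) (h2 : X2 ∈ H) : g160 X0 X1 X2 ∈ H := H.mul_mem (g151_mem X0 X1 X2 H h0 h1 h2) h1
theorem g161_mem (X0 X1 X2 : M) (H : Subgroup M) (h0 : X0 ∈ H) (h1 : X1 ∈ H) (h2 : X2 ∈ H) : g161 X0 X1 X2 ∈ H := H.mul_mem (g151_mem X0 X1 X2 H h0 h1 h2) h2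
set_option maxRecDepth 100000 in
theorem gAll_mem (X0 X1 X2 : M) (H : Subgroup M) (h0 : X0 ∈ H) (h1 : X1 ∈ H) (h2 : X2 ∈ H) : ∀ i : Fin 162, gAll X0 X1 X2 i ∈ H := by
  intro i; fin_cases i
  · exact g0_mem X0 X1 X2 H h0 h1 h2
  · exact g1_mem X0 X1 X2 H h0 h1 h2
  · exact g2_mem X0 X1 X2 H h0 h1 h2
  · exact g3_mem X0 X1 X2 H h0 h1 h2
  · exact g4_mem X0 X1 X2 H h0 h1 h2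
  · exact g5_mem X0 X1 X2 H h0 h1 h2
  · exact g6_mem X0 X1 X2 H h0 h1 h2
  · exact g7_mem X0 X1 X2 H h0 h1 h2
  · exact g8_mem X0 X1 X2 H h0 h1 h2
  · exact g9_mem X0 X1 X2 H h0 h1 h2
  · exact g10_mem X0 X1 X2 H h0 h1 h2
  · exact g11_mem X0 X1 X2 H h0 h1 h2
  · exact g12_mem X0 X1 X2 H h0 h1 h2
  · exact g13_mem X0 X1 X2 H h0 h1 h2
  · exact g14_mem X0 X1 X2 H h0 h1 h2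
  · exact g15_mem X0 X1 X2 H h0 h1 h2
  · exact g16_mem X0 X1 X2 H h0 h1 h2
  · exact g17_mem X0 X1 X2 H h0 h1 h2
  · exact g18_mem X0 X1 X2 H h0 h1 h2
  · exact g19_mem X0 X1 X2 H h0 h1 h2
  · exact g20_mem X0 X1 X2 H h0 h1 h2
  · exact g21_mem X0 X1 X2 H h0 h1 h2
  · exact g22_mem X0 X1 X2 H h0 h1 h2
  · exact g23_mem X0 X1 X2 H h0 h1 h2
  · exact g24_mem X0 X1 X2 H h0 h1 h2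
  · exact g25_mem X0 X1 X2 H h0 h1 h2
  · exact g26_mem X0 X1 X2 H h0 h1 h2
  · exact g27_mem X0 X1 X2 H h0 h1 h2
  · exact g28_mem X0 X1 X2 H h0 h1 h2
  · exact g29_mem X0 X1 X2 H h0 h1 h2
  · exact g30_mem X0 X1 X2 H h0 h1 h2
  · exact g31_mem X0 X1 X2 H h0 h1 h2
  · exact g32_mem X0 X1 X2 H h0 h1 h2
  · exact g33_mem X0 X1 X2 H h0 h1 h2
  · exact g34_mem X0 X1 X2 H h0 h1 h2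
  · exact g35_mem X0 X1 X2 H h0 h1 h2
  · exact g36_mem X0 X1 X2 H h0 h1 h2
  · exact g37_mem X0 X1 X2 H h0 h1 h2
  · exact g38_mem X0 X1 X2 H h0 h1 h2
  · exact g39_mem X0 X1 X2 H h0 h1 h2
  · exact g40_mem X0 X1 X2 H h0 h1 h2
  · exact g41_mem X0 X1 X2 H h0 h1 h2
  · exact g42_mem X0 X1 X2 H h0 h1 h2
  · exact g43_mem X0 X1 X2 H h0 h1 h2
  · exact g44_mem X0 X1 X2 H h0 h1 h2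
  · exact g45_mem X0 X1 X2 H h0 h1 h2
  · exact g46_mem X0 X1 X2 H h0 h1 h2
  · exact g47_mem X0 X1 X2 H h0 h1 h2
  · exact g48_mem X0 X1 X2 H h0 h1 h2
  · exact g49_mem X0 X1 X2 H h0 h1 h2
  · exact g50_mem X0 X1 X2 H h0 h1 h2
  · exact g51_mem X0 X1 X2 H h0 h1 h2
  · exact g52_mem X0 X1 X2 H h0 h1 h2
  · exact g53_mem X0 X1 X2 H h0 h1 h2
  · exact g54_mem X0 X1 X2 H h0 h1 h2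
  · exact g55_mem X0 X1 X2 H h0 h1 h2
  · exact g56_mem X0 X1 X2 H h0 h1 h2
  · exact g57_mem X0 X1 X2 H h0 h1 h2
  · exact g58_mem X0 X1 X2 H h0 h1 h2
  · exact g59_mem X0 X1 X2 H h0 h1 h2
  · exact g60_mem X0 X1 X2 H h0 h1 h2
  · exact g61_mem X0 X1 X2 H h0 h1 h2
  · exact g62_mem X0 X1 X2 H h0 h1 h2
  · exact g63_mem X0 X1 X2 H h0 h1 h2
  · exact g64_mem X0 X1 X2 H h0 h1 h2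
  · exact g65_mem X0 X1 X2 H h0 h1 h2
  · exact g66_mem X0 X1 X2 H h0 h1 h2
  · exact g67_mem X0 X1 X2 H h0 h1 h2
  · exact g68_mem X0 X1 X2 H h0 h1 h2
  · exact g69_mem X0 X1 X2 H h0 h1 h2
  · exact g70_mem X0 X1 X2 H h0 h1 h2
  · exact g71_mem X0 X1 X2 H h0 h1 h2
  · exact g72_mem X0 X1 X2 H h0 h1 h2
  · exact g73_mem X0 X1 X2 H h0 h1 h2
  · exact g74_mem X0 X1 X2 H h0 h1 h2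
  · exact g75_mem X0 X1 X2 H h0 h1 h2
  · exact g76_mem X0 X1 X2 H h0 h1 h2
  · exact g77_mem X0 X1 X2 H h0 h1 h2
  · exact g78_mem X0 X1 X2 H h0 h1 h2
  · exact g79_mem X0 X1 X2 H h0 h1 h2
  · exact g80_mem X0 X1 X2 H h0 h1 h2
  · exact g81_mem X0 X1 X2 H h0 h1 h2
  · exact g82_mem X0 X1 X2 H h0 h1 h2
  · exact g83_mem X0 X1 X2 H h0 h1 h2
  · exact g84_mem X0 X1 X2 H h0 h1 h2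
  · exact g85_mem X0 X1 X2 H h0 h1 h2
  · exact g86_mem X0 X1 X2 H h0 h1 h2
  · exact g87_mem X0 X1 X2 H h0 h1 h2
  · exact g88_mem X0 X1 X2 H h0 h1 h2
  · exact g89_mem X0 X1 X2 H h0 h1 h2
  · exact g90_mem X0 X1 X2 H h0 h1 h2
  · exact g91_mem X0 X1 X2 H h0 h1 h2
  · exact g92_mem X0 X1 X2 H h0 h1 h2
  · exact g93_mem X0 X1 X2 H h0 h1 h2
  · exact g94_mem X0 X1 X2 H h0 h1 h2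
  · exact g95_mem X0 X1 X2 H h0 h1 h2
  · exact g96_mem X0 X1 X2 H h0 h1 h2
  · exact g97_mem X0 X1 X2 H h0 h1 h2
  · exact g98_mem X0 X1 X2 H h0 h1 h2
  · exact g99_mem X0 X1 X2 H h0 h1 h2
  · exact g100_mem X0 X1 X2 H h0 h1 h2
  · exact g101_mem X0 X1 X2 H h0 h1 h2
  · exact g102_mem X0 X1 X2 H h0 h1 h2
  · exact g103_mem X0 X1 X2 H h0 h1 h2
  · exact g104_mem X0 X1 X2 H h0 h1 h2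
  · exact g105_mem X0 X1 X2 H h0 h1 h2
  · exact g106_mem X0 X1 X2 H h0 h1 h2
  · exact g107_mem X0 X1 X2 H h0 h1 h2
  · exact g108_mem X0 X1 X2 H h0 h1 h2
  · exact g109_mem X0 X1 X2 H h0 h1 h2
  · exact g110_mem X0 X1 X2 H h0 h1 h2
  · exact g111_mem X0 X1 X2 H h0 h1 h2
  · exact g112_mem X0 X1 X2 H h0 h1 h2
  · exact g113_mem X0 X1 X2 H h0 h1 h2
  · exact g114_mem X0 X1 X2 H h0 h1 h2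
  · exact g115_mem X0 X1 X2 H h0 h1 h2
  · exact g116_mem X0 X1 X2 H h0 h1 h2
  · exact g117_mem X0 X1 X2 H h0 h1 h2
  · exact g118_mem X0 X1 X2 H h0 h1 h2
  · exact g119_mem X0 X1 X2 H h0 h1 h2
  · exact g120_mem X0 X1 X2 H h0 h1 h2
  · exact g121_mem X0 X1 X2 H h0 h1 h2
  · exact g122_mem X0 X1 X2 H h0 h1 h2
  · exact g123_mem X0 X1 X2 H h0 h1 h2
  · exact g124_mem X0 X1 X2 H h0 h1 h2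
  · exact g125_mem X0 X1 X2 H h0 h1 h2
  · exact g126_mem X0 X1 X2 H h0 h1 h2
  · exact g127_mem X0 X1 X2 H h0 h1 h2
  · exact g128_mem X0 X1 X2 H h0 h1 h2
  · exact g129_mem X0 X1 X2 H h0 h1 h2
  · exact g130_mem X0 X1 X2 H h0 h1 h2
  · exact g131_mem X0 X1 X2 H h0 h1 h2
  · exact g132_mem X0 X1 X2 H h0 h1 h2
  · exact g133_mem X0 X1 X2 H h0 h1 h2
  · exact g134_mem X0 X1 X2 H h0 h1 h2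
  · exact g135_mem X0 X1 X2 H h0 h1 h2
  · exact g136_mem X0 X1 X2 H h0 h1 h2
  · exact g137_mem X0 X1 X2 H h0 h1 h2
  · exact g138_mem X0 X1 X2 H h0 h1 h2
  · exact g139_mem X0 X1 X2 H h0 h1 h2
  · exact g140_mem X0 X1 X2 H h0 h1 h2
  · exact g141_mem X0 X1 X2 H h0 h1 h2
  · exact g142_mem X0 X1 X2 H h0 h1 h2
  · exact g143_mem X0 X1 X2 H h0 h1 h2
  · exact g144_mem X0 X1 X2 H h0 h1 h2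
  · exact g145_mem X0 X1 X2 H h0 h1 h2
  · exact g146_mem X0 X1 X2 H h0 h1 h2
  · exact g147_mem X0 X1 X2 H h0 h1 h2
  · exact g148_mem X0 X1 X2 H h0 h1 h2
  · exact g149_mem X0 X1 X2 H h0 h1 h2
  · exact g150_mem X0 X1 X2 H h0 h1 h2
  · exact g151_mem X0 X1 X2 H h0 h1 h2
  · exact g152_mem X0 X1 X2 H h0 h1 h2
  · exact g153_mem X0 X1 X2 H h0 h1 h2
  · exact g154_mem X0 X1 X2 H h0 h1 h2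
  · exact g155_mem X0 X1 X2 H h0 h1 h2
  · exact g156_mem X0 X1 X2 H h0 h1 h2
  · exact g157_mem X0 X1 X2 H h0 h1 h2
  · exact g158_mem X0 X1 X2 H h0 h1 h2
  · exact g159_mem X0 X1 X2 H h0 h1 h2
  · exact g160_mem X0 X1 X2 H h0 h1 h2
  · exact g161_mem X0 X1 X2 H h0 h1 h2

end c3wr_table

end Cfsg.Agent.Lib.Helper56.C3wrS3
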