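import Cfsg.Agent.Lib.Helper56.G2Mat

set_option autoImplicit false

namespace Cfsg.Agent.Lib.Helper56.G2Mat

open Cfsg.Lie Cfsg.Agent.Lib.Helper28.TC
open Cfsg.Agent.Lib.Helper56.SuzP6 (Gen)

/-- the matrices satisfy the relators -/
theorem rel_M : ∀ e ∈ SuzP6.relE, ((e.evalW).map M).prod = 1 := by decide +kernel

end Cfsg.Agent.Lib.Helper56.G2Mat
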