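import Cfsg.Agent.Lib.Helper56.G2Mat

set_option autoImplicit false

namespace Cfsg.Agent.Lib.Helper56.G2Mat

open Cfsg.Lie Cfsg.Agent.Lib.Helper28.TC
open Cfsg.Agent.Lib.Helper56.SuzP6 (Gen)

theorem word_M0 : ∀ t : F4, lit (xcode (0 : Fin 12) t) = ((wordOf (0 : Fin 12) t).map M).prod := by
  decide +kernel
theorem word_M1 : ∀ t : F4, lit (xcode (1 : Fin 12) t) = ((wordOf (1 : Fin 12) t).map M).prod := by
  decide +kernel
theorem word_M2 : ∀ t : F4, lit (xcode (2 : Fin 12) t) = ((wordOf (2 : Fin 12) t).map M).prod := by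
  decide +kernel
theorem word_M3 : ∀ t : F4, lit (xcode (3 : Fin 12) t) = ((wordOf (3 : Fin 12) t).map M).prod := by
  decide +kernel
theorem word_M4 : ∀ t : F4, lit (xcode (4 : Fin 12) t) = ((wordOf (4 : Fin 12) t).map M).prod := by
  decide +kernel
theorem word_M5 : ∀ t : F4, lit (xcode (5 : Fin 12) t) = ((wordOf (5 : Fin 12) t).map M).prod := by
  decide +kernel
theorem word_M6 : ∀ t : F4, lit (xcode (6 : Fin 12) t) = ((wordOf (6 : Fin 12) t).map M).prod := by
  decide +kernel
theorem word_M7 : ∀ t : F4, lit (xcode (7 : Fin 12) t) = ((wordOf (7 : Fin 12) t).map M).prod := by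
  decide +kernel
theorem word_M8 : ∀ t : F4, lit (xcode (8 : Fin 12) t) = ((wordOf (8 : Fin 12) t).map M).prod := by
  decide +kernel
theorem word_M9 : ∀ t : F4, lit (xcode (9 : Fin 12) t) = ((wordOf (9 : Fin 12) t).map M).prod := by
  decide +kernel
theorem word_M10 : ∀ t : F4, lit (xcode (10 : Fin 12) t) = ((wordOf (10 : Fin 12) t).map M).prod := by
  decide +kernel
theorem word_M11 : ∀ t : F4, lit (xcode (11 : Fin 12) t) = ((wordOf (11 : Fin 12) t).map M).prod := by
  decide +kernel

/-- every root element is a word in the matrices of the generators -/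
theorem word_M (r : Fin 12) (t : F4) : lit (xcode r t) = ((wordOf r t).map M).prod := by
  revert t
  fin_cases r
  · exact word_M0
  · exact word_M1
  · exact word_M2
  · exact word_M3
  · exact word_M4
  · exact word_M5
  · exact word_M6
  · exact word_M7
  · exact word_M8
  · exact word_M9
  · exact word_M10
  · exact word_M11

end Cfsg.Agent.Lib.Helper56.G2Mat
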