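/-
Upper bound for the order of the presented Suzuki group, by helper56: coset enumerations
Suz ≥ ⟨a..f⟩ (1782, helper28) and, on the sub-presentations, ⟨a..f⟩ ≥ ⟨a..e⟩ (416),
⟨a..e⟩ ≥ ⟨a..d⟩ (280), ⟨a..d⟩ ≥ 1 (2160).
-/
import Cfsg.Agent.Lib.Helper56.PermSimple
import Cfsg.Agent.Lib.Helper56.SuzP4.Main
import Cfsg.Agent.Lib.Helper56.SuzP5.Main
import Cfsg.Agent.Lib.Helper56.SuzP6.Main
import Cfsg.Agent.Lib.Helper28.Suz1782.Main

set_option autoImplicit false

namespace Cfsg.Agent.Lib.Helper56.SuzUpper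

open Cfsg.Agent.Lib.Helper28 Cfsg.Agent.Lib.Helper28.TC

section generic

variable {α β : Type} [DecidableEq α] [DecidableEq β]

theorem wval_map (ι : α → β) {K : Type*} [Group K] (val : β → K) (w : List α) :
    wval (fun x => val (ι x)) w = wval val (w.map ι) := by
  simp [wval, List.map_map, Function.comp_def]

/-- A map of generators sending relator words to trivial words induces a homomorphism. -/
theorem exists_hom (ι : α → β) (relEα : List (WE α)) (relsβ : Set (FreeGroup β))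
    (hinvβ : ∀ x, pval relsβ x * pval relsβ x = 1)
    (h1 : ∀ e ∈ relEα, wval (pval relsβ) ((e.evalW).map ι) = 1) :
    ∃ f : PresentedGroup {r | ∃ e ∈ relEα, r = e.evalF} →* PresentedGroup relsβ,
      ∀ x, f (PresentedGroup.of x) = pval relsβ (ι x) := by
  have h : ∀ r ∈ {r | ∃ e ∈ relEα, r = e.evalF},
      FreeGroup.lift (fun x => pval relsβ (ι x)) r = 1 := by
    rintro r ⟨e, he, rfl⟩
    rw [WE.lift_evalF (fun x => pval relsβ (ι x)) (fun x => hinvβ (ι x)) e, wval_map]
    exact h1 e he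
  exact ⟨PresentedGroup.toGroup h, fun x => PresentedGroup.toGroup.of h⟩

/-- The subgroup generated by the images of generators lies in the range. -/
theorem subH_le_range (ι : α → β) {relsα : Set (FreeGroup α)} {relsβ : Set (FreeGroup β)}
    (f : PresentedGroup relsα →* PresentedGroup relsβ)
    (hf : ∀ x, f (PresentedGroup.of x) = pval relsβ (ι x))
    (S : Set (FreeGroup β)) (hS : ∀ s ∈ S, ∃ x, s = FreeGroup.of (ι x)) :
    subH relsβ S ≤ f.range := by
  unfold subH
  rw [Subgroup.map_le_iff_le_comap, Subgroup.closure_le]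
  intro s hs
  obtain ⟨x, rfl⟩ := hS s hs
  exact ⟨PresentedGroup.of x, hf x⟩

end generic

/-- inclusion of generators -/
def ι45 : SuzP4.Gen → SuzP5.Gen
  | .a => .a | .b => .b | .c => .c | .d => .d

/-- inclusion of generators -/
def ι56 : SuzP5.Gen → SuzP6.Gen
  | .a => .a | .b => .b | .c => .c | .d => .d | .e => .e

/-- inclusion of generators -/
def ι67 : SuzP6.Gen → Cfsg.Spor.Suz.Gen
  | .a => .a | .b => .b | .c => .c | .d => .d | .e => .e | .f => .f

theorem words45 : ∀ e ∈ SuzP4.relE, (e.evalW).map ι45 ∈ SuzP5.relWords := by decide +kernel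

theorem words56 : ∀ e ∈ SuzP5.relE, (e.evalW).map ι56 ∈ SuzP6.relWords := by decide +kernel

theorem words67 : ∀ e ∈ SuzP6.relE, (e.evalW).map ι67 ∈ Suz1782.relWords := by decide +kernel

theorem relWords5_one : ∀ w ∈ SuzP5.relWords, wval (pval SuzP5.rels) w = 1 := by
  intro w hw
  obtain ⟨e, he, rfl⟩ := SuzP5.relWords_cover w hw
  exact wval_pval_eq_one SuzP5.rels SuzP5.hinv e ⟨e, he, rfl⟩

theorem relWords6_one : ∀ w ∈ SuzP6.relWords, wval (pval SuzP6.rels) w = 1 := by
  intro w hw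
  obtain ⟨e, he, rfl⟩ := SuzP6.relWords_cover w hw
  exact wval_pval_eq_one SuzP6.rels SuzP6.hinv e ⟨e, he, rfl⟩

theorem relWords7_one : ∀ w ∈ Suz1782.relWords, wval (pval Suz1782.rels) w = 1 := by
  intro w hw
  obtain ⟨e, he, rfl⟩ := Suz1782.relWords_cover w hw
  exact wval_pval_eq_one Suz1782.rels Suz1782.hinv e ((Suz1782.rels_iff _).2 ⟨e, he, rfl⟩)

/-- `⟨a, b, c, d⟩` has at most 2160 elements. -/
theorem card_P4 : Finite (PresentedGroup SuzP4.rels) ∧ Nat.card (PresentedGroup SuzP4.rels) ≤ 2160 := by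
  obtain ⟨e, -, -⟩ := SuzP4.cosetEquiv
  have hbot : subH SuzP4.rels SuzP4.subS ≤ (1 : Unit →* PresentedGroup SuzP4.rels).range := by
    unfold subH
    rw [Subgroup.map_le_iff_le_comap, Subgroup.closure_le]
    rintro s ⟨e, he, -⟩
    exact absurd he (by simp [SuzP4.subE])
  have := card_le_of_quotient_equiv _ e (1 : Unit →* PresentedGroup SuzP4.rels) hbot 1 (by simp)
  simpa [SuzP4.nn] using this

/-- `⟨a, b, c, d, e⟩` has at most `280 * 2160` elements. -/
theorem card_P5 : Finite (PresentedGroup SuzP5.rels) ∧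
    Nat.card (PresentedGroup SuzP5.rels) ≤ 280 * 2160 := by
  obtain ⟨e, -, -⟩ := SuzP5.cosetEquiv
  obtain ⟨f, hf⟩ := exists_hom ι45 SuzP4.relE SuzP5.rels SuzP5.hinv
    (fun e he => relWords5_one _ (words45 e he))
  obtain ⟨hfin, hcard⟩ := card_P4
  have hle : subH SuzP5.rels SuzP5.subS ≤ f.range := by
    apply subH_le_range ι45 f hf
    rintro s ⟨e, he, rfl⟩
    simp only [SuzP5.subE, List.mem_cons, List.not_mem_nil, or_false] at he
    rcases he with rfl | rfl | rfl | rfl
    · exact ⟨.a, rfl⟩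
    · exact ⟨.b, rfl⟩
    · exact ⟨.c, rfl⟩
    · exact ⟨.d, rfl⟩
  exact card_le_of_quotient_equiv _ e f hle 2160 hcard

/-- `⟨a, b, c, d, e, f⟩` has at most `416 * (280 * 2160)` elements. -/
theorem card_P6 : Finite (PresentedGroup SuzP6.rels) ∧
    Nat.card (PresentedGroup SuzP6.rels) ≤ 416 * (280 * 2160) := by
  obtain ⟨e, -, -⟩ := SuzP6.cosetEquiv
  obtain ⟨f, hf⟩ := exists_hom ι56 SuzP5.relE SuzP6.rels SuzP6.hinv
    (fun e he => relWords6_one _ (words56 e he))
  obtain ⟨hfin, hcard⟩ := card_P5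
  have hle : subH SuzP6.rels SuzP6.subS ≤ f.range := by
    apply subH_le_range ι56 f hf
    rintro s ⟨e, he, rfl⟩
    simp only [SuzP6.subE, List.mem_cons, List.not_mem_nil, or_false] at he
    rcases he with rfl | rfl | rfl | rfl | rfl
    · exact ⟨.a, rfl⟩
    · exact ⟨.b, rfl⟩
    · exact ⟨.c, rfl⟩
    · exact ⟨.d, rfl⟩
    · exact ⟨.e, rfl⟩
  exact card_le_of_quotient_equiv _ e f hle _ hcard

/-- The presented Suzuki group is finite with at most `448345497600` elements. -/
theorem card_Suz_le : Finite (PresentedGroup Suz1782.rels) ∧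
    Nat.card (PresentedGroup Suz1782.rels) ≤ 448345497600 := by
  obtain ⟨e, -, -⟩ := Suz1782.cosetEquiv
  obtain ⟨f, hf⟩ := exists_hom ι67 SuzP6.relE Suz1782.rels Suz1782.hinv
    (fun e he => relWords7_one _ (words67 e he))
  obtain ⟨hfin, hcard⟩ := card_P6
  have hle : subH Suz1782.rels Suz1782.subS ≤ f.range := by
    apply subH_le_range ι67 f hf
    intro s hs
    simp only [Suz1782.subS, Set.mem_insert_iff, Set.mem_singleton_iff] at hs
    rcases hs with rfl | rfl | rfl | rfl | rfl | rfl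
    · exact ⟨.a, rfl⟩
    · exact ⟨.b, rfl⟩
    · exact ⟨.c, rfl⟩
    · exact ⟨.d, rfl⟩
    · exact ⟨.e, rfl⟩
    · exact ⟨.f, rfl⟩
  have := card_le_of_quotient_equiv _ e f hle _ hcard
  simpa [Suz1782.nn] using this

end Cfsg.Agent.Lib.Helper56.SuzUpper
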