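/-
Explicit symplectic `4 × 4` matrices over the field with four elements satisfying the relators
of the presentation `SpQ` (helper56).
-/
import Cfsg.Agent.Lib.Helper56.F4
import Cfsg.Agent.Lib.Helper56.SpQ.Pres

set_option autoImplicit false

namespace Cfsg.Agent.Lib.Helper56.SpMat

open Cfsg.Agent.Lib.Helper28.TC Matrix

/-- the index type of the matrices -/
abbrev I4 : Type := Fin 2 ⊕ Fin 2

/-- position of an index -/
def pos : I4 → ℕ
  | Sum.inl i => i.val
  | Sum.inr i => 2 + i.val

/-- a matrix given by its rows -/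
def ofRows (l : List (List F4)) : Matrix I4 I4 F4 :=
  Matrix.of fun i j => (l.getD (pos i) []).getD (pos j) 0

open F4 in
/-- the images of the generators -/
def M : SpQ.Gen → Matrix I4 I4 F4
  | .c => ofRows [[o, z, z, z], [z, o, z, w], [z, z, o, z], [z, z, z, o]]
  | .d => ofRows [[o, o, z, z], [z, o, z, z], [z, z, o, z], [z, o, o, o]]
  | .e => ofRows [[o, z, o, z], [z, o, z, o], [z, z, o, z], [z, z, z, o]]
  | .f => ofRows [[o, z, z, o], [z, o, o, o], [z, z, o, z], [z, z, z, o]]
  | .h => ofRows [[z, z, o, z], [z, o, z, o], [o, z, z, z], [z, z, z, o]]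

theorem M_symp (x : SpQ.Gen) : M x ∈ symplecticGroup (Fin 2) F4 := by
  rw [SymplecticGroup.mem_iff]
  cases x <;> decide +kernel

/-- the images of the generators in the symplectic group -/
def gM (x : SpQ.Gen) : symplecticGroup (Fin 2) F4 := ⟨M x, M_symp x⟩

theorem rel_M : ∀ e ∈ SpQ.relE, ((e.evalW).map M).prod = 1 := by decide +kernel

theorem gM_sq (x : SpQ.Gen) : gM x * gM x = 1 := by
  apply Subtype.ext
  show M x * M x = 1
  cases x <;> decide +kernel

theorem rel_gM : ∀ e ∈ SpQ.relE, wval gM e.evalW = 1 := by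
  intro e he
  apply Subtype.ext
  have h := rel_M e he
  unfold wval
  rw [Submonoid.coe_list_prod, List.map_map]
  exact h

theorem gM_c_ne_one : gM SpQ.Gen.c ≠ 1 := by
  intro h
  have h' : M SpQ.Gen.c = 1 := congrArg Subtype.val h
  revert h'
  decide +kernel

end Cfsg.Agent.Lib.Helper56.SpMat
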