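/-
Upper bound for the order of the presented group `SpQ` (a presentation of `Sp₄(4)` on five
involutions `c, d, e, f, h`), by helper56: coset enumerations `SpQ ≥ ⟨c, d, e, f⟩` (255) and, on the
sub-presentation, `⟨c, d, e, f⟩ ≥ 1` (3840).
-/
import Cfsg.Agent.Lib.Helper56.PresHom
import Cfsg.Agent.Lib.Helper56.SpK.Main
import Cfsg.Agent.Lib.Helper56.SpQ.Main

set_option autoImplicit false

namespace Cfsg.Agent.Lib.Helper56.SpUpper

open Cfsg.Agent.Lib.Helper28 Cfsg.Agent.Lib.Helper28.TC Cfsg.Agent.Lib.Helper56.PresHom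

/-- inclusion of generators -/
def ιKQ : SpK.Gen → SpQ.Gen
  | .c => .c | .d => .d | .e => .e | .f => .f

theorem wordsKQ : ∀ e ∈ SpK.relE, (e.evalW).map ιKQ ∈ SpQ.relWords := by decide +kernel

/-- `⟨c, d, e, f⟩` has at most 3840 elements. -/
theorem card_K : Finite (PresentedGroup SpK.rels) ∧ Nat.card (PresentedGroup SpK.rels) ≤ 3840 := by
  obtain ⟨e, -, -⟩ := SpK.cosetEquiv
  have := card_le_of_regular e
    (by rintro s ⟨e, he, -⟩; exact absurd he (by simp [SpK.subE]))
  simpa [SpK.nn] using this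

/-- The presented group `SpQ` is finite with at most `979200` elements. -/
theorem card_Q_le : Finite (PresentedGroup SpQ.rels) ∧
    Nat.card (PresentedGroup SpQ.rels) ≤ 979200 := by
  obtain ⟨e, -, -⟩ := SpQ.cosetEquiv
  obtain ⟨f, hf⟩ := exists_hom ιKQ SpK.relE SpQ.rels SpQ.hinv
    (fun e he => SpQ.relWords_one _ (wordsKQ e he))
  obtain ⟨hfin, hcard⟩ := card_K
  have hle : subH SpQ.rels SpQ.subS ≤ f.range := by
    apply subH_le_range ιKQ f hf
    rintro s ⟨e, he, rfl⟩
    simp only [SpQ.subE, List.mem_cons, List.not_mem_nil, or_false] at he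
    rcases he with rfl | rfl | rfl | rfl
    · exact ⟨.c, rfl⟩
    · exact ⟨.d, rfl⟩
    · exact ⟨.e, rfl⟩
    · exact ⟨.f, rfl⟩
  have := card_le_of_quotient_equiv _ e f hle _ hcard
  simpa [SpQ.nn] using this

end Cfsg.Agent.Lib.Helper56.SpUpper
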