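/-
In the presented Held group, the subgroup `H = ⟨a, c, d, e, f, (ab)², (bcde)⁷⟩` has a normal
subgroup of index 2 isomorphic to `Sp₄(4)`, by helper56.

The normal subgroup is `⟨c, d, e, f, h⟩` with `h = bcdgdcb`: these five involutions satisfy the
relators of the presentation `SpQ` (checked in the faithful permutation representation on 2058
points), `SpQ` is simple of order 979200 (`SpPerm.spq_simple_order`), and `SpQ` maps onto explicit
symplectic matrices over the field with four elements (`SpMat`); the order of `Sp₄(4)` is `S0245`.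
-/
import Cfsg.Agent.Lib.Helper56.HePerm.Main
import Cfsg.Agent.Lib.Helper56.SpPerm.Main
import Cfsg.Agent.Lib.Helper56.SpMat
import Cfsg.Agent.S0245

set_option autoImplicit false

namespace Cfsg.Agent.Lib.Helper56.HeSp44

open Cfsg.Agent.Lib.Helper28 Cfsg.Agent.Lib.Helper28.TC Cfsg.Agent.Lib.Helper56.PresHom
open Cfsg.Spor.He (Gen)

/-- the presented Held group -/
abbrev HeG : Type := PresentedGroup He2058.rels

/-- the presented group `SpQ` -/
abbrev Q : Type := PresentedGroup SpQ.rels

/-- the words for the generators of `SpQ` in the Held group -/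
def sub : SpQ.Gen → List Gen
  | .c => [.c]
  | .d => [.d]
  | .e => [.e]
  | .f => [.f]
  | .h => [.b, .c, .d, .g, .d, .c, .b]

/-- the images of the generators of `SpQ` in the Held group -/
noncomputable def val (x : SpQ.Gen) : HeG := wval (pval He2058.rels) (sub x)

theorem wval_val (w : List SpQ.Gen) :
    wval val w = wval (pval He2058.rels) (w.flatMap sub) := by
  induction w with
  | nil => rfl
  | cons x w ih =>
    rw [wval_cons, ih, List.flatMap_cons, wval_append]
    rfl

/-- the relators of `SpQ`, as words of the Held group -/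
def relW : List (List Gen) := SpQ.relE.map fun e => (e.evalW).flatMap sub

/-- row check: the relators fix row `i` -/
noncomputable def relP (i : ℕ) : Bool := relRowOK He2058.tf relW i

theorem relP_blk0 : allRange (guard He2058.nn relP) 10 (0 * 2 ^ 10) = true := by decide +kernel
theorem relP_blk1 : allRange (guard He2058.nn relP) 10 (1 * 2 ^ 10) = true := by decide +kernel
theorem relP_blk2 : allRange (guard He2058.nn relP) 10 (2 * 2 ^ 10) = true := by decide +kernel

theorem relP_all : ∀ i, i < He2058.nn → relP i = true := by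
  refine all_of_blocks He2058.nn relP 10 3 (by decide) ?_
  intro k hk
  interval_cases k
  · exact relP_blk0
  · exact relP_blk1
  · exact relP_blk2

theorem rel_act : ∀ e ∈ SpQ.relE, ∀ i, i < He2058.nn →
    act He2058.tf ((e.evalW).flatMap sub) i = i := by
  intro e he i hi
  exact relRowOK_spec He2058.tf relW i (relP_all i hi) _ (List.mem_map_of_mem he)

theorem rel_val : ∀ e ∈ SpQ.relE, wval val e.evalW = 1 := by
  intro e he
  rw [wval_val]
  exact HePerm.wval_eq_one_of_act _ (rel_act e he)

theorem val_sq (x : SpQ.Gen) : val x * val x = 1 := by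
  have h := rel_val (WE.mul (WE.of x) (WE.of x))
    (List.mem_append_left _ (List.mem_map_of_mem (SpQ.mem_gens x)))
  simpa [WE.evalW, wval] using h

theorem exists_φ : ∃ φ : Q →* HeG, ∀ x, φ (PresentedGroup.of x) = val x :=
  exists_hom_to SpQ.relE val val_sq rel_val

theorem injective_of_simple {G L : Type*} [Group G] [Group L] [IsSimpleGroup G] (f : G →* L)
    (g : G) (hg : f g ≠ 1) : Function.Injective f := by
  rw [← MonoidHom.ker_eq_bot_iff]
  rcases IsSimpleGroup.eq_bot_or_eq_top_of_normal f.ker f.normal_ker with h | h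
  · exact h
  · exfalso
    apply hg
    have h1 : g ∈ f.ker := h ▸ Subgroup.mem_top g
    exact MonoidHom.mem_ker.1 h1

theorem val_c_ne_one : val SpQ.Gen.c ≠ 1 := by
  intro h
  have h1 : HePerm.π (val SpQ.Gen.c) = 1 := by rw [h, map_one]
  have h2 : HePerm.wp [Gen.c] = 1 := by
    rw [← HePerm.π_wval]
    exact h1
  have h3 := HePerm.wp_apply [Gen.c] ⟨1, by decide⟩
  rw [h2] at h3
  revert h3
  decide +kernel

/-- the subgroup `H` -/
noncomputable abbrev H : Subgroup HeG := subH He2058.rels He2058.subS

theorem sub_fix : ∀ x : SpQ.Gen, act He2058.tf (sub x) 0 = 0 := by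
  intro x
  cases x <;> decide +kernel

theorem val_mem_H (x : SpQ.Gen) : val x ∈ H := by
  obtain ⟨e, he1, hequiv⟩ := He2058.cosetEquiv
  exact wval_mem_of_fix He2058.nn_pos He2058.T He2058.hrel e he1 hequiv (sub x) (sub_fix x)

theorem range_le (φ : Q →* HeG) (hφ : ∀ x, φ (PresentedGroup.of x) = val x) : φ.range ≤ H := by
  rw [MonoidHom.range_eq_map, ← PresentedGroup.closure_range_of, MonoidHom.map_closure,
    Subgroup.closure_le]
  rintro _ ⟨_, ⟨x, rfl⟩, rfl⟩
  rw [hφ]
  exact val_mem_H x

theorem card_H : Nat.card H = 1958400 := by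
  obtain ⟨e, -, -⟩ := He2058.cosetEquiv
  have h1 : Nat.card HeG = Nat.card (HeG ⧸ H) * Nat.card H :=
    Subgroup.card_eq_card_quotient_mul_card_subgroup H
  have h2 : Nat.card (HeG ⧸ H) = 2058 := by
    rw [Nat.card_congr e, Nat.card_fin]
    rfl
  rw [HePerm.card_He, h2] at h1
  omega

theorem card_sp : Nat.card (Matrix.symplecticGroup (Fin 2) F4) = 979200 := by
  rw [Cfsg.Agent.S0245.result F4.card 2]
  norm_num [Finset.prod_range_succ]

/-- `H` has a normal subgroup of index 2 isomorphic to `Sp₄(4)`. -/
theorem main : ∃ (N : Subgroup ↥H) (K : Type) (_ : Field K) (_ : Fintype K),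
    N.Normal ∧ N.index = 2 ∧ Fintype.card K = 4 ∧
      Nonempty (N ≃* Matrix.symplecticGroup (Fin 2) K) := by
  obtain ⟨hsimple, hcardQ⟩ := SpPerm.spq_simple_order
  obtain ⟨φ, hφ⟩ := exists_φ
  have hφinj : Function.Injective φ :=
    injective_of_simple φ (PresentedGroup.of SpQ.Gen.c) (by rw [hφ]; exact val_c_ne_one)
  obtain ⟨ψ, hψ⟩ := exists_hom_to SpQ.relE SpMat.gM SpMat.gM_sq SpMat.rel_gM
  have hψinj : Function.Injective ψ :=
    injective_of_simple ψ (PresentedGroup.of SpQ.Gen.c) (by rw [hψ]; exact SpMat.gM_c_ne_one)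
  have : Finite (Matrix.symplecticGroup (Fin 2) F4) :=
    Nat.finite_of_card_ne_zero (by rw [card_sp]; norm_num)
  have hψbij : Function.Bijective ψ :=
    hψinj.bijective_of_nat_card_le (by rw [card_sp, hcardQ])
  have hle : φ.range ≤ H := range_le φ hφ
  have hcardN0 : Nat.card φ.range = 979200 := by
    rw [← hcardQ]
    exact (Nat.card_congr (MonoidHom.ofInjective hφinj).toEquiv).symm
  have hcardN : Nat.card (φ.range.subgroupOf H) = 979200 := by
    rw [← hcardN0]
    exact Nat.card_congr (Subgroup.subgroupOfEquivOfLe hle).toEquiv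
  have hidx : (φ.range.subgroupOf H).index = 2 := by
    have h := Subgroup.card_mul_index (φ.range.subgroupOf H)
    rw [hcardN, card_H] at h
    omega
  refine ⟨φ.range.subgroupOf H, F4, inferInstance, inferInstance,
    Subgroup.normal_of_index_eq_two hidx, hidx, F4.card, ?_⟩
  exact ⟨(Subgroup.subgroupOfEquivOfLe hle).trans
    ((MonoidHom.ofInjective hφinj).symm.trans (MulEquiv.ofBijective ψ hψbij))⟩

end Cfsg.Agent.Lib.Helper56.HeSp44
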