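/-
The Held group as a transitive permutation group of degree 2058 whose point stabiliser contains,
with index 2, a copy of `Sp₄(4)`, by helper56 (from `HePerm` and `HeSp44`).
-/
import Cfsg.Agent.Lib.Helper56.HeSp44

set_option autoImplicit false

namespace Cfsg.Agent.Lib.Helper56.HePermSp

open Cfsg.Agent.Lib.Helper28 Cfsg.Agent.Lib.Helper28.TC Cfsg.Agent.Lib.Helper56.PresHom
open Cfsg.Agent.Lib.Helper28.He2058 Cfsg.Agent.Lib.Helper56.HePerm
open Cfsg.Spor.He (Gen)
open MulAction

/-- the permutation group, on `Fin 2058` -/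
noncomputable def G0 : Subgroup (Equiv.Perm (Fin 2058)) := HePerm.Gh

theorem simple_G0 : IsSimpleGroup G0 := HePerm.simple_Gh

theorem card_G0 : Nat.card G0 = 4030387200 := HePerm.card_Gh

theorem root0 : OC0.root < nn := by decide

theorem root0_eq : (⟨OC0.root, root0⟩ : Fin nn) = (0 : Fin 2058) := Fin.ext (by decide)

theorem exists_mem (c : Fin 2058) : ∃ g ∈ G0, g (0 : Fin 2058) = c := by
  have horb0 := HePerm.orbit_eq words0 OC0 root0 orb0_root orbP0_all
  have hcardX : Fintype.card (Fin nn) = 2058 := by rw [Fintype.card_fin]; rfl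
  have huniv : oset OC0 = Set.univ := by
    apply Set.eq_of_subset_of_ncard_le (Set.subset_univ _) _ (Set.toFinite _)
    rw [oset_ncard OC0 2058 orb0_count, Set.ncard_univ, Nat.card_eq_fintype_card, hcardX]
  have hc : c ∈ orbit (Subgroup.closure (wordPerms T words0))
      (⟨OC0.root, root0⟩ : Fin nn) := by
    rw [horb0, huniv]; trivial
  obtain ⟨⟨g, hg⟩, hgc⟩ := hc
  refine ⟨g, hg, ?_⟩
  have h1 : g (⟨OC0.root, root0⟩ : Fin nn) = c := hgc
  exact (congrArg g root0_eq.symm).trans h1

theorem pretransitive : IsPretransitive G0 (Fin 2058) := by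
  refine ⟨fun a b => ?_⟩
  obtain ⟨g, hg, hga⟩ := exists_mem a
  obtain ⟨g', hg', hgb⟩ := exists_mem b
  refine ⟨⟨g' * g⁻¹, G0.mul_mem hg' (G0.inv_mem hg)⟩, ?_⟩
  show (g' * g⁻¹) a = b
  have h5 : g⁻¹ a = (0 : Fin 2058) := Equiv.Perm.inv_eq_iff_eq.mpr hga.symm
  rw [Equiv.Perm.mul_apply, h5, hgb]

/-- the point stabiliser -/
noncomputable abbrev S0 : Subgroup G0 := stabilizer G0 (0 : Fin 2058)

theorem card_S0 : Nat.card S0 = 1958400 := by
  have := pretransitive
  have h1 : S0.index = 2058 := by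
    rw [index_stabilizer, orbit_eq_univ]
    simp
  have h2 : Nat.card S0 * S0.index = Nat.card G0 := Subgroup.card_mul_index S0
  rw [h1, card_G0] at h2
  have h3 : Nat.card S0 * 2058 = 1958400 * 2058 := h2.trans (by norm_num)
  exact Nat.eq_of_mul_eq_mul_right (by norm_num) h3

theorem fix_of_mem_H (h : HeSp44.HeG) (hh : h ∈ HeSp44.H) :
    HePerm.π h (0 : Fin 2058) = (0 : Fin 2058) := by
  have hle : HeSp44.H ≤ (stabilizer (Equiv.Perm (Fin 2058)) (0 : Fin 2058)).comap HePerm.π := by
    show subH He2058.rels He2058.subS ≤ _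
    unfold subH
    rw [Subgroup.map_le_iff_le_comap, Subgroup.closure_le]
    intro s hs
    exact He2058.hsub s hs
  exact hle hh

/-- `G0` has the required properties. -/
theorem main : ∃ (F : Type) (_ : Field F) (_ : Fintype F), Fintype.card F = 4 ∧
    ∃ N : Subgroup (stabilizer G0 (0 : Fin 2058)), N.index = 2 ∧
      Nonempty (N ≃* Matrix.symplecticGroup (Fin 2) F) := by
  obtain ⟨hsimple, hcardQ⟩ := SpPerm.spq_simple_order
  obtain ⟨φ, hφ⟩ := HeSp44.exists_φ
  have hφinj : Function.Injective φ :=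
    HeSp44.injective_of_simple φ (PresentedGroup.of SpQ.Gen.c)
      (by rw [hφ]; exact HeSp44.val_c_ne_one)
  obtain ⟨ψ, hψ⟩ := exists_hom_to SpQ.relE SpMat.gM SpMat.gM_sq SpMat.rel_gM
  have hψinj : Function.Injective ψ :=
    HeSp44.injective_of_simple ψ (PresentedGroup.of SpQ.Gen.c)
      (by rw [hψ]; exact SpMat.gM_c_ne_one)
  have : Finite (Matrix.symplecticGroup (Fin 2) F4) :=
    Nat.finite_of_card_ne_zero (by rw [HeSp44.card_sp]; norm_num)
  have hψbij : Function.Bijective ψ :=
    hψinj.bijective_of_nat_card_le (by rw [HeSp44.card_sp, hcardQ])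
  -- the map into the permutation group
  let π' : HeSp44.HeG →* G0 := HePerm.π.codRestrict G0 HePerm.π_mem
  have hπ'inj : Function.Injective π' := by
    intro x y hxy
    exact HePerm.π_injective (congrArg Subtype.val hxy)
  let θ : HeSp44.Q →* G0 := π'.comp φ
  have hθinj : Function.Injective θ := hπ'inj.comp hφinj
  have hle : φ.range ≤ HeSp44.H := HeSp44.range_le φ hφ
  have hθS : ∀ q, θ q ∈ S0 := by
    intro q
    apply mem_stabilizer_iff.2
    show HePerm.π (φ q) (0 : Fin 2058) = (0 : Fin 2058)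
    exact fix_of_mem_H (φ q) (hle ⟨q, rfl⟩)
  let ρ : HeSp44.Q →* S0 := θ.codRestrict S0 hθS
  have hρinj : Function.Injective ρ := by
    intro x y hxy
    exact hθinj (congrArg Subtype.val hxy)
  have hcardN : Nat.card ρ.range = 979200 := by
    rw [← hcardQ]
    exact (Nat.card_congr (MonoidHom.ofInjective hρinj).toEquiv).symm
  have hidx : ρ.range.index = 2 := by
    have h : Nat.card ρ.range * ρ.range.index = Nat.card S0 := Subgroup.card_mul_index ρ.range
    rw [hcardN, card_S0] at h
    have h3 : 979200 * ρ.range.index = 979200 * 2 := h.trans (by norm_num)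
    exact Nat.eq_of_mul_eq_mul_left (by norm_num) h3
  refine ⟨F4, inferInstance, inferInstance, F4.card, ρ.range, hidx, ?_⟩
  exact ⟨(MonoidHom.ofInjective hρinj).symm.trans (MulEquiv.ofBijective ψ hψbij)⟩

end Cfsg.Agent.Lib.Helper56.HePermSp
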