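/-
Upper bound for the order of the presented group `J1Q` (a presentation of the Janko group `J₁` on
three involutions `p, q, r`), by helper56: coset enumerations `J1Q ≥ ⟨p, q⟩` (4620) and, on the
sub-presentation, `⟨p, q⟩ ≥ 1` (38).
-/
import Cfsg.Agent.Lib.Helper56.PresHom
import Cfsg.Agent.Lib.Helper56.J1D.Main
import Cfsg.Agent.Lib.Helper56.J1Q.Main

set_option autoImplicit false

namespace Cfsg.Agent.Lib.Helper56.J1Upper

open Cfsg.Agent.Lib.Helper28 Cfsg.Agent.Lib.Helper28.TC Cfsg.Agent.Lib.Helper56.PresHom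

/-- inclusion of generators -/
def ιDQ : J1D.Gen → J1Q.Gen
  | .p => .p | .q => .q

theorem wordsDQ : ∀ e ∈ J1D.relE, (e.evalW).map ιDQ ∈ J1Q.relWords := by decide +kernel

/-- `⟨p, q⟩` has at most 38 elements. -/
theorem card_D : Finite (PresentedGroup J1D.rels) ∧ Nat.card (PresentedGroup J1D.rels) ≤ 38 := by
  obtain ⟨e, -, -⟩ := J1D.cosetEquiv
  have := card_le_of_regular e
    (by rintro s ⟨e, he, -⟩; exact absurd he (by simp [J1D.subE]))
  simpa [J1D.nn] using this

/-- The presented group `J1Q` is finite with at most `175560` elements. -/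
theorem card_Q_le : Finite (PresentedGroup J1Q.rels) ∧
    Nat.card (PresentedGroup J1Q.rels) ≤ 175560 := by
  obtain ⟨e, -, -⟩ := J1Q.cosetEquiv
  obtain ⟨f, hf⟩ := exists_hom ιDQ J1D.relE J1Q.rels J1Q.hinv
    (fun e he => J1Q.relWords_one _ (wordsDQ e he))
  obtain ⟨hfin, hcard⟩ := card_D
  have hle : subH J1Q.rels J1Q.subS ≤ f.range := by
    apply subH_le_range ιDQ f hf
    rintro s ⟨e, he, rfl⟩
    simp only [J1Q.subE, List.mem_cons, List.not_mem_nil, or_false] at he
    rcases he with rfl | rfl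
    · exact ⟨.p, rfl⟩
    · exact ⟨.q, rfl⟩
  have := card_le_of_quotient_equiv _ e f hle _ hcard
  simpa [J1Q.nn] using this

end Cfsg.Agent.Lib.Helper56.J1Upper
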