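/-
Explicit matrices in `SL₃(7)` whose images in `PSL₃(7)` satisfy the relators of the presentation
`L37Q` (helper56).
-/
import Mathlib
import Cfsg.Agent.Lib.Helper56.L37Q.Pres

set_option autoImplicit false

namespace Cfsg.Agent.Lib.Helper56.L37Mat

open Cfsg.Agent.Lib.Helper28.TC Matrix

/-- the images of the generators, as matrices -/
def M : L37Q.Gen → Matrix (Fin 3) (Fin 3) (ZMod 7)
  | .p => !![0, 4, 2; 2, 0, 4; 0, 0, 6]
  | .q => !![4, 0, 5; 4, 6, 4; 4, 0, 3]
  | .r => !![1, 5, 5; 0, 6, 0; 0, 0, 6]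
  | .s => !![6, 3, 0; 0, 1, 0; 0, 1, 6]

theorem M_det (x : L37Q.Gen) : (M x).det = 1 := by
  cases x <;> (rw [Matrix.det_fin_three]; decide)

/-- the images of the generators in `SL₃(7)` -/
def gS (x : L37Q.Gen) : SpecialLinearGroup (Fin 3) (ZMod 7) := ⟨M x, M_det x⟩

/-- the images of the generators in `PSL₃(7)` -/
def gM (x : L37Q.Gen) : ProjectiveSpecialLinearGroup (Fin 3) (ZMod 7) := QuotientGroup.mk (gS x)

/-- a matrix is one of the three scalar matrices of determinant one -/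
def IsSc (A : Matrix (Fin 3) (Fin 3) (ZMod 7)) : Prop :=
  A = 1 ∨ A = Matrix.scalar (Fin 3) 2 ∨ A = Matrix.scalar (Fin 3) 4

instance (A : Matrix (Fin 3) (Fin 3) (ZMod 7)) : Decidable (IsSc A) := by
  unfold IsSc; infer_instance

theorem rel_M : ∀ e ∈ L37Q.relE, IsSc ((e.evalW).map M).prod := by decide +kernel

theorem mem_center_of_isSc (A : SpecialLinearGroup (Fin 3) (ZMod 7))
    (h : IsSc (A : Matrix (Fin 3) (Fin 3) (ZMod 7))) :
    A ∈ Subgroup.center (SpecialLinearGroup (Fin 3) (ZMod 7)) := by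
  rw [Matrix.SpecialLinearGroup.mem_center_iff]
  rcases h with h | h | h
  · exact ⟨1, by simp, by rw [h]; simp⟩
  · exact ⟨2, by decide, h.symm⟩
  · exact ⟨4, by decide, h.symm⟩

theorem coe_wval (w : List L37Q.Gen) :
    ((wval gS w : SpecialLinearGroup (Fin 3) (ZMod 7)) : Matrix (Fin 3) (Fin 3) (ZMod 7)) =
      (w.map M).prod := by
  induction w with
  | nil => rfl
  | cons x w ih =>
    rw [wval_cons, List.map_cons, List.prod_cons, Matrix.SpecialLinearGroup.coe_mul, ih]
    rfl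

theorem wval_gM (w : List L37Q.Gen) : wval gM w = QuotientGroup.mk (wval gS w) := by
  induction w with
  | nil => rfl
  | cons x w ih =>
    rw [wval_cons, wval_cons, ih]
    rfl

theorem rel_gM : ∀ e ∈ L37Q.relE, wval gM e.evalW = 1 := by
  intro e he
  rw [wval_gM, QuotientGroup.eq_one_iff]
  apply mem_center_of_isSc
  rw [coe_wval]
  exact rel_M e he

theorem gM_sq (x : L37Q.Gen) : gM x * gM x = 1 := by
  have h := rel_gM (WE.mul (WE.of x) (WE.of x))
    (List.mem_append_left _ (List.mem_map_of_mem (L37Q.mem_gens x)))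
  simpa [WE.evalW, wval] using h

theorem gM_p_ne_one : gM L37Q.Gen.p ≠ 1 := by
  intro h
  have h1 : gS L37Q.Gen.p ∈ Subgroup.center (SpecialLinearGroup (Fin 3) (ZMod 7)) :=
    (QuotientGroup.eq_one_iff _).1 h
  rw [Matrix.SpecialLinearGroup.mem_center_iff] at h1
  obtain ⟨r, -, hr⟩ := h1
  have h2 : (Matrix.scalar (Fin 3) r) 0 1 = M L37Q.Gen.p 0 1 := by
    rw [hr]; rfl
  revert h2
  simp [M]
  decide

end Cfsg.Agent.Lib.Helper56.L37Mat
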