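/-
Upper bound for the order of the presented group `L37Q` (a presentation of `L₃(7)` on four
involutions `p, q, r, s`), by helper56: coset enumerations `L37Q ≥ ⟨p, q, r⟩` (57) and, on the
sub-presentations, `⟨p, q, r⟩ ≥ ⟨p, r⟩` (2058), `⟨p, r⟩ ≥ 1` (16).
-/
import Cfsg.Agent.Lib.Helper56.PresHom
import Cfsg.Agent.Lib.Helper56.L37D.Main
import Cfsg.Agent.Lib.Helper56.L37S.Main
import Cfsg.Agent.Lib.Helper56.L37Q.Main

set_option autoImplicit false

namespace Cfsg.Agent.Lib.Helper56.L37Upper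

open Cfsg.Agent.Lib.Helper28 Cfsg.Agent.Lib.Helper28.TC Cfsg.Agent.Lib.Helper56.PresHom

/-- inclusion of generators -/
def ιDS : L37D.Gen → L37S.Gen
  | .p => .p | .r => .r

/-- inclusion of generators -/
def ιSQ : L37S.Gen → L37Q.Gen
  | .p => .p | .q => .q | .r => .r

theorem wordsDS : ∀ e ∈ L37D.relE, (e.evalW).map ιDS ∈ L37S.relWords := by decide +kernel

theorem wordsSQ : ∀ e ∈ L37S.relE, (e.evalW).map ιSQ ∈ L37Q.relWords := by decide +kernel

/-- `⟨p, r⟩` has at most 16 elements. -/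
theorem card_D : Finite (PresentedGroup L37D.rels) ∧ Nat.card (PresentedGroup L37D.rels) ≤ 16 := by
  obtain ⟨e, -, -⟩ := L37D.cosetEquiv
  have := card_le_of_regular e
    (by rintro s ⟨e, he, -⟩; exact absurd he (by simp [L37D.subE]))
  simpa [L37D.nn] using this

/-- `⟨p, q, r⟩` has at most `2058 * 16` elements. -/
theorem card_S : Finite (PresentedGroup L37S.rels) ∧
    Nat.card (PresentedGroup L37S.rels) ≤ 2058 * 16 := by
  obtain ⟨e, -, -⟩ := L37S.cosetEquiv
  obtain ⟨f, hf⟩ := exists_hom ιDS L37D.relE L37S.rels L37S.hinv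
    (fun e he => L37S.relWords_one _ (wordsDS e he))
  obtain ⟨hfin, hcard⟩ := card_D
  have hle : subH L37S.rels L37S.subS ≤ f.range := by
    apply subH_le_range ιDS f hf
    rintro s ⟨e, he, rfl⟩
    simp only [L37S.subE, List.mem_cons, List.not_mem_nil, or_false] at he
    rcases he with rfl | rfl
    · exact ⟨.p, rfl⟩
    · exact ⟨.r, rfl⟩
  have := card_le_of_quotient_equiv _ e f hle 16 hcard
  simpa [L37S.nn] using this

/-- The presented group `L37Q` is finite with at most `1876896` elements. -/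
theorem card_Q_le : Finite (PresentedGroup L37Q.rels) ∧
    Nat.card (PresentedGroup L37Q.rels) ≤ 1876896 := by
  obtain ⟨e, -, -⟩ := L37Q.cosetEquiv
  obtain ⟨f, hf⟩ := exists_hom ιSQ L37S.relE L37Q.rels L37Q.hinv
    (fun e he => L37Q.relWords_one _ (wordsSQ e he))
  obtain ⟨hfin, hcard⟩ := card_S
  have hle : subH L37Q.rels L37Q.subS ≤ f.range := by
    apply subH_le_range ιSQ f hf
    rintro s ⟨e, he, rfl⟩
    simp only [L37Q.subE, List.mem_cons, List.not_mem_nil, or_false] at he
    rcases he with rfl | rfl | rfl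
    · exact ⟨.p, rfl⟩
    · exact ⟨.q, rfl⟩
    · exact ⟨.r, rfl⟩
  have := card_le_of_quotient_equiv _ e f hle _ hcard
  simpa [L37Q.nn] using this

end Cfsg.Agent.Lib.Helper56.L37Upper
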