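/-
Upper bound for the order of the presented group `M11Q` (a presentation of the Mathieu group `M₁₁` on
three involutions `i, j, k`), by helper56: coset enumerations `M11Q ≥ ⟨i, k⟩` (660) and, on the
sub-presentation, `⟨i, k⟩ ≥ 1` (12).
-/
import Cfsg.Agent.Lib.Helper56.PresHom
import Cfsg.Agent.Lib.Helper56.M11D.Main
import Cfsg.Agent.Lib.Helper56.M11Q.Main

set_option autoImplicit false

namespace Cfsg.Agent.Lib.Helper56.M11Upper

open Cfsg.Agent.Lib.Helper28 Cfsg.Agent.Lib.Helper28.TC Cfsg.Agent.Lib.Helper56.PresHom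

/-- inclusion of generators -/
def ιDQ : M11D.Gen → M11Q.Gen
  | .i => .i | .k => .k

theorem wordsDQ : ∀ e ∈ M11D.relE, (e.evalW).map ιDQ ∈ M11Q.relWords := by decide +kernel

/-- `⟨i, k⟩` has at most 12 elements. -/
theorem card_D : Finite (PresentedGroup M11D.rels) ∧ Nat.card (PresentedGroup M11D.rels) ≤ 12 := by
  obtain ⟨e, -, -⟩ := M11D.cosetEquiv
  have := card_le_of_regular e
    (by rintro s ⟨e, he, -⟩; exact absurd he (by simp [M11D.subE]))
  simpa [M11D.nn] using this

/-- The presented group `M11Q` is finite with at most `7920` elements. -/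
theorem card_Q_le : Finite (PresentedGroup M11Q.rels) ∧
    Nat.card (PresentedGroup M11Q.rels) ≤ 7920 := by
  obtain ⟨e, -, -⟩ := M11Q.cosetEquiv
  obtain ⟨f, hf⟩ := exists_hom ιDQ M11D.relE M11Q.rels M11Q.hinv
    (fun e he => M11Q.relWords_one _ (wordsDQ e he))
  obtain ⟨hfin, hcard⟩ := card_D
  have hle : subH M11Q.rels M11Q.subS ≤ f.range := by
    apply subH_le_range ιDQ f hf
    rintro s ⟨e, he, rfl⟩
    simp only [M11Q.subE, List.mem_cons, List.not_mem_nil, or_false] at he
    rcases he with rfl | rfl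
    · exact ⟨.i, rfl⟩
    · exact ⟨.k, rfl⟩
  have := card_le_of_quotient_equiv _ e f hle _ hcard
  simpa [M11Q.nn] using this

end Cfsg.Agent.Lib.Helper56.M11Upper
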