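/-
Upper bound for the order of the presented O'Nan group, by helper56.  Coset enumerations:
`O'N ≥ ⟨a,…,f⟩` (122760, helper28's `ON122760`); on the sub-presentation on `a,…,f` (the Coxeter
relations and `a f = (c d)^4`): `≥ ⟨a,b,c,e,f⟩` (26068, `ONP`); sub-presentation on `a,b,c,e,f`
(regular, 144, `ONS`).
-/
import Cfsg.Agent.Lib.Helper56.PresHom
import Cfsg.Agent.Lib.Helper56.ONS.Main
import Cfsg.Agent.Lib.Helper56.ONP.Main
import Cfsg.Agent.Lib.Helper28.ON122760.Main

set_option autoImplicit false

namespace Cfsg.Agent.Lib.Helper56.ONUpper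

open Cfsg.Agent.Lib.Helper28 Cfsg.Agent.Lib.Helper28.TC Cfsg.Agent.Lib.Helper28.TC2
open Cfsg.Agent.Lib.Helper56.PresHom Cfsg.Spor

/-- inclusion of generators -/
def ιSP : ONS.Gen → ONP.Gen
  | .a => .a | .b => .b | .c => .c | .e => .e | .f => .f

/-- inclusion of generators -/
def ιP : ONP.Gen → ON.Gen
  | .a => .a | .b => .b | .c => .c | .d => .d | .e => .e | .f => .f

theorem wordsSP : ∀ e ∈ ONS.relE, (e.evalW).map ιSP ∈ ONP.relWords := by decide +kernel

/-- `⟨a, b, c, e, f⟩` has at most 144 elements. -/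
theorem card_S : Finite (PresentedGroup ONS.rels) ∧ Nat.card (PresentedGroup ONS.rels) ≤ 144 := by
  obtain ⟨e, -, -⟩ := ONS.cosetEquiv
  have := card_le_of_regular e
    (by rintro s ⟨e, he, -⟩; exact absurd he (by simp [ONS.subE]))
  simpa [ONS.nn] using this

/-- `⟨a, …, f⟩` has at most `26068 * 144` elements. -/
theorem card_P : Finite (PresentedGroup ONP.rels) ∧
    Nat.card (PresentedGroup ONP.rels) ≤ 26068 * 144 := by
  obtain ⟨e, -, -⟩ := ONP.cosetEquiv
  obtain ⟨f, hf⟩ := exists_hom ιSP ONS.relE ONP.rels ONP.hinv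
    (fun e he => ONP.relWords_one _ (wordsSP e he))
  obtain ⟨hfin, hcard⟩ := card_S
  have hle : subH ONP.rels ONP.subS ≤ f.range := by
    apply subH_le_range ιSP f hf
    rintro s ⟨e, he, rfl⟩
    simp only [ONP.subE, List.mem_cons, List.not_mem_nil, or_false] at he
    rcases he with rfl | rfl | rfl | rfl | rfl
    · exact ⟨.a, rfl⟩
    · exact ⟨.b, rfl⟩
    · exact ⟨.c, rfl⟩
    · exact ⟨.e, rfl⟩
    · exact ⟨.f, rfl⟩
  have := card_le_of_quotient_equiv _ e f hle 144 hcard
  simpa [ONP.nn] using this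

/-- the images of the generators of the sub-presentation in the presented O'Nan group -/
noncomputable def valP (x : ONP.Gen) : PresentedGroup ON122760.rels := PresentedGroup.of (ιP x)

theorem node_mem (x : ONP.Gen) : ιP x ∈ coxNodes ON.edges := by cases x <;> decide

theorem valP_sq (x : ONP.Gen) : valP x * valP x = 1 := by
  have h := ON122760.node_inv (ιP x) (node_mem x)
  unfold valP
  nth_rewrite 1 [← h]
  exact inv_mul_cancel _

/-- every relator of the sub-presentation is a Coxeter relator or one of the further relators -/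
theorem wordsP : ∀ e ∈ ONP.relE,
    (∃ x ∈ ONP.gens, ∃ y ∈ ONP.gens,
      e.evalW = (List.replicate (coxLabel ON.edges (ιP x) (ιP y)) [x, y]).flatten) ∨
    (∃ e' ∈ ON122760.relE,
      (e.evalW).map (fun x => ON122760.emb (ιP x)) = evalW2 ON122760.emb ON122760.binv e') := by
  decide +kernel

theorem cox_one (x y : ONP.Gen) :
    (valP x * valP y) ^ coxLabel ON.edges (ιP x) (ιP y) = 1 := by
  have h : (FreeGroup.of (ιP x) * FreeGroup.of (ιP y)) ^ coxLabel ON.edges (ιP x) (ιP y) ∈
      ON122760.rels := Or.inl ⟨ιP x, node_mem x, ιP y, node_mem y, rfl⟩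
  have h2 := PresentedGroup.one_of_mem h
  rw [map_pow, map_mul] at h2
  exact h2

theorem relP_one : ∀ e ∈ ONP.relE, wval valP e.evalW = 1 := by
  intro e he
  rcases wordsP e he with ⟨x, -, y, -, h⟩ | ⟨e', he', h⟩
  · rw [h, WE.wval_replicate_flatten]
    have : wval valP [x, y] = valP x * valP y := by simp [wval]
    rw [this]
    exact cox_one x y
  · have h1 : wval valP e.evalW =
        wval ON122760.val ((e.evalW).map (fun x => ON122760.emb (ιP x))) := by
      rw [← wval_map]
      rfl
    rw [h1, h]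
    exact wval_eq_one_of_rel ON122760.emb ON122760.binv ON122760.val ON122760.hval ON122760.hbv e'
      (ON122760.relE_mem e' he')

/-- The presented O'Nan group is finite with at most `460815505920` elements. -/
theorem card_ON_le : Finite (PresentedGroup ON122760.rels) ∧
    Nat.card (PresentedGroup ON122760.rels) ≤ 460815505920 := by
  obtain ⟨e, -, -⟩ := ON122760.cosetEquiv
  obtain ⟨f, hf⟩ := exists_hom_to ONP.relE valP valP_sq relP_one
  obtain ⟨hfin, hcard⟩ := card_P
  have hle : subH ON122760.rels ON122760.subS ≤ f.range := by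
    apply subH_le_range ιP f hf
    intro s hs
    simp only [ON122760.subS, Set.mem_insert_iff, Set.mem_singleton_iff] at hs
    rcases hs with rfl | rfl | rfl | rfl | rfl | rfl
    · exact ⟨.a, rfl⟩
    · exact ⟨.b, rfl⟩
    · exact ⟨.c, rfl⟩
    · exact ⟨.d, rfl⟩
    · exact ⟨.e, rfl⟩
    · exact ⟨.f, rfl⟩
  have := card_le_of_quotient_equiv _ e f hle _ hcard
  simpa [ON122760.nn] using this

end Cfsg.Agent.Lib.Helper56.ONUpper
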