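/-
The image of a simple group under an injective homomorphism is simple of the same order, by helper56.
-/
import Mathlib

set_option autoImplicit false

namespace Cfsg.Agent.Lib.Helper56

theorem range_simple_card {Q G : Type*} [Group Q] [Group G] (θ : Q →* G)
    (hinj : Function.Injective θ) (hs : IsSimpleGroup Q) (n : ℕ) (hc : Nat.card Q = n) :
    IsSimpleGroup θ.range ∧ Nat.card θ.range = n := by
  have e : Q ≃* θ.range := MonoidHom.ofInjective hinj
  refine ⟨e.symm.isSimpleGroup, ?_⟩
  rw [← hc]
  exact (Nat.card_congr e.toEquiv).symm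

theorem injective_of_simple_ne_one {G L : Type*} [Group G] [Group L] [IsSimpleGroup G] (f : G →* L)
    (g : G) (hg : f g ≠ 1) : Function.Injective f := by
  rw [← MonoidHom.ker_eq_bot_iff]
  rcases IsSimpleGroup.eq_bot_or_eq_top_of_normal f.ker f.normal_ker with h | h
  · exact h
  · exfalso
    apply hg
    have h1 : g ∈ f.ker := h ▸ Subgroup.mem_top g
    exact MonoidHom.mem_ker.1 h1

end Cfsg.Agent.Lib.Helper56
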