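/-
The O'Nan group as a transitive permutation group of degree 122760 with point stabiliser of order
3753792, containing simple subgroups of orders 175560 (`J₁`) and 7920 (`M₁₁`), by helper56
(from `ONPerm`, `ONJ1`, `ONM11`).
-/
import Cfsg.Agent.Lib.Helper56.ONJ1.Main
import Cfsg.Agent.Lib.Helper56.ONM11.Main
import Cfsg.Agent.Lib.Helper56.RangeSimple

set_option autoImplicit false

namespace Cfsg.Agent.Lib.Helper56.ONPermSub

open Cfsg.Agent.Lib.Helper28 Cfsg.Agent.Lib.Helper28.TC Cfsg.Agent.Lib.Helper28.TC2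
open Cfsg.Agent.Lib.Helper28.ON122760 Cfsg.Agent.Lib.Helper56.ONPerm
open Cfsg.Spor.ON (Gen)
open MulAction

/-- the permutation group, on `Fin 122760` -/
noncomputable def G0 : Subgroup (Equiv.Perm (Fin 122760)) := ONPerm.Gh

theorem simple_G0 : IsSimpleGroup G0 := ONPerm.simple_Gh

theorem card_G0 : Nat.card G0 = 460815505920 := ONPerm.card_Gh

theorem root0 : OC0.root < nn := by decide

theorem root0_eq : (⟨OC0.root, root0⟩ : Fin nn) = (0 : Fin 122760) := Fin.ext (by decide)

theorem exists_mem (c : Fin 122760) : ∃ g ∈ G0, g (0 : Fin 122760) = c := by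
  have horb0 := ONPerm.orbit_eq words0 OC0 root0 orb0_root orbP0_all
  have hcardX : Fintype.card (Fin nn) = 122760 := by rw [Fintype.card_fin]; rfl
  have huniv : oset OC0 = Set.univ := by
    apply Set.eq_of_subset_of_ncard_le (Set.subset_univ _) _ (Set.toFinite _)
    rw [oset_ncard OC0 122760 orb0_count, Set.ncard_univ, Nat.card_eq_fintype_card, hcardX]
  have hc : c ∈ orbit (Subgroup.closure (TC2Orbit.wordPerms2 T words0))
      (⟨OC0.root, root0⟩ : Fin nn) := by
    rw [horb0, huniv]; trivial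
  obtain ⟨⟨g, hg⟩, hgc⟩ := hc
  refine ⟨g, hg, ?_⟩
  have h1 : g (⟨OC0.root, root0⟩ : Fin nn) = c := hgc
  exact (congrArg g root0_eq.symm).trans h1

theorem pretransitive : IsPretransitive G0 (Fin 122760) := by
  refine ⟨fun a b => ?_⟩
  obtain ⟨g, hg, hga⟩ := exists_mem a
  obtain ⟨g', hg', hgb⟩ := exists_mem b
  refine ⟨⟨g' * g⁻¹, G0.mul_mem hg' (G0.inv_mem hg)⟩, ?_⟩
  show (g' * g⁻¹) a = b
  have h5 : g⁻¹ a = (0 : Fin 122760) := Equiv.Perm.inv_eq_iff_eq.mpr hga.symm
  rw [Equiv.Perm.mul_apply, h5, hgb]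

/-- the point stabiliser -/
noncomputable abbrev S0 : Subgroup G0 := stabilizer G0 (0 : Fin 122760)

theorem card_S0 : Nat.card S0 = 3753792 := by
  have := pretransitive
  have h1 : S0.index = 122760 := by
    rw [index_stabilizer, orbit_eq_univ]
    simp
  have h2 : Nat.card S0 * S0.index = Nat.card G0 := Subgroup.card_mul_index S0
  rw [h1, card_G0] at h2
  have h3 : Nat.card S0 * 122760 = 3753792 * 122760 := h2.trans (by norm_num)
  exact Nat.eq_of_mul_eq_mul_right (by norm_num) h3

/-- the faithful permutation representation, into `G0` -/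
noncomputable def π' : PresentedGroup ON122760.rels →* G0 := ONPerm.π.codRestrict G0 ONPerm.π_mem

theorem π'_injective : Function.Injective π' := by
  intro x y hxy
  exact ONPerm.π_injective (congrArg Subtype.val hxy)

/-- `G0` contains a simple subgroup of order 175560. -/
theorem exists_J1 : ∃ K : Subgroup G0, IsSimpleGroup K ∧ Nat.card K = 175560 := by
  obtain ⟨hsimple, hcardQ⟩ := J1Perm.j1q_simple_order
  obtain ⟨φ, hφ⟩ := ONJ1.exists_φ
  have hφinj : Function.Injective φ :=
    injective_of_simple_ne_one φ (PresentedGroup.of J1Q.Gen.p)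
      (by rw [hφ]; exact ONJ1.valQ_p_ne_one)
  exact ⟨(π'.comp φ).range,
    range_simple_card (π'.comp φ) (π'_injective.comp hφinj) hsimple _ hcardQ⟩

/-- `G0` contains a simple subgroup of order 7920. -/
theorem exists_M11 : ∃ K : Subgroup G0, IsSimpleGroup K ∧ Nat.card K = 7920 := by
  obtain ⟨hsimple, hcardQ⟩ := M11Perm.m11q_simple_order
  obtain ⟨φ, hφ⟩ := ONM11.exists_φ
  have hφinj : Function.Injective φ :=
    injective_of_simple_ne_one φ (PresentedGroup.of M11Q.Gen.i)
      (by rw [hφ]; exact ONM11.valQ_i_ne_one)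
  exact ⟨(π'.comp φ).range,
    range_simple_card (π'.comp φ) (π'_injective.comp hφinj) hsimple _ hcardQ⟩

end Cfsg.Agent.Lib.Helper56.ONPermSub
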