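/-
Upper bound for the order of the presented group `RuT` (a presentation of the Tits group
`²F₄(2)'` on six involutions `a, …, f`), by helper56: coset enumerations `RuT ≥ ⟨a, …, e⟩` (2304),
and, on the sub-presentations, `⟨a, …, e⟩ ≥ ⟨a, b, c, d⟩` (65) (a presentation of `L₂(25)` over
`S₅`) and `⟨a, b, c, d⟩ ≥ 1` (120).
-/
import Cfsg.Agent.Lib.Helper56.PresHom
import Cfsg.Agent.Lib.Helper56.RuA.Main
import Cfsg.Agent.Lib.Helper56.RuK.Main
import Cfsg.Agent.Lib.Helper56.RuT.Main

set_option autoImplicit false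

namespace Cfsg.Agent.Lib.Helper56.RuTUpper

open Cfsg.Agent.Lib.Helper28 Cfsg.Agent.Lib.Helper28.TC Cfsg.Agent.Lib.Helper56.PresHom

/-- inclusion of generators -/
def ιAK : RuA.Gen → RuK.Gen
  | .a => .a | .b => .b | .c => .c | .d => .d

/-- inclusion of generators -/
def ιKT : RuK.Gen → RuT.Gen
  | .a => .a | .b => .b | .c => .c | .d => .d | .e => .e

theorem wordsAK : ∀ e ∈ RuA.relE, (e.evalW).map ιAK ∈ RuK.relWords := by decide +kernel

theorem wordsKT : ∀ e ∈ RuK.relE, (e.evalW).map ιKT ∈ RuT.relWords := by decide +kernel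

/-- `⟨a, b, c, d⟩` has at most 120 elements. -/
theorem card_A : Finite (PresentedGroup RuA.rels) ∧ Nat.card (PresentedGroup RuA.rels) ≤ 120 := by
  obtain ⟨e, -, -⟩ := RuA.cosetEquiv
  have := card_le_of_regular e
    (by rintro s ⟨e, he, -⟩; exact absurd he (by simp [RuA.subE]))
  simpa [RuA.nn] using this

/-- `⟨a, …, e⟩` has at most `65 * 120` elements. -/
theorem card_K : Finite (PresentedGroup RuK.rels) ∧
    Nat.card (PresentedGroup RuK.rels) ≤ 65 * 120 := by
  obtain ⟨e, -, -⟩ := RuK.cosetEquiv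
  obtain ⟨f, hf⟩ := exists_hom ιAK RuA.relE RuK.rels RuK.hinv
    (fun e he => RuK.relWords_one _ (wordsAK e he))
  obtain ⟨hfin, hcard⟩ := card_A
  have hle : subH RuK.rels RuK.subS ≤ f.range := by
    apply subH_le_range ιAK f hf
    rintro s ⟨e, he, rfl⟩
    simp only [RuK.subE, List.mem_cons, List.not_mem_nil, or_false] at he
    rcases he with rfl | rfl | rfl | rfl
    · exact ⟨.a, rfl⟩
    · exact ⟨.b, rfl⟩
    · exact ⟨.c, rfl⟩
    · exact ⟨.d, rfl⟩
  have := card_le_of_quotient_equiv _ e f hle 120 hcard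
  simpa [RuK.nn] using this

/-- The presented group `RuT` is finite with at most `17971200` elements. -/
theorem card_T_le : Finite (PresentedGroup RuT.rels) ∧
    Nat.card (PresentedGroup RuT.rels) ≤ 17971200 := by
  obtain ⟨e, -, -⟩ := RuT.cosetEquiv
  obtain ⟨f, hf⟩ := exists_hom ιKT RuK.relE RuT.rels RuT.hinv
    (fun e he => RuT.relWords_one _ (wordsKT e he))
  obtain ⟨hfin, hcard⟩ := card_K
  have hle : subH RuT.rels RuT.subS ≤ f.range := by
    apply subH_le_range ιKT f hf
    rintro s ⟨e, he, rfl⟩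
    simp only [RuT.subE, List.mem_cons, List.not_mem_nil, or_false] at he
    rcases he with rfl | rfl | rfl | rfl | rfl
    · exact ⟨.a, rfl⟩
    · exact ⟨.b, rfl⟩
    · exact ⟨.c, rfl⟩
    · exact ⟨.d, rfl⟩
    · exact ⟨.e, rfl⟩
  have := card_le_of_quotient_equiv _ e f hle _ hcard
  simpa [RuT.nn] using this

end Cfsg.Agent.Lib.Helper56.RuTUpper
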