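/-
Upper bound for the order of the presented group `RuQ` (a presentation of the Rudvalis group on
seven involutions `a, …, g`), by helper56: coset enumeration `RuQ ≥ ⟨a, …, f⟩` (8120) and the
bound `RuTUpper.card_T_le` for the sub-presentation `RuT` (the Tits group).
-/
import Cfsg.Agent.Lib.Helper56.RuTUpper
import Cfsg.Agent.Lib.Helper56.RuQ.Main

set_option autoImplicit false

namespace Cfsg.Agent.Lib.Helper56.RuUpper

open Cfsg.Agent.Lib.Helper28 Cfsg.Agent.Lib.Helper28.TC Cfsg.Agent.Lib.Helper56.PresHom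

/-- inclusion of generators -/
def ιTQ : RuT.Gen → RuQ.Gen
  | .a => .a | .b => .b | .c => .c | .d => .d | .e => .e | .f => .f

theorem wordsTQ : ∀ e ∈ RuT.relE, (e.evalW).map ιTQ ∈ RuQ.relWords := by decide +kernel

/-- the homomorphism from the presented Tits group to the presented Rudvalis group -/
theorem exists_φ : ∃ φ : PresentedGroup RuT.rels →* PresentedGroup RuQ.rels,
    ∀ x, φ (PresentedGroup.of x) = pval RuQ.rels (ιTQ x) :=
  exists_hom ιTQ RuT.relE RuQ.rels RuQ.hinv (fun e he => RuQ.relWords_one _ (wordsTQ e he))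

/-- The presented group `RuQ` is finite with at most `145926144000` elements. -/
theorem card_Q_le : Finite (PresentedGroup RuQ.rels) ∧
    Nat.card (PresentedGroup RuQ.rels) ≤ 145926144000 := by
  obtain ⟨e, -, -⟩ := RuQ.cosetEquiv
  obtain ⟨f, hf⟩ := exists_hom ιTQ RuT.relE RuQ.rels RuQ.hinv
    (fun e he => RuQ.relWords_one _ (wordsTQ e he))
  obtain ⟨hfin, hcard⟩ := RuTUpper.card_T_le
  have hle : subH RuQ.rels RuQ.subS ≤ f.range := by
    apply subH_le_range ιTQ f hf
    rintro s ⟨e, he, rfl⟩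
    simp only [RuQ.subE, List.mem_cons, List.not_mem_nil, or_false] at he
    rcases he with rfl | rfl | rfl | rfl | rfl | rfl
    · exact ⟨.a, rfl⟩
    · exact ⟨.b, rfl⟩
    · exact ⟨.c, rfl⟩
    · exact ⟨.d, rfl⟩
    · exact ⟨.e, rfl⟩
    · exact ⟨.f, rfl⟩
  have := card_le_of_quotient_equiv _ e f hle _ hcard
  simpa [RuQ.nn] using this

end Cfsg.Agent.Lib.Helper56.RuUpper
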