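/-
The Rudvalis group as a transitive permutation group of degree 4060 with point stabiliser of order
35942400, the stabiliser containing a simple subgroup of order 17971200 (the Tits group), by helper56
(from `RuPerm`, `RuTPerm`).
-/
import Cfsg.Agent.Lib.Helper56.RuPerm.Main
import Cfsg.Agent.Lib.Helper56.RuTPerm.Main
import Cfsg.Agent.Lib.Helper56.RangeSimple

set_option autoImplicit false

namespace Cfsg.Agent.Lib.Helper56.RuPermSub

open Cfsg.Agent.Lib.Helper28 Cfsg.Agent.Lib.Helper28.TC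
open Cfsg.Agent.Lib.Helper56.RuR Cfsg.Agent.Lib.Helper56.RuPerm
open Cfsg.Agent.Lib.Helper56.RuQ (Gen)
open MulAction

/-- the permutation group, on `Fin 4060` -/
noncomputable def G0 : Subgroup (Equiv.Perm (Fin 4060)) := RuPerm.Gh

theorem simple_G0 : IsSimpleGroup G0 := RuPerm.simple_Gh

theorem card_G0 : Nat.card G0 = 145926144000 := RuPerm.card_Gh

theorem root0 : OC0.root < nn := by decide

theorem root0_eq : (⟨OC0.root, root0⟩ : Fin nn) = (0 : Fin 4060) := Fin.ext (by decide)

theorem exists_mem (c : Fin 4060) : ∃ g ∈ G0, g (0 : Fin 4060) = c := by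
  have horb0 := RuPerm.orbit_eq words0 OC0 root0 orb0_root orbP0_all
  have hcardX : Fintype.card (Fin nn) = 4060 := by rw [Fintype.card_fin]; rfl
  have huniv : oset OC0 = Set.univ := by
    apply Set.eq_of_subset_of_ncard_le (Set.subset_univ _) _ (Set.toFinite _)
    rw [oset_ncard OC0 4060 orb0_count, Set.ncard_univ, Nat.card_eq_fintype_card, hcardX]
  have hc : c ∈ orbit (Subgroup.closure (wordPerms T words0))
      (⟨OC0.root, root0⟩ : Fin nn) := by
    rw [horb0, huniv]; trivial
  obtain ⟨⟨g, hg⟩, hgc⟩ := hc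
  refine ⟨g, hg, ?_⟩
  have h1 : g (⟨OC0.root, root0⟩ : Fin nn) = c := hgc
  exact (congrArg g root0_eq.symm).trans h1

theorem pretransitive : IsPretransitive G0 (Fin 4060) := by
  refine ⟨fun a b => ?_⟩
  obtain ⟨g, hg, hga⟩ := exists_mem a
  obtain ⟨g', hg', hgb⟩ := exists_mem b
  refine ⟨⟨g' * g⁻¹, G0.mul_mem hg' (G0.inv_mem hg)⟩, ?_⟩
  show (g' * g⁻¹) a = b
  have h5 : g⁻¹ a = (0 : Fin 4060) := Equiv.Perm.inv_eq_iff_eq.mpr hga.symm
  rw [Equiv.Perm.mul_apply, h5, hgb]

/-- the point stabiliser -/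
noncomputable abbrev S0 : Subgroup G0 := stabilizer G0 (0 : Fin 4060)

theorem card_S0 : Nat.card S0 = 35942400 := by
  have := pretransitive
  have h1 : S0.index = 4060 := by
    rw [index_stabilizer, orbit_eq_univ]
    simp
  have h2 : Nat.card S0 * S0.index = Nat.card G0 := Subgroup.card_mul_index S0
  rw [h1, card_G0] at h2
  have h3 : Nat.card S0 * 4060 = 35942400 * 4060 := h2.trans (by norm_num)
  exact Nat.eq_of_mul_eq_mul_right (by norm_num) h3

/-- the faithful permutation representation, into `G0` -/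
noncomputable def π' : PresentedGroup RuQ.rels →* G0 := RuPerm.π.codRestrict G0 RuPerm.π_mem

theorem π'_injective : Function.Injective π' := by
  intro x y hxy
  exact RuPerm.π_injective (congrArg Subtype.val hxy)

/-- the generators of the Tits subgroup fix the point `0` -/
theorem perm_fix (x : RuT.Gen) :
    T.perm (RuUpper.ιTQ x) (⟨0, nn_pos⟩ : Fin nn) = ⟨0, nn_pos⟩ := by
  have h : FreeGroup.of (RuUpper.ιTQ x) ∈ subS := by
    refine ⟨WE.of (RuUpper.ιTQ x), ?_, rfl⟩
    cases x <;> simp [RuR.subE, RuUpper.ιTQ]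
  have := hsub _ h
  simpa using this

/-- `S0` contains a simple subgroup of order 17971200. -/
theorem exists_Tits : ∃ K : Subgroup S0, IsSimpleGroup K ∧ Nat.card K = 17971200 := by
  obtain ⟨hsimple, hcardQ⟩ := RuTPerm.rut_simple_order
  obtain ⟨φ, hφ⟩ := RuUpper.exists_φ
  have hmem : ∀ y : PresentedGroup RuT.rels, π' (φ y) ∈ S0 := by
    have hle : (π'.comp φ).range ≤ S0 := by
      rw [MonoidHom.range_eq_map, ← PresentedGroup.closure_range_of, MonoidHom.map_closure,
        Subgroup.closure_le]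
      rintro _ ⟨_, ⟨x, rfl⟩, rfl⟩
      show π' (φ (PresentedGroup.of x)) ∈ S0
      rw [hφ]
      apply mem_stabilizer_iff.2
      show (RuPerm.π (pval RuQ.rels (RuUpper.ιTQ x))) (⟨0, nn_pos⟩ : Fin nn) = ⟨0, nn_pos⟩
      have h1 : RuPerm.π (pval RuQ.rels (RuUpper.ιTQ x)) = T.perm (RuUpper.ιTQ x) :=
        RuPerm.π_of _
      rw [h1]
      exact perm_fix x
    intro y
    exact hle ⟨y, rfl⟩
  let ψ : PresentedGroup RuT.rels →* S0 := (π'.comp φ).codRestrict S0 hmem
  have hne : ψ (PresentedGroup.of RuT.Gen.a) ≠ 1 := by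
    intro h
    have h1 : π' (φ (PresentedGroup.of RuT.Gen.a)) = 1 := congrArg Subtype.val h
    rw [hφ] at h1
    have h2 : RuPerm.π (pval RuQ.rels (RuUpper.ιTQ RuT.Gen.a)) = 1 := congrArg Subtype.val h1
    have h3 : RuPerm.π (pval RuQ.rels (RuUpper.ιTQ RuT.Gen.a)) = T.perm Gen.a := RuPerm.π_of _
    rw [h3] at h2
    have h4 : (T.perm Gen.a (⟨6, by decide⟩ : Fin nn)).val = tf Gen.a 6 := rfl
    rw [h2] at h4
    have h5 : tf Gen.a 6 = 11 := by decide +kernel
    rw [h5] at h4
    exact absurd h4 (by decide)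
  have hψinj : Function.Injective ψ := injective_of_simple_ne_one ψ _ hne
  exact ⟨ψ.range, range_simple_card ψ hψinj hsimple _ hcardQ⟩

end Cfsg.Agent.Lib.Helper56.RuPermSub
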