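/-
Stabilizer chains with certificates (a verified form of Schreier–Sims), by helper56.

`chain_step` is Schreier's lemma in "certificate" form: given a set `S` of generators of a finite
group acting on `X`, a base point `b`, a candidate orbit `O`, a transversal `u : X → G` and a
subgroup `K` fixing `b`, such that every Schreier generator `(u (s • β))⁻¹ * s * u β` lies in `K`
(stated inverse-free: `s * u β = u (s • β) * k` with `k ∈ K`), every element `g` of `closure S`
has `g • b ∈ O` and `g = u (g • b) * k` with `k ∈ K`.  Consequently the stabilizer of `b` in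
`closure S` is `K` and `|closure S| = |O| * |K|`.
-/
import Mathlib

set_option autoImplicit false

namespace Cfsg.Agent.Lib.Helper56

open MulAction

section chain

variable {G X : Type*} [Group G] [MulAction G X]

/-- One step of a stabilizer chain (Schreier's lemma in certificate form). -/
theorem chain_step [Finite G] (S : Set G) (K : Subgroup G) (b : X) (O : Set X) (u : X → G)
    (hb : b ∈ O) (hub : u b = 1)
    (hS : ∀ s ∈ S, ∀ β ∈ O, s • β ∈ O ∧ ∃ k ∈ K, s * u β = u (s • β) * k)
    (g : G) (hg : g ∈ Subgroup.closure S) :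
    g • b ∈ O ∧ ∃ k ∈ K, g = u (g • b) * k := by
  rw [← Subgroup.mem_toSubmonoid, Subgroup.closure_toSubmonoid_of_finite] at hg
  induction hg using Submonoid.closure_induction_left with
  | one =>
    rw [one_smul]
    exact ⟨hb, 1, K.one_mem, by rw [hub, mul_one]⟩
  | mul_left s hs y _ ih =>
    obtain ⟨hβ, k, hk, hy⟩ := ih
    obtain ⟨hsβ, k', hk', hs'⟩ := hS s hs _ hβ
    rw [mul_smul]
    refine ⟨hsβ, k' * k, K.mul_mem hk' hk, ?_⟩
    calc s * y = s * (u (y • b) * k) := by rw [← hy]
      _ = (s * u (y • b)) * k := by rw [mul_assoc]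
      _ = u (s • y • b) * (k' * k) := by rw [hs', mul_assoc]

/-- The stabilizer of the base point in `closure S` is `K`. -/
theorem chain_stabilizer [Finite G] (S : Set G) (K : Subgroup G) (b : X) (O : Set X) (u : X → G)
    (hb : b ∈ O) (hub : u b = 1)
    (hS : ∀ s ∈ S, ∀ β ∈ O, s • β ∈ O ∧ ∃ k ∈ K, s * u β = u (s • β) * k)
    (hK1 : K ≤ Subgroup.closure S) (hK2 : ∀ k ∈ K, k • b = b) :
    Subgroup.closure S ⊓ stabilizer G b = K := by
  apply le_antisymm
  · rintro g ⟨hg, hgb⟩
    obtain ⟨-, k, hk, hgk⟩ := chain_step S K b O u hb hub hS g hg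
    have hgb' : g • b = b := hgb
    rw [hgb', hub, one_mul] at hgk
    rw [hgk]; exact hk
  · intro k hk
    exact ⟨hK1 hk, hK2 k hk⟩

/-- `|closure S| = |O| * |K|`. -/
theorem chain_card [Finite G] (S : Set G) (K : Subgroup G) (b : X) (O : Set X) (u : X → G)
    (hb : b ∈ O) (hub : u b = 1)
    (hu : ∀ β ∈ O, u β ∈ Subgroup.closure S ∧ u β • b = β)
    (hS : ∀ s ∈ S, ∀ β ∈ O, s • β ∈ O ∧ ∃ k ∈ K, s * u β = u (s • β) * k)
    (hK1 : K ≤ Subgroup.closure S) (hK2 : ∀ k ∈ K, k • b = b) :
    Nat.card (Subgroup.closure S) = Nat.card O * Nat.card K := by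
  rw [← Nat.card_prod]
  have key := chain_step S K b O u hb hub hS
  have hmemK : ∀ g ∈ Subgroup.closure S, (u (g • b))⁻¹ * g ∈ K := by
    intro g hg
    obtain ⟨-, k, hk, hgk⟩ := key g hg
    have : (u (g • b))⁻¹ * g = k := by
      nth_rewrite 2 [hgk]
      rw [inv_mul_cancel_left]
    rw [this]; exact hk
  refine Nat.card_congr
    { toFun := fun g => (⟨(g : G) • b, (key g g.2).1⟩, ⟨(u ((g : G) • b))⁻¹ * g, hmemK g g.2⟩)
      invFun := fun p => ⟨u p.1 * p.2,
        (Subgroup.closure S).mul_mem (hu p.1 p.1.2).1 (hK1 p.2.2)⟩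
      left_inv := ?_
      right_inv := ?_ }
  · intro g
    apply Subtype.ext
    simp
  · rintro ⟨⟨β, hβ⟩, ⟨k, hk⟩⟩
    have h1 : (u β * k) • b = β := by rw [mul_smul, hK2 k hk, (hu β hβ).2]
    apply Prod.ext
    · apply Subtype.ext
      exact h1
    · apply Subtype.ext
      simp only
      rw [h1, inv_mul_cancel_left]

end chain

section words

variable {G ι : Type*} [Group G]

/-- Evaluate a word in the generators. -/
def evalWord (gen : ι → G) (l : List ι) : G := (l.map gen).prod

theorem evalWord_nil (gen : ι → G) : evalWord gen [] = 1 := rfl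

theorem evalWord_cons (gen : ι → G) (j : ι) (l : List ι) :
    evalWord gen (j :: l) = gen j * evalWord gen l := by
  simp [evalWord]

theorem evalWord_append (gen : ι → G) (l l' : List ι) :
    evalWord gen (l ++ l') = evalWord gen l * evalWord gen l' := by
  simp [evalWord]

theorem evalWord_mem (gen : ι → G) (H : Subgroup G) (l : List ι) (h : ∀ j ∈ l, gen j ∈ H) :
    evalWord gen l ∈ H := by
  apply Subgroup.list_prod_mem
  intro x hx
  obtain ⟨j, hj, rfl⟩ := List.mem_map.mp hx
  exact h j hj

end words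

end Cfsg.Agent.Lib.Helper56
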