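import Cfsg.Agent.Lib.Helper85.Suz2Defs

/-!
# SUZ2 module [C1]: the case `Nsub P` nonabelian (helper56)

Port of helper19's `SuzHyp.class2_of_N_nonabelian` to the hypothesis package `SHyp` of helper85
(solvable transitive automorphism group).  The only new ingredient is that the centre of a
nonabelian `Nsub P` equals `Z0 P`, proved directly from transitivity.
-/

set_option autoImplicit false
set_option linter.style.haveILetI false

namespace Cfsg.Agent.Lib.Helper56.Suz2

open Cfsg.Agent.Lib.Helper19.Suz Cfsg.Agent.Lib.Helper85.Suz2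

universe u

variable {P : Type u} [Group P] {Y : Subgroup (MulAut P)}

/-- the centre of a nonabelian `Nsub P` has exponent two -/
theorem SHyp.Nsub_center_sq (h : SHyp P Y)
    (hN : ∃ x ∈ Nsub P, ∃ y ∈ Nsub P, x * y ≠ y * x) :
    ∀ z ∈ Nsub P, (∀ g ∈ Nsub P, g * z = z * g) → z * z = 1 := by
  intro c hc hcen
  by_contra hc2
  -- `c * c` is an involution
  have hcc : c * c ∈ Z0 P := (mem_Nsub.mp hc).1
  have hcc2 : (c * c) * (c * c) = 1 := hcc.2
  -- every involution is the square of an element of the centre of `Nsub P`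
  have hsq : ∀ w : P, w ≠ 1 → w * w = 1 →
      ∃ d ∈ Nsub P, (∀ g ∈ Nsub P, g * d = d * g) ∧ d * d = w := by
    intro w hw1 hw2
    obtain ⟨k, -, hk⟩ := h.trans (c * c) w hc2 hcc2 hw1 hw2
    refine ⟨k c, aut_mem_Nsub k hc, ?_, ?_⟩
    · intro g hg
      have hg' : k⁻¹ g ∈ Nsub P := aut_mem_Nsub k⁻¹ hg
      have e := hcen (k⁻¹ g) hg'
      have e2 := congrArg k e
      rw [map_mul, map_mul] at e2
      simpa using e2
    · rw [← map_mul]; exact hk
  -- hence `Nsub P` is abelian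
  have hab : ∀ x ∈ Nsub P, ∀ g ∈ Nsub P, g * x = x * g := by
    intro x hx g hg
    have hxx : x * x ∈ Z0 P := (mem_Nsub.mp hx).1
    by_cases hx2 : x * x = 1
    · have hxc : x ∈ Subgroup.center P := h.sq_one_central hx2
      exact Subgroup.mem_center_iff.mp hxc g
    · obtain ⟨d, hd, hdcen, hdd⟩ := hsq (x * x) hx2 hxx.2
      -- `x * d⁻¹` has square one
      have hxd : x * d = d * x := hdcen x hx
      have hsq1 : (x * d⁻¹) * (x * d⁻¹) = 1 := by
        have e1 : d⁻¹ * x = x * d⁻¹ := by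
          have : d⁻¹ * x = d⁻¹ * (x * d) * d⁻¹ := by group
          rw [this, hxd]; group
        calc (x * d⁻¹) * (x * d⁻¹) = x * (d⁻¹ * x) * d⁻¹ := by group
          _ = x * (x * d⁻¹) * d⁻¹ := by rw [e1]
          _ = (x * x) * (d * d)⁻¹ := by group
          _ = 1 := by rw [hdd]; group
      have hc' : x * d⁻¹ ∈ Subgroup.center P := h.sq_one_central hsq1
      have hgc : g * (x * d⁻¹) = (x * d⁻¹) * g := Subgroup.mem_center_iff.mp hc' g
      have hgd : g * d = d * g := hdcen g hg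
      calc g * x = g * (x * d⁻¹) * d := by group
        _ = (x * d⁻¹) * g * d := by rw [hgc]
        _ = (x * d⁻¹) * (g * d) := by group
        _ = (x * d⁻¹) * (d * g) := by rw [hgd]
        _ = x * g := by group
  obtain ⟨x, hx, y, hy, hxy⟩ := hN
  exact hxy (hab y hy x hx)

/-- [C1] if `N` is nonabelian then `P/Z` is elementary abelian -/
theorem SHyp.four_of_N_nonabelian (h : SHyp P Y)
    (hN : ∃ x ∈ Nsub P, ∃ y ∈ Nsub P, x * y ≠ y * x) :
    (∀ x : P, x * x ∈ Z0 P) ∧ (∀ x y : P, x⁻¹ * y⁻¹ * x * y ∈ Z0 P) := by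
  haveI := h.fin
  -- the centre of `N` is `Z`
  have hZN : ∀ z ∈ Nsub P, (∀ g ∈ Nsub P, g * z = z * g) → z ∈ Z0 P := by
    intro z hz hcen
    exact h.mem_Z0_iff.mpr (SHyp.Nsub_center_sq h hN z hz hcen)
  -- the centraliser of `N` is `Z`
  have hCN : ∀ d : P, (∀ g ∈ Nsub P, g * d = d * g) → d ∈ Z0 P := by
    intro d hd
    by_contra hdZ
    let D : Subgroup P := Subgroup.centralizer (Nsub P : Set P)
    have hdD : d ∈ D := by
      rw [Subgroup.mem_centralizer_iff]
      intro g hg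
      exact hd g hg
    let Dbar : Subgroup (P ⧸ Z0 P) := D.map (QuotientGroup.mk' (Z0 P))
    haveI : Dbar.Normal := Subgroup.Normal.map inferInstance _ (QuotientGroup.mk'_surjective _)
    have hDbar : Dbar ≠ ⊥ := by
      intro e
      have : (QuotientGroup.mk d : P ⧸ Z0 P) ∈ Dbar := ⟨d, hdD, rfl⟩
      rw [e, Subgroup.mem_bot, mk_eq_one_iff] at this
      exact hdZ this
    obtain ⟨b, hbD, hb1, hbc, hb2⟩ := normal_meets_center (h.pgrp.to_quotient (Z0 P)) Dbar hDbar
    obtain ⟨d', hd'D, rfl⟩ := hbD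
    have hd'N : d' ∈ Nsub P := ⟨hbc, hb2⟩
    have hd'Z : d' ∈ Z0 P := by
      apply hZN d' hd'N
      intro g hg
      exact (Subgroup.mem_centralizer_iff.mp hd'D) g hg
    exact hb1 (mk_eq_one_iff.mpr hd'Z)
  -- commutators with elements of `N`
  have hcN : ∀ a ∈ Nsub P, ∀ g : P, a⁻¹ * g⁻¹ * a * g ∈ Z0 P := fun a ha g => (mem_Nsub.mp ha).2 g
  have hcent : ∀ z ∈ Z0 P, ∀ g : P, g * z = z * g := fun z hz g =>
    Subgroup.mem_center_iff.mp hz.1 g
  -- `g` commutes with `a` iff the commutator is trivial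
  have hcomm_iff : ∀ a g : P, a⁻¹ * g⁻¹ * a * g = 1 → a * g = g * a := by
    intro a g e
    have : a * g = g * a * (a⁻¹ * g⁻¹ * a * g) := by group
    rw [this, e, mul_one]
  have hexp : ∀ z ∈ Z0 P, z * z = 1 := fun z hz => hz.2
  refine ⟨?_, ?_⟩
  · intro x
    apply hCN
    intro a ha
    apply hcomm_iff
    -- [a, x*x] = [a,x] * x⁻¹ [a,x] x = [a,x]^2 = 1
    have hz := hcN a ha x
    have e : a⁻¹ * (x * x)⁻¹ * a * (x * x)
        = (a⁻¹ * x⁻¹ * a * x) * x⁻¹ * (a⁻¹ * x⁻¹ * a * x) * x := by group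
    rw [e]
    have e2 : (a⁻¹ * x⁻¹ * a * x) * x⁻¹ * (a⁻¹ * x⁻¹ * a * x) * x
        = (a⁻¹ * x⁻¹ * a * x) * (x⁻¹ * (a⁻¹ * x⁻¹ * a * x)) * x := by group
    rw [e2, hcent _ hz x⁻¹]
    have e3 : (a⁻¹ * x⁻¹ * a * x) * ((a⁻¹ * x⁻¹ * a * x) * x⁻¹) * x
        = (a⁻¹ * x⁻¹ * a * x) * (a⁻¹ * x⁻¹ * a * x) := by group
    rw [e3, hexp _ hz]
  · intro x y
    apply hCN
    intro a ha
    apply hcomm_iff
    -- write u = [a,x], v = [a,y] central
    have hu := hcN a ha x
    have hv := hcN a ha y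
    set u := a⁻¹ * x⁻¹ * a * x with hu_def
    set v := a⁻¹ * y⁻¹ * a * y with hv_def
    -- x⁻¹ a x = a u, y⁻¹ a y = a v
    have hx1 : x⁻¹ * a * x = a * u := by rw [hu_def]; group
    have hy1 : y⁻¹ * a * y = a * v := by rw [hv_def]; group
    have hx2 : x * a * x⁻¹ = a * u := by
      -- x (a u) x⁻¹ = a => x a x⁻¹ = a u⁻¹ = a u
      have h1 : x * (a * u) * x⁻¹ = a := by rw [← hx1]; group
      have h2 : x * (a * u) * x⁻¹ = x * a * x⁻¹ * u := by
        calc x * (a * u) * x⁻¹ = x * a * (u * x⁻¹) := by group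
          _ = x * a * (x⁻¹ * u) := by rw [← hcent u hu x⁻¹]
          _ = x * a * x⁻¹ * u := by group
      have h3 : x * a * x⁻¹ = a * u⁻¹ := by
        rw [h2] at h1
        exact eq_mul_inv_of_mul_eq h1
      have h4 : u⁻¹ = u := inv_eq_of_mul_eq_one_left (hexp u hu)
      rw [h3, h4]
    have hy2 : y * a * y⁻¹ = a * v := by
      have h1 : y * (a * v) * y⁻¹ = a := by rw [← hy1]; group
      have h2 : y * (a * v) * y⁻¹ = y * a * y⁻¹ * v := by
        calc y * (a * v) * y⁻¹ = y * a * (v * y⁻¹) := by group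
          _ = y * a * (y⁻¹ * v) := by rw [← hcent v hv y⁻¹]
          _ = y * a * y⁻¹ * v := by group
      have h3 : y * a * y⁻¹ = a * v⁻¹ := by
        rw [h2] at h1
        exact eq_mul_inv_of_mul_eq h1
      have h4 : v⁻¹ = v := inv_eq_of_mul_eq_one_left (hexp v hv)
      rw [h3, h4]
    -- conjugate a by x⁻¹ y⁻¹ x y
    have e : a⁻¹ * (x⁻¹ * y⁻¹ * x * y)⁻¹ * a * (x⁻¹ * y⁻¹ * x * y)
        = a⁻¹ * (y⁻¹ * (x⁻¹ * (y * (x * a * x⁻¹) * y⁻¹) * x) * y) := by group
    rw [e, hx2]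
    have e4 : y * (a * u) * y⁻¹ = a * v * u := by
      calc y * (a * u) * y⁻¹ = y * a * (u * y⁻¹) := by group
        _ = y * a * (y⁻¹ * u) := by rw [← hcent u hu y⁻¹]
        _ = (y * a * y⁻¹) * u := by group
        _ = a * v * u := by rw [hy2]
    rw [e4]
    have e5 : x⁻¹ * (a * v * u) * x = a * u * v * u := by
      calc x⁻¹ * (a * v * u) * x = x⁻¹ * a * ((v * u) * x) := by group
        _ = x⁻¹ * a * (x * (v * u)) := by
            rw [hcent (v * u) (Subgroup.mul_mem _ hv hu) x]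
        _ = (x⁻¹ * a * x) * (v * u) := by group
        _ = a * u * (v * u) := by rw [hx1]
        _ = a * u * v * u := by group
    rw [e5]
    have e6 : y⁻¹ * (a * u * v * u) * y = a * v * u * v * u := by
      calc y⁻¹ * (a * u * v * u) * y = y⁻¹ * a * ((u * v * u) * y) := by group
        _ = y⁻¹ * a * (y * (u * v * u)) := by
            rw [hcent (u * v * u) (Subgroup.mul_mem _ (Subgroup.mul_mem _ hu hv) hu) y]
        _ = (y⁻¹ * a * y) * (u * v * u) := by group
        _ = a * v * (u * v * u) := by rw [hy1]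
        _ = a * v * u * v * u := by group
    rw [e6]
    -- v u v u = 1
    have huv : u * v = v * u := hcent v hv u
    calc a⁻¹ * (a * v * u * v * u) = v * (u * v) * u := by group
      _ = v * (v * u) * u := by rw [huv]
      _ = (v * v) * (u * u) := by group
      _ = 1 := by rw [hexp v hv, hexp u hu, one_mul]

end Cfsg.Agent.Lib.Helper56.Suz2
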