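import Cfsg.Agent.Lib.Helper85.Suz2Defs

/-!
# SUZ2 module [RES]: restriction of `SHyp` to invariant subgroups containing `Z0 P` (helper56)

Port of helper19's `SuzHyp.restrict`; the new field is solvability of the induced group.
-/

set_option autoImplicit false
set_option linter.style.haveILetI false

namespace Cfsg.Agent.Lib.Helper56.Suz2

open Cfsg.Agent.Lib.Helper19.Suz Cfsg.Agent.Lib.Helper85.Suz2

universe u

variable {P : Type u} [Group P] {Y : Subgroup (MulAut P)}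

/-- the restriction homomorphism `Y →* resK Y H` -/
def resHom (Y : Subgroup (MulAut P)) (H : Subgroup P)
    (hinv : ∀ k ∈ Y, ∀ x ∈ H, k x ∈ H) : ↥Y →* ↥(resK Y H) where
  toFun k := ⟨restrictAut H k.1 (hinv k.1 k.2) (hinv k.1⁻¹ (Y.inv_mem k.2)),
    ⟨k.1, k.2, fun _ => rfl⟩⟩
  map_one' := by
    apply Subtype.ext
    ext x
    rfl
  map_mul' k l := by
    apply Subtype.ext
    ext x
    rfl

theorem resHom_surjective (Y : Subgroup (MulAut P)) (H : Subgroup P)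
    (hinv : ∀ k ∈ Y, ∀ x ∈ H, k x ∈ H) : Function.Surjective (resHom Y H hinv) := by
  rintro ⟨β, k, hk, hβ⟩
  refine ⟨⟨k, hk⟩, ?_⟩
  apply Subtype.ext
  ext x
  show k (x : P) = ((β x : ↥H) : P)
  rw [hβ x]

/-- [RES] -/
theorem SHyp.restrict (h : SHyp P Y) (H : Subgroup P)
    (hinv : ∀ k ∈ Y, ∀ x ∈ H, k x ∈ H) (hZ : Z0 P ≤ H) : SHyp ↥H (resK Y H) := by
  haveI := h.fin
  refine ⟨inferInstance, h.pgrp.to_subgroup H, ?_, ?_, ?_⟩
  · haveI := h.sol
    exact Group.isSolvable_of_surjective (resHom_surjective Y H hinv)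
  · intro x y hx1 hx2 hy1 hy2
    have hx1' : (x : P) ≠ 1 := fun e => hx1 (Subtype.ext e)
    have hy1' : (y : P) ≠ 1 := fun e => hy1 (Subtype.ext e)
    have hx2' : (x : P) * (x : P) = 1 := congrArg Subtype.val hx2
    have hy2' : (y : P) * (y : P) = 1 := congrArg Subtype.val hy2
    obtain ⟨k, hk, hkx⟩ := h.trans x y hx1' hx2' hy1' hy2'
    refine ⟨restrictAut H k (hinv k hk) (hinv k⁻¹ (Y.inv_mem hk)), ⟨k, hk, fun _ => rfl⟩, ?_⟩
    apply Subtype.ext
    exact hkx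
  · obtain ⟨x, y, hxy, hx1, hx2, hy1, hy2⟩ := h.two
    have hxH : x ∈ H := hZ (h.mem_Z0_iff.mpr hx2)
    have hyH : y ∈ H := hZ (h.mem_Z0_iff.mpr hy2)
    refine ⟨⟨x, hxH⟩, ⟨y, hyH⟩, ?_, ?_, ?_, ?_, ?_⟩
    · intro e; exact hxy (congrArg Subtype.val e)
    · intro e; exact hx1 (congrArg Subtype.val e)
    · exact Subtype.ext hx2
    · intro e; exact hy1 (congrArg Subtype.val e)
    · exact Subtype.ext hy2

end Cfsg.Agent.Lib.Helper56.Suz2
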