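/-
In the presented Suzuki group, the subgroup `⟨a, …, f⟩` is isomorphic to the adjoint Chevalley
group of type `G₂` over the field with four elements, by helper56.

The sub-presentation `SuzP6` on `a, …, f` is simple of order 251596800 (`G2Perm.g2q_simple_order`);
it maps onto `⟨a, …, f⟩` in the presented Suzuki group, and onto the Chevalley group via the
explicit matrices of `G2Mat` (which are products of root elements, and in terms of which every
root element is a word).  Both maps are injective since `SuzP6` is simple.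
-/
import Cfsg.Agent.Lib.Helper56.G2MatRel
import Cfsg.Agent.Lib.Helper56.G2MatWord
import Cfsg.Agent.Lib.Helper56.G2MatSq
import Cfsg.Agent.Lib.Helper56.G2Perm.Main
import Cfsg.Agent.Lib.Helper56.PresHom

set_option autoImplicit false

namespace Cfsg.Agent.Lib.Helper56.SuzG2

open Cfsg.Agent.Lib.Helper28 Cfsg.Agent.Lib.Helper28.TC Cfsg.Lie
open Cfsg.Agent.Lib.Helper56.G2Mat
open Cfsg.Agent.Lib.Helper56.SuzP6 (Gen)

/-- the presented group `SuzP6` -/
abbrev Q : Type := PresentedGroup SuzP6.rels

/-- the presented Suzuki group -/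
abbrev SuzG : Type := PresentedGroup Suz1782.rels

/-- the subgroup `⟨a, …, f⟩` -/
noncomputable abbrev H : Subgroup SuzG := subH Suz1782.rels Suz1782.subS

theorem injective_of_simple'' {G L : Type*} [Group G] [Group L] [IsSimpleGroup G] (f : G →* L)
    (g : G) (hg : f g ≠ 1) : Function.Injective f := by
  rw [← MonoidHom.ker_eq_bot_iff]
  rcases IsSimpleGroup.eq_bot_or_eq_top_of_normal f.ker f.normal_ker with h | h
  · exact h
  · exfalso
    apply hg
    have h1 : g ∈ f.ker := h ▸ Subgroup.mem_top g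
    exact MonoidHom.mem_ker.1 h1

/-! ### The map into the Suzuki group -/

theorem exists_f : ∃ f : Q →* SuzG, ∀ x, f (PresentedGroup.of x) =
    pval Suz1782.rels (SuzUpper.ι67 x) :=
  SuzUpper.exists_hom SuzUpper.ι67 SuzP6.relE Suz1782.rels Suz1782.hinv
    (fun e he => SuzUpper.relWords7_one _ (SuzUpper.words67 e he))

theorem a_ne_one : pval Suz1782.rels Cfsg.Spor.Suz.Gen.a ≠ 1 := by
  intro h
  have h1 : PresentedGroup.toGroup Suz1782.hrel (pval Suz1782.rels Cfsg.Spor.Suz.Gen.a) = 1 := by
    rw [h, map_one]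
  have h2 : Suz1782.T.perm Cfsg.Spor.Suz.Gen.a = 1 := by
    rw [← h1]
    exact (PresentedGroup.toGroup.of Suz1782.hrel).symm
  have h3 := Suz1782.T.perm_apply_val Cfsg.Spor.Suz.Gen.a ⟨2, by decide⟩
  rw [h2] at h3
  revert h3
  decide +kernel

theorem range_f (f : Q →* SuzG)
    (hf : ∀ x, f (PresentedGroup.of x) = pval Suz1782.rels (SuzUpper.ι67 x)) : f.range = H := by
  apply le_antisymm
  · rw [MonoidHom.range_eq_map, ← PresentedGroup.closure_range_of, MonoidHom.map_closure,
      Subgroup.closure_le]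
    rintro _ ⟨_, ⟨x, rfl⟩, rfl⟩
    rw [hf]
    apply Subgroup.mem_map_of_mem
    apply Subgroup.subset_closure
    cases x <;> simp [Suz1782.subS, SuzUpper.ι67]
  · apply SuzUpper.subH_le_range SuzUpper.ι67 f hf
    intro s hs
    simp only [Suz1782.subS, Set.mem_insert_iff, Set.mem_singleton_iff] at hs
    rcases hs with rfl | rfl | rfl | rfl | rfl | rfl
    · exact ⟨.a, rfl⟩
    · exact ⟨.b, rfl⟩
    · exact ⟨.c, rfl⟩
    · exact ⟨.d, rfl⟩
    · exact ⟨.e, rfl⟩
    · exact ⟨.f, rfl⟩

/-! ### The map into the Chevalley group -/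

theorem M_sq (x : Gen) : M x * M x = 1 := by
  have h := rel_M (WE.mul (WE.of x) (WE.of x))
    (List.mem_append_left _ (List.mem_map_of_mem (SuzP6.mem_gens x)))
  simpa [WE.evalW] using h

/-- the generators in the general linear group -/
noncomputable def gG (x : Gen) : GL Idx F4 := ⟨M x, M x, M_sq x, M_sq x⟩

theorem coe_wval (w : List Gen) :
    ((wval gG w : GL Idx F4) : Matrix Idx Idx F4) = (w.map M).prod := by
  induction w with
  | nil => rfl
  | cons x w ih =>
    rw [wval_cons, Units.val_mul, ih, List.map_cons, List.prod_cons]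
    rfl

theorem rel_gG : ∀ e ∈ SuzP6.relE, wval gG e.evalW = 1 := by
  intro e he
  apply Units.ext
  rw [coe_wval, rel_M e he]
  rfl

theorem gG_sq (x : Gen) : gG x * gG x = 1 := by
  apply Units.ext
  exact M_sq x

theorem exists_ψ : ∃ ψ : Q →* GL Idx F4, ∀ x, ψ (PresentedGroup.of x) = gG x :=
  PresHom.exists_hom_to SuzP6.relE gG gG_sq rel_gG

theorem xsq (r : Fin 12) (t : F4) : chevG2.xMat F4 r t * chevG2.xMat F4 r t = 1 := by
  rw [xMat_eq]
  exact xsq_lit r t

/-- the root elements in the general linear group -/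
noncomputable def xG (p : Fin 12 × F4) : GL Idx F4 :=
  ⟨chevG2.xMat F4 p.1 p.2, chevG2.xMat F4 p.1 p.2, xsq p.1 p.2, xsq p.1 p.2⟩

theorem xG_mem (p : Fin 12 × F4) : xG p ∈ chevG2.group F4 :=
  Subgroup.subset_closure ⟨p.1, p.2, rfl⟩

theorem coe_prod_xG (l : List (Fin 12 × F4)) :
    (((l.map xG).prod : GL Idx F4) : Matrix Idx Idx F4) =
      (l.map fun p => lit (xcode p.1 p.2)).prod := by
  induction l with
  | nil => rfl
  | cons p l ih =>
    rw [List.map_cons, List.prod_cons, Units.val_mul, ih, List.map_cons, List.prod_cons]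
    congr 1
    exact xMat_eq p.1 p.2

theorem gG_mem (x : Gen) : gG x ∈ chevG2.group F4 := by
  have h : gG x = ((path x).map xG).prod := by
    apply Units.ext
    rw [coe_prod_xG]
    exact path_M x (SuzP6.mem_gens x)
  rw [h]
  apply Subgroup.list_prod_mem
  intro g hg
  obtain ⟨p, -, rfl⟩ := List.mem_map.1 hg
  exact xG_mem p

theorem range_ψ (ψ : Q →* GL Idx F4) (hψ : ∀ x, ψ (PresentedGroup.of x) = gG x) :
    ψ.range = chevG2.group F4 := by
  apply le_antisymm
  · rw [MonoidHom.range_eq_map, ← PresentedGroup.closure_range_of, MonoidHom.map_closure,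
      Subgroup.closure_le]
    rintro _ ⟨_, ⟨x, rfl⟩, rfl⟩
    rw [hψ]
    exact gG_mem x
  · unfold ChevalleyDatum.group
    rw [Subgroup.closure_le]
    rintro g ⟨r, t, hg⟩
    refine ⟨wval (pval SuzP6.rels) (wordOf r t), ?_⟩
    rw [PresHom.hom_wval_to ψ gG hψ]
    apply Units.ext
    rw [coe_wval, hg]
    exact ((xMat_eq r t).trans (word_M r t)).symm

theorem M_a_ne_one : M Gen.a ≠ 1 := by decide +kernel

theorem gG_a_ne_one : gG Gen.a ≠ 1 := by
  intro h
  exact M_a_ne_one (congrArg Units.val h)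

/-- `⟨a, …, f⟩` is isomorphic to the Chevalley group of type `G₂` over the field with four
elements. -/
theorem main : ∃ (K : Type) (_ : Field K) (_ : Fintype K), Fintype.card K = 4 ∧
    Nonempty (↥H ≃* ↥(chevG2.group K)) := by
  obtain ⟨hsimple, -⟩ := G2Perm.g2q_simple_order
  obtain ⟨f, hf⟩ := exists_f
  have hfinj : Function.Injective f :=
    injective_of_simple'' f (PresentedGroup.of Gen.a) (by rw [hf]; exact a_ne_one)
  obtain ⟨ψ, hψ⟩ := exists_ψ
  have hψinj : Function.Injective ψ :=
    injective_of_simple'' ψ (PresentedGroup.of Gen.a) (by rw [hψ]; exact gG_a_ne_one)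
  refine ⟨F4, inferInstance, inferInstance, F4.card, ?_⟩
  exact ⟨(MulEquiv.subgroupCongr (range_f f hf).symm).trans
    ((MonoidHom.ofInjective hfinj).symm.trans
      ((MonoidHom.ofInjective hψinj).trans (MulEquiv.subgroupCongr (range_ψ ψ hψ))))⟩

end Cfsg.Agent.Lib.Helper56.SuzG2
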