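/-
Orbit certificates for permutation tables over letters with formal inverses (helper28's `TC2`
library), by helper56: the analogue of `TC.orbit_eq_of_cert`.
-/
import Cfsg.Agent.Lib.Helper28.TC2Check
import Cfsg.Agent.Lib.Helper28.TCOrbit

set_option autoImplicit false

namespace Cfsg.Agent.Lib.Helper56.TC2Orbit

open Cfsg.Agent.Lib.Helper28 Cfsg.Agent.Lib.Helper28.TC Cfsg.Agent.Lib.Helper28.TC2

variable {β : Type} {binv : β → β} {n : ℕ} (T : PermTable2 β binv n)

/-- the permutations of the subgroup generator words -/
def wordPerms2 (words : List (List β)) : Set (Equiv.Perm (Fin n)) :=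
  {p | ∃ w ∈ words, p = (w.map T.perm).prod}

/-- The orbit of the group generated by the word permutations is the certified set. -/
theorem orbit_eq_of_cert2 (words : List (List β)) (O : OrbCert) (hroot : O.root < n)
    (hrootin : O.inO O.root = true)
    (hrows : ∀ i, i < n → orbRowOK T.tf n words O i = true) :
    MulAction.orbit (Subgroup.closure (wordPerms2 T words)) (⟨O.root, hroot⟩ : Fin n) =
      {i : Fin n | O.inO i = true} := by
  classical
  set K := Subgroup.closure (wordPerms2 T words) with hK
  have hstab : ∀ p ∈ wordPerms2 T words, ∀ i : Fin n, O.inO i = true → O.inO (p i) = true := by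
    rintro p ⟨w, hw, rfl⟩ i hi
    rw [T.wordPerm_apply_val]
    exact (orbRowOK_spec T.tf n words O i (hrows i i.2) hi).1 w hw
  have hK_stab : ∀ g ∈ K, ∀ i : Fin n, O.inO i = true → O.inO (g i) = true := by
    intro g hg
    induction hg using Subgroup.closure_induction with
    | mem p hp => exact hstab p hp
    | one => intro i hi; exact hi
    | mul a b _ _ iha ihb => intro i hi; exact iha _ (ihb i hi)
    | inv a ha iha =>
      intro i hi
      have : ∀ q ∈ K, (∀ i : Fin n, O.inO i = true → O.inO (q i) = true) →
          ∀ i : Fin n, O.inO i = true → O.inO (q⁻¹ i) = true := by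
        intro q _ hq i hi
        let Sset : Finset (Fin n) := Finset.univ.filter fun i => O.inO i = true
        have hmap : Sset.image q ⊆ Sset := by
          intro j hj
          obtain ⟨i, hi, rfl⟩ := Finset.mem_image.1 hj
          exact Finset.mem_filter.2 ⟨Finset.mem_univ _, hq i (Finset.mem_filter.1 hi).2⟩
        have heq : Sset.image q = Sset :=
          Finset.eq_of_subset_of_card_le hmap
            (by rw [Finset.card_image_of_injective _ q.injective])
        have hi' : i ∈ Sset.image q := by
          rw [heq]; exact Finset.mem_filter.2 ⟨Finset.mem_univ _, hi⟩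
        obtain ⟨j, hj, rfl⟩ := Finset.mem_image.1 hi'
        simpa using (Finset.mem_filter.1 hj).2
      exact this a ha iha i hi
  have hreach : ∀ d, ∀ i : Fin n, O.inO i = true → O.dep i = d →
      ∃ g ∈ K, g ⟨O.root, hroot⟩ = i := by
    intro d
    induction d using Nat.strong_induction_on with
    | _ d ih =>
      intro i hi hd
      rcases (orbRowOK_spec T.tf n words O i (hrows i i.2) hi).2 with
        h | ⟨hp, hlt, hparlt, w, hw, hact⟩
      · exact ⟨1, K.one_mem, Fin.ext (by simp [h])⟩
      · obtain ⟨g, hg, hgi⟩ := ih _ (hd ▸ hlt) ⟨O.opar i, hparlt⟩ hp rfl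
        refine ⟨(w.map T.perm).prod * g, K.mul_mem (Subgroup.subset_closure ⟨w, hw, rfl⟩) hg, ?_⟩
        rw [Equiv.Perm.mul_apply, hgi]
        apply Fin.ext
        rw [T.wordPerm_apply_val]
        exact hact
  ext i
  constructor
  · rintro ⟨⟨g, hg⟩, rfl⟩
    exact hK_stab g hg _ hrootin
  · intro hi
    obtain ⟨g, hg, hgi⟩ := hreach _ i hi rfl
    exact ⟨⟨g, hg⟩, hgi⟩

end Cfsg.Agent.Lib.Helper56.TC2Orbit
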